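import Mathlib

set_option autoImplicit false

/-!
Counting in a coset `D s` when `s` normalizes `D` and has order coprime to `|D|`: every element of
the coset is `D`-conjugate to an element of `C_D(s) s`, with fibres of constant size.
-/

namespace Cfsg.Agent.Lib.H8Group

section Coset

variable {Γ : Type*} [Group Γ] (D : Subgroup Γ) (s : Γ)

/-- The centralizer of `s` in `D`. -/
abbrev cD : Subgroup Γ := D ⊓ Subgroup.centralizer ({s} : Set Γ)

variable {D s}

theorem mem_cD {x : Γ} : x ∈ cD D s ↔ x ∈ D ∧ x * s = s * x := by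
  rw [Subgroup.mem_inf, Subgroup.mem_centralizer_singleton_iff]

theorem exists_pow_trick [Finite Γ] (hcop : Nat.Coprime (orderOf s) (Nat.card D)) :
    ∃ k : ℕ, s ^ k = s ∧ ∀ g ∈ D, g ^ k = 1 := by
  let k := Nat.chineseRemainder hcop 1 0
  refine ⟨k, ?_, fun g hg => ?_⟩
  · have h1 : (k : ℕ) ≡ 1 [MOD orderOf s] := k.2.1
    have h2 := pow_eq_pow_iff_modEq.mpr h1
    simpa using h2
  · have h1 : (k : ℕ) ≡ 0 [MOD Nat.card D] := k.2.2
    have h2 : Nat.card D ∣ (k : ℕ) := (Nat.modEq_zero_iff_dvd).mp h1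
    obtain ⟨c, hc⟩ := h2
    have h3 : (⟨g, hg⟩ : D) ^ Nat.card D = 1 := pow_card_eq_one'
    have h4 : g ^ Nat.card D = 1 := by
      have := congrArg Subtype.val h3
      rwa [Subgroup.coe_pow] at this
    rw [hc, pow_mul, h4, one_pow]

theorem conj_unique [Finite Γ] (hcop : Nat.Coprime (orderOf s) (Nat.card D)) {y c c' : Γ}
    (hy : y ∈ D) (hc : c ∈ cD D s) (hc' : c' ∈ cD D s) (h : y * (c * s) * y⁻¹ = c' * s) :
    y ∈ cD D s ∧ c' = y * c * y⁻¹ := by
  obtain ⟨k, hk1, hk2⟩ := exists_pow_trick hcop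
  have hcs : Commute c s := (mem_cD.mp hc).2
  have hcs' : Commute c' s := (mem_cD.mp hc').2
  have h1 : (c * s) ^ k = s := by rw [hcs.mul_pow, hk2 c (mem_cD.mp hc).1, one_mul, hk1]
  have h2 : (c' * s) ^ k = s := by rw [hcs'.mul_pow, hk2 c' (mem_cD.mp hc').1, one_mul, hk1]
  have h3 : y * s * y⁻¹ = s := by
    have h4 := congrArg (· ^ k) h
    simp only [conj_pow, h1, h2] at h4
    exact h4
  have hys : y * s = s * y := by
    calc y * s = (y * s * y⁻¹) * y := by group
      _ = s * y := by rw [h3]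
  refine ⟨mem_cD.mpr ⟨hy, hys⟩, ?_⟩
  have h5 : y * (c * s) * y⁻¹ = (y * c * y⁻¹) * (y * s * y⁻¹) := by group
  rw [h5, h3] at h
  exact (mul_right_cancel h).symm

variable (D s)

/-- The coset map. -/
def cosetMap (hs : s ∈ Subgroup.normalizer (D : Set Γ)) : D × cD D s → D :=
  fun p => ⟨(p.1 : Γ) * (p.2 : Γ) * (s * (p.1 : Γ)⁻¹ * s⁻¹), D.mul_mem (D.mul_mem p.1.2 p.2.2.1)
    ((Subgroup.mem_normalizer_iff.mp hs _).mp (D.inv_mem p.1.2))⟩

variable {D s}

theorem cosetMap_mul (hs : s ∈ Subgroup.normalizer (D : Set Γ)) (p : D × cD D s) :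
    ((cosetMap D s hs p : D) : Γ) * s = (p.1 : Γ) * ((p.2 : Γ) * s) * (p.1 : Γ)⁻¹ := by
  simp only [cosetMap]
  group

theorem card_fiber_le [Finite Γ] (hs : s ∈ Subgroup.normalizer (D : Set Γ))
    (hcop : Nat.Coprime (orderOf s) (Nat.card D)) (h : D) :
    Nat.card {p : D × cD D s // cosetMap D s hs p = h} ≤ Nat.card (cD D s) := by
  classical
  by_cases hne : ∃ p₀, cosetMap D s hs p₀ = h
  · obtain ⟨p₀, hp₀⟩ := hne
    have hinj : Function.Injective (fun p : {p : D × cD D s // cosetMap D s hs p = h} =>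
        ((⟨(p₀.1 : Γ)⁻¹ * (p.1.1 : Γ), by
          have h1 : ((cosetMap D s hs p.1 : D) : Γ) * s = ((cosetMap D s hs p₀ : D) : Γ) * s := by
            rw [p.2, hp₀]
          rw [cosetMap_mul, cosetMap_mul] at h1
          have h2 : ((p₀.1 : Γ)⁻¹ * (p.1.1 : Γ)) * ((p.1.2 : Γ) * s) * ((p₀.1 : Γ)⁻¹ * (p.1.1 : Γ))⁻¹ =
              (p₀.2 : Γ) * s := by
            calc _ = (p₀.1 : Γ)⁻¹ * ((p.1.1 : Γ) * ((p.1.2 : Γ) * s) * (p.1.1 : Γ)⁻¹) * (p₀.1 : Γ) := by group
              _ = _ := by rw [h1]; group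
          exact (conj_unique hcop (D.mul_mem (D.inv_mem p₀.1.2) p.1.1.2) p.1.2.2 p₀.2.2 h2).1⟩ : cD D s))) := by
      intro p q hpq
      have h1 : (p.1.1 : Γ) = q.1.1 := by
        have := congrArg Subtype.val hpq
        exact mul_left_cancel this
      have hp1 : p.1.1 = q.1.1 := Subtype.ext h1
      apply Subtype.ext
      apply Prod.ext hp1
      -- the second coordinates agree too
      have h2 : ((cosetMap D s hs p.1 : D) : Γ) * s = ((cosetMap D s hs q.1 : D) : Γ) * s := by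
        rw [p.2, q.2]
      rw [cosetMap_mul, cosetMap_mul, h1] at h2
      have h3 := mul_left_cancel (mul_right_cancel h2)
      exact Subtype.ext (mul_right_cancel h3)
    exact Nat.card_le_card_of_injective _ hinj
  · have : IsEmpty {p : D × cD D s // cosetMap D s hs p = h} :=
      ⟨fun p => hne ⟨p.1, p.2⟩⟩
    simp

theorem card_fiber [Finite Γ] (hs : s ∈ Subgroup.normalizer (D : Set Γ))
    (hcop : Nat.Coprime (orderOf s) (Nat.card D)) (h : D) :
    Nat.card {p : D × cD D s // cosetMap D s hs p = h} = Nat.card (cD D s) := by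
  classical
  let _ : Fintype D := Fintype.ofFinite D
  let _ : Fintype (cD D s) := Fintype.ofFinite _
  have hsum : ∑ h : D, Nat.card {p : D × cD D s // cosetMap D s hs p = h} =
      ∑ _h : D, Nat.card (cD D s) := by
    rw [Finset.sum_const, Finset.card_univ, smul_eq_mul, ← Nat.card_eq_fintype_card, ← Nat.card_prod]
    have h1 := Finset.card_eq_sum_card_fiberwise (s := (Finset.univ : Finset (D × cD D s)))
      (t := (Finset.univ : Finset D)) (f := cosetMap D s hs) (fun _ _ => Finset.mem_univ _)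
    rw [Nat.card_eq_fintype_card (α := D × cD D s), ← Finset.card_univ, h1]
    refine Finset.sum_congr rfl fun h _ => ?_
    rw [Nat.card_eq_fintype_card, Fintype.card_subtype]
  have hall := (Finset.sum_eq_sum_iff_of_le (fun h _ => card_fiber_le hs hcop h)).mp hsum
  exact hall h (Finset.mem_univ _)

/-- Every element of `D s` is `D`-conjugate to an element of `C_D(s) s`. -/
theorem exists_conj_of_mem_coset [Finite Γ] (hs : s ∈ Subgroup.normalizer (D : Set Γ))
    (hcop : Nat.Coprime (orderOf s) (Nat.card D)) (h : Γ) (hh : h ∈ D) :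
    ∃ g ∈ D, ∃ c ∈ cD D s, h * s = g * (c * s) * g⁻¹ := by
  have h1 := card_fiber hs hcop ⟨h, hh⟩
  have h2 : 0 < Nat.card {p : D × cD D s // cosetMap D s hs p = ⟨h, hh⟩} := by
    rw [h1]; exact Nat.card_pos
  rw [Nat.card_pos_iff] at h2
  obtain ⟨⟨p, hp⟩⟩ := h2.1
  refine ⟨p.1, p.1.2, p.2, p.2.2, ?_⟩
  rw [← cosetMap_mul hs p, hp]

/-- Sum over the coset `D s` of a `D`-invariant function. -/
theorem sum_coset_eq [Finite Γ] [Fintype D] [Fintype (cD D s)]
    (hs : s ∈ Subgroup.normalizer (D : Set Γ))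
    (hcop : Nat.Coprime (orderOf s) (Nat.card D)) (F : Γ → ℂ)
    (hF : ∀ g ∈ D, ∀ x, F (g * x * g⁻¹) = F x) :
    (Nat.card (cD D s) : ℂ) * ∑ h : D, F ((h : Γ) * s) =
      (Nat.card D : ℂ) * ∑ c : cD D s, F ((c : Γ) * s) := by
  classical
  have h1 : ∑ p : D × cD D s, F (((cosetMap D s hs p : D) : Γ) * s) =
      (Nat.card D : ℂ) * ∑ c : cD D s, F ((c : Γ) * s) := by
    rw [Fintype.sum_prod_type]
    have : ∀ (g : D) (c : cD D s), F (((cosetMap D s hs (g, c) : D) : Γ) * s) = F ((c : Γ) * s) := by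
      intro g c
      rw [cosetMap_mul]
      exact hF g g.2 _
    simp only [this, Finset.sum_const, Finset.card_univ, nsmul_eq_mul, Nat.card_eq_fintype_card]
  rw [← h1, Finset.mul_sum]
  rw [← Finset.sum_fiberwise Finset.univ (cosetMap D s hs)]
  refine Finset.sum_congr rfl fun h _ => ?_
  have h2 : ∑ p ∈ Finset.univ.filter (fun p => cosetMap D s hs p = h),
      F (((cosetMap D s hs p : D) : Γ) * s) =
      ∑ _p ∈ Finset.univ.filter (fun p => cosetMap D s hs p = h), F ((h : Γ) * s) := by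
    refine Finset.sum_congr rfl fun p hp => ?_
    rw [(Finset.mem_filter.mp hp).2]
  rw [h2, Finset.sum_const, nsmul_eq_mul]
  have h3 := card_fiber hs hcop h
  rw [Nat.card_eq_fintype_card (α := {p : D × cD D s // cosetMap D s hs p = h}),
    Fintype.card_subtype] at h3
  rw [h3]

end Coset

end Cfsg.Agent.Lib.H8Group
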