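import Mathlib
import Cfsg.Prelude.Def_CharExt
import Cfsg.Agent.Lib.Char.Equiv
import Cfsg.Agent.Lib.Char.Linear

set_option autoImplicit false

/-!
The determinantal character `detChar` of the prelude: computation from any representation,
behaviour under composition with homomorphisms, and multiplication by linear characters.
-/

namespace Cfsg.Agent.Lib.H8Group

open Cfsg Module Cfsg.Agent.Lib.Char

section

variable {G : Type*} [Group G] [Finite G]

theorem detChar_of_rep {V : Type*} [AddCommGroup V] [Module ℂ V] [FiniteDimensional ℂ V]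
    (ρ : Representation ℂ G V) (g : G) : detChar ρ.character g = LinearMap.det (ρ g) := by
  classical
  have hc : IsCharacter G ρ.character := isCharacter_character ρ
  unfold detChar
  rw [dif_pos hc]
  set n := Classical.choose hc with hn
  set σ := Classical.choose (Classical.choose_spec hc) with hσ
  have hσc : σ.character = ρ.character := Classical.choose_spec (Classical.choose_spec hc)
  obtain ⟨Φ⟩ := equiv_of_character_eq ρ σ hσc.symm
  have h1 : σ g = Φ.toLinearEquiv.toLinearMap ∘ₗ ρ g ∘ₗ Φ.toLinearEquiv.symm.toLinearMap := by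
    refine LinearMap.ext fun v => ?_
    have h2 : Φ.toIntertwiningMap (ρ g (Φ.toLinearEquiv.symm v)) =
        σ g (Φ.toIntertwiningMap (Φ.toLinearEquiv.symm v)) :=
      Representation.IntertwiningMap.isIntertwining ρ σ Φ.toIntertwiningMap g _
    have h3 : Φ.toIntertwiningMap (Φ.toLinearEquiv.symm v) = v :=
      Φ.toLinearEquiv.apply_symm_apply v
    rw [h3] at h2
    exact h2.symm
  show LinearMap.det (σ g) = _
  rw [h1, LinearMap.det_conj]

theorem exists_detHom {χ : G → ℂ} (hχ : IsCharacter G χ) :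
    ∃ δ : G →* ℂˣ, ∀ g, detChar χ g = δ g := by
  obtain ⟨n, ρ, rfl⟩ := hχ
  let f : G →* ℂ := (LinearMap.det : ((Fin n → ℂ) →ₗ[ℂ] (Fin n → ℂ)) →* ℂ).comp ρ
  refine ⟨f.toHomUnits, fun g => ?_⟩
  rw [detChar_of_rep]
  rfl

theorem detChar_comp {H : Type*} [Group H] [Finite H] (f : H →* G) {χ : G → ℂ}
    (hχ : IsCharacter G χ) : detChar (fun h => χ (f h)) = fun h => detChar χ (f h) := by
  obtain ⟨n, ρ, rfl⟩ := hχ
  funext h
  let σ : Representation ℂ H (Fin n → ℂ) := ρ.comp f
  have h1 : (fun h => ρ.character (f h)) = σ.character := rfl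
  rw [h1, detChar_of_rep, detChar_of_rep]
  rfl

/-- The twist of a representation by a linear character. -/
noncomputable def twistRep {V : Type*} [AddCommGroup V] [Module ℂ V]
    (lam : G →* ℂˣ) (ρ : Representation ℂ G V) : Representation ℂ G V where
  toFun g := ((lam g : ℂˣ) : ℂ) • ρ g
  map_one' := by simp
  map_mul' x y := by
    simp only [map_mul, Units.val_mul, smul_mul_smul_comm]

omit [Finite G] in
theorem twistRep_character {V : Type*} [AddCommGroup V] [Module ℂ V]
    (lam : G →* ℂˣ) (ρ : Representation ℂ G V) (g : G) :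
    (twistRep lam ρ).character g = ((lam g : ℂˣ) : ℂ) * ρ.character g := by
  show LinearMap.trace ℂ V (((lam g : ℂˣ) : ℂ) • ρ g) = _
  rw [map_smul, smul_eq_mul]
  rfl

omit [Finite G] in
theorem isCharacter_twist (lam : G →* ℂˣ) {χ : G → ℂ} (hχ : IsCharacter G χ) :
    IsCharacter G (fun g => ((lam g : ℂˣ) : ℂ) * χ g) := by
  obtain ⟨n, ρ, rfl⟩ := hχ
  refine ⟨n, twistRep lam ρ, ?_⟩
  funext g
  exact twistRep_character lam ρ g

theorem detChar_twist (lam : G →* ℂˣ) {χ : G → ℂ} (hχ : IsCharacter G χ) {d : ℕ} (hd : χ 1 = d)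
    (g : G) :
    detChar (fun g => ((lam g : ℂˣ) : ℂ) * χ g) g = ((lam g : ℂˣ) : ℂ) ^ d * detChar χ g := by
  obtain ⟨n, ρ, rfl⟩ := hχ
  have h1 : (fun g => ((lam g : ℂˣ) : ℂ) * ρ.character g) = (twistRep lam ρ).character := by
    funext g
    exact (twistRep_character lam ρ g).symm
  rw [h1, detChar_of_rep, detChar_of_rep]
  show LinearMap.det (((lam g : ℂˣ) : ℂ) • ρ g) = _
  rw [LinearMap.det_smul]
  have h2 : finrank ℂ (Fin n → ℂ) = d := by
    have h3 := Representation.char_one ρ
    rw [h3] at hd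
    exact_mod_cast hd
  rw [h2]

end

end Cfsg.Agent.Lib.H8Group
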