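import Mathlib
import Cfsg.Agent.Lib.H8Group.Det
import Cfsg.Agent.Lib.Char.CliffordCorr
import Cfsg.Agent.Lib.Char.Gallagher
import Cfsg.Agent.Lib.Char.Degree

set_option autoImplicit false

/-!
Extending invariant irreducible characters: prime index, adjusting determinants, solvable quotients.
-/

namespace Cfsg.Agent.Lib.H8Group

open Cfsg Module Cfsg.Agent.Lib.Char
open scoped ComplexConjugate commutatorElement

section Prelim

theorem exists_normal_index_prime_of_solvable {Q : Type*} [Group Q] [Finite Q] [Group.IsSolvable Q]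
    [Nontrivial Q] : ∃ M : Subgroup Q, M.Normal ∧ M.index.Prime := by
  classical
  have hlt : commutator Q < ⊤ := Group.IsSolvable.commutator_lt_top_of_nontrivial Q
  obtain ⟨M, hM, hle⟩ := (eq_top_or_exists_le_coatom (commutator Q)).resolve_left hlt.ne
  have hMn : M.Normal := by
    refine ⟨fun n hn g => ?_⟩
    have h1 : ⁅g, n⁆ ∈ M :=
      hle (by rw [commutator_def]; exact Subgroup.commutator_mem_commutator trivial trivial)
    have h2 : g * n * g⁻¹ = ⁅g, n⁆ * n := by
      rw [commutatorElement_def]; group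
    rw [h2]
    exact M.mul_mem h1 hn
  refine ⟨M, hMn, ?_⟩
  have hne : Nontrivial (Q ⧸ M) := QuotientGroup.nontrivial_iff.mpr hM.1
  have hcard : 1 < Nat.card (Q ⧸ M) := Finite.one_lt_card
  obtain ⟨p, hp, hdvd⟩ := Nat.exists_prime_and_dvd hcard.ne'
  have := Fact.mk hp
  obtain ⟨x, hx⟩ := exists_prime_orderOf_dvd_card' p hdvd
  have hx1 : x ≠ 1 := by
    intro h
    rw [h, orderOf_one] at hx
    exact hp.one_lt.ne hx
  have hcomap : (Subgroup.zpowers x).comap (QuotientGroup.mk' M) = ⊤ := by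
    apply hM.2
    refine lt_of_le_of_ne ?_ ?_
    · intro m hm
      rw [Subgroup.mem_comap]
      have : (QuotientGroup.mk' M) m = 1 := (QuotientGroup.eq_one_iff m).mpr hm
      rw [this]
      exact Subgroup.one_mem _
    · intro h
      obtain ⟨y, rfl⟩ := QuotientGroup.mk_surjective x
      apply hx1
      apply (QuotientGroup.eq_one_iff y).mpr
      rw [h, Subgroup.mem_comap]
      exact Subgroup.mem_zpowers _
  have htop : Subgroup.zpowers x = ⊤ := by
    rw [eq_top_iff]
    intro y _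
    obtain ⟨z, rfl⟩ := QuotientGroup.mk_surjective y
    have : z ∈ (Subgroup.zpowers x).comap (QuotientGroup.mk' M) := by rw [hcomap]; trivial
    exact this
  have hc : Nat.card (Q ⧸ M) = p := by
    rw [← hx, ← Nat.card_zpowers, htop, Subgroup.card_top]
  rw [Subgroup.index_eq_card, hc]
  exact hp

end Prelim

section Twist

variable {G : Type*} [Group G] [Fintype G]

theorem isIrr_twist (lam : G →* ℂˣ) {χ : G → ℂ} (hχ : IsIrrCharacter G χ) :
    IsIrrCharacter G (fun g => ((lam g : ℂˣ) : ℂ) * χ g) := by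
  apply isIrrCharacter_of_classInner_self (isCharacter_twist lam (IsIrrCharacter.isCharacter hχ))
  rw [← classInner_irr_self hχ]
  simp only [classInner]
  congr 1
  refine Finset.sum_congr rfl fun g _ => ?_
  have h1 : ‖((lam g : ℂˣ) : ℂ)‖ = 1 :=
    norm_eq_one_of_degree_one (IsIrrCharacter.isCharacter (isIrrCharacter_of_monoidHom lam))
      (by simp) g
  have h2 : conj ((lam g : ℂˣ) : ℂ) * ((lam g : ℂˣ) : ℂ) = 1 := by
    rw [Complex.conj_mul', h1]
    simp
  rw [map_mul]
  calc _ = (conj ((lam g : ℂˣ) : ℂ) * ((lam g : ℂˣ) : ℂ)) * (χ g * conj (χ g)) := by ring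
    _ = _ := by rw [h2, one_mul]

end Twist

section PrimeIndex

variable {G : Type*} [Group G] [Fintype G] (N : Subgroup G) [hN : N.Normal] [Fintype N]

/-- If `N` has prime index and `θ` is invariant, every irreducible character over `θ` restricts
to `θ`. -/
theorem res_eq_of_prime_index {χ : G → ℂ} {θ : N → ℂ} (hχ : IsIrrCharacter G χ)
    (hθ : IsIrrCharacter N θ) (hinv : ∀ g, conjFun N g θ = θ) (hp : N.index.Prime)
    (hov : classInner (resFun N χ) θ ≠ 0) : resFun N χ = θ := by
  classical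
  let _ : Fintype (G ⧸ N) := Fintype.ofFinite _
  obtain ⟨n, hn⟩ := IsCharacter.classInner_irr_eq_nat
    (isCharacter_resFun N (IsIrrCharacter.isCharacter hχ)) hθ
  have hres := res_eq_smul_of_invariant N hχ hθ hinv hov
  rw [hn] at hres
  have hn0 : (n : ℂ) ≠ 0 := by rw [← hn]; exact hov
  have hnorm : classInner (resFun N χ) (resFun N χ) = (n : ℂ) ^ 2 := by
    rw [hres, classInner_smul_left, classInner_smul_right, classInner_irr_self hθ]
    simp only [Complex.conj_natCast]
    ring
  have hcardQ : Nat.card (G ⧸ N) = N.index := rfl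
  have := Fact.mk hp
  have hcomm : ∀ a b : G ⧸ N, a * b = b * a := by
    have hcyc : IsCyclic (G ⧸ N) := isCyclic_of_prime_card (p := N.index) hcardQ
    exact fun a b => (IsCyclic.commGroup : CommGroup (G ⧸ N)).mul_comm a b
  have hlin := (comm_iff_irr_degree_one (G := G ⧸ N)).mp hcomm
  have hcard : (Nat.card G : ℂ) = (N.index : ℂ) * (Nat.card N : ℂ) := by
    rw [← Nat.cast_mul, Subgroup.index_mul_card]
  have hGne : (Nat.card G : ℂ) ≠ 0 := NeZero.ne _
  have hNne : (Nat.card N : ℂ) ≠ 0 := NeZero.ne _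
  have hindne : (N.index : ℂ) ≠ 0 := by exact_mod_cast hp.ne_zero
  -- the averaging identity
  have hsum : ∑ β : IrrCharacter (G ⧸ N), (β : G ⧸ N → ℂ) 1 *
      classInner (fun x : G => (β : G ⧸ N → ℂ) (x : G ⧸ N) * χ x) χ = (n : ℂ) ^ 2 := by
    rw [← hnorm]
    simp only [classInner]
    have h1 : ∀ β : IrrCharacter (G ⧸ N), (β : G ⧸ N → ℂ) 1 * ((Nat.card G : ℂ)⁻¹ *
        ∑ x : G, (β : G ⧸ N → ℂ) (x : G ⧸ N) * χ x * conj (χ x)) =
        (Nat.card G : ℂ)⁻¹ * ∑ x : G, ((β : G ⧸ N → ℂ) 1 * (β : G ⧸ N → ℂ) (x : G ⧸ N)) *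
          (χ x * conj (χ x)) := by
      intro β
      rw [mul_left_comm, Finset.mul_sum]
      congr 1
      refine Finset.sum_congr rfl fun x _ => ?_
      ring
    simp only [h1]
    rw [← Finset.mul_sum, Finset.sum_comm]
    have hreg : ∀ x : G, ∑ β : IrrCharacter (G ⧸ N), (β : G ⧸ N → ℂ) 1 * (β : G ⧸ N → ℂ) (x : G ⧸ N) =
        if x ∈ N then (N.index : ℂ) else 0 := by
      intro x
      rw [sum_irr_degree_mul_apply]
      by_cases hx : x ∈ N
      · have : (x : G ⧸ N) = 1 := (QuotientGroup.eq_one_iff x).mpr hx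
        rw [if_pos this, if_pos hx, hcardQ]
      · have : (x : G ⧸ N) ≠ 1 := fun h => hx ((QuotientGroup.eq_one_iff x).mp h)
        rw [if_neg this, if_neg hx]
    simp only [← Finset.sum_mul, hreg]
    have h2 : ∑ x : G, (if x ∈ N then (N.index : ℂ) else 0) * (χ x * conj (χ x)) =
        (N.index : ℂ) * ∑ m : N, χ m * conj (χ m) := by
      rw [← sum_dite_mem N (fun m => χ m * conj (χ m)), Finset.mul_sum]
      refine Finset.sum_congr rfl fun x _ => ?_
      by_cases hx : x ∈ N
      · simp [hx]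
      · simp [hx]
    rw [h2, hcard]
    field_simp
  -- evaluate the sum: only the principal character contributes
  let β₀ : IrrCharacter (G ⧸ N) := ⟨fun _ => 1, isIrrCharacter_one⟩
  have hterm : ∀ β : IrrCharacter (G ⧸ N), β ≠ β₀ →
      classInner (fun x : G => (β : G ⧸ N → ℂ) (x : G ⧸ N) * χ x) χ = 0 := by
    intro β hβ
    obtain ⟨lam, hlam⟩ := IsCharacter.exists_monoidHom (IsIrrCharacter.isCharacter β.2) (hlin β)
    have hirr : IsIrrCharacter G (fun x : G => (β : G ⧸ N → ℂ) (x : G ⧸ N) * χ x) := by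
      have := isIrr_twist (lam.comp (QuotientGroup.mk' N)) hχ
      rw [hlam]
      exact this
    rw [classInner_irr hirr hχ]
    split_ifs with heq
    · exfalso
      -- `χ` vanishes off `N`
      have hne1 : ∃ y : G ⧸ N, lam y ≠ 1 := by
        by_contra hcon
        push Not at hcon
        apply hβ
        apply Subtype.ext
        rw [hlam]
        funext y
        simp [hcon y, β₀]
      obtain ⟨y, hy⟩ := hne1
      have hvan : ∀ g, g ∉ N → χ g = 0 := by
        intro g hg
        have hgne : (g : G ⧸ N) ≠ 1 := fun h => hg ((QuotientGroup.eq_one_iff g).mp h)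
        have hlamg : lam (g : G ⧸ N) ≠ 1 := by
          intro h1
          have h2 : y ∈ Subgroup.zpowers (g : G ⧸ N) := mem_zpowers_of_prime_card hcardQ hgne
          obtain ⟨k, hk⟩ := Subgroup.mem_zpowers_iff.mp h2
          apply hy
          rw [← hk, map_zpow, h1, one_zpow]
        have h3 := congrFun heq g
        simp only [hlam] at h3
        have h4 : ((lam (g : G ⧸ N) : ℂˣ) : ℂ) ≠ 1 := by
          intro h5
          exact hlamg (Units.ext h5)
        have h5 : (((lam (g : G ⧸ N) : ℂˣ) : ℂ) - 1) * χ g = 0 := by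
          rw [sub_mul, one_mul, h3, sub_self]
        exact (mul_eq_zero.mp h5).resolve_left (sub_ne_zero.mpr h4)
      have h6 := classInner_eq_of_vanish_off N χ χ hvan
      rw [classInner_irr_self hχ, hnorm] at h6
      have h7 : (n : ℂ) ^ 2 = (N.index : ℂ) := by
        field_simp at h6
        exact h6.symm
      have h8 : n ^ 2 = N.index := by exact_mod_cast h7
      have h9 := hp
      rw [← h8] at h9
      exact Nat.Prime.not_prime_pow (le_refl 2) h9
    · rfl
  have hone : classInner (fun x : G => (β₀ : G ⧸ N → ℂ) (x : G ⧸ N) * χ x) χ = 1 := by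
    have : (fun x : G => (β₀ : G ⧸ N → ℂ) (x : G ⧸ N) * χ x) = χ := by
      funext x
      simp [β₀]
    rw [this, classInner_irr_self hχ]
  rw [Finset.sum_eq_single β₀ (fun β _ hβ => by rw [hterm β hβ, mul_zero])
    (fun h => absurd (Finset.mem_univ _) h), hone] at hsum
  have h10 : ((n : ℂ)) ^ 2 = 1 := by
    rw [← hsum]
    simp [β₀]
  have h11 : n ^ 2 = 1 := by exact_mod_cast h10
  have h12 : n = 1 := by
    rcases Nat.pow_eq_one.mp h11 with h | h
    · exact h
    · omega
  rw [hres, h12]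
  simp

theorem exists_ext_of_prime_index {θ : N → ℂ} (hθ : IsIrrCharacter N θ)
    (hinv : ∀ g, conjFun N g θ = θ) (hp : N.index.Prime) :
    ∃ χ : G → ℂ, IsIrrCharacter G χ ∧ resFun N χ = θ := by
  obtain ⟨χ, hχ, hov⟩ := exists_over N hθ
  exact ⟨χ, hχ, res_eq_of_prime_index N hχ hθ hinv hp hov⟩

end PrimeIndex

section Unique

variable {G : Type*} [Group G] [Fintype G] (N : Subgroup G) [hN : N.Normal] [Fintype N]

/-- Two irreducible characters with the same irreducible restriction differ by a linear character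
of the quotient. -/
theorem exists_lam_of_res_eq {χ₁ χ₂ : G → ℂ} (hχ₁ : IsIrrCharacter G χ₁)
    (hχ₂ : IsIrrCharacter G χ₂) (hres : resFun N χ₂ = resFun N χ₁)
    (hθ : IsIrrCharacter N (resFun N χ₁)) :
    ∃ lam : (G ⧸ N) →* ℂˣ, χ₂ = fun g : G => ((lam (g : G ⧸ N) : ℂˣ) : ℂ) * χ₁ g := by
  classical
  let _ : Fintype (G ⧸ N) := Fintype.ofFinite _
  have hover : classInner (resFun N χ₂) (resFun N χ₁) ≠ 0 := by
    rw [hres, classInner_irr_self hθ]
    exact one_ne_zero
  obtain ⟨β, hβ, hβe⟩ := exists_gallagher N (IsIrrCharacter.isCharacter hχ₁) hθ hχ₂ hover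
  have h1 : χ₂ 1 = χ₁ 1 := congrFun hres 1
  have h2 : χ₁ 1 ≠ 0 := by
    have := congrFun hβe 1
    have h3 : χ₁ 1 = (charDegree χ₁ : ℂ) := apply_one_eq_charDegree (IsIrrCharacter.isCharacter hχ₁)
    rw [h3]
    exact_mod_cast (charDegree_pos hχ₁).ne'
  have h3 : β 1 = 1 := by
    have h4 := congrFun hβe 1
    simp only [inflate] at h4
    rw [h1] at h4
    have h5 : ((1 : G) : G ⧸ N) = 1 := rfl
    rw [h5] at h4
    have h6 : (β 1 - 1) * χ₁ 1 = 0 := by
      rw [sub_mul, one_mul, ← h4, sub_self]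
    exact sub_eq_zero.mp ((mul_eq_zero.mp h6).resolve_right h2)
  obtain ⟨lam, hlam⟩ := IsCharacter.exists_monoidHom (IsIrrCharacter.isCharacter hβ) h3
  refine ⟨lam, ?_⟩
  rw [hβe, hlam]

theorem ext_unique_of_det {χ₁ χ₂ : G → ℂ} (hχ₁ : IsIrrCharacter G χ₁)
    (hχ₂ : IsIrrCharacter G χ₂) (hres : resFun N χ₂ = resFun N χ₁)
    (hθ : IsIrrCharacter N (resFun N χ₁)) {d m : ℕ} (hd : χ₁ 1 = d)
    (hcop : Nat.Coprime N.index (d * m))
    (hdet : ∀ g, detChar χ₂ g ^ m = detChar χ₁ g ^ m) : χ₂ = χ₁ := by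
  classical
  obtain ⟨lam, hlam⟩ := exists_lam_of_res_eq N hχ₁ hχ₂ hres hθ
  obtain ⟨δ, hδ⟩ := exists_detHom (IsIrrCharacter.isCharacter hχ₁)
  have hlam1 : ∀ y : G ⧸ N, lam y = 1 := by
    intro y
    obtain ⟨g, rfl⟩ := QuotientGroup.mk_surjective y
    have h1 : detChar χ₂ g = ((lam (g : G ⧸ N) : ℂˣ) : ℂ) ^ d * detChar χ₁ g := by
      have h2 := detChar_twist (lam.comp (QuotientGroup.mk' N))
        (IsIrrCharacter.isCharacter hχ₁) hd g
      rw [hlam]
      exact h2
    have h3 := hdet g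
    rw [h1, mul_pow, hδ g] at h3
    have h4 : (((lam (g : G ⧸ N) : ℂˣ) : ℂ) ^ d) ^ m = 1 := by
      have h5 : ((δ g : ℂˣ) : ℂ) ^ m ≠ 0 := pow_ne_zero _ (Units.ne_zero _)
      exact mul_right_cancel₀ h5 (by rw [h3, one_mul])
    have h6 : lam (g : G ⧸ N) ^ (d * m) = 1 := by
      apply Units.ext
      rw [Units.val_pow_eq_pow_val, pow_mul, h4, Units.val_one]
    have h7 : lam (g : G ⧸ N) ^ N.index = 1 := by
      rw [← map_pow]
      have : (g : G ⧸ N) ^ N.index = 1 := by
        have := pow_card_eq_one' (x := (g : G ⧸ N))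
        rwa [show Nat.card (G ⧸ N) = N.index from rfl] at this
      rw [this, map_one]
    have h8 := pow_gcd_eq_one (a := lam (g : G ⧸ N)) (m := N.index) (n := d * m) |>.mpr ⟨h7, h6⟩
    rw [hcop.gcd_eq_one, pow_one] at h8
    exact h8
  rw [hlam]
  funext g
  simp [hlam1]

omit [Fintype N] in
/-- Adjusting the determinant of an extension when the degree is coprime to the index. -/
theorem adjust_det {χ₀ : G → ℂ} (hχ₀ : IsIrrCharacter G χ₀) {d : ℕ} (hd : χ₀ 1 = d)
    (hcop : Nat.Coprime N.index d) (μ : G →* ℂˣ)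
    (hμ : ∀ n : N, ((μ n : ℂˣ) : ℂ) = detChar χ₀ n) :
    ∃ χ : G → ℂ, IsIrrCharacter G χ ∧ resFun N χ = resFun N χ₀ ∧
      ∀ g, detChar χ g = μ g := by
  classical
  obtain ⟨δ, hδ⟩ := exists_detHom (IsIrrCharacter.isCharacter hχ₀)
  let ν : G →* ℂˣ := μ * δ⁻¹
  have hνN : ∀ n : N, ν n = 1 := by
    intro n
    have h1 : μ n = δ n := by
      apply Units.ext
      rw [hμ n, hδ]
    simp [ν, h1]
  have hνi : ∀ g, ν g ^ N.index = 1 := by
    intro g
    have h1 : g ^ N.index ∈ N := Subgroup.pow_index_mem N g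
    have h2 := hνN ⟨_, h1⟩
    simpa only [map_pow] using h2
  -- Bezout
  have hbez : (1 : ℤ) = d * Nat.gcdA d N.index + N.index * Nat.gcdB d N.index := by
    have h1 := Nat.gcd_eq_gcd_ab d N.index
    have h2 : Nat.gcd d N.index = 1 := hcop.symm.gcd_eq_one
    rw [h2] at h1
    exact_mod_cast h1
  let lam : G →* ℂˣ := (zpowGroupHom (Nat.gcdA d N.index)).comp ν
  have hlamd : ∀ g, lam g ^ d = ν g := by
    intro g
    have h1 : lam g ^ d = ν g ^ ((d : ℤ) * Nat.gcdA d N.index) := by
      show (ν g ^ (Nat.gcdA d N.index)) ^ d = _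
      rw [← zpow_natCast, ← zpow_mul, mul_comm]
    have h2 : ((d : ℤ) * Nat.gcdA d N.index) = 1 - N.index * Nat.gcdB d N.index := by
      rw [hbez]; ring
    rw [h1, h2, zpow_sub, zpow_mul, zpow_natCast, hνi, one_zpow, zpow_one]
    simp
  have hlamN : ∀ n : N, lam n = 1 := by
    intro n
    show ν n ^ (Nat.gcdA d N.index) = 1
    rw [hνN, one_zpow]
  refine ⟨fun g => ((lam g : ℂˣ) : ℂ) * χ₀ g, isIrr_twist lam hχ₀, ?_, ?_⟩
  · funext n
    show ((lam n : ℂˣ) : ℂ) * χ₀ n = χ₀ n
    rw [hlamN]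
    simp
  · intro g
    rw [detChar_twist lam (IsIrrCharacter.isCharacter hχ₀) hd, hδ]
    have h1 : lam g ^ d * δ g = μ g := by
      rw [hlamd]
      simp [ν]
    rw [← h1]
    simp

end Unique

section Solvable

universe u

theorem isIrr_subgroupOf_le {G : Type u} [Group G] [Finite G] {N M : Subgroup G} (hNM : N ≤ M)
    {θ : N → ℂ} (hθ : IsIrrCharacter N θ) :
    IsIrrCharacter (N.subgroupOf M) (fun x => θ ⟨x.1.1, x.2⟩) := by
  classical
  let _ : Fintype G := Fintype.ofFinite G
  let _ : Fintype N := Fintype.ofFinite N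
  let _ : Fintype (N.subgroupOf M) := Fintype.ofFinite _
  have := isIrrCharacter_comp_mulEquiv (Subgroup.subgroupOfEquivOfLe hNM) hθ
  exact this

/-- The main extension theorem for solvable quotients, determinant version. -/
theorem exists_ext_det_of_solvable : ∀ (n : ℕ) (G : Type u) [Group G] [Finite G] (N : Subgroup G)
    [N.Normal] [Group.IsSolvable (G ⧸ N)] (θ : N → ℂ) (_ : IsIrrCharacter N θ)
    (_ : ∀ g, conjFun N g θ = θ) (d : ℕ) (_ : θ 1 = d) (_ : Nat.Coprime N.index d)
    (μ : G →* ℂˣ) (_ : ∀ n : N, ((μ n : ℂˣ) : ℂ) = detChar θ n), Nat.card G = n →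
    ∃ χ : G → ℂ, IsIrrCharacter G χ ∧ (∀ n : N, χ n = θ n) ∧ ∀ g, detChar χ g = μ g := by
  intro n
  induction n using Nat.strong_induction_on with
  | _ n ih =>
    intro G _ _ N _ _ θ hθ hinv d hd hcop μ hμ hcard
    classical
    let _ : Fintype G := Fintype.ofFinite G
    by_cases hNtop : N = ⊤
    · subst hNtop
      let e : G ≃* (⊤ : Subgroup G) := Subgroup.topEquiv.symm
      refine ⟨θ ∘ e, isIrrCharacter_comp_mulEquiv e hθ, fun n => ?_, fun g => ?_⟩
      · rfl
      · have h1 := detChar_comp e.toMonoidHom (IsIrrCharacter.isCharacter hθ)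
        have h2 := congrFun h1 g
        have h3 := hμ (e g)
        exact h2.trans h3.symm
    · have hnt : Nontrivial (G ⧸ N) := QuotientGroup.nontrivial_iff.mpr hNtop
      obtain ⟨Mb, hMbn, hMbi⟩ := exists_normal_index_prime_of_solvable (Q := G ⧸ N)
      let M : Subgroup G := Mb.comap (QuotientGroup.mk' N)
      have hMn : M.Normal := hMbn.comap _
      have hNM : N ≤ M := by
        intro x hx
        show (x : G ⧸ N) ∈ Mb
        rw [(QuotientGroup.eq_one_iff x).mpr hx]
        exact Mb.one_mem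
      have hMi : M.index.Prime := by
        rw [show M.index = Mb.index from
          Subgroup.index_comap_of_surjective _ (QuotientGroup.mk'_surjective N)]
        exact hMbi
      have hdvd : M.index ∣ N.index := Subgroup.index_dvd_of_le hNM
      have hMlt : Nat.card M < n := by
        have h1 : Nat.card M * M.index = n := by rw [mul_comm, Subgroup.index_mul_card, hcard]
        have h2 : 1 < M.index := hMi.one_lt
        have h3 : 0 < Nat.card M := Nat.card_pos
        nlinarith
      -- the data on `M`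
      let N₁ : Subgroup M := N.subgroupOf M
      let θ₁ : N₁ → ℂ := fun x => θ ⟨x.1.1, x.2⟩
      have hθ₁ : IsIrrCharacter N₁ θ₁ := isIrr_subgroupOf_le hNM hθ
      have hinv₁ : ∀ g : M, conjFun N₁ g θ₁ = θ₁ := by
        intro g
        funext x
        have h1 := congrFun (hinv g) ⟨x.1.1, x.2⟩
        exact h1
      have hd₁ : θ₁ 1 = d := hd
      have hi₁ : N₁.index ∣ N.index := by
        have h1 : N₁.index = N.relIndex M := rfl
        rw [h1]
        exact Dvd.intro _ (Subgroup.relIndex_mul_index hNM)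
      have hcop₁ : Nat.Coprime N₁.index d := Nat.Coprime.coprime_dvd_left hi₁ hcop
      let μ₁ : M →* ℂˣ := μ.comp M.subtype
      have hμ₁ : ∀ x : N₁, ((μ₁ x : ℂˣ) : ℂ) = detChar θ₁ x := by
        intro x
        have h1 := congrFun (detChar_comp (Subgroup.subgroupOfEquivOfLe hNM).toMonoidHom
          (IsIrrCharacter.isCharacter hθ)) x
        have h2 : detChar θ₁ x = detChar θ ⟨x.1.1, x.2⟩ := h1
        rw [h2]
        exact hμ ⟨x.1.1, x.2⟩
      have hsolv₁ : Group.IsSolvable (M ⧸ N₁) := by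
        let f : M ⧸ N₁ →* G ⧸ N :=
          QuotientGroup.map N₁ N M.subtype (fun x hx => hx)
        have hf : Function.Injective f := by
          rw [injective_iff_map_eq_one]
          intro y hy
          obtain ⟨x, rfl⟩ := QuotientGroup.mk_surjective y
          have h1 : ((x : G) : G ⧸ N) = 1 := hy
          exact (QuotientGroup.eq_one_iff x).mpr ((QuotientGroup.eq_one_iff (x : G)).mp h1)
        exact Group.isSolvable_of_isSolvable_injective hf
      obtain ⟨ψ, hψ, hψN, hψdet⟩ := ih (Nat.card M) hMlt M N₁ θ₁ hθ₁ hinv₁ d hd₁ hcop₁ μ₁ hμ₁ rfl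
      -- `ψ` is `G`-invariant
      have hMfin : Fintype M := Fintype.ofFinite M
      have hN₁fin : Fintype N₁ := Fintype.ofFinite N₁
      have hψinv : ∀ g : G, conjFun M g ψ = ψ := by
        intro g
        have hres₁ : resFun N₁ ψ = θ₁ := by
          funext x
          exact hψN x
        apply ext_unique_of_det N₁ hψ (isIrrCharacter_conjFun M g hψ) ?_ ?_ (d := d) (m := 1) ?_ ?_ ?_
        · funext x
          have h1 : resFun N₁ (conjFun M g ψ) x = ψ ⟨g⁻¹ * x * g, hMn.conj_mem' _ x.1.2 g⟩ := rfl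
          rw [h1]
          have h2 : resFun N₁ ψ x = θ₁ x := congrFun hres₁ x
          rw [h2]
          have h3 : (⟨g⁻¹ * x * g, hMn.conj_mem' _ x.1.2 g⟩ : M) ∈ N₁ := by
            show g⁻¹ * x * g ∈ N
            exact (inferInstance : N.Normal).conj_mem' _ x.2 g
          have h4 := hψN ⟨_, h3⟩
          rw [h4]
          exact congrFun (hinv g) ⟨x.1.1, x.2⟩
        · rw [hres₁]; exact hθ₁
        · have h1 : ψ 1 = θ₁ 1 := hψN 1
          rw [h1, hd₁]
        · simpa using hcop₁
        · intro x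
          rw [pow_one, pow_one, hψdet x]
          have h1 := congrFun (detChar_comp (conjEquiv M g).toMonoidHom
            (IsIrrCharacter.isCharacter hψ)) x
          have h2 : detChar (conjFun M g ψ) x = detChar ψ (conjEquiv M g x) := by
            rw [conjFun_eq_comp]
            exact h1
          rw [h2, hψdet]
          have h3 : ((conjEquiv M g x : M) : G) = g⁻¹ * x * g := conjEquiv_coe M g x
          show ((μ ((conjEquiv M g x : M) : G) : ℂˣ) : ℂ) = ((μ x : ℂˣ) : ℂ)
          rw [h3, map_mul, map_mul, map_inv]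
          congr 1
          rw [mul_comm (μ g)⁻¹, mul_assoc, inv_mul_cancel, mul_one]
      -- extend to `G`
      obtain ⟨χ₀, hχ₀, hχ₀r⟩ := exists_ext_of_prime_index M hψ hψinv hMi
      have hd' : χ₀ 1 = d := by
        have h1 : χ₀ 1 = ψ 1 := congrFun hχ₀r 1
        have h2 : ψ 1 = θ₁ 1 := hψN 1
        rw [h1, h2, hd₁]
      have hcop' : Nat.Coprime M.index d := Nat.Coprime.coprime_dvd_left hdvd hcop
      have hμ' : ∀ x : M, ((μ x : ℂˣ) : ℂ) = detChar χ₀ x := by
        intro x
        have h1 := congrFun (detChar_comp M.subtype (IsIrrCharacter.isCharacter hχ₀)) x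
        have h2 : detChar (resFun M χ₀) x = detChar χ₀ x := h1
        rw [← h2, hχ₀r, hψdet]
        rfl
      obtain ⟨χ, hχ, hχr, hχdet⟩ := adjust_det M hχ₀ hd' hcop' μ hμ'
      refine ⟨χ, hχ, fun m => ?_, hχdet⟩
      have h1 : χ m = resFun M χ ⟨m, hNM m.2⟩ := rfl
      rw [h1, hχr, hχ₀r]
      exact hψN ⟨⟨m, hNM m.2⟩, m.2⟩

end Solvable

end Cfsg.Agent.Lib.H8Group
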