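import Mathlib
import Cfsg.Agent.Lib.H8Group.Extension
import Cfsg.Agent.Lib.H8Group.CosetCount
import Cfsg.Agent.Lib.Char.Galois
import Cfsg.Agent.Lib.Char.DirectProduct
import Cfsg.Agent.Lib.Char.ClassSum

set_option autoImplicit false

/-!
Character-theoretic tools for the Glauberman correspondence.
-/

namespace Cfsg.Agent.Lib.H8Group

open Cfsg Module Cfsg.Agent.Lib.Char
open scoped ComplexConjugate

section Quot

variable {G : Type*} [Group G] [Fintype G] (N : Subgroup G) [hN : N.Normal] [Fintype N]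

theorem sum_coset_eq_sum_twist (hcomm : ∀ a b : G ⧸ N, a * b = b * a) (χ₁ χ₂ : G → ℂ) (y : G) :
    ∑ n : N, χ₁ ((n : G) * y) * conj (χ₂ ((n : G) * y)) =
      (Nat.card N : ℂ) * ∑ β : IrrCharacter (G ⧸ N), (β : G ⧸ N → ℂ) ((y : G ⧸ N)⁻¹) *
        classInner (fun x : G => (β : G ⧸ N → ℂ) (x : G ⧸ N) * χ₁ x) χ₂ := by
  classical
  have hlin := (comm_iff_irr_degree_one (G := G ⧸ N)).mp hcomm
  have hcard : (Nat.card G : ℂ) = (N.index : ℂ) * (Nat.card N : ℂ) := by
    rw [← Nat.cast_mul, Subgroup.index_mul_card]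
  have hGne : (Nat.card G : ℂ) ≠ 0 := NeZero.ne _
  have hNne : (Nat.card N : ℂ) ≠ 0 := NeZero.ne _
  have hindne : (N.index : ℂ) ≠ 0 := by
    intro h
    rw [hcard, h, zero_mul] at hGne
    exact hGne rfl
  have hbeta : ∀ (β : IrrCharacter (G ⧸ N)) (a b : G ⧸ N),
      (β : G ⧸ N → ℂ) a * (β : G ⧸ N → ℂ) b = (β : G ⧸ N → ℂ) (b * a) := by
    intro β a b
    obtain ⟨lam, hlam⟩ := IsCharacter.exists_monoidHom (IsIrrCharacter.isCharacter β.2) (hlin β)
    rw [hlam]
    simp [mul_comm]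
  set F : G → ℂ := fun x => χ₁ x * conj (χ₂ x) with hF
  have h1 : ∀ β : IrrCharacter (G ⧸ N), (β : G ⧸ N → ℂ) ((y : G ⧸ N)⁻¹) *
        classInner (fun x : G => (β : G ⧸ N → ℂ) (x : G ⧸ N) * χ₁ x) χ₂ =
      (Nat.card G : ℂ)⁻¹ * ∑ x : G, ((β : G ⧸ N → ℂ) 1 * (β : G ⧸ N → ℂ) ((x : G ⧸ N) * (y : G ⧸ N)⁻¹)) * F x := by
    intro β
    simp only [classInner]
    rw [mul_left_comm, Finset.mul_sum]
    congr 1
    refine Finset.sum_congr rfl fun x _ => ?_
    rw [hlin β, one_mul, ← hbeta]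
    simp only [hF]
    ring
  simp only [h1]
  rw [← Finset.mul_sum, Finset.sum_comm]
  simp only [← Finset.sum_mul, sum_irr_degree_mul_apply_mul_inv]
  have h2 : ∑ x : G, (if ((x : G ⧸ N)) = (y : G ⧸ N) then (Nat.card (G ⧸ N) : ℂ) else 0) * F x =
      (N.index : ℂ) * ∑ n : N, F ((n : G) * y) := by
    have h3 : ∑ x : G, (if ((x : G ⧸ N)) = (y : G ⧸ N) then (Nat.card (G ⧸ N) : ℂ) else 0) * F x =
        ∑ z : G, (if ((z * y : G) : G ⧸ N) = (y : G ⧸ N) then (Nat.card (G ⧸ N) : ℂ) else 0) * F (z * y) :=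
      (Equiv.sum_comp (Equiv.mulRight y) _).symm
    rw [h3, ← sum_dite_mem N (fun n => F ((n : G) * y)), Finset.mul_sum]
    refine Finset.sum_congr rfl fun z _ => ?_
    by_cases hz : z ∈ N
    · have h4 : ((z * y : G) : G ⧸ N) = (y : G ⧸ N) := by
        rw [QuotientGroup.mk_mul, (QuotientGroup.eq_one_iff z).mpr hz, one_mul]
      rw [if_pos h4, dif_pos hz]
      rfl
    · have h4 : ((z * y : G) : G ⧸ N) ≠ (y : G ⧸ N) := by
        intro h5
        rw [QuotientGroup.mk_mul] at h5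
        exact hz ((QuotientGroup.eq_one_iff z).mp (mul_eq_right.mp h5))
      rw [if_neg h4, dif_neg hz]
      simp
  have key : ∀ S : ℂ, S = (N.index : ℂ) * ∑ n : N, F ((n : G) * y) →
      ∑ n : N, χ₁ ((n : G) * y) * conj (χ₂ ((n : G) * y)) = (Nat.card N : ℂ) * ((Nat.card G : ℂ)⁻¹ * S) := by
    intro S hS
    rw [hS, hcard]
    field_simp
    rfl
  apply key
  convert h2

theorem classInner_twist_eq_of_res_ne (hcomm : ∀ a b : G ⧸ N, a * b = b * a)
    {χ₁ χ₂ : G → ℂ} (h₁ : IsIrrCharacter G χ₁) (h₂ : IsIrrCharacter G χ₂)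
    (hne : resFun N χ₁ ≠ resFun N χ₂) (β : IrrCharacter (G ⧸ N)) :
    classInner (fun x : G => (β : G ⧸ N → ℂ) (x : G ⧸ N) * χ₁ x) χ₂ = 0 := by
  classical
  have hlin := (comm_iff_irr_degree_one (G := G ⧸ N)).mp hcomm
  obtain ⟨lam, hlam⟩ := IsCharacter.exists_monoidHom (IsIrrCharacter.isCharacter β.2) (hlin β)
  have hirr : IsIrrCharacter G (fun x : G => (β : G ⧸ N → ℂ) (x : G ⧸ N) * χ₁ x) := by
    have := isIrr_twist (lam.comp (QuotientGroup.mk' N)) h₁
    rw [hlam]
    exact this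
  rw [classInner_irr_of_ne hirr h₂]
  intro h
  apply hne
  funext n
  have h3 := congrFun h (n : G)
  rw [(QuotientGroup.eq_one_iff (n : G)).mpr n.2, hlin β, one_mul] at h3
  exact h3

/-- Orthogonality on a coset for characters with distinct restrictions. -/
theorem sum_coset_eq_zero (hcomm : ∀ a b : G ⧸ N, a * b = b * a)
    {χ₁ χ₂ : G → ℂ} (h₁ : IsIrrCharacter G χ₁) (h₂ : IsIrrCharacter G χ₂)
    (hne : resFun N χ₁ ≠ resFun N χ₂) (y : G) :
    ∑ n : N, χ₁ ((n : G) * y) * conj (χ₂ ((n : G) * y)) = 0 := by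
  rw [sum_coset_eq_sum_twist N hcomm]
  simp only [classInner_twist_eq_of_res_ne N hcomm h₁ h₂ hne, mul_zero, Finset.sum_const_zero]

/-- Characters not vanishing on a generating coset have irreducible restriction. -/
theorem irr_res_of_apply_ne_zero {x : G} (hgen : Subgroup.zpowers (x : G ⧸ N) = ⊤)
    {ψ : G → ℂ} (hψ : IsIrrCharacter G ψ) (hx : ψ x ≠ 0) : IsIrrCharacter N (resFun N ψ) := by
  classical
  have hcyc : IsCyclic (G ⧸ N) := isCyclic_iff_exists_zpowers_eq_top.mpr ⟨_, hgen⟩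
  have hcomm : ∀ a b : G ⧸ N, a * b = b * a := fun a b =>
    (IsCyclic.commGroup : CommGroup (G ⧸ N)).mul_comm a b
  have hlin := (comm_iff_irr_degree_one (G := G ⧸ N)).mp hcomm
  apply isIrrCharacter_of_classInner_self (isCharacter_resFun N (IsIrrCharacter.isCharacter hψ))
  have h1 := sum_coset_eq_sum_twist N hcomm ψ ψ 1
  have hNne : (Nat.card N : ℂ) ≠ 0 := NeZero.ne _
  let β₀ : IrrCharacter (G ⧸ N) := ⟨fun _ => 1, isIrrCharacter_one⟩
  have hterm : ∀ β : IrrCharacter (G ⧸ N), β ≠ β₀ →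
      (β : G ⧸ N → ℂ) (((1 : G) : G ⧸ N)⁻¹) * classInner (fun y : G => (β : G ⧸ N → ℂ) (y : G ⧸ N) * ψ y) ψ = 0 := by
    intro β hβ
    obtain ⟨lam, hlam⟩ := IsCharacter.exists_monoidHom (IsIrrCharacter.isCharacter β.2) (hlin β)
    have hirr : IsIrrCharacter G (fun y : G => (β : G ⧸ N → ℂ) (y : G ⧸ N) * ψ y) := by
      have := isIrr_twist (lam.comp (QuotientGroup.mk' N)) hψ
      rw [hlam]
      exact this
    rw [classInner_irr_of_ne hirr hψ, mul_zero]
    intro heq
    apply hβ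
    have h2 := congrFun heq x
    have h3 : (β : G ⧸ N → ℂ) (x : G ⧸ N) = 1 := by
      have h4 : ((β : G ⧸ N → ℂ) (x : G ⧸ N) - 1) * ψ x = 0 := by
        rw [sub_mul, one_mul, h2, sub_self]
      exact sub_eq_zero.mp ((mul_eq_zero.mp h4).resolve_right hx)
    have h4 : lam (x : G ⧸ N) = 1 := by
      apply Units.ext
      rw [hlam] at h3
      exact h3
    apply Subtype.ext
    rw [hlam]
    funext y
    have hy : y ∈ Subgroup.zpowers (x : G ⧸ N) := by rw [hgen]; trivial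
    obtain ⟨k, rfl⟩ := Subgroup.mem_zpowers_iff.mp hy
    rw [map_zpow, h4, one_zpow]
    rfl
  rw [Finset.sum_eq_single β₀ (fun β _ hβ => hterm β hβ) (fun h => absurd (Finset.mem_univ _) h)] at h1
  have h5 : classInner (fun y : G => (β₀ : G ⧸ N → ℂ) (y : G ⧸ N) * ψ y) ψ = 1 := by
    have : (fun y : G => (β₀ : G ⧸ N → ℂ) (y : G ⧸ N) * ψ y) = ψ := by
      funext y
      simp [β₀]
    rw [this, classInner_irr_self hψ]
  rw [h5] at h1
  simp only [classInner]
  have h6 : ∑ n : N, resFun N ψ n * conj (resFun N ψ n) = ∑ n : N, ψ ((n : G) * 1) * conj (ψ ((n : G) * 1)) := by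
    refine Finset.sum_congr rfl fun n _ => ?_
    simp
  rw [h6, h1]
  simp only [β₀, mul_one]
  field_simp

end Quot

section SigmaDet

variable {G : Type*} [Group G] [Finite G]

theorem detChar_sigma (σ : ℂ →+* ℂ) {χ : G → ℂ} (hχ : IsCharacter G χ) (g : G) :
    detChar (fun x => σ (χ x)) g = σ (detChar χ g) := by
  classical
  obtain ⟨n, ρ, rfl⟩ := hχ
  let M : G →* Matrix (Fin n) (Fin n) ℂ :=
    { toFun := fun g => (LinearMap.toMatrix' (ρ g)).map σ
      map_one' := by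
        rw [map_one]
        have h : LinearMap.toMatrix' (1 : (Fin n → ℂ) →ₗ[ℂ] (Fin n → ℂ)) = 1 := LinearMap.toMatrix'_one
        rw [h]
        ext i j
        simp [Matrix.one_apply]
      map_mul' := by
        intro x y
        rw [map_mul]
        have h : LinearMap.toMatrix' ((ρ x) * (ρ y)) = LinearMap.toMatrix' (ρ x) * LinearMap.toMatrix' (ρ y) :=
          LinearMap.toMatrix'_comp _ _
        rw [h, Matrix.map_mul] }
  let ρ' : Representation ℂ G (Fin n → ℂ) :=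
    { toFun := fun g => Matrix.toLin' (M g)
      map_one' := by
        rw [map_one]
        exact Matrix.toLin'_one
      map_mul' := by
        intro x y
        rw [map_mul]
        exact Matrix.toLin'_mul _ _ }
  have hchar : (fun x => σ (ρ.character x)) = ρ'.character := by
    funext g
    have h1 : ρ'.character g = Matrix.trace (M g) := by
      show LinearMap.trace ℂ _ (Matrix.toLin' (M g)) = _
      rw [Matrix.trace_toLin'_eq]
    have h2 : ρ.character g = Matrix.trace (LinearMap.toMatrix' (ρ g)) := by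
      show LinearMap.trace ℂ _ (ρ g) = _
      rw [← Matrix.trace_toLin'_eq, Matrix.toLin'_toMatrix']
    rw [h1, h2]
    simp [M, Matrix.trace, map_sum]
  rw [hchar, detChar_of_rep, detChar_of_rep]
  show LinearMap.det (Matrix.toLin' (M g)) = _
  rw [LinearMap.det_toLin']
  have h3 : LinearMap.det (ρ g) = Matrix.det (LinearMap.toMatrix' (ρ g)) := by
    rw [← LinearMap.det_toLin', Matrix.toLin'_toMatrix']
  rw [h3, RingHom.map_det]
  rfl

end SigmaDet

end Cfsg.Agent.Lib.H8Group
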