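import Mathlib
import Cfsg.Agent.Lib.H8Group.Extension

set_option autoImplicit false

/-!
Extending linear characters via transfer.
-/

namespace Cfsg.Agent.Lib.H8Group

open Cfsg Module Cfsg.Agent.Lib.Char

section

variable {G : Type*} [Group G] [Finite G]

/-- Transfer of a linear character at an element of a normal subgroup on which it is invariant. -/
theorem transfer_apply_of_normal (N H : Subgroup G) [hN : N.Normal] (hNH : N ≤ H) (ν : H →* ℂˣ)
    (hinv : ∀ (g n : G) (hn : n ∈ N), ν ⟨g * n * g⁻¹, hNH (hN.conj_mem n hn g)⟩ = ν ⟨n, hNH hn⟩)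
    (n : G) (hn : n ∈ N) : ν.transfer n = ν ⟨n, hNH hn⟩ ^ H.index := by
  classical
  have : Fintype (Quotient (MulAction.orbitRel (Subgroup.zpowers n) (G ⧸ H))) :=
    Fintype.ofFinite _
  rw [MonoidHom.transfer_eq_prod_quotient_orbitRel_zpowers_quot,
    Subgroup.index_eq_sum_minimalPeriod H n, ← Finset.prod_pow_eq_pow_sum]
  refine Finset.prod_congr rfl fun q _ => ?_
  set k := Function.minimalPeriod (n • ·) q.out with hk
  have h1 : n ^ k ∈ N := N.pow_mem hn k
  have h2 := hinv (q.out.out)⁻¹ (n ^ k) h1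
  simp only [inv_inv] at h2
  rw [h2, ← map_pow]
  rfl

theorem transfer_apply_pow (H : Subgroup G) (ν : H →* ℂˣ) {m : ℕ} (hm : ∀ x, ν x ^ m = 1) (g : G) :
    ν.transfer g ^ m = 1 := by
  classical
  have : Fintype (Quotient (MulAction.orbitRel (Subgroup.zpowers g) (G ⧸ H))) :=
    Fintype.ofFinite _
  rw [MonoidHom.transfer_eq_prod_quotient_orbitRel_zpowers_quot, ← Finset.prod_pow]
  exact Finset.prod_eq_one fun q _ => hm _

/-- Extending a linear character of order coprime to the index. -/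
theorem exists_ext_linear (N : Subgroup G) [hN : N.Normal] (lam : N →* ℂˣ)
    (hinv : ∀ (g n : G) (hn : n ∈ N), lam ⟨g * n * g⁻¹, hN.conj_mem n hn g⟩ = lam ⟨n, hn⟩)
    {m : ℕ} (hm : ∀ x, lam x ^ m = 1) (hcop : Nat.Coprime N.index m) :
    ∃ μ : G →* ℂˣ, (∀ n : N, μ n = lam n) ∧ ∀ g, μ g ^ m = 1 := by
  classical
  let V : G →* ℂˣ := lam.transfer
  have hVN : ∀ n : N, V n = lam n ^ N.index := fun n =>
    transfer_apply_of_normal N N le_rfl lam hinv n n.2
  have hVm : ∀ g, V g ^ m = 1 := transfer_apply_pow N lam hm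
  have hbez : (1 : ℤ) = N.index * Nat.gcdA N.index m + m * Nat.gcdB N.index m := by
    have h1 := Nat.gcd_eq_gcd_ab N.index m
    rw [hcop.gcd_eq_one] at h1
    exact_mod_cast h1
  refine ⟨(zpowGroupHom (Nat.gcdA N.index m)).comp V, fun n => ?_, fun g => ?_⟩
  · show V n ^ (Nat.gcdA N.index m) = lam n
    rw [hVN, ← zpow_natCast, ← zpow_mul]
    have h2 : ((N.index : ℤ) * Nat.gcdA N.index m) = 1 - m * Nat.gcdB N.index m := by
      rw [hbez]; ring
    rw [h2, zpow_sub, zpow_mul, zpow_natCast, hm, one_zpow, zpow_one]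
    simp
  · show (V g ^ (Nat.gcdA N.index m)) ^ m = 1
    rw [← zpow_natCast, ← zpow_mul, mul_comm, zpow_mul, zpow_natCast, hVm, one_zpow]

omit [Finite G] in
theorem linear_ext_unique (N : Subgroup G) [hN : N.Normal] (μ μ' : G →* ℂˣ)
    (h : ∀ n : N, μ n = μ' n) {m m' : ℕ} (hm : ∀ g, μ g ^ m = 1) (hm' : ∀ g, μ' g ^ m' = 1)
    (hc : Nat.Coprime N.index m) (hc' : Nat.Coprime N.index m') : μ = μ' := by
  ext g
  congr 1
  have h1 : (μ g / μ' g) ^ N.index = 1 := by
    have h2 : g ^ N.index ∈ N := Subgroup.pow_index_mem N g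
    have h3 := h ⟨_, h2⟩
    rw [div_pow, ← map_pow, ← map_pow, h3, div_self']
  have h2 : (μ g / μ' g) ^ (m * m') = 1 := by
    rw [div_pow, pow_mul, hm, one_pow, mul_comm, pow_mul, hm', one_pow, one_div_one]
  have h3 := pow_gcd_eq_one (a := μ g / μ' g) (m := N.index) (n := m * m') |>.mpr ⟨h1, h2⟩
  rw [(Nat.Coprime.mul_right hc hc').gcd_eq_one, pow_one, div_eq_one] at h3
  exact h3

/-- Gallagher's extension criterion for linear characters. -/
theorem exists_ext_linear_of_local (N : Subgroup G) [hN : N.Normal] (lam : N →* ℂˣ)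
    (hinv : ∀ (g n : G) (hn : n ∈ N), lam ⟨g * n * g⁻¹, hN.conj_mem n hn g⟩ = lam ⟨n, hn⟩)
    {m : ℕ} (hm0 : m ≠ 0) (hm : ∀ x, lam x ^ m = 1)
    (hloc : ∀ p : ℕ, p.Prime → p ∣ m → ∃ (H : Subgroup G) (hNH : N ≤ H) (ν : H →* ℂˣ),
      Nat.Coprime H.index p ∧ ∀ n : N, ν ⟨n, hNH n.2⟩ = lam n) :
    ∃ μ : G →* ℂˣ, ∀ n : N, μ n = lam n := by
  classical
  let S : AddSubgroup ℤ :=
    { carrier := {e | ∃ μ : G →* ℂˣ, ∀ n : N, μ n = lam n ^ e}
      zero_mem' := ⟨1, by simp⟩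
      add_mem' := by
        rintro a b ⟨μ₁, h₁⟩ ⟨μ₂, h₂⟩
        refine ⟨μ₁ * μ₂, fun n => ?_⟩
        rw [MonoidHom.mul_apply, h₁, h₂, zpow_add]
      neg_mem' := by
        rintro a ⟨μ₁, h₁⟩
        refine ⟨μ₁⁻¹, fun n => ?_⟩
        rw [MonoidHom.inv_apply, h₁, zpow_neg] }
  obtain ⟨a, ha⟩ := Int.subgroup_cyclic S
  have hdvd : ∀ e ∈ S, a ∣ e := by
    intro e he
    rw [ha, AddSubgroup.mem_closure_singleton] at he
    obtain ⟨k, hk⟩ := he
    rw [← hk]
    exact ⟨k, by simp [mul_comm]⟩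
  have haS : a ∈ S := by rw [ha]; exact AddSubgroup.mem_closure_singleton_self a
  have hmS : (m : ℤ) ∈ S := by
    refine ⟨1, fun n => ?_⟩
    rw [zpow_natCast, hm]
    simp
  have ha1 : a.natAbs = 1 := by
    by_contra hne
    have h0 : a.natAbs ≠ 0 := by
      intro h
      have h1 : a = 0 := Int.natAbs_eq_zero.mp h
      have h2 := hdvd _ hmS
      rw [h1, zero_dvd_iff] at h2
      exact hm0 (by exact_mod_cast h2)
    obtain ⟨p, hp, hpa⟩ := Nat.exists_prime_and_dvd hne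
    have hpa' : (p : ℤ) ∣ a := Int.natCast_dvd.mpr hpa
    have hpm : p ∣ m := by
      have := hpa'.trans (hdvd _ hmS)
      exact_mod_cast this
    obtain ⟨H, hNH, ν, hc, hν⟩ := hloc p hp hpm
    have hinvν : ∀ (g n : G) (hn : n ∈ N),
        ν ⟨g * n * g⁻¹, hNH (hN.conj_mem n hn g)⟩ = ν ⟨n, hNH hn⟩ := by
      intro g n hn
      rw [hν ⟨_, hN.conj_mem n hn g⟩, hν ⟨n, hn⟩, hinv]
    have hHS : (H.index : ℤ) ∈ S := by
      refine ⟨ν.transfer, fun n => ?_⟩
      rw [transfer_apply_of_normal N H hNH ν hinvν n n.2, hν, zpow_natCast]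
    have h1 : (p : ℤ) ∣ H.index := hpa'.trans (hdvd _ hHS)
    have h2 : p ∣ H.index := by exact_mod_cast h1
    have h3 := Nat.Coprime.eq_one_of_dvd hc.symm h2
    exact hp.one_lt.ne' h3
  have h1S : (1 : ℤ) ∈ S := by
    rcases Int.natAbs_eq a with h | h
    · rw [ha1] at h
      rw [h] at haS
      exact_mod_cast haS
    · rw [ha1] at h
      rw [h] at haS
      have := S.neg_mem haS
      simpa using this
  obtain ⟨μ, hμ⟩ := h1S
  exact ⟨μ, fun n => by rw [hμ, zpow_one]⟩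

end

end Cfsg.Agent.Lib.H8Group
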