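import Mathlib
import Cfsg.Agent.Lib.H8Group.GlaubChar
import Cfsg.Agent.Lib.H8Group.LinearExt

set_option autoImplicit false

/-!
The Glauberman correspondence for a cyclic group of operators, in ambient form: `G` is normal in
`Γ`, the image of `s` generates `Γ/G` and `orderOf s` is coprime to `|G|`.
-/

namespace Cfsg.Agent.Lib.H8Group

open Cfsg Module Cfsg.Agent.Lib.Char
open scoped ComplexConjugate

section Decomp

variable {Γ : Type*} [Group Γ] [Fintype Γ]

theorem exists_decomp (C S : Subgroup Γ) [Fintype C] [Fintype S] (hcomm : ∀ c ∈ C, ∀ t ∈ S, c * t = t * c)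
    {χ : Γ → ℂ} (hχ : IsCharacter Γ χ) :
    ∃ ξ : IrrCharacter C → S → ℂ, (∀ γ, IsCharacter S (ξ γ)) ∧
      ∀ (c : C) (t : S), χ ((c : Γ) * t) = ∑ γ : IrrCharacter C, (γ : C → ℂ) c * ξ γ t := by
  classical
  let f : C × S →* Γ := MonoidHom.noncommCoprod C.subtype S.subtype
    (fun c t => hcomm c c.2 t t.2)
  have hf : IsCharacter (C × S) (χ ∘ f) := IsCharacter.comp hχ f
  obtain ⟨m, hm⟩ := IsCharacter.exists_nat_coeffs hf
  let ξ : IrrCharacter C → S → ℂ := fun γ =>
    ∑ l : IrrCharacter S, (m (irrProd (γ, l))) • (l : S → ℂ)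
  refine ⟨ξ, fun γ => ?_, fun c t => ?_⟩
  · exact IsCharacter.sum _ fun l _ => IsCharacter.nsmul (IsIrrCharacter.isCharacter l.2) _
  · have h1 := congrFun hm (c, t)
    have h2 : (χ ∘ f) (c, t) = χ ((c : Γ) * t) := rfl
    rw [h2] at h1
    rw [h1]
    have hbij : Function.Bijective (irrProd (G := C) (H := S)) :=
      ⟨irrProd_injective, irrProd_surjective⟩
    rw [Finset.sum_apply, ← (Equiv.ofBijective _ hbij).sum_comp, Fintype.sum_prod_type]
    refine Finset.sum_congr rfl fun γ _ => ?_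
    simp only [ξ, Finset.sum_apply, Finset.mul_sum, Pi.smul_apply]
    refine Finset.sum_congr rfl fun l _ => ?_
    simp only [Equiv.ofBijective_apply, irrProd, prodFun, nsmul_eq_mul]
    ring

theorem classInner_decomp (C S : Subgroup Γ) [Fintype C] [Fintype S]
    {χ : Γ → ℂ} (ξ : IrrCharacter C → S → ℂ)
    (h : ∀ (c : C) (t : S), χ ((c : Γ) * t) = ∑ γ : IrrCharacter C, (γ : C → ℂ) c * ξ γ t)
    (t : S) (γ : IrrCharacter C) :
    classInner (fun c : C => χ ((c : Γ) * t)) (γ : C → ℂ) = ξ γ t := by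
  classical
  have h1 : (fun c : C => χ ((c : Γ) * t)) = ∑ γ' : IrrCharacter C, ξ γ' t • (γ' : C → ℂ) := by
    funext c
    rw [h c t, Finset.sum_apply]
    refine Finset.sum_congr rfl fun γ' _ => ?_
    simp [mul_comm]
  rw [h1, classInner_sum_left, Finset.sum_eq_single γ]
  · rw [classInner_smul_left, classInner_irr_self γ.2, mul_one]
  · intro γ' _ hne
    rw [classInner_smul_left, classInner_irr_of_ne γ'.2 γ.2 (fun h => hne (Subtype.ext h)), mul_zero]
  · intro hγ
    exact absurd (Finset.mem_univ _) hγ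

end Decomp

section Canonical

variable {Γ : Type*} [Group Γ] [Fintype Γ] (G : Subgroup Γ) [hG : G.Normal] [Fintype G]

/-- The canonical extension is fixed by the power maps fixing `G` elementwise. -/
theorem canonical_pow_eq {χ : Γ → ℂ} (hχ : IsIrrCharacter Γ χ)
    (hres : IsIrrCharacter G (resFun G χ)) {m : ℕ} (hm : ∀ x, detChar χ x ^ m = 1)
    (hcop : Nat.Coprime G.index (Nat.card G * m)) {k : ℕ} (hk : k.Coprime (Nat.card Γ))
    (hkG : ∀ g ∈ G, g ^ k = g) (x : Γ) : χ (x ^ k) = χ x := by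
  classical
  have : NeZero (Nat.card Γ) := ⟨Nat.card_pos.ne'⟩
  obtain ⟨σ, hσ⟩ := exists_sigma (Nat.card Γ) k hk
  have hσχ : ∀ y, σ (χ y) = χ (y ^ k) := sigma_character (IsIrrCharacter.isCharacter hχ) σ k hσ
  let ψ : Γ → ℂ := fun y => χ (y ^ k)
  have hψ : IsIrrCharacter Γ ψ := isIrrCharacter_pow hχ hk
  have hψe : ψ = fun y => σ (χ y) := by
    funext y
    exact (hσχ y).symm
  have hresψ : resFun G ψ = resFun G χ := by
    funext n
    show χ ((n : Γ) ^ k) = χ n
    rw [hkG n n.2]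
  obtain ⟨d, hd⟩ := IsCharacter.apply_one (IsIrrCharacter.isCharacter hχ)
  have hdG : d ∣ Nat.card G := by
    have h1 : charDegree (resFun G χ) ∣ Nat.card G := charDegree_dvd_card hres
    have h2 : charDegree (resFun G χ) = d := charDegree_eq hd
    rwa [h2] at h1
  have hdet : ∀ y, detChar ψ y ^ m = detChar χ y ^ m := by
    intro y
    rw [hψe, detChar_sigma σ (IsIrrCharacter.isCharacter hχ), ← map_pow, hm y, map_one]
  have hc : Nat.Coprime G.index (d * m) := by
    have h1 := hcop.coprime_dvd_right (Nat.mul_dvd_mul_right hdG m)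
    exact h1
  have := ext_unique_of_det G hχ hψ hresψ hres hd hc hdet
  exact congrFun this x

/-- Existence of the canonical extension for a solvable quotient. -/
theorem exists_canonical_of_coprime [Group.IsSolvable (Γ ⧸ G)] {θ : G → ℂ}
    (hθ : IsIrrCharacter G θ) (hinv : ∀ g, conjFun G g θ = θ)
    (hcop : Nat.Coprime G.index (Nat.card G)) :
    ∃ χ : Γ → ℂ, IsIrrCharacter Γ χ ∧ (∀ n : G, χ n = θ n) ∧ ∀ x, detChar χ x ^ Nat.card G = 1 := by
  classical
  obtain ⟨δ, hδ⟩ := exists_detHom (IsIrrCharacter.isCharacter hθ)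
  have hδinv : ∀ (g n : Γ) (hn : n ∈ G), δ ⟨g * n * g⁻¹, hG.conj_mem n hn g⟩ = δ ⟨n, hn⟩ := by
    intro g n hn
    apply Units.ext
    rw [← hδ, ← hδ]
    have h1 := congrFun (detChar_comp (conjEquiv G g⁻¹).toMonoidHom
      (IsIrrCharacter.isCharacter hθ)) ⟨n, hn⟩
    have h2 : (fun h : G => θ ((conjEquiv G g⁻¹).toMonoidHom h)) = θ := by
      have := hinv g⁻¹
      rw [conjFun_eq_comp] at this
      exact this
    rw [h2] at h1
    rw [h1]
    congr 1
    apply Subtype.ext
    show g * n * g⁻¹ = ((conjEquiv G g⁻¹ ⟨n, hn⟩ : G) : Γ)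
    rw [conjEquiv_coe]
    simp
  have hδm : ∀ x, δ x ^ Nat.card G = 1 := by
    intro x
    rw [← map_pow, pow_card_eq_one', map_one]
  obtain ⟨μ, hμ, hμm⟩ := exists_ext_linear G δ hδinv hδm hcop
  obtain ⟨d, hd⟩ := IsCharacter.apply_one (IsIrrCharacter.isCharacter hθ)
  have hdG : d ∣ Nat.card G := by
    have h1 : charDegree θ ∣ Nat.card G := charDegree_dvd_card hθ
    rwa [charDegree_eq hd] at h1
  obtain ⟨χ, hχ, hχN, hχd⟩ := exists_ext_det_of_solvable _ Γ G θ hθ hinv d hd
    (hcop.coprime_dvd_right hdG) μ (fun n => by rw [hμ, hδ]) rfl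
  refine ⟨χ, hχ, hχN, fun g => ?_⟩
  rw [hχd, ← Units.val_pow_eq_pow_val, hμm]
  rfl

end Canonical

end Cfsg.Agent.Lib.H8Group
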