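import Mathlib
import Cfsg.Agent.Lib.H8Group.GlaubCyclic

set_option autoImplicit false

/-!
The Glauberman correspondence for a cyclic group of operators: values on the coset.
-/

namespace Cfsg.Agent.Lib.H8Group

open Cfsg Module Cfsg.Agent.Lib.Char
open scoped ComplexConjugate

theorem exists_unique_sq_of_sum_eq_one {ι : Type*} [Fintype ι] [DecidableEq ι] (w : ι → ℤ)
    (h : ∑ i, w i ^ 2 = 1) : ∃ b, (w b = 1 ∨ w b = -1) ∧ ∀ i, i ≠ b → w i = 0 := by
  have hex : ∃ b, w b ≠ 0 := by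
    by_contra hcon
    push Not at hcon
    simp [hcon] at h
  obtain ⟨b, hb⟩ := hex
  have h1 : w b ^ 2 + ∑ i ∈ Finset.univ.erase b, w i ^ 2 = 1 := by
    rw [← h, Finset.add_sum_erase _ (fun i => w i ^ 2) (Finset.mem_univ b)]
  have h2 : 0 ≤ ∑ i ∈ Finset.univ.erase b, w i ^ 2 := Finset.sum_nonneg fun i _ => sq_nonneg _
  have h3 : 1 ≤ w b ^ 2 := by
    have := sq_pos_of_ne_zero hb
    omega
  have h4 : w b ^ 2 = 1 := by omega
  have h5 : ∑ i ∈ Finset.univ.erase b, w i ^ 2 = 0 := by omega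
  refine ⟨b, ?_, fun i hi => ?_⟩
  · exact sq_eq_one_iff.mp h4
  · have := (Finset.sum_eq_zero_iff_of_nonneg (fun i _ => sq_nonneg _)).mp h5 i
      (Finset.mem_erase.mpr ⟨hi, Finset.mem_univ i⟩)
    exact pow_eq_zero_iff (two_ne_zero) |>.mp this

section Main

variable {Γ : Type*} [Group Γ] [Fintype Γ] (G : Subgroup Γ) [hG : G.Normal] [Fintype G] (s : Γ)

variable {G s}

theorem index_dvd_orderOf (hgen : Subgroup.zpowers (s : Γ ⧸ G) = ⊤) : G.index ∣ orderOf s := by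
  have h1 : Nat.card (Γ ⧸ G) = orderOf (s : Γ ⧸ G) := by
    rw [← Nat.card_zpowers, hgen, Nat.card_congr Subgroup.topEquiv.toEquiv]
  have h2 : orderOf (s : Γ ⧸ G) ∣ orderOf s := by
    exact orderOf_map_dvd (QuotientGroup.mk' G) s
  rw [Subgroup.index, h1]
  exact h2

theorem mem_normalizer_of_normal : s ∈ Subgroup.normalizer (G : Set Γ) := by
  rw [Subgroup.mem_normalizer_iff]
  intro h
  exact ⟨fun hh => hG.conj_mem h hh s, fun hh => by
    have := hG.conj_mem _ hh s⁻¹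
    simpa [mul_assoc] using this⟩

theorem mk_mul_of_mem {c : Γ} (hc : c ∈ G) : ((c * s : Γ) : Γ ⧸ G) = (s : Γ ⧸ G) := by
  rw [QuotientGroup.mk_mul, (QuotientGroup.eq_one_iff c).mpr hc, one_mul]

theorem generator_indep (hgen : Subgroup.zpowers (s : Γ ⧸ G) = ⊤)
    (hcop : Nat.Coprime (orderOf s) (Nat.card G)) {χ : Γ → ℂ} (hχ : IsIrrCharacter Γ χ)
    (hres : IsIrrCharacter G (resFun G χ)) {m : ℕ} (hm : ∀ x, detChar χ x ^ m = 1)
    (hm' : Nat.Coprime G.index m) {c : Γ} (hc : c ∈ cD G s) {j : ℕ}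
    (hj : j.Coprime (orderOf s)) : χ (c * s ^ j) = χ (c * s) := by
  have hidx := index_dvd_orderOf hgen
  let k := Nat.chineseRemainder hcop j 1
  have hk1 : (k : ℕ) ≡ j [MOD orderOf s] := k.2.1
  have hk2 : (k : ℕ) ≡ 1 [MOD Nat.card G] := k.2.2
  have hkG : ∀ g ∈ G, g ^ (k : ℕ) = g := by
    intro g hg
    have h1 : orderOf g ∣ Nat.card G := by
      have := Subgroup.orderOf_dvd_natCard G hg
      exact this
    have h2 : (k : ℕ) ≡ 1 [MOD orderOf g] := hk2.of_dvd h1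
    have h3 := pow_eq_pow_iff_modEq.mpr h2
    simpa using h3
  have hk3 : (k : ℕ).Coprime (orderOf s) := by
    have := hk1.gcd_eq
    rw [Nat.Coprime, this]
    exact hj
  have hk4 : (k : ℕ).Coprime (Nat.card G) := by
    have := hk2.gcd_eq
    rw [Nat.Coprime, this]
    simp
  have hk5 : (k : ℕ).Coprime (Nat.card Γ) := by
    rw [← Subgroup.index_mul_card G]
    exact Nat.Coprime.mul_right (hk3.coprime_dvd_right hidx) hk4
  have hcop' : Nat.Coprime G.index (Nat.card G * m) :=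
    Nat.Coprime.mul_right (hcop.coprime_dvd_left hidx) hm'
  have h1 := canonical_pow_eq G hχ hres hm hcop' hk5 hkG (c * s)
  have hcs : Commute c s := (mem_cD.mp hc).2
  rw [hcs.mul_pow, hkG c (mem_cD.mp hc).1, pow_eq_pow_iff_modEq.mpr hk1] at h1
  exact h1

/-- The values of a canonical extension on `C_G(s) s`. -/
theorem exists_glauberman_data [Fintype (cD G s)] [Fintype (Subgroup.zpowers s)]
    (hgen : Subgroup.zpowers (s : Γ ⧸ G) = ⊤)
    (hcop : Nat.Coprime (orderOf s) (Nat.card G)) {χ : Γ → ℂ} (hχ : IsIrrCharacter Γ χ)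
    (hres : IsIrrCharacter G (resFun G χ)) {m : ℕ} (hm : ∀ x, detChar χ x ^ m = 1)
    (hm' : Nat.Coprime G.index m) :
    ∃ (ξ : IrrCharacter (cD G s) → Subgroup.zpowers s → ℂ) (β : IrrCharacter (cD G s)) (ε : ℤ),
      (ε = 1 ∨ ε = -1) ∧ (∀ γ, IsCharacter _ (ξ γ)) ∧
      (∀ (c : cD G s) (t : Subgroup.zpowers s),
        χ ((c : Γ) * t) = ∑ γ : IrrCharacter (cD G s), (γ : cD G s → ℂ) c * ξ γ t) ∧
      ξ β ⟨s, Subgroup.mem_zpowers s⟩ = ε ∧
      ∀ γ, γ ≠ β → ξ γ ⟨s, Subgroup.mem_zpowers s⟩ = 0 := by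
  classical
  have hcomm : ∀ c ∈ cD G s, ∀ t ∈ Subgroup.zpowers s, c * t = t * c := by
    intro c hc t ht
    obtain ⟨j, rfl⟩ := Subgroup.mem_zpowers_iff.mp ht
    have h1 : Commute c s := (mem_cD.mp hc).2
    exact (h1.zpow_right j).eq
  obtain ⟨ξ, hξ, hdec⟩ := exists_decomp (cD G s) (Subgroup.zpowers s) hcomm
    (IsIrrCharacter.isCharacter hχ)
  set s' : Subgroup.zpowers s := ⟨s, Subgroup.mem_zpowers s⟩ with hs'
  -- integrality of the coefficients
  have hz : ∀ γ, ∃ w : ℤ, ξ γ s' = w := by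
    intro γ
    apply int_of_isIntegral_of_rat (IsCharacter.isIntegral (hξ γ) s')
    have : NeZero (Nat.card (Subgroup.zpowers s)) := ⟨Nat.card_pos.ne'⟩
    apply rat_of_forall_sigma _ (character_mem_cycField (hξ γ) s')
    intro σ k hk hσ
    rw [sigma_character (hξ γ) σ k hσ]
    have hk' : k.Coprime (orderOf s) := by
      rwa [Nat.card_zpowers] at hk
    have h1 := classInner_decomp (cD G s) (Subgroup.zpowers s) ξ hdec (s' ^ k) γ
    have h2 := classInner_decomp (cD G s) (Subgroup.zpowers s) ξ hdec s' γ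
    rw [← h1, ← h2]
    congr 1
    funext c
    exact generator_indep hgen hcop hχ hres hm hm' c.2 hk'
  choose w hw using hz
  -- the norm
  have hnorm : ∑ c : cD G s, χ ((c : Γ) * s) * conj (χ ((c : Γ) * s)) = (Nat.card (cD G s) : ℂ) := by
    have h1 := gallagher_norm G (IsIrrCharacter.isCharacter hχ) hres s
    have h2 := sum_coset_eq (D := G) (s := s) mem_normalizer_of_normal hcop
      (fun x => χ x * conj (χ x)) (by
        intro g _ x
        have := (IsCharacter.isClassFunction (IsIrrCharacter.isCharacter hχ)) x g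
        rw [this])
    simp only [h1] at h2
    have hne : (Nat.card G : ℂ) ≠ 0 := NeZero.ne _
    apply mul_left_cancel₀ hne
    rw [← h2, mul_comm]
  have hdecs : (fun c : cD G s => χ ((c : Γ) * s)) =
      ∑ γ : IrrCharacter (cD G s), (w γ : ℂ) • (γ : cD G s → ℂ) := by
    funext c
    have := hdec c s'
    simp only [hs'] at this
    rw [this, Finset.sum_apply]
    refine Finset.sum_congr rfl fun γ _ => ?_
    rw [hw γ]
    simp [mul_comm]
  have hone : ∑ γ : IrrCharacter (cD G s), w γ ^ 2 = 1 := by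
    have h1 : classInner (fun c : cD G s => χ ((c : Γ) * s)) (fun c : cD G s => χ ((c : Γ) * s)) = 1 := by
      simp only [classInner]
      rw [hnorm]
      have : (Nat.card (cD G s) : ℂ) ≠ 0 := NeZero.ne _
      field_simp
    have h2 : ∀ γ : IrrCharacter (cD G s),
        classInner (fun c : cD G s => χ ((c : Γ) * s)) (γ : cD G s → ℂ) = (w γ : ℂ) := by
      intro γ
      have := classInner_decomp (cD G s) (Subgroup.zpowers s) ξ hdec s' γ
      rw [← hw γ, ← this]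
    have h3 : classInner (fun c : cD G s => χ ((c : Γ) * s)) (fun c : cD G s => χ ((c : Γ) * s)) =
        ∑ γ : IrrCharacter (cD G s), (w γ : ℂ) * conj (w γ : ℂ) := by
      conv_lhs => rw [hdecs]
      rw [classInner_sum_left]
      refine Finset.sum_congr rfl fun γ _ => ?_
      rw [classInner_smul_left, classInner_conj_symm, ← hdecs, h2 γ]
    rw [h1] at h3
    have h4 : ∀ γ : IrrCharacter (cD G s), (w γ : ℂ) * conj (w γ : ℂ) = ((w γ ^ 2 : ℤ) : ℂ) := by
      intro γ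
      simp [sq]
    simp only [h4] at h3
    exact_mod_cast h3.symm
  obtain ⟨β, hβ, hβ0⟩ := exists_unique_sq_of_sum_eq_one w hone
  refine ⟨ξ, β, w β, hβ, hξ, hdec, hw β, fun γ hγ => ?_⟩
  rw [hw γ, hβ0 γ hγ]
  simp

/-- The value of a canonical extension on the coset `C_G(s) s`. -/
theorem glauberman_values [Fintype (cD G s)]
    (hgen : Subgroup.zpowers (s : Γ ⧸ G) = ⊤)
    (hcop : Nat.Coprime (orderOf s) (Nat.card G)) {χ : Γ → ℂ} (hχ : IsIrrCharacter Γ χ)
    (hres : IsIrrCharacter G (resFun G χ)) {m : ℕ} (hm : ∀ x, detChar χ x ^ m = 1)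
    (hm' : Nat.Coprime G.index m) :
    ∃ (β : IrrCharacter (cD G s)) (ε : ℤ), (ε = 1 ∨ ε = -1) ∧
      (∀ c : cD G s, χ ((c : Γ) * s) = (ε : ℂ) * (β : cD G s → ℂ) c) ∧
      classInner (fun c : cD G s => χ (c : Γ)) (β : cD G s → ℂ) ≠ 0 := by
  classical
  let _ : Fintype (Subgroup.zpowers s) := Fintype.ofFinite _
  obtain ⟨ξ, β, ε, hε, hξ, hdec, hβ, h0⟩ := exists_glauberman_data hgen hcop hχ hres hm hm'
  refine ⟨β, ε, hε, fun c => ?_, ?_⟩
  · have h1 := hdec c ⟨s, Subgroup.mem_zpowers s⟩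
    simp only at h1
    rw [h1, Finset.sum_eq_single β, hβ, mul_comm]
    · intro γ _ hγ
      rw [h0 γ hγ, mul_zero]
    · intro h
      exact absurd (Finset.mem_univ _) h
  · have hcomm : ∀ c ∈ cD G s, ∀ t ∈ Subgroup.zpowers s, c * t = t * c := by
      intro c hc t ht
      obtain ⟨j, rfl⟩ := Subgroup.mem_zpowers_iff.mp ht
      have h1 : Commute c s := (mem_cD.mp hc).2
      exact (h1.zpow_right j).eq
    have h1 := classInner_decomp (cD G s) (Subgroup.zpowers s) ξ hdec 1 β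
    have h2 : (fun c : cD G s => χ ((c : Γ) * ((1 : Subgroup.zpowers s) : Γ))) =
        fun c : cD G s => χ (c : Γ) := by
      funext c
      simp
    rw [h2] at h1
    rw [h1]
    intro h3
    have h4 := IsCharacter.norm_le (hξ β) ⟨s, Subgroup.mem_zpowers s⟩
    rw [hβ, h3] at h4
    rcases hε with rfl | rfl <;> norm_num at h4

/-- Injectivity: the value on the coset determines the restriction. -/
theorem glauberman_inj [Fintype (cD G s)]
    (hgen : Subgroup.zpowers (s : Γ ⧸ G) = ⊤)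
    (hcop : Nat.Coprime (orderOf s) (Nat.card G)) {χ₁ χ₂ : Γ → ℂ}
    (h₁ : IsIrrCharacter Γ χ₁) (h₂ : IsIrrCharacter Γ χ₂) {ε₁ ε₂ : ℂ} (hε₁ : ε₁ ≠ 0) (hε₂ : ε₂ ≠ 0)
    (β : IrrCharacter (cD G s))
    (h₁β : ∀ c : cD G s, χ₁ ((c : Γ) * s) = ε₁ * (β : cD G s → ℂ) c)
    (h₂β : ∀ c : cD G s, χ₂ ((c : Γ) * s) = ε₂ * (β : cD G s → ℂ) c) :
    resFun G χ₁ = resFun G χ₂ := by
  classical
  by_contra hne
  have hcyc : IsCyclic (Γ ⧸ G) := isCyclic_iff_exists_zpowers_eq_top.mpr ⟨_, hgen⟩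
  have hcomm : ∀ a b : Γ ⧸ G, a * b = b * a := fun a b =>
    (IsCyclic.commGroup : CommGroup (Γ ⧸ G)).mul_comm a b
  have h1 := sum_coset_eq_zero G hcomm h₁ h₂ hne s
  have h2 := sum_coset_eq (D := G) (s := s) mem_normalizer_of_normal hcop
    (fun x => χ₁ x * conj (χ₂ x)) (by
      intro g _ x
      rw [(IsCharacter.isClassFunction (IsIrrCharacter.isCharacter h₁)) x g,
        (IsCharacter.isClassFunction (IsIrrCharacter.isCharacter h₂)) x g])
  simp only [h1, mul_zero] at h2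
  have hne0 : (Nat.card G : ℂ) ≠ 0 := NeZero.ne _
  have h3 : ∑ c : cD G s, χ₁ ((c : Γ) * s) * conj (χ₂ ((c : Γ) * s)) = 0 := by
    have := h2.symm
    exact (mul_eq_zero.mp this).resolve_left hne0
  simp only [h₁β, h₂β, map_mul] at h3
  have h4 : ∑ c : cD G s, ε₁ * (β : cD G s → ℂ) c * (conj ε₂ * conj ((β : cD G s → ℂ) c)) =
      ε₁ * conj ε₂ * (Nat.card (cD G s) : ℂ) * classInner (β : cD G s → ℂ) (β : cD G s → ℂ) := by
    simp only [classInner]
    have : (Nat.card (cD G s) : ℂ) ≠ 0 := NeZero.ne _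
    rw [Finset.mul_sum, Finset.mul_sum]
    refine Finset.sum_congr rfl fun c _ => ?_
    field_simp
  rw [h4, classInner_irr_self β.2, mul_one] at h3
  have h5 : (Nat.card (cD G s) : ℂ) ≠ 0 := NeZero.ne _
  have h6 : conj ε₂ ≠ 0 := by
    simpa using hε₂
  exact (mul_ne_zero (mul_ne_zero hε₁ h6) h5) h3

theorem exists_mul_zpow (hgen : Subgroup.zpowers (s : Γ ⧸ G) = ⊤) (y : Γ) :
    ∃ y₀ ∈ G, ∃ j : ℤ, y = y₀ * s ^ j := by
  have hy : (y : Γ ⧸ G) ∈ Subgroup.zpowers (s : Γ ⧸ G) := by rw [hgen]; trivial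
  obtain ⟨j, hj⟩ := Subgroup.mem_zpowers_iff.mp hy
  refine ⟨y * (s ^ j)⁻¹, ?_, j, by group⟩
  rw [← QuotientGroup.eq_one_iff, QuotientGroup.mk_mul, QuotientGroup.mk_inv, QuotientGroup.mk_zpow,
    hj]
  group

/-- Surjectivity: every irreducible character of `C_G(s)` arises. -/
theorem glauberman_surj [Fintype (cD G s)]
    (hgen : Subgroup.zpowers (s : Γ ⧸ G) = ⊤)
    (hcop : Nat.Coprime (orderOf s) (Nat.card G)) (β : IrrCharacter (cD G s)) :
    ∃ χ : Γ → ℂ, IsIrrCharacter Γ χ ∧ IsIrrCharacter G (resFun G χ) ∧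
      (∀ x, detChar χ x ^ Nat.card G = 1) ∧ ∃ ε : ℤ, (ε = 1 ∨ ε = -1) ∧
      ∀ c : cD G s, χ ((c : Γ) * s) = (ε : ℂ) * (β : cD G s → ℂ) c := by
  classical
  have hidx := index_dvd_orderOf hgen
  have hcyc : IsCyclic (Γ ⧸ G) := isCyclic_iff_exists_zpowers_eq_top.mpr ⟨_, hgen⟩
  have hcomm : ∀ a b : Γ ⧸ G, a * b = b * a := fun a b =>
    (IsCyclic.commGroup : CommGroup (Γ ⧸ G)).mul_comm a b
  have hsolv : Group.IsSolvable (Γ ⧸ G) := by
    letI : CommGroup (Γ ⧸ G) := IsCyclic.commGroup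
    infer_instance
  -- the class function `f`
  let P : Γ → Prop := fun x => ∃ (c : cD G s) (g : Γ), x = g * ((c : Γ) * s) * g⁻¹
  let f : Γ → ℂ := fun x => if h : P x then (β : cD G s → ℂ) h.choose else 0
  have hwd : ∀ (c c' : cD G s) (g g' : Γ), g * ((c : Γ) * s) * g⁻¹ = g' * ((c' : Γ) * s) * g'⁻¹ →
      (β : cD G s → ℂ) c = (β : cD G s → ℂ) c' := by
    intro c c' g g' h
    obtain ⟨y₀, hy₀, j, hj⟩ := exists_mul_zpow hgen (g'⁻¹ * g)
    have hsj : Commute (s ^ j) ((c : Γ) * s) := by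
      have h1 : Commute (c : Γ) s := (mem_cD.mp c.2).2
      exact (((h1.symm.mul_right (Commute.refl s))).zpow_left j)
    have h1 : y₀ * ((c : Γ) * s) * y₀⁻¹ = (c' : Γ) * s := by
      have h2 : (g'⁻¹ * g) * ((c : Γ) * s) * (g'⁻¹ * g)⁻¹ = (c' : Γ) * s := by
        calc _ = g'⁻¹ * (g * ((c : Γ) * s) * g⁻¹) * g' := by group
          _ = _ := by rw [h]; group
      rw [hj, mul_assoc y₀, hsj.eq] at h2
      calc _ = y₀ * ((c : Γ) * s * s ^ j) * (y₀ * s ^ j)⁻¹ := by group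
        _ = _ := h2
    obtain ⟨hy, hc'⟩ := conj_unique hcop hy₀ c.2 c'.2 h1
    have h3 : c' = ⟨y₀, hy⟩ * c * (⟨y₀, hy⟩ : cD G s)⁻¹ := Subtype.ext hc'
    rw [h3]
    exact ((IsCharacter.isClassFunction (IsIrrCharacter.isCharacter β.2)) c ⟨y₀, hy⟩).symm
  have hfval : ∀ (c : cD G s) (g : Γ), f (g * ((c : Γ) * s) * g⁻¹) = (β : cD G s → ℂ) c := by
    intro c g
    have hP : P (g * ((c : Γ) * s) * g⁻¹) := ⟨c, g, rfl⟩
    simp only [f, dif_pos hP]
    obtain ⟨g', hg'⟩ := hP.choose_spec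
    exact (hwd _ _ _ _ hg').symm ▸ rfl
  have hfval1 : ∀ c : cD G s, f ((c : Γ) * s) = (β : cD G s → ℂ) c := by
    intro c
    have := hfval c 1
    simpa using this
  have hfclass : IsClassFunction Γ f := by
    intro x h
    by_cases hP : P x
    · obtain ⟨c, g, rfl⟩ := hP
      have h1 : h * (g * ((c : Γ) * s) * g⁻¹) * h⁻¹ = (h * g) * ((c : Γ) * s) * (h * g)⁻¹ := by group
      rw [h1, hfval, hfval]
    · have hP' : ¬ P (h * x * h⁻¹) := by
        rintro ⟨c, g, hcg⟩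
        apply hP
        refine ⟨c, h⁻¹ * g, ?_⟩
        have h1 : x = h⁻¹ * (h * x * h⁻¹) * h := by group
        rw [h1, hcg]
        group
      simp only [f, dif_neg hP, dif_neg hP']
  have hfne : f ≠ 0 := by
    intro h0
    have h1 := hfval1 1
    rw [h0] at h1
    exact IsIrrCharacter.apply_one_ne_zero β.2 h1.symm
  obtain ⟨ψ, hψ, hψf⟩ : ∃ ψ, IsIrrCharacter Γ ψ ∧ classInner f ψ ≠ 0 := by
    by_contra hcon
    push Not at hcon
    exact hfne (classFunction_eq_zero_of_orthogonal f hfclass hcon)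
  -- support on the coset
  have hsupp : ∀ x, f x ≠ 0 → x * s⁻¹ ∈ G := by
    intro x hx
    have hP : P x := by
      by_contra hP
      exact hx (by simp only [f, dif_neg hP])
    obtain ⟨c, g, rfl⟩ := hP
    rw [← QuotientGroup.eq_one_iff]
    have h1 : (c : Γ) ∈ G := (mem_cD.mp c.2).1
    have h2 := mk_mul_of_mem (s := s) h1
    simp only [QuotientGroup.mk_mul, QuotientGroup.mk_inv] at h2 ⊢
    rw [h2, hcomm (g : Γ ⧸ G)]
    group
  set F : Γ → ℂ := fun x => f x * conj (ψ x) with hF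
  have hsum : ∑ x : Γ, F x = ∑ h : G, F ((h : Γ) * s) := by
    rw [← Equiv.sum_comp (Equiv.mulRight s), ← sum_dite_mem G (fun h => F ((h : Γ) * s))]
    refine Finset.sum_congr rfl fun z _ => ?_
    by_cases hz : z ∈ G
    · rw [dif_pos hz]
      rfl
    · rw [dif_neg hz]
      show F (z * s) = 0
      have h1 : f (z * s) = 0 := by
        by_contra h2
        apply hz
        have := hsupp _ h2
        simpa using this
      simp [hF, h1]
  have hcoset := sum_coset_eq (D := G) (s := s) mem_normalizer_of_normal hcop F (by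
    intro g _ x
    simp only [hF]
    rw [hfclass x g, (IsCharacter.isClassFunction (IsIrrCharacter.isCharacter hψ)) x g])
  have hne1 : ∑ x : Γ, F x ≠ 0 := by
    intro h0
    apply hψf
    simp only [classInner]
    rw [show ∑ g, f g * conj (ψ g) = ∑ x : Γ, F x from rfl, h0, mul_zero]
  have hne2 : ∑ c : cD G s, (β : cD G s → ℂ) c * conj (ψ ((c : Γ) * s)) ≠ 0 := by
    intro h0
    apply hne1
    rw [hsum]
    have h1 : ∑ c : cD G s, F ((c : Γ) * s) = 0 := by
      simp only [hF, hfval1]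
      exact h0
    rw [h1, mul_zero] at hcoset
    exact (mul_eq_zero.mp hcoset).resolve_left (NeZero.ne _)
  obtain ⟨c₀, hc₀⟩ : ∃ c : cD G s, ψ ((c : Γ) * s) ≠ 0 := by
    by_contra hcon
    push Not at hcon
    apply hne2
    simp [hcon]
  have hgen₀ : Subgroup.zpowers (((c₀ : Γ) * s : Γ) : Γ ⧸ G) = ⊤ := by
    rw [mk_mul_of_mem (mem_cD.mp c₀.2).1]
    exact hgen
  have hθ : IsIrrCharacter G (resFun G ψ) := irr_res_of_apply_ne_zero G hgen₀ hψ hc₀
  have hinv : ∀ g, conjFun G g (resFun G ψ) = resFun G ψ := fun g =>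
    conjFun_resFun G g (IsCharacter.isClassFunction (IsIrrCharacter.isCharacter hψ))
  have hcop' : Nat.Coprime G.index (Nat.card G) := hcop.coprime_dvd_left hidx
  obtain ⟨χ, hχ, hχN, hχd⟩ := exists_canonical_of_coprime G hθ hinv hcop'
  have hresχ : resFun G χ = resFun G ψ := funext hχN
  have hresχ' : IsIrrCharacter G (resFun G χ) := by rw [hresχ]; exact hθ
  obtain ⟨β', ε, hε, hval, -⟩ := glauberman_values hgen hcop hχ hresχ' hχd hcop'
  obtain ⟨lam, hlam⟩ := exists_lam_of_res_eq G hχ hψ hresχ.symm hresχ'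
  refine ⟨χ, hχ, hresχ', hχd, ε, hε, ?_⟩
  have hββ' : β = β' := by
    by_contra hne
    apply hne2
    have h1 := classInner_irr_of_ne β.2 β'.2 (fun h => hne (Subtype.ext h))
    simp only [classInner] at h1
    have h2 : ∑ c : cD G s, (β : cD G s → ℂ) c * conj ((β' : cD G s → ℂ) c) = 0 := by
      have := (mul_eq_zero.mp h1).resolve_left (inv_ne_zero (NeZero.ne _))
      exact this
    have h3 : ∀ c : cD G s, ψ ((c : Γ) * s) = ((lam (s : Γ ⧸ G) : ℂˣ) : ℂ) * (ε * (β' : cD G s → ℂ) c) := by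
      intro c
      rw [hlam]
      show ((lam (((c : Γ) * s : Γ) : Γ ⧸ G) : ℂˣ) : ℂ) * χ ((c : Γ) * s) = _
      rw [mk_mul_of_mem (mem_cD.mp c.2).1, hval]
    simp only [h3, map_mul]
    have h4 : ∀ c : cD G s, (β : cD G s → ℂ) c * (conj ((lam (s : Γ ⧸ G) : ℂˣ) : ℂ) * (conj (ε : ℂ) * conj ((β' : cD G s → ℂ) c))) =
        conj ((lam (s : Γ ⧸ G) : ℂˣ) : ℂ) * conj (ε : ℂ) * ((β : cD G s → ℂ) c * conj ((β' : cD G s → ℂ) c)) := by
      intro c
      ring
    simp only [h4]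
    rw [← Finset.mul_sum, h2, mul_zero]
  rw [hββ']
  exact hval

end Main

end Cfsg.Agent.Lib.H8Group
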