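import Mathlib
import Cfsg.Agent.Lib.H8Group.GlaubMain
import Cfsg.Agent.Lib.H8Group.CharVal
import Cfsg.Agent.Lib.OddLocal.PGroup

set_option autoImplicit false

/-!
The Glauberman correspondence for `p`-groups of operators, through multiplicities modulo `p`.
-/

namespace Cfsg.Agent.Lib.H8Group

open Cfsg Module Cfsg.Agent.Lib.Char
open scoped ComplexConjugate

universe u

section Rel

variable {Γ : Type u} [Group Γ]

/-- `β` is the constituent of `χ_C` of multiplicity prime to `p`, the multiplicity being `±1` modulo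
`p`, all the other multiplicities being multiples of `p`. -/
def CorrRel (p : ℕ) {D C : Subgroup Γ} [Fintype C] (hCD : C ≤ D) (χ : D → ℂ) (β : C → ℂ) : Prop :=
  ∃ ε : ℤ, (ε = 1 ∨ ε = -1) ∧
    (∃ q : ℤ, classInner (fun c : C => χ ⟨c, hCD c.2⟩) β = (ε : ℂ) + (p : ℂ) * (q : ℂ)) ∧
    ∀ γ : IrrCharacter C, (γ : C → ℂ) ≠ β →
      ∃ q : ℤ, classInner (fun c : C => χ ⟨c, hCD c.2⟩) (γ : C → ℂ) = (p : ℂ) * (q : ℂ)

theorem CorrRel.unique {p : ℕ} (hp : p.Prime) {D C : Subgroup Γ} [Fintype C] {hCD : C ≤ D}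
    {χ : D → ℂ} {β β' : IrrCharacter C} (h : CorrRel p hCD χ (β : C → ℂ))
    (h' : CorrRel p hCD χ (β' : C → ℂ)) : β = β' := by
  by_contra hne
  obtain ⟨ε, hε, ⟨q, hq⟩, -⟩ := h
  obtain ⟨-, -, -, h0⟩ := h'
  obtain ⟨q', hq'⟩ := h0 β (fun h => hne (Subtype.ext h))
  rw [hq] at hq'
  have h1 : (ε + p * q : ℤ) = p * q' := by exact_mod_cast hq'
  have h2 : (p : ℤ) ∣ ε := by
    refine ⟨q' - q, ?_⟩
    rw [mul_sub, ← h1]
    ring
  have h3 : (p : ℤ) ∣ 1 := by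
    rcases hε with rfl | rfl
    · exact h2
    · exact (dvd_neg.mp h2)
  have h4 : p ∣ 1 := by exact_mod_cast h3
  exact hp.one_lt.ne' (Nat.dvd_one.mp h4)

/-- Multiplicities of irreducible characters in a character with `CorrRel`. -/
theorem CorrRel.mult {p : ℕ} {D C : Subgroup Γ} [Fintype C] {hCD : C ≤ D} {χ : D → ℂ}
    {β : IrrCharacter C} (h : CorrRel p hCD χ (β : C → ℂ)) :
    ∃ ε : ℤ, (ε = 1 ∨ ε = -1) ∧ ∃ q : ℤ,
      classInner (fun c : C => χ ⟨c, hCD c.2⟩) (β : C → ℂ) = ((ε + p * q : ℤ) : ℂ) := by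
  obtain ⟨ε, hε, ⟨q, hq⟩, -⟩ := h
  refine ⟨ε, hε, q, ?_⟩
  rw [hq]
  push_cast
  ring

variable {Γ' : Type u} [Group Γ']

/-- Transport along isomorphisms. -/
theorem corrRel_comp {p : ℕ} {D C : Subgroup Γ} {D' C' : Subgroup Γ'} [Fintype C] [Fintype C']
    (hCD : C ≤ D) (hCD' : C' ≤ D') (eD : D' ≃* D) (eC : C' ≃* C)
    (hcompat : ∀ c : C', ((eD ⟨c, hCD' c.2⟩ : D) : Γ) = ((eC c : C) : Γ))
    {χ : D → ℂ} {β : C → ℂ} (h : CorrRel p hCD χ β) :
    CorrRel p hCD' (χ ∘ eD) (β ∘ eC) := by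
  classical
  have key : (fun c : C' => (χ ∘ eD) ⟨c, hCD' c.2⟩) =
      (fun c : C => χ ⟨c, hCD c.2⟩) ∘ eC := by
    funext c
    simp only [Function.comp_apply]
    congr 1
    exact Subtype.ext (hcompat c)
  obtain ⟨ε, hε, ⟨q, hq⟩, h0⟩ := h
  refine ⟨ε, hε, ⟨q, ?_⟩, fun γ hγ => ?_⟩
  · rw [key, classInner_comp_mulEquiv, hq]
  · rw [key]
    have h1 : (γ : C' → ℂ) = ((γ : C' → ℂ) ∘ eC.symm) ∘ eC := by
      funext c
      simp
    rw [h1, classInner_comp_mulEquiv]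
    refine h0 ⟨(γ : C' → ℂ) ∘ eC.symm, isIrrCharacter_comp_mulEquiv eC.symm γ.2⟩ fun h2 => hγ ?_
    rw [h1]
    show ((γ : C' → ℂ) ∘ eC.symm) ∘ eC = β ∘ eC
    have h3 : (γ : C' → ℂ) ∘ eC.symm = β := h2
    rw [h3]

/-- Composition of relations along `C ≤ C₁ ≤ D`. -/
theorem CorrRel.trans {p : ℕ} {D C₁ C : Subgroup Γ} [Fintype C₁] [Fintype C]
    (h₁ : C₁ ≤ D) (h₂ : C ≤ C₁) {χ : D → ℂ} (hχ : IsCharacter D χ) {β₁ : IrrCharacter C₁}
    {β : IrrCharacter C} (hr₁ : CorrRel p h₁ χ (β₁ : C₁ → ℂ))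
    (hr₂ : CorrRel p h₂ (β₁ : C₁ → ℂ) (β : C → ℂ)) :
    CorrRel p (h₂.trans h₁) χ (β : C → ℂ) := by
  classical
  let f : C₁ → ℂ := fun c => χ ⟨c, h₁ c.2⟩
  have hf : IsCharacter C₁ f := IsCharacter.comp hχ (Subgroup.inclusion h₁)
  have hsum : f = ∑ ψ : IrrCharacter C₁, classInner f (ψ : C₁ → ℂ) • (ψ : C₁ → ℂ) :=
    classFunction_eq_sum f (IsCharacter.isClassFunction hf)
  obtain ⟨ε₁, hε₁, ⟨q₁, hq₁⟩, h0₁⟩ := hr₁
  obtain ⟨ε₂, hε₂, ⟨q₂, hq₂⟩, h0₂⟩ := hr₂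
  -- integer coefficients
  have hq : ∀ ψ : IrrCharacter C₁, ∃ q : ℤ, ψ ≠ β₁ → classInner f (ψ : C₁ → ℂ) = (p : ℂ) * (q : ℂ) := by
    intro ψ
    by_cases hψ : ψ = β₁
    · exact ⟨0, fun h => absurd hψ h⟩
    · obtain ⟨q, hq⟩ := h0₁ ψ (fun h => hψ (Subtype.ext h))
      exact ⟨q, fun _ => hq⟩
  choose Q hQ using hq
  have hn : ∀ (ψ : IrrCharacter C₁) (γ : IrrCharacter C), ∃ n : ℕ,
      classInner (fun c : C => (ψ : C₁ → ℂ) ⟨c, h₂ c.2⟩) (γ : C → ℂ) = (n : ℂ) := by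
    intro ψ γ
    exact IsCharacter.classInner_irr_eq_nat
      (IsCharacter.comp (IsIrrCharacter.isCharacter ψ.2) (Subgroup.inclusion h₂)) γ.2
  choose N hN using hn
  have hexp : ∀ γ : C → ℂ, classInner (fun c : C => χ ⟨c, (h₂.trans h₁) c.2⟩) γ =
      ∑ ψ : IrrCharacter C₁, classInner f (ψ : C₁ → ℂ) *
        classInner (fun c : C => (ψ : C₁ → ℂ) ⟨c, h₂ c.2⟩) γ := by
    intro γ
    have h1 : (fun c : C => χ ⟨c, (h₂.trans h₁) c.2⟩) =
        ∑ ψ : IrrCharacter C₁, classInner f (ψ : C₁ → ℂ) •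
          (fun c : C => (ψ : C₁ → ℂ) ⟨c, h₂ c.2⟩) := by
      funext c
      have h2 := congrFun hsum ⟨c, h₂ c.2⟩
      simp only [Finset.sum_apply, Pi.smul_apply, smul_eq_mul] at h2 ⊢
      exact h2
    rw [h1, classInner_sum_left]
    refine Finset.sum_congr rfl fun ψ _ => ?_
    rw [classInner_smul_left]
  have hsplit : ∀ γ : IrrCharacter C, ∃ Z : ℤ,
      classInner (fun c : C => χ ⟨c, (h₂.trans h₁) c.2⟩) (γ : C → ℂ) =
        (ε₁ : ℂ) * classInner (fun c : C => (β₁ : C₁ → ℂ) ⟨c, h₂ c.2⟩) (γ : C → ℂ) + (p : ℂ) * (Z : ℂ) := by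
    intro γ
    refine ⟨q₁ * N β₁ γ + ∑ ψ ∈ Finset.univ.erase β₁, Q ψ * N ψ γ, ?_⟩
    rw [hexp, ← Finset.add_sum_erase _ _ (Finset.mem_univ β₁), hq₁, hN β₁ γ]
    have h2 : ∑ ψ ∈ Finset.univ.erase β₁, classInner f (ψ : C₁ → ℂ) *
        classInner (fun c : C => (ψ : C₁ → ℂ) ⟨c, h₂ c.2⟩) (γ : C → ℂ) =
        (p : ℂ) * ∑ ψ ∈ Finset.univ.erase β₁, ((Q ψ : ℂ) * (N ψ γ : ℂ)) := by
      rw [Finset.mul_sum]
      refine Finset.sum_congr rfl fun ψ hψ => ?_
      rw [hQ ψ (Finset.ne_of_mem_erase hψ), hN ψ γ]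
      ring
    rw [h2]
    push_cast
    ring
  refine ⟨ε₁ * ε₂, ?_, ?_, ?_⟩
  · rcases hε₁ with rfl | rfl <;> rcases hε₂ with rfl | rfl <;> simp
  · obtain ⟨Z, hZ⟩ := hsplit β
    refine ⟨ε₁ * q₂ + Z, ?_⟩
    rw [hZ, hq₂]
    push_cast
    ring
  · intro γ hγ
    obtain ⟨Z, hZ⟩ := hsplit γ
    obtain ⟨q, hq⟩ := h0₂ γ hγ
    refine ⟨ε₁ * q + Z, ?_⟩
    rw [hZ, hq]
    push_cast
    ring

end Rel

section Ambient

variable {Γ : Type u} [Group Γ] [Fintype Γ] {G : Subgroup Γ} [hG : G.Normal] [Fintype G] {s : Γ}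

theorem glauberman_congr {p : ℕ} [hp : Fact p.Prime] [Fintype (cD G s)]
    (hgen : Subgroup.zpowers (s : Γ ⧸ G) = ⊤)
    (hcop : Nat.Coprime (orderOf s) (Nat.card G)) {a : ℕ} (ha : orderOf s = p ^ a)
    {χ : Γ → ℂ} (hχ : IsIrrCharacter Γ χ)
    (hres : IsIrrCharacter G (resFun G χ)) {m : ℕ} (hm : ∀ x, detChar χ x ^ m = 1)
    (hm' : Nat.Coprime G.index m) :
    ∃ (β : IrrCharacter (cD G s)) (ε : ℤ), (ε = 1 ∨ ε = -1) ∧
      (∀ c : cD G s, χ ((c : Γ) * s) = (ε : ℂ) * (β : cD G s → ℂ) c) ∧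
      CorrRel p (inf_le_left : cD G s ≤ G) (resFun G χ) (β : cD G s → ℂ) := by
  classical
  let _ : Fintype (Subgroup.zpowers s) := Fintype.ofFinite _
  obtain ⟨ξ, β, ε, hε, hξ, hdec, hβ, h0⟩ := exists_glauberman_data hgen hcop hχ hres hm hm'
  set s' : Subgroup.zpowers s := ⟨s, Subgroup.mem_zpowers s⟩ with hs'
  have hinner : ∀ γ : IrrCharacter (cD G s),
      classInner (fun c : cD G s => resFun G χ ⟨c, (mem_cD.mp c.2).1⟩) (γ : cD G s → ℂ) = ξ γ 1 := by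
    intro γ
    have h1 := classInner_decomp (cD G s) (Subgroup.zpowers s) ξ hdec 1 γ
    have h2 : (fun c : cD G s => χ ((c : Γ) * ((1 : Subgroup.zpowers s) : Γ))) =
        fun c : cD G s => resFun G χ ⟨c, (mem_cD.mp c.2).1⟩ := by
      funext c
      simp
    rw [h2] at h1
    exact h1
  have hspow : s' ^ (p ^ a) = 1 := by
    apply Subtype.ext
    rw [Subgroup.coe_pow, hs']
    show s ^ (p ^ a) = 1
    rw [← ha, pow_orderOf_eq_one]
  have key : ∀ (γ : IrrCharacter (cD G s)) (z : ℤ), ξ γ s' = z →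
      ∃ q : ℤ, classInner (fun c : cD G s => resFun G χ ⟨c, (mem_cD.mp c.2).1⟩) (γ : cD G s → ℂ) =
        (z : ℂ) + (p : ℂ) * (q : ℂ) := by
    intro γ z hz
    obtain ⟨α, hα⟩ := exists_character_pow_sub (hξ γ) hspow
    obtain ⟨d, hd⟩ := IsCharacter.apply_one (hξ γ)
    rw [hz, hd] at hα
    have hpne : (p : ℂ) ≠ 0 := by
      exact_mod_cast hp.out.ne_zero
    have hrat : ∃ q : ℚ, (α : ℂ) = q := by
      refine ⟨(((z : ℚ) ^ (p ^ a) - d) / p : ℚ), ?_⟩
      push_cast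
      rw [hα]
      field_simp
    obtain ⟨q₀, hq₀⟩ := int_of_isIntegral_of_rat α.2 hrat
    rw [hq₀] at hα
    have h1 : (z ^ (p ^ a) - d : ℤ) = p * q₀ := by exact_mod_cast hα
    have h2 : (p : ℤ) ∣ z ^ (p ^ a) - z := by
      rw [← ZMod.intCast_zmod_eq_zero_iff_dvd]
      push_cast
      rw [ZMod.pow_card_pow, sub_self]
    obtain ⟨w, hw⟩ := h2
    refine ⟨w - q₀, ?_⟩
    rw [hinner, hd]
    have h3 : (d : ℤ) = z + p * (w - q₀) := by
      linear_combination (-1 : ℤ) * h1 + hw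
    have h4 : ((d : ℤ) : ℂ) = ((z + p * (w - q₀) : ℤ) : ℂ) := by rw [h3]
    push_cast at h4
    rw [h4]
    push_cast
    ring
  refine ⟨β, ε, hε, fun c => ?_, ε, hε, key β ε hβ, fun γ hγ => ?_⟩
  · have h1 := hdec c s'
    simp only [hs'] at h1
    rw [h1, Finset.sum_eq_single β, hβ, mul_comm]
    · intro γ _ hγ
      rw [h0 γ hγ, mul_zero]
    · intro h
      exact absurd (Finset.mem_univ _) h
  · have hne : γ ≠ β := fun h => hγ (by rw [h])
    obtain ⟨q, hq⟩ := key γ 0 (by rw [h0 γ hne]; simp)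
    refine ⟨q, ?_⟩
    rw [hq]
    simp

/-- The correspondence in the ambient form. -/
theorem ambient_corr {p : ℕ} [hp : Fact p.Prime] [Fintype (cD G s)]
    (hgen : Subgroup.zpowers (s : Γ ⧸ G) = ⊤)
    (hcop : Nat.Coprime (orderOf s) (Nat.card G)) {a : ℕ} (ha : orderOf s = p ^ a) :
    (∀ θ : IrrCharacter G, (∀ g : Γ, conjFun G g (θ : G → ℂ) = θ) →
      ∃ β : IrrCharacter (cD G s), CorrRel p (inf_le_left : cD G s ≤ G) (θ : G → ℂ) (β : cD G s → ℂ)) ∧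
    (∀ θ θ' : IrrCharacter G, (∀ g : Γ, conjFun G g (θ : G → ℂ) = θ) →
      (∀ g : Γ, conjFun G g (θ' : G → ℂ) = θ') → ∀ β : IrrCharacter (cD G s),
      CorrRel p (inf_le_left : cD G s ≤ G) (θ : G → ℂ) (β : cD G s → ℂ) →
      CorrRel p (inf_le_left : cD G s ≤ G) (θ' : G → ℂ) (β : cD G s → ℂ) → θ = θ') ∧
    (∀ β : IrrCharacter (cD G s), ∃ θ : IrrCharacter G, (∀ g : Γ, conjFun G g (θ : G → ℂ) = θ) ∧
      CorrRel p (inf_le_left : cD G s ≤ G) (θ : G → ℂ) (β : cD G s → ℂ)) := by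
  classical
  have hidx := index_dvd_orderOf hgen
  have hcyc : IsCyclic (Γ ⧸ G) := isCyclic_iff_exists_zpowers_eq_top.mpr ⟨_, hgen⟩
  have hsolv : Group.IsSolvable (Γ ⧸ G) := by
    let _ : CommGroup (Γ ⧸ G) := IsCyclic.commGroup
    infer_instance
  have hcop' : Nat.Coprime G.index (Nat.card G) := hcop.coprime_dvd_left hidx
  have hdata : ∀ θ : IrrCharacter G, (∀ g : Γ, conjFun G g (θ : G → ℂ) = θ) →
      ∃ (χ : Γ → ℂ) (β : IrrCharacter (cD G s)) (ε : ℤ), IsIrrCharacter Γ χ ∧ resFun G χ = (θ : G → ℂ) ∧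
        (ε = 1 ∨ ε = -1) ∧ (∀ c : cD G s, χ ((c : Γ) * s) = (ε : ℂ) * (β : cD G s → ℂ) c) ∧
        CorrRel p (inf_le_left : cD G s ≤ G) (θ : G → ℂ) (β : cD G s → ℂ) := by
    intro θ hinv
    obtain ⟨χ, hχ, hχN, hχd⟩ := exists_canonical_of_coprime G θ.2 hinv hcop'
    have hresχ : resFun G χ = (θ : G → ℂ) := funext hχN
    have hres : IsIrrCharacter G (resFun G χ) := by rw [hresχ]; exact θ.2
    obtain ⟨β, ε, hε, hval, hrel⟩ := glauberman_congr hgen hcop ha hχ hres hχd hcop'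
    rw [hresχ] at hrel
    exact ⟨χ, β, ε, hχ, hresχ, hε, hval, hrel⟩
  refine ⟨?_, ?_, ?_⟩
  · intro θ hinv
    obtain ⟨-, β, -, -, -, -, -, hrel⟩ := hdata θ hinv
    exact ⟨β, hrel⟩
  · intro θ θ' hinv hinv' β hr hr'
    obtain ⟨χ, β₁, ε, hχ, hχr, hε, hval, hrel⟩ := hdata θ hinv
    obtain ⟨χ', β₁', ε', hχ', hχr', hε', hval', hrel'⟩ := hdata θ' hinv'
    have e₁ : β₁ = β := CorrRel.unique hp.out hrel hr
    have e₂ : β₁' = β := CorrRel.unique hp.out hrel' hr'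
    rw [e₁] at hval
    rw [e₂] at hval'
    have h1 := glauberman_inj hgen hcop hχ hχ' (ε₁ := (ε : ℂ)) (ε₂ := (ε' : ℂ))
      (by rcases hε with rfl | rfl <;> norm_num) (by rcases hε' with rfl | rfl <;> norm_num) β hval hval'
    apply Subtype.ext
    rw [← hχr, ← hχr', h1]
  · intro β
    obtain ⟨χ, hχ, hres, hχd, ε, hε, hval⟩ := glauberman_surj hgen hcop β
    have hinv : ∀ g : Γ, conjFun G g (resFun G χ) = resFun G χ := fun g =>
      conjFun_resFun G g (IsCharacter.isClassFunction (IsIrrCharacter.isCharacter hχ))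
    refine ⟨⟨resFun G χ, hres⟩, hinv, ?_⟩
    obtain ⟨β₁, ε₁, hε₁, hval₁, hrel⟩ := glauberman_congr hgen hcop ha hχ hres hχd hcop'
    have heq : β₁ = β := by
      apply Subtype.ext
      funext c
      -- compare the two values on the coset
      have h1 : (ε₁ : ℂ) * (β₁ : cD G s → ℂ) c = (ε : ℂ) * (β : cD G s → ℂ) c := by
        rw [← hval₁, hval]
      have h2 : (ε₁ : ℂ) * (β₁ : cD G s → ℂ) 1 = (ε : ℂ) * (β : cD G s → ℂ) 1 := by
        rw [← hval₁, hval]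
      obtain ⟨d, hd⟩ := IsCharacter.apply_one (IsIrrCharacter.isCharacter β.2)
      obtain ⟨d', hd'⟩ := IsCharacter.apply_one (IsIrrCharacter.isCharacter β₁.2)
      have hdpos : (d : ℂ) ≠ 0 := hd ▸ IsIrrCharacter.apply_one_ne_zero β.2
      have hdpos' : (d' : ℂ) ≠ 0 := hd' ▸ IsIrrCharacter.apply_one_ne_zero β₁.2
      rw [hd, hd'] at h2
      have h3 : (ε₁ * d' : ℤ) = ε * d := by exact_mod_cast h2
      have hd0 : (d : ℤ) > 0 := by
        have : d ≠ 0 := fun h => hdpos (by simp [h])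
        omega
      have hd0' : (d' : ℤ) > 0 := by
        have : d' ≠ 0 := fun h => hdpos' (by simp [h])
        omega
      have hεε : ε₁ = ε := by
        rcases hε with rfl | rfl <;> rcases hε₁ with rfl | rfl <;> first | rfl | omega
      subst hεε
      have h4 : (ε₁ : ℂ) ≠ 0 := by
        rcases hε with rfl | rfl <;> norm_num
      exact mul_left_cancel₀ h4 h1
    rw [← heq]
    exact hrel

end Ambient

section Relabel

variable {Γ : Type u} [Group Γ] [Finite Γ]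

/-- Invariance of a function on `D` under conjugation by the elements of `T`. -/
abbrev InvBy {D : Subgroup Γ} (T : Subgroup Γ) (χ : D → ℂ) : Prop :=
  ∀ s ∈ T, ∀ g g' : D, (g' : Γ) = s * g * s⁻¹ → χ g' = χ g

/-- The elements normalizing `D` and fixing `θ`. -/
def stabSub (D : Subgroup Γ) (θ : D → ℂ) : Subgroup Γ where
  carrier := {y | y ∈ Subgroup.normalizer (D : Set Γ) ∧ ∀ g g' : D, (g' : Γ) = y * g * y⁻¹ → θ g' = θ g}
  mul_mem' := by
    rintro x y ⟨hx, hx'⟩ ⟨hy, hy'⟩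
    refine ⟨Subgroup.mul_mem _ hx hy, fun g g' h => ?_⟩
    have hm : y * (g : Γ) * y⁻¹ ∈ D := (Subgroup.mem_normalizer_iff.mp hy _).mp g.2
    rw [hx' ⟨_, hm⟩ g' (by rw [h]; group), hy' g ⟨_, hm⟩ rfl]
  one_mem' := by
    refine ⟨Subgroup.one_mem _, fun g g' h => ?_⟩
    congr 1
    apply Subtype.ext
    rw [h]
    group
  inv_mem' := by
    rintro x ⟨hx, hx'⟩
    refine ⟨Subgroup.inv_mem _ hx, fun g g' h => ?_⟩
    symm
    apply hx' g' g
    rw [h]
    group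

theorem invBy_iff_le {D T : Subgroup Γ} (hT : ∀ t ∈ T, t ∈ Subgroup.normalizer (D : Set Γ))
    (θ : D → ℂ) : InvBy T θ ↔ T ≤ stabSub D θ :=
  ⟨fun h t ht => ⟨hT t ht, h t ht⟩, fun h t ht => (h ht).2⟩

/-- The conjugation by `y` on a subgroup it normalizes. -/
def conjOn (H : Subgroup Γ) (y : Γ) (hy : y ∈ Subgroup.normalizer (H : Set Γ)) : H ≃* H where
  toFun h := ⟨y * h * y⁻¹, (Subgroup.mem_normalizer_iff.mp hy _).mp h.2⟩
  invFun h := ⟨y⁻¹ * h * y, (Subgroup.mem_normalizer_iff.mp hy _).mpr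
    (by simpa [mul_assoc] using h.2)⟩
  left_inv h := by
    apply Subtype.ext
    simp [mul_assoc]
  right_inv h := by
    apply Subtype.ext
    simp [mul_assoc]
  map_mul' a b := by
    apply Subtype.ext
    simp [mul_assoc]

@[simp] theorem conjOn_coe (H : Subgroup Γ) (y : Γ) (hy : y ∈ Subgroup.normalizer (H : Set Γ)) (h : H) :
    ((conjOn H y hy h : H) : Γ) = y * h * y⁻¹ := rfl

omit [Finite Γ] in
theorem comp_conjOn_of_invBy {D T : Subgroup Γ} {y : Γ} (hy : y ∈ T)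
    (hn : y ∈ Subgroup.normalizer (D : Set Γ)) {θ : D → ℂ} (h : InvBy T θ) :
    θ ∘ conjOn D y hn = θ := by
  funext g
  exact h y hy g _ rfl

/-- The relation is equivariant. -/
theorem corrRel_conj {p : ℕ} {D C : Subgroup Γ} [Fintype C] {hCD : C ≤ D} {y : Γ}
    (hD : y ∈ Subgroup.normalizer (D : Set Γ)) (hC : y ∈ Subgroup.normalizer (C : Set Γ))
    {χ : D → ℂ} {β : C → ℂ} (h : CorrRel p hCD χ β) :
    CorrRel p hCD (χ ∘ conjOn D y hD) (β ∘ conjOn C y hC) :=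
  corrRel_comp hCD hCD (conjOn D y hD) (conjOn C y hC) (fun _ => rfl) h

end Relabel

section Cyclic

variable {Γ : Type u} [Group Γ] [Finite Γ]

theorem cyclic_corr {p : ℕ} [hp : Fact p.Prime] (D : Subgroup Γ) (t : Γ) [Fintype D]
    [Fintype (cD D t)] (hn : t ∈ Subgroup.normalizer (D : Set Γ)) {a : ℕ}
    (ha : orderOf t = p ^ a) (hcop : Nat.Coprime (orderOf t) (Nat.card D)) :
    (∀ χ : IrrCharacter D, InvBy (Subgroup.zpowers t) (χ : D → ℂ) →
      ∃ β : IrrCharacter (cD D t), CorrRel p (inf_le_left : cD D t ≤ D) (χ : D → ℂ) (β : cD D t → ℂ)) ∧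
    (∀ χ χ' : IrrCharacter D, InvBy (Subgroup.zpowers t) (χ : D → ℂ) →
      InvBy (Subgroup.zpowers t) (χ' : D → ℂ) → ∀ β : IrrCharacter (cD D t),
      CorrRel p (inf_le_left : cD D t ≤ D) (χ : D → ℂ) (β : cD D t → ℂ) →
      CorrRel p (inf_le_left : cD D t ≤ D) (χ' : D → ℂ) (β : cD D t → ℂ) → χ = χ') ∧
    (∀ β : IrrCharacter (cD D t), ∃ χ : IrrCharacter D, InvBy (Subgroup.zpowers t) (χ : D → ℂ) ∧
      CorrRel p (inf_le_left : cD D t ≤ D) (χ : D → ℂ) (β : cD D t → ℂ)) := by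
  classical
  let L : Subgroup Γ := D ⊔ Subgroup.zpowers t
  have hDL : D ≤ L := le_sup_left
  have htL : t ∈ L := (le_sup_right : Subgroup.zpowers t ≤ L) (Subgroup.mem_zpowers t)
  have hLn : L ≤ Subgroup.normalizer (D : Set Γ) :=
    sup_le Subgroup.le_normalizer (Subgroup.zpowers_le.mpr hn)
  let D' : Subgroup L := D.subgroupOf L
  let s : L := ⟨t, htL⟩
  have hD'n : D'.Normal := (Subgroup.normal_subgroupOf_iff_le_normalizer hDL).mpr hLn
  let _ : Fintype L := Fintype.ofFinite _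
  let _ : Fintype D' := Fintype.ofFinite _
  let _ : Fintype (cD D' s) := Fintype.ofFinite _
  have hgen : Subgroup.zpowers (s : L ⧸ D') = ⊤ := by
    rw [eq_top_iff]
    intro q _
    obtain ⟨y, rfl⟩ := QuotientGroup.mk_surjective q
    let U : Subgroup L := (Subgroup.zpowers (s : L ⧸ D')).comap (QuotientGroup.mk' D')
    have hLU : L ≤ U.map L.subtype := by
      refine sup_le (fun d hd => ?_) (Subgroup.zpowers_le.mpr ?_)
      · refine ⟨⟨d, hDL hd⟩, ?_, rfl⟩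
        show ((⟨d, hDL hd⟩ : L) : L ⧸ D') ∈ Subgroup.zpowers (s : L ⧸ D')
        have : ((⟨d, hDL hd⟩ : L) : L ⧸ D') = 1 := (QuotientGroup.eq_one_iff _).mpr hd
        rw [this]
        exact Subgroup.one_mem _
      · exact ⟨s, Subgroup.mem_zpowers (s : L ⧸ D'), rfl⟩
    obtain ⟨y', hy', hyy'⟩ := hLU y.2
    have : y' = y := Subtype.ext hyy'
    rw [← this]
    exact hy'
  have hord : orderOf s = orderOf t := Subgroup.orderOf_mk t htL
  let eD : D' ≃* D := Subgroup.subgroupOfEquivOfLe hDL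
  have hcard : Nat.card D' = Nat.card D := Nat.card_congr eD.toEquiv
  let eC : cD D' s ≃* cD D t :=
    { toFun := fun c => ⟨((c : L) : Γ), mem_cD.mpr ⟨(mem_cD.mp c.2).1,
        congrArg Subtype.val (mem_cD.mp c.2).2⟩⟩
      invFun := fun c => ⟨⟨(c : Γ), hDL (mem_cD.mp c.2).1⟩, mem_cD.mpr ⟨(mem_cD.mp c.2).1,
        Subtype.ext (mem_cD.mp c.2).2⟩⟩
      left_inv := fun c => rfl
      right_inv := fun c => rfl
      map_mul' := fun a b => rfl }
  have hcopL : Nat.Coprime (orderOf s) (Nat.card D') := by rw [hord, hcard]; exact hcop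
  obtain ⟨h1, h2, h3⟩ := ambient_corr (G := D') (s := s) (p := p) hgen hcopL (a := a)
    (hord.trans ha)
  have hC'D' : cD D' s ≤ D' := inf_le_left
  have hCD : cD D t ≤ D := inf_le_left
  have hcompat : ∀ c : cD D' s, ((eD ⟨c, hC'D' c.2⟩ : D) : Γ) = ((eC c : cD D t) : Γ) := fun _ => rfl
  have hcompat' : ∀ c : cD D t, ((eD.symm ⟨c, hCD c.2⟩ : D') : L) = ((eC.symm c : cD D' s) : L) :=
    fun _ => rfl
  have hinvOf : ∀ χ : IrrCharacter D, InvBy (Subgroup.zpowers t) (χ : D → ℂ) →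
      ∀ y : L, conjFun D' y ((χ : D → ℂ) ∘ eD) = (χ : D → ℂ) ∘ eD := by
    intro χ hχ y
    have hirr : IsIrrCharacter D' ((χ : D → ℂ) ∘ eD) := isIrrCharacter_comp_mulEquiv eD χ.2
    have hI : D' ≤ inertia D' ((χ : D → ℂ) ∘ eD) :=
      le_inertia D' (IsCharacter.isClassFunction (IsIrrCharacter.isCharacter hirr))
    have hsI : s ∈ inertia D' ((χ : D → ℂ) ∘ eD) := by
      rw [mem_inertia]
      funext n
      simp only [conjFun_apply, Function.comp_apply]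
      have hm : t⁻¹ * ((n : L) : Γ) * t ∈ D := by
        have := (Subgroup.mem_normalizer_iff.mp (Subgroup.inv_mem _ hn) ((n : L) : Γ)).mp n.2
        simpa using this
      exact (hχ t (Subgroup.mem_zpowers t) ⟨_, hm⟩ (eD n) (by
        show ((n : L) : Γ) = t * (t⁻¹ * ((n : L) : Γ) * t) * t⁻¹
        group)).symm
    obtain ⟨y₀, hy₀, j, rfl⟩ := exists_mul_zpow hgen y
    exact (inertia D' ((χ : D → ℂ) ∘ eD)).mul_mem (hI hy₀) ((inertia D' _).zpow_mem hsI j)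
  have hinvTo : ∀ θ : IrrCharacter D', (∀ y : L, conjFun D' y (θ : D' → ℂ) = θ) →
      InvBy (Subgroup.zpowers t) ((θ : D' → ℂ) ∘ eD.symm) := by
    intro θ hθ x hx g g' hgg'
    have hxL : x ∈ L := (le_sup_right : Subgroup.zpowers t ≤ L) hx
    have h5 := congrFun (hθ ⟨x, hxL⟩) (eD.symm g')
    simp only [conjFun_apply] at h5
    show (θ : D' → ℂ) (eD.symm g') = (θ : D' → ℂ) (eD.symm g)
    rw [← h5]
    refine congrArg (θ : D' → ℂ) (Subtype.ext (Subtype.ext ?_))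
    show x⁻¹ * (g' : Γ) * x = (g : Γ)
    rw [hgg']
    group
  refine ⟨fun χ hχ => ?_, fun χ χ' hχ hχ' β hr hr' => ?_, fun β => ?_⟩
  · obtain ⟨β', hβ'⟩ := h1 ⟨(χ : D → ℂ) ∘ eD, isIrrCharacter_comp_mulEquiv eD χ.2⟩ (hinvOf χ hχ)
    refine ⟨⟨(β' : cD D' s → ℂ) ∘ eC.symm, isIrrCharacter_comp_mulEquiv eC.symm β'.2⟩, ?_⟩
    have h5 := corrRel_comp hC'D' hCD eD.symm eC.symm hcompat' hβ'
    convert h5 using 1
    funext g
    simp
  · have h5 := corrRel_comp hCD hC'D' eD eC hcompat hr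
    have h6 := corrRel_comp hCD hC'D' eD eC hcompat hr'
    have h7 := h2 ⟨(χ : D → ℂ) ∘ eD, isIrrCharacter_comp_mulEquiv eD χ.2⟩
      ⟨(χ' : D → ℂ) ∘ eD, isIrrCharacter_comp_mulEquiv eD χ'.2⟩ (hinvOf χ hχ) (hinvOf χ' hχ')
      ⟨(β : cD D t → ℂ) ∘ eC, isIrrCharacter_comp_mulEquiv eC β.2⟩ h5 h6
    apply Subtype.ext
    funext g
    have h8 := congrFun (congrArg Subtype.val h7) (eD.symm g)
    simpa using h8
  · obtain ⟨θ, hθ, hr⟩ := h3 ⟨(β : cD D t → ℂ) ∘ eC, isIrrCharacter_comp_mulEquiv eC β.2⟩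
    refine ⟨⟨(θ : D' → ℂ) ∘ eD.symm, isIrrCharacter_comp_mulEquiv eD.symm θ.2⟩, hinvTo θ hθ, ?_⟩
    have h5 := corrRel_comp hC'D' hCD eD.symm eC.symm hcompat' hr
    convert h5 using 1
    funext c
    simp

end Cyclic

section PGroup

variable {Γ : Type u} [Group Γ] [Finite Γ]

theorem corrRel_self {p : ℕ} {C : Subgroup Γ} [Fintype C] (hCD : C ≤ C) (χ : IrrCharacter C) :
    CorrRel p hCD (χ : C → ℂ) (χ : C → ℂ) := by
  refine ⟨1, Or.inl rfl, ⟨0, ?_⟩, fun γ hγ => ⟨0, ?_⟩⟩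
  · have : (fun c : C => (χ : C → ℂ) ⟨c, hCD c.2⟩) = (χ : C → ℂ) := rfl
    rw [this, classInner_irr_self χ.2]
    simp
  · have : (fun c : C => (χ : C → ℂ) ⟨c, hCD c.2⟩) = (χ : C → ℂ) := rfl
    rw [this, classInner_irr_of_ne χ.2 γ.2 (fun h => hγ h.symm)]
    simp

/-- A subgroup of prime index and an element outside generate the group. -/
theorem sup_zpowers_eq_top {P : Type*} [Group P] [Finite P] {p : ℕ} (hp : p.Prime) {M : Subgroup P}
    (hM : M.index = p) {t : P} (ht : t ∉ M) : M ⊔ Subgroup.zpowers t = ⊤ := by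
  have hle : M ≤ M ⊔ Subgroup.zpowers t := le_sup_left
  have hdvd : (M ⊔ Subgroup.zpowers t).index ∣ p := hM ▸ Subgroup.index_dvd_of_le hle
  rcases (Nat.dvd_prime hp).mp hdvd with h | h
  · exact Subgroup.index_eq_one.mp h
  · exfalso
    have hne : M.index ≠ 0 := by rw [hM]; exact hp.ne_zero
    have h1 : Nat.card (M ⊔ Subgroup.zpowers t : Subgroup P) * p = Nat.card P := by
      rw [← h, mul_comm, Subgroup.index_mul_card]
    have h2 : Nat.card M * p = Nat.card P := by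
      rw [← hM, mul_comm, Subgroup.index_mul_card]
    have h3 : Nat.card (M ⊔ Subgroup.zpowers t : Subgroup P) = Nat.card M :=
      Nat.eq_of_mul_eq_mul_right hp.pos (h1.trans h2.symm)
    have h4 : M = M ⊔ Subgroup.zpowers t := Subgroup.eq_of_le_of_card_ge hle h3.le
    apply ht
    rw [h4]
    exact (le_sup_right : Subgroup.zpowers t ≤ _) (Subgroup.mem_zpowers t)

theorem p_corr {p : ℕ} [hp : Fact p.Prime] :
    ∀ (n : ℕ) (T : Subgroup Γ), Nat.card T = n → IsPGroup p T →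
    ∀ (D C : Subgroup Γ) [Fintype D] [Fintype C],
      (∀ t ∈ T, t ∈ Subgroup.normalizer (D : Set Γ)) → Nat.Coprime (Nat.card D) (Nat.card T) →
      C = D ⊓ Subgroup.centralizer (T : Set Γ) → ∀ (hCD : C ≤ D),
      (∀ χ : IrrCharacter D, InvBy T (χ : D → ℂ) →
        ∃ β : IrrCharacter C, CorrRel p hCD (χ : D → ℂ) (β : C → ℂ)) ∧
      (∀ χ χ' : IrrCharacter D, InvBy T (χ : D → ℂ) → InvBy T (χ' : D → ℂ) →
        ∀ β : IrrCharacter C, CorrRel p hCD (χ : D → ℂ) (β : C → ℂ) →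
          CorrRel p hCD (χ' : D → ℂ) (β : C → ℂ) → χ = χ') ∧
      (∀ β : IrrCharacter C, ∃ χ : IrrCharacter D, InvBy T (χ : D → ℂ) ∧
        CorrRel p hCD (χ : D → ℂ) (β : C → ℂ)) := by
  classical
  intro n
  induction n using Nat.strong_induction_on with
  | _ n ih =>
  intro T hTn hT D C iD iC hnorm hcop hC hCD
  by_cases hbot : T = ⊥
  · subst hbot
    have hCeq : C = D := by
      rw [hC]
      apply inf_eq_left.mpr
      intro x _
      rw [Subgroup.mem_centralizer_iff]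
      intro h hh
      have : h = 1 := by simpa using hh
      simp [this]
    subst hCeq
    clear iD
    have hinv : ∀ χ : C → ℂ, InvBy (⊥ : Subgroup Γ) χ := by
      intro χ s hs g g' h
      have hs1 : s = 1 := by simpa using hs
      subst hs1
      congr 1
      apply Subtype.ext
      rw [h]
      simp
    refine ⟨fun χ _ => ⟨χ, corrRel_self hCD χ⟩, fun χ χ' _ _ β h h' => ?_,
      fun β => ⟨β, hinv _, corrRel_self hCD β⟩⟩
    have e₁ : χ = β := CorrRel.unique hp.out (corrRel_self hCD χ) h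
    have e₂ : χ' = β := CorrRel.unique hp.out (corrRel_self hCD χ') h'
    rw [e₁, e₂]
  · -- the induction step
    have hTp : IsPGroup p T := hT
    have hnt : Nontrivial T := (Subgroup.nontrivial_iff_ne_bot T).mpr hbot
    obtain ⟨M, hMn, hMi⟩ := Cfsg.Agent.Lib.OddLocal.exists_normal_index_prime p hTp
    obtain ⟨t', ht'⟩ : ∃ t' : T, t' ∉ M := by
      by_contra hcon
      push Not at hcon
      have : M = ⊤ := by
        rw [eq_top_iff]
        intro x _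
        exact hcon x
      rw [this, Subgroup.index_top] at hMi
      exact hp.out.one_lt.ne hMi
    set t : Γ := (t' : Γ) with htdef
    have htT : t ∈ T := t'.2
    obtain ⟨T₁, hT₁⟩ : ∃ T₁ : Subgroup Γ, T₁ = M.map T.subtype := ⟨_, rfl⟩
    have hT₁T : T₁ ≤ T := by
      rw [hT₁]
      rintro _ ⟨x, -, rfl⟩
      exact x.2
    have hcardT₁ : Nat.card T₁ * p = Nat.card T := by
      have h1 : Nat.card T₁ = Nat.card M := by
        rw [hT₁]
        exact Nat.card_congr (Subgroup.equivMapOfInjective M T.subtype T.subtype_injective).toEquiv.symm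
      rw [h1, ← hMi, mul_comm, Subgroup.index_mul_card]
    have hlt : Nat.card T₁ < n := by
      rw [← hTn, ← hcardT₁]
      have : 0 < Nat.card T₁ := Nat.card_pos
      have := hp.out.one_lt
      nlinarith
    have hT₁conj : ∀ x ∈ T, ∀ u ∈ T₁, x * u * x⁻¹ ∈ T₁ := by
      intro x hx u hu
      rw [hT₁] at hu ⊢
      obtain ⟨u', hu', rfl⟩ := hu
      refine ⟨⟨x, hx⟩ * u' * (⟨x, hx⟩ : T)⁻¹, hMn.conj_mem u' hu' ⟨x, hx⟩, rfl⟩
    have hsup : T₁ ⊔ Subgroup.zpowers t = T := by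
      have h1 := sup_zpowers_eq_top hp.out hMi ht'
      have h2 := congrArg (Subgroup.map T.subtype) h1
      rw [Subgroup.map_sup, MonoidHom.map_zpowers, ← hT₁] at h2
      rw [show (Subgroup.map T.subtype (⊤ : Subgroup T)) = T by
        rw [← MonoidHom.range_eq_map, Subgroup.range_subtype]] at h2
      exact h2
    obtain ⟨a, ha⟩ : ∃ a, orderOf t = p ^ a := by
      obtain ⟨a, ha⟩ := (IsPGroup.iff_orderOf.mp hTp) t'
      exact ⟨a, by rw [htdef, Subgroup.orderOf_coe]; exact ha⟩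
    -- the intermediate centralizer
    obtain ⟨C₁, hC₁⟩ : ∃ C₁ : Subgroup Γ, C₁ = D ⊓ Subgroup.centralizer (T₁ : Set Γ) := ⟨_, rfl⟩
    have hC₁D : C₁ ≤ D := by rw [hC₁]; exact inf_le_left
    let _ : Fintype C₁ := Fintype.ofFinite _
    have hnC₁ : ∀ x ∈ T, x ∈ Subgroup.normalizer (C₁ : Set Γ) := by
      have key : ∀ x ∈ T, ∀ y ∈ C₁, x * y * x⁻¹ ∈ C₁ := by
        intro x hx y hy
        rw [hC₁] at hy ⊢
        refine ⟨(Subgroup.mem_normalizer_iff.mp (hnorm x hx) y).mp hy.1, ?_⟩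
        show x * y * x⁻¹ ∈ Subgroup.centralizer (T₁ : Set Γ)
        rw [Subgroup.mem_centralizer_iff]
        intro u hu
        have h1 : x⁻¹ * u * x ∈ T₁ := by
          have := hT₁conj x⁻¹ (T.inv_mem hx) u hu
          simpa using this
        have h2 := (Subgroup.mem_centralizer_iff.mp hy.2) _ h1
        calc u * (x * y * x⁻¹) = x * ((x⁻¹ * u * x) * y) * x⁻¹ := by group
          _ = x * (y * (x⁻¹ * u * x)) * x⁻¹ := by rw [h2]
          _ = _ := by group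
      intro x hx
      rw [Subgroup.mem_normalizer_iff]
      intro y
      refine ⟨key x hx y, fun hy => ?_⟩
      have := key x⁻¹ (T.inv_mem hx) _ hy
      simpa [mul_assoc] using this
    have hCeq : C = cD C₁ t := by
      rw [hC, hC₁]
      ext x
      simp only [Subgroup.mem_inf]
      constructor
      · rintro ⟨hx, hxc⟩
        have hxc' := Subgroup.mem_centralizer_iff.mp hxc
        exact ⟨⟨hx, Subgroup.mem_centralizer_iff.mpr fun u hu => hxc' u (hT₁T hu)⟩,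
          Subgroup.mem_centralizer_singleton_iff.mpr (hxc' t htT).symm⟩
      · rintro ⟨⟨hx, hxc⟩, hxt⟩
        have hxc' := Subgroup.mem_centralizer_iff.mp hxc
        have hxt' := Subgroup.mem_centralizer_singleton_iff.mp hxt
        refine ⟨hx, Subgroup.mem_centralizer_iff.mpr fun u hu => ?_⟩
        have hu' : u ∈ T₁ ⊔ Subgroup.zpowers t := by rw [hsup]; exact hu
        have hle : T₁ ⊔ Subgroup.zpowers t ≤ Subgroup.centralizer ({x} : Set Γ) := by
          refine sup_le (fun v hv => ?_) (Subgroup.zpowers_le.mpr ?_)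
          · rw [Subgroup.mem_centralizer_singleton_iff]
            exact hxc' v hv
          · rw [Subgroup.mem_centralizer_singleton_iff]
            exact hxt'.symm
        have := hle hu'
        rw [Subgroup.mem_centralizer_singleton_iff] at this
        exact this
    subst hCeq
    have hn₁ : ∀ x ∈ T₁, x ∈ Subgroup.normalizer (D : Set Γ) := fun x hx => hnorm x (hT₁T hx)
    have hcop₁ : Nat.Coprime (Nat.card D) (Nat.card T₁) :=
      hcop.coprime_dvd_right (Subgroup.card_dvd_of_le hT₁T)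
    obtain ⟨ih1, ih2, ih3⟩ := ih _ hlt T₁ rfl (hT.to_le hT₁T) D C₁ hn₁ hcop₁ hC₁ hC₁D
    have hcopt : Nat.Coprime (orderOf t) (Nat.card C₁) := by
      have h1 : orderOf t ∣ Nat.card T := Subgroup.orderOf_dvd_natCard T htT
      exact (hcop.coprime_dvd_left (Subgroup.card_dvd_of_le hC₁D)).symm.coprime_dvd_left h1
    obtain ⟨b1, b2, b3⟩ := cyclic_corr (p := p) C₁ t (hnC₁ t htT) ha hcopt
    have hinvT₁ : ∀ χ : D → ℂ, InvBy T χ → InvBy T₁ χ := fun χ h x hx => h x (hT₁T hx)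
    -- invariance of the correspondent
    have hinvβ : ∀ (χ : IrrCharacter D) (β₁ : IrrCharacter C₁), InvBy T (χ : D → ℂ) →
        CorrRel p hC₁D (χ : D → ℂ) (β₁ : C₁ → ℂ) → InvBy (Subgroup.zpowers t) (β₁ : C₁ → ℂ) := by
      intro χ β₁ hχ hr
      have h1 := corrRel_conj (hnorm t htT) (hnC₁ t htT) hr
      rw [comp_conjOn_of_invBy htT (hnorm t htT) hχ] at h1
      have h2 : β₁ = ⟨(β₁ : C₁ → ℂ) ∘ conjOn C₁ t (hnC₁ t htT),
          isIrrCharacter_comp_mulEquiv _ β₁.2⟩ := CorrRel.unique hp.out hr h1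
      have h3 : t ∈ stabSub C₁ (β₁ : C₁ → ℂ) := by
        refine ⟨hnC₁ t htT, fun g g' hgg' => ?_⟩
        have h4 := congrFun (congrArg Subtype.val h2) g
        have hg' : g' = conjOn C₁ t (hnC₁ t htT) g := Subtype.ext hgg'
        rw [hg']
        exact h4.symm
      intro x hx
      have hx' : x ∈ stabSub C₁ (β₁ : C₁ → ℂ) := Subgroup.zpowers_le.mpr h3 hx
      exact hx'.2
    have hchain : ∀ (χ : IrrCharacter D) (β₁ : IrrCharacter C₁) (β : IrrCharacter (cD C₁ t)),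
        CorrRel p hC₁D (χ : D → ℂ) (β₁ : C₁ → ℂ) →
        CorrRel p (inf_le_left : cD C₁ t ≤ C₁) (β₁ : C₁ → ℂ) (β : cD C₁ t → ℂ) →
        CorrRel p hCD (χ : D → ℂ) (β : cD C₁ t → ℂ) := by
      intro χ β₁ β h1 h2
      exact CorrRel.trans hC₁D inf_le_left (IsIrrCharacter.isCharacter χ.2) h1 h2
    refine ⟨fun χ hχ => ?_, fun χ χ' hχ hχ' β hr hr' => ?_, fun β => ?_⟩
    · obtain ⟨β₁, hβ₁⟩ := ih1 χ (hinvT₁ _ hχ)
      obtain ⟨β, hβ⟩ := b1 β₁ (hinvβ χ β₁ hχ hβ₁)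
      exact ⟨β, hchain χ β₁ β hβ₁ hβ⟩
    · obtain ⟨β₁, hβ₁⟩ := ih1 χ (hinvT₁ _ hχ)
      obtain ⟨β₁', hβ₁'⟩ := ih1 χ' (hinvT₁ _ hχ')
      have hi := hinvβ χ β₁ hχ hβ₁
      have hi' := hinvβ χ' β₁' hχ' hβ₁'
      obtain ⟨β₂, hβ₂⟩ := b1 β₁ hi
      obtain ⟨β₂', hβ₂'⟩ := b1 β₁' hi'
      have e₁ : β₂ = β := CorrRel.unique hp.out (hchain χ β₁ β₂ hβ₁ hβ₂) hr
      have e₂ : β₂' = β := CorrRel.unique hp.out (hchain χ' β₁' β₂' hβ₁' hβ₂') hr'
      rw [e₁] at hβ₂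
      rw [e₂] at hβ₂'
      have e₃ : β₁ = β₁' := b2 β₁ β₁' hi hi' β hβ₂ hβ₂'
      rw [e₃] at hβ₁
      exact ih2 χ χ' (hinvT₁ _ hχ) (hinvT₁ _ hχ') β₁' hβ₁ hβ₁'
    · obtain ⟨β₁, hi, hβ⟩ := b3 β
      obtain ⟨χ, hχ₁, hr⟩ := ih3 β₁
      refine ⟨χ, ?_, hchain χ β₁ β hr hβ⟩
      have hconj := corrRel_conj (hnorm t htT) (hnC₁ t htT) hr
      rw [comp_conjOn_of_invBy (Subgroup.mem_zpowers t) (hnC₁ t htT) hi] at hconj
      have hχ'inv : InvBy T₁ ((χ : D → ℂ) ∘ conjOn D t (hnorm t htT)) := by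
        intro u hu g g' hgg'
        simp only [Function.comp_apply]
        refine hχ₁ (t * u * t⁻¹) (hT₁conj t htT u hu) _ _ ?_
        simp only [conjOn_coe]
        rw [hgg']
        group
      have e := ih2 ⟨(χ : D → ℂ) ∘ conjOn D t (hnorm t htT), isIrrCharacter_comp_mulEquiv _ χ.2⟩ χ
        hχ'inv hχ₁ β₁ hconj hr
      have hle : T ≤ stabSub D (χ : D → ℂ) := by
        rw [← hsup]
        refine sup_le ((invBy_iff_le hn₁ _).mp hχ₁) (Subgroup.zpowers_le.mpr ?_)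
        refine ⟨hnorm t htT, fun g g' hgg' => ?_⟩
        have h4 := congrFun (congrArg Subtype.val e) g
        have hg' : g' = conjOn D t (hnorm t htT) g := Subtype.ext hgg'
        rw [hg']
        exact h4
      exact (invBy_iff_le hnorm _).mpr hle

end PGroup

end Cfsg.Agent.Lib.H8Group
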