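import Mathlib
import Cfsg.Agent.Lib.H8Group.GlaubP
import Cfsg.Agent.Lib.Basic.Glauberman
import Cfsg.Agent.Lib.Basic.MinNormal

set_option autoImplicit false

/-!
Counting invariant characters and classes for a solvable group of coprime operators.
-/

namespace Cfsg.Agent.Lib.H8Group

open Cfsg Module Cfsg.Agent.Lib.Char

universe u

/-- A solvable group, a proper normal subgroup: a `p`-subgroup which is normal modulo the subgroup
and not contained in it. -/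
theorem exists_pSub_mod {A : Type*} [Group A] [Finite A] [Group.IsSolvable A] (N : Subgroup A)
    [hN : N.Normal] (hne : N ≠ ⊤) :
    ∃ (p : ℕ) (P : Subgroup A), p.Prime ∧ IsPGroup p P ∧ ¬ P ≤ N ∧
      ∀ y : A, ∀ u ∈ P, ∃ u' ∈ P, ∃ k ∈ N, y * u * y⁻¹ = u' * k := by
  classical
  have hnt : Nontrivial (A ⧸ N) := QuotientGroup.nontrivial_iff.mpr hne
  have : Group.IsSolvable (A ⧸ N) := inferInstance
  obtain ⟨p, Qb, hp, hQn, hQne, -, hQp⟩ :=
    Cfsg.Agent.Lib.Basic.exists_normal_abelian_pSubgroup (G := A ⧸ N)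
  have := Fact.mk hp
  let Q : Subgroup A := Qb.comap (QuotientGroup.mk' N)
  have hQnorm : Q.Normal := hQn.comap _
  let ψ : Q →* Qb :=
    { toFun := fun x => ⟨((x : A) : A ⧸ N), x.2⟩
      map_one' := rfl
      map_mul' := fun _ _ => rfl }
  have hψ : Function.Surjective ψ := by
    rintro ⟨x, hx⟩
    obtain ⟨y, rfl⟩ := QuotientGroup.mk_surjective x
    exact ⟨⟨y, hx⟩, rfl⟩
  let P₀ : Sylow p Q := default
  let P : Subgroup A := (P₀ : Subgroup Q).map Q.subtype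
  have hPQ : P ≤ Q := by
    rintro _ ⟨x, -, rfl⟩
    exact x.2
  have hPp : IsPGroup p P := P₀.isPGroup'.map Q.subtype
  -- the image of the Sylow subgroup is everything
  have himg : ∀ x : Q, ∃ u ∈ (P₀ : Subgroup Q), ψ u = ψ x := by
    intro x
    let R : Sylow p Qb := P₀.mapSurjective hψ
    have hR : (R : Subgroup Qb) = ⊤ := by
      have h1 : IsPGroup p (⊤ : Subgroup Qb) := IsPGroup.of_equiv hQp Subgroup.topEquiv.symm
      exact (R.is_maximal' h1 le_top).symm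
    have h2 : ψ x ∈ (R : Subgroup Qb) := by rw [hR]; trivial
    rw [Sylow.coe_mapSurjective] at h2
    obtain ⟨u, hu, hux⟩ := h2
    exact ⟨u, hu, hux⟩
  have hfact : ∀ x ∈ Q, ∃ u ∈ P, ∃ k ∈ N, x = u * k := by
    intro x hx
    obtain ⟨u, hu, hux⟩ := himg ⟨x, hx⟩
    refine ⟨u, ⟨u, hu, rfl⟩, (u : A)⁻¹ * x, ?_, by group⟩
    have h1 : ((u : A) : A ⧸ N) = (x : A ⧸ N) := congrArg Subtype.val hux
    rw [← QuotientGroup.eq]
    exact h1
  refine ⟨p, P, hp, hPp, fun hle => ?_, fun y u hu => ?_⟩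
  · apply hQne
    rw [eq_bot_iff]
    intro q hq
    obtain ⟨x, rfl⟩ := QuotientGroup.mk_surjective q
    obtain ⟨u, hu, k, hk, hxuk⟩ := hfact x hq
    have : x ∈ N := by
      rw [hxuk]
      exact N.mul_mem (hle hu) hk
    rw [Subgroup.mem_bot]
    exact (QuotientGroup.eq_one_iff x).mpr this
  · exact hfact _ (hQnorm.conj_mem u (hPQ hu) y)

section Classes

/-- `Γ` as a set with the conjugation action. -/
@[ext] structure ConjY (Γ : Type*) where
  /-- The underlying element. -/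
  val : Γ

variable {Γ : Type u} [Group Γ]

instance : MulAction Γ (ConjY Γ) where
  smul g x := ⟨g * x.val * g⁻¹⟩
  one_smul x := by
    apply ConjY.ext
    show (1 : Γ) * x.val * (1 : Γ)⁻¹ = x.val
    simp
  mul_smul a b x := by
    apply ConjY.ext
    show (a * b) * x.val * (a * b)⁻¹ = a * (b * x.val * b⁻¹) * a⁻¹
    group

theorem conjY_smul_val (g : Γ) (x : ConjY Γ) : (g • x).val = g * x.val * g⁻¹ := rfl

theorem classes_map_mk {G H : Type*} [Group G] [Group H] (f : G →* H) (g : G) :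
    ConjClasses.map f (ConjClasses.mk g) = ConjClasses.mk (f g) := rfl

variable [Finite Γ]

theorem card_invariant_classes (G S : Subgroup Γ)
    (hnorm : ∀ t ∈ S, t ∈ Subgroup.normalizer (G : Set Γ))
    (hcop : Nat.Coprime (Nat.card G) (Nat.card S))
    (hsolv : Group.IsSolvable S ∨ Group.IsSolvable G) :
    Nat.card {K : ConjClasses G // ∀ s ∈ S, ∀ g g' : G, (g' : Γ) = s * g * s⁻¹ →
        ConjClasses.mk g = K → ConjClasses.mk g' = K} =
      Nat.card (ConjClasses (G ⊓ Subgroup.centralizer (S : Set Γ) : Subgroup Γ)) := by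
  classical
  set C : Subgroup Γ := G ⊓ Subgroup.centralizer (S : Set Γ) with hC
  have hCG : C ≤ G := inf_le_left
  have hSn : S ≤ Subgroup.normalizer (G : Set Γ) := hnorm
  have hsub : ∀ x₀ : Γ, (∀ a ∈ S, ∀ g ∈ G, ∃ g' ∈ G, a * (g * x₀ * g⁻¹) * a⁻¹ = g' * x₀ * g'⁻¹) →
      (∃ x : ConjY Γ, (∃ g ∈ G, x.val = g * x₀ * g⁻¹) ∧ ∀ a ∈ S, a • x = x) ∧
      ∀ x : ConjY Γ, (∃ g ∈ G, x.val = g * x₀ * g⁻¹) → ∀ y : ConjY Γ, (∃ g ∈ G, y.val = g * x₀ * g⁻¹) →
        (∀ a ∈ S, a • x = x) → (∀ a ∈ S, a • y = y) →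
        ∃ c ∈ G ⊓ Subgroup.centralizer (S : Set Γ), c • x = y := by
    intro x₀ hx₀
    apply Cfsg.Agent.Lib.Basic.glauberman hSn hcop.symm hsolv
      (Y := ConjY Γ) {y : ConjY Γ | ∃ g ∈ G, y.val = g * x₀ * g⁻¹}
    · exact ⟨⟨x₀⟩, 1, G.one_mem, by simp⟩
    · rintro k hk x ⟨g, hg, hx⟩
      refine ⟨k * g, G.mul_mem hk hg, ?_⟩
      show k * x.val * k⁻¹ = _
      rw [hx]
      group
    · rintro a ha x ⟨g, hg, hx⟩
      obtain ⟨g', hg', h⟩ := hx₀ a ha g hg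
      refine ⟨g', hg', ?_⟩
      show a * x.val * a⁻¹ = _
      rw [hx, h]
    · rintro x ⟨g, hg, hx⟩ y ⟨g', hg', hy⟩
      refine ⟨g' * g⁻¹, G.mul_mem hg' (G.inv_mem hg), ?_⟩
      apply ConjY.ext
      show (g' * g⁻¹) * x.val * (g' * g⁻¹)⁻¹ = y.val
      rw [hx, hy]
      group
  -- the forward map
  have hwd : ∀ cc : ConjClasses C, ∀ s ∈ S, ∀ g g' : G, (g' : Γ) = s * g * s⁻¹ →
      ConjClasses.mk g = ConjClasses.map (Subgroup.inclusion hCG) cc →
      ConjClasses.mk g' = ConjClasses.map (Subgroup.inclusion hCG) cc := by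
    intro cc s hs g g' hgg' hg
    obtain ⟨c, rfl⟩ := ConjClasses.mk_surjective cc
    rw [classes_map_mk] at hg ⊢
    rw [ConjClasses.mk_eq_mk_iff_isConj] at hg ⊢
    obtain ⟨h, hh⟩ := isConj_iff.mp hg
    have hcomm : s * (c : Γ) = c * s :=
      (Subgroup.mem_centralizer_iff.mp (Subgroup.mem_inf.mp (show (c : Γ) ∈ G ⊓ Subgroup.centralizer (S : Set Γ) from c.2)).2) s hs
    have hmem : s * (h : Γ) * s⁻¹ ∈ G := (Subgroup.mem_normalizer_iff.mp (hnorm s hs) h).mp h.2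
    refine isConj_iff.mpr ⟨⟨_, hmem⟩, Subtype.ext ?_⟩
    have hh' : (h : Γ) * g * (h : Γ)⁻¹ = (c : Γ) := congrArg Subtype.val hh
    show (s * (h : Γ) * s⁻¹) * (g' : Γ) * (s * (h : Γ) * s⁻¹)⁻¹ = (c : Γ)
    rw [hgg']
    calc (s * (h : Γ) * s⁻¹) * (s * g * s⁻¹) * (s * (h : Γ) * s⁻¹)⁻¹
        = s * ((h : Γ) * g * (h : Γ)⁻¹) * s⁻¹ := by group
      _ = s * (c : Γ) * s⁻¹ := by rw [hh']
      _ = (c : Γ) := by rw [hcomm]; group
  refine (Nat.card_eq_of_bijective (fun cc : ConjClasses C =>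
    (⟨ConjClasses.map (Subgroup.inclusion hCG) cc, hwd cc⟩ : {K : ConjClasses G // ∀ s ∈ S, ∀ g g' : G,
      (g' : Γ) = s * g * s⁻¹ → ConjClasses.mk g = K → ConjClasses.mk g' = K})) ⟨?_, ?_⟩).symm
  · intro cc cc' h
    obtain ⟨c, rfl⟩ := ConjClasses.mk_surjective cc
    obtain ⟨c', rfl⟩ := ConjClasses.mk_surjective cc'
    have h1 := congrArg Subtype.val h
    simp only [classes_map_mk] at h1
    rw [ConjClasses.mk_eq_mk_iff_isConj] at h1
    obtain ⟨g, hg⟩ := isConj_iff.mp h1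
    have hg' : (g : Γ) * c * (g : Γ)⁻¹ = (c' : Γ) := congrArg Subtype.val hg
    have hfix : ∀ c₀ : C, ∀ a ∈ S, a * (c₀ : Γ) * a⁻¹ = c₀ := by
      intro c₀ a ha
      have hcomm : a * (c₀ : Γ) = c₀ * a :=
        (Subgroup.mem_centralizer_iff.mp (Subgroup.mem_inf.mp (show (c₀ : Γ) ∈ G ⊓ Subgroup.centralizer (S : Set Γ) from c₀.2)).2) a ha
      rw [hcomm]
      group
    obtain ⟨-, h2⟩ := hsub (c : Γ) (by
      intro a ha g₁ hg₁
      refine ⟨a * g₁ * a⁻¹, (Subgroup.mem_normalizer_iff.mp (hnorm a ha) g₁).mp hg₁, ?_⟩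
      have h3 := hfix c a ha
      calc a * (g₁ * c * g₁⁻¹) * a⁻¹ = (a * g₁ * a⁻¹) * (a * c * a⁻¹) * (a * g₁ * a⁻¹)⁻¹ := by group
        _ = _ := by rw [h3])
    obtain ⟨d, hd, hdc⟩ := h2 ⟨(c : Γ)⟩ ⟨1, G.one_mem, by simp⟩ ⟨(c' : Γ)⟩ ⟨g, g.2, hg'.symm⟩
      (fun a ha => ConjY.ext (hfix c a ha)) (fun a ha => ConjY.ext (hfix c' a ha))
    have hdc' : d * (c : Γ) * d⁻¹ = c' := congrArg ConjY.val hdc
    rw [ConjClasses.mk_eq_mk_iff_isConj]
    exact isConj_iff.mpr ⟨⟨d, hd⟩, Subtype.ext hdc'⟩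
  · rintro ⟨K, hK⟩
    obtain ⟨g₀, rfl⟩ := ConjClasses.mk_surjective K
    obtain ⟨h1, -⟩ := hsub (g₀ : Γ) (by
      intro a ha g hg
      have hm : g * (g₀ : Γ) * g⁻¹ ∈ G := G.mul_mem (G.mul_mem hg g₀.2) (G.inv_mem hg)
      have hm' : a * (g * (g₀ : Γ) * g⁻¹) * a⁻¹ ∈ G :=
        (Subgroup.mem_normalizer_iff.mp (hnorm a ha) _).mp hm
      have h2 := hK a ha ⟨_, hm⟩ ⟨_, hm'⟩ rfl (by
        rw [ConjClasses.mk_eq_mk_iff_isConj]
        exact isConj_iff.mpr ⟨⟨g, hg⟩⁻¹, Subtype.ext (by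
          show g⁻¹ * (g * (g₀ : Γ) * g⁻¹) * g⁻¹⁻¹ = _
          group)⟩)
      rw [ConjClasses.mk_eq_mk_iff_isConj] at h2
      obtain ⟨g', hg'⟩ := isConj_iff.mp h2
      refine ⟨(g' : Γ)⁻¹, G.inv_mem g'.2, ?_⟩
      have h3 : (g' : Γ) * (a * (g * (g₀ : Γ) * g⁻¹) * a⁻¹) * (g' : Γ)⁻¹ = g₀ := congrArg Subtype.val hg'
      calc a * (g * (g₀ : Γ) * g⁻¹) * a⁻¹
          = (g' : Γ)⁻¹ * ((g' : Γ) * (a * (g * (g₀ : Γ) * g⁻¹) * a⁻¹) * (g' : Γ)⁻¹) * ((g' : Γ)⁻¹)⁻¹ := by group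
        _ = _ := by rw [h3])
    obtain ⟨x, ⟨g, hg, hxg⟩, hx⟩ := h1
    have hxG : x.val ∈ G := by
      rw [hxg]
      exact G.mul_mem (G.mul_mem hg g₀.2) (G.inv_mem hg)
    have hxC : x.val ∈ C := by
      refine ⟨hxG, ?_⟩
      show x.val ∈ Subgroup.centralizer (S : Set Γ)
      rw [Subgroup.mem_centralizer_iff]
      intro a ha
      have h2 : a * x.val * a⁻¹ = x.val := congrArg ConjY.val (hx a ha)
      calc a * x.val = (a * x.val * a⁻¹) * a := by group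
        _ = _ := by rw [h2]
    refine ⟨ConjClasses.mk ⟨_, hxC⟩, Subtype.ext ?_⟩
    simp only [classes_map_mk]
    rw [ConjClasses.mk_eq_mk_iff_isConj]
    refine isConj_iff.mpr ⟨⟨g, hg⟩⁻¹, Subtype.ext ?_⟩
    show g⁻¹ * x.val * g⁻¹⁻¹ = _
    rw [hxg]
    group

end Classes

section Chars

variable {Γ : Type u} [Group Γ] [Finite Γ]

theorem exists_reduction (S G : Subgroup Γ) [Group.IsSolvable S]
    (hnorm : ∀ t ∈ S, t ∈ Subgroup.normalizer (G : Set Γ))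
    (hne : ¬ S ≤ Subgroup.centralizer (G : Set Γ)) :
    ∃ (p : ℕ) (P : Subgroup Γ), p.Prime ∧ IsPGroup p P ∧ P ≤ S ∧
      ¬ P ≤ Subgroup.centralizer (G : Set Γ) ∧
      ∀ y ∈ S, ∀ u ∈ P, ∃ u' ∈ P, ∃ k ∈ S ⊓ Subgroup.centralizer (G : Set Γ), y * u * y⁻¹ = u' * k := by
  classical
  let N : Subgroup S := (Subgroup.centralizer (G : Set Γ)).subgroupOf S
  have hNn : N.Normal := by
    constructor
    intro n hn s
    have hn' : (n : Γ) ∈ Subgroup.centralizer (G : Set Γ) := hn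
    show ((s : Γ) * n * (s : Γ)⁻¹) ∈ Subgroup.centralizer (G : Set Γ)
    rw [Subgroup.mem_centralizer_iff]
    intro g hg
    have h1 : (s : Γ)⁻¹ * g * s ∈ G := by
      have := (Subgroup.mem_normalizer_iff.mp (hnorm _ (S.inv_mem s.2)) g).mp hg
      simpa using this
    have h2 := (Subgroup.mem_centralizer_iff.mp hn') _ h1
    calc g * ((s : Γ) * n * (s : Γ)⁻¹) = s * (((s : Γ)⁻¹ * g * s) * n) * (s : Γ)⁻¹ := by group
      _ = s * (n * ((s : Γ)⁻¹ * g * s)) * (s : Γ)⁻¹ := by rw [h2]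
      _ = _ := by group
  have hNtop : N ≠ ⊤ := by
    intro h
    apply hne
    intro s hs
    have : (⟨s, hs⟩ : S) ∈ N := by rw [h]; trivial
    exact this
  obtain ⟨p, P', hp, hP'p, hP'N, hP'⟩ := exists_pSub_mod N hNtop
  refine ⟨p, P'.map S.subtype, hp, hP'p.map _, ?_, ?_, ?_⟩
  · rintro _ ⟨x, -, rfl⟩
    exact x.2
  · intro h
    apply hP'N
    intro x hx
    exact h ⟨x, hx, rfl⟩
  · rintro y hy _ ⟨u, hu, rfl⟩
    obtain ⟨u', hu', k, hk, h⟩ := hP' ⟨y, hy⟩ u hu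
    refine ⟨u', ⟨u', hu', rfl⟩, k, ⟨k.2, hk⟩, ?_⟩
    exact congrArg Subtype.val h

section Reduction

variable {S P G : Subgroup Γ} (hPS : P ≤ S) (hnorm : ∀ t ∈ S, t ∈ Subgroup.normalizer (G : Set Γ))
  (hconj : ∀ y ∈ S, ∀ u ∈ P, ∃ u' ∈ P, ∃ k ∈ S ⊓ Subgroup.centralizer (G : Set Γ), y * u * y⁻¹ = u' * k)

include hnorm hconj in
theorem red_norm : ∀ y ∈ S, y ∈ Subgroup.normalizer
    ((G ⊓ Subgroup.centralizer (P : Set Γ) : Subgroup Γ) : Set Γ) := by
  have key : ∀ y ∈ S, ∀ x ∈ G ⊓ Subgroup.centralizer (P : Set Γ),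
      y * x * y⁻¹ ∈ G ⊓ Subgroup.centralizer (P : Set Γ) := by
    intro y hy x hx
    obtain ⟨hxG, hxP⟩ := Subgroup.mem_inf.mp hx
    refine Subgroup.mem_inf.mpr ⟨(Subgroup.mem_normalizer_iff.mp (hnorm y hy) x).mp hxG, ?_⟩
    rw [Subgroup.mem_centralizer_iff]
    intro u hu
    obtain ⟨u', hu', k, hk, huk⟩ := hconj y⁻¹ (S.inv_mem hy) u hu
    have h1 := (Subgroup.mem_centralizer_iff.mp hxP) u' hu'
    have h2 := (Subgroup.mem_centralizer_iff.mp (Subgroup.mem_inf.mp hk).2) x hxG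
    have h3 : y⁻¹ * u * y = u' * k := by simpa using huk
    have h4 : (y⁻¹ * u * y) * x = x * (y⁻¹ * u * y) := by
      rw [h3, mul_assoc, ← h2.symm.symm, ← mul_assoc, h1, mul_assoc]
    calc u * (y * x * y⁻¹) = y * ((y⁻¹ * u * y) * x) * y⁻¹ := by group
      _ = y * (x * (y⁻¹ * u * y)) * y⁻¹ := by rw [h4]
      _ = _ := by group
  intro y hy
  rw [Subgroup.mem_normalizer_iff]
  intro x
  refine ⟨key y hy x, fun hx => ?_⟩
  have := key y⁻¹ (S.inv_mem hy) _ hx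
  simpa [mul_assoc] using this

include hconj in
theorem red_inv {y : Γ} (hy : y ∈ S) (hn : y ∈ Subgroup.normalizer (G : Set Γ)) {χ : G → ℂ}
    (hχ : InvBy P χ) : InvBy P (χ ∘ conjOn G y hn) := by
  intro u hu g g' hgg'
  simp only [Function.comp_apply]
  obtain ⟨u', hu', k, hk, huk⟩ := hconj y hy u hu
  refine hχ u' hu' _ _ ?_
  simp only [conjOn_coe]
  have h2 := (Subgroup.mem_centralizer_iff.mp (Subgroup.mem_inf.mp hk).2) _ (conjOn G y hn g).2
  simp only [conjOn_coe] at h2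
  rw [hgg']
  calc y * (u * g * u⁻¹) * y⁻¹ = (y * u * y⁻¹) * (y * g * y⁻¹) * (y * u * y⁻¹)⁻¹ := by group
    _ = (u' * k) * (y * g * y⁻¹) * (u' * k)⁻¹ := by rw [huk]
    _ = u' * (k * (y * g * y⁻¹)) * k⁻¹ * u'⁻¹ := by group
    _ = u' * ((y * g * y⁻¹) * k) * k⁻¹ * u'⁻¹ := by
      rw [show k * (y * (g : Γ) * y⁻¹) = (y * (g : Γ) * y⁻¹) * k from h2.symm]
    _ = _ := by group

end Reduction

/-- Invariance is preserved by the relation: from `χ` to `β`. -/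
theorem corrRel_invBy_right {p : ℕ} (hp : p.Prime) {S D C : Subgroup Γ} [Fintype C] {hCD : C ≤ D}
    (hnD : ∀ t ∈ S, t ∈ Subgroup.normalizer (D : Set Γ))
    (hnC : ∀ t ∈ S, t ∈ Subgroup.normalizer (C : Set Γ)) {χ : IrrCharacter D} {β : IrrCharacter C}
    (hχ : InvBy S (χ : D → ℂ)) (hr : CorrRel p hCD (χ : D → ℂ) (β : C → ℂ)) :
    InvBy S (β : C → ℂ) := by
  intro y hy g g' hgg'
  have h1 := corrRel_conj (hnD y hy) (hnC y hy) hr
  rw [comp_conjOn_of_invBy hy (hnD y hy) hχ] at h1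
  have h2 : β = ⟨(β : C → ℂ) ∘ conjOn C y (hnC y hy), isIrrCharacter_comp_mulEquiv _ β.2⟩ :=
    CorrRel.unique hp hr h1
  have h4 := congrFun (congrArg Subtype.val h2) g
  have hg' : g' = conjOn C y (hnC y hy) g := Subtype.ext hgg'
  rw [hg']
  exact h4.symm

theorem card_invariant_irr (S : Subgroup Γ) [Group.IsSolvable S] :
    ∀ (n : ℕ) (G : Subgroup Γ), Nat.card G = n → (∀ t ∈ S, t ∈ Subgroup.normalizer (G : Set Γ)) →
      Nat.Coprime (Nat.card G) (Nat.card S) →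
      Nat.card {χ : IrrCharacter G // InvBy S (χ : G → ℂ)} =
        Nat.card (ConjClasses (G ⊓ Subgroup.centralizer (S : Set Γ) : Subgroup Γ)) := by
  classical
  intro n
  induction n using Nat.strong_induction_on with
  | _ n ih =>
  intro G hGn hnorm hcop
  by_cases hcent : S ≤ Subgroup.centralizer (G : Set Γ)
  · have hG : G ≤ Subgroup.centralizer (S : Set Γ) := Subgroup.le_centralizer_iff.mp hcent
    rw [inf_eq_left.mpr hG, ← card_irr_eq_card_conjClasses]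
    refine Nat.card_congr (Equiv.subtypeUnivEquiv fun χ => ?_)
    intro s hs g g' hgg'
    have hcomm := (Subgroup.mem_centralizer_iff.mp (hcent hs)) g g.2
    have : g' = g := by
      apply Subtype.ext
      rw [hgg', ← hcomm]
      group
    rw [this]
  · obtain ⟨p, P, hp, hPp, hPS, hPG, hconj⟩ := exists_reduction S G hnorm hcent
    have := Fact.mk hp
    set G₁ : Subgroup Γ := G ⊓ Subgroup.centralizer (P : Set Γ) with hG₁
    have hG₁G : G₁ ≤ G := inf_le_left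
    let _ : Fintype G := Fintype.ofFinite _
    let _ : Fintype G₁ := Fintype.ofFinite _
    have hnP : ∀ t ∈ P, t ∈ Subgroup.normalizer (G : Set Γ) := fun t ht => hnorm t (hPS ht)
    have hcopP : Nat.Coprime (Nat.card G) (Nat.card P) :=
      hcop.coprime_dvd_right (Subgroup.card_dvd_of_le hPS)
    obtain ⟨a1, a2, a3⟩ := p_corr (p := p) _ P rfl hPp G G₁ hnP hcopP hG₁ hG₁G
    have hnG₁ := red_norm hnorm hconj
    have hlt : Nat.card G₁ < n := by
      rw [← hGn]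
      by_contra hcon
      push Not at hcon
      have h := Subgroup.eq_of_le_of_card_ge hG₁G hcon
      apply hPG
      have h2 : G ≤ Subgroup.centralizer (P : Set Γ) := by
        rw [← h]
        exact inf_le_right
      exact Subgroup.le_centralizer_iff.mp h2
    have hcop₁ : Nat.Coprime (Nat.card G₁) (Nat.card S) :=
      hcop.coprime_dvd_left (Subgroup.card_dvd_of_le hG₁G)
    have hih := ih _ hlt G₁ rfl hnG₁ hcop₁
    have heq : G₁ ⊓ Subgroup.centralizer (S : Set Γ) = G ⊓ Subgroup.centralizer (S : Set Γ) := by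
      rw [hG₁, inf_assoc]
      congr 1
      apply inf_eq_right.mpr
      exact Subgroup.centralizer_le hPS
    rw [heq] at hih
    rw [← hih]
    -- the bijection
    have hres : ∀ χ : G → ℂ, InvBy S χ → InvBy P χ := fun χ h x hx => h x (hPS hx)
    have hchoose : ∀ χ : {χ : IrrCharacter G // InvBy S (χ : G → ℂ)},
        ∃ β : IrrCharacter G₁, CorrRel p hG₁G (χ.1 : G → ℂ) (β : G₁ → ℂ) ∧ InvBy S (β : G₁ → ℂ) := by
      intro χ
      obtain ⟨β, hβ⟩ := a1 χ.1 (hres _ χ.2)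
      exact ⟨β, hβ, corrRel_invBy_right hp hnorm hnG₁ χ.2 hβ⟩
    choose F hF hF' using hchoose
    refine Nat.card_eq_of_bijective (fun χ => (⟨F χ, hF' χ⟩ : {β : IrrCharacter G₁ // InvBy S (β : G₁ → ℂ)}))
      ⟨?_, ?_⟩
    · intro χ χ' h
      have h1 : F χ = F χ' := congrArg Subtype.val h
      have h2 := hF χ
      rw [h1] at h2
      exact Subtype.ext (a2 χ.1 χ'.1 (hres _ χ.2) (hres _ χ'.2) (F χ') h2 (hF χ'))
    · rintro ⟨β, hβ⟩
      obtain ⟨χ, hχ, hr⟩ := a3 β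
      have hinvS : InvBy S (χ : G → ℂ) := by
        intro y hy g g' hgg'
        have h1 := corrRel_conj (hnorm y hy) (hnG₁ y hy) hr
        rw [comp_conjOn_of_invBy hy (hnG₁ y hy) hβ] at h1
        have e := a2 ⟨(χ : G → ℂ) ∘ conjOn G y (hnorm y hy), isIrrCharacter_comp_mulEquiv _ χ.2⟩ χ
          (red_inv hconj hy (hnorm y hy) hχ) hχ β h1 hr
        have h4 := congrFun (congrArg Subtype.val e) g
        have hg' : g' = conjOn G y (hnorm y hy) g := Subtype.ext hgg'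
        rw [hg']
        exact h4
      refine ⟨⟨χ, hinvS⟩, Subtype.ext ?_⟩
      exact CorrRel.unique hp (hF ⟨χ, hinvS⟩) hr

end Chars

end Cfsg.Agent.Lib.H8Group
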