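import Mathlib
import Cfsg.Agent.Lib.H8Group.GlaubCount

set_option autoImplicit false

/-!
Characters of degree prime to a normal index, when the index is prime to the order.
-/

namespace Cfsg.Agent.Lib.H8Group

open Cfsg Module Cfsg.Agent.Lib.Char
open scoped ComplexConjugate Pointwise

universe u

/-- `isIrrCharacter_comp_mulEquiv` without finiteness instances at hand. -/
theorem isIrrCharacter_comp_mulEquiv' {H G : Type u} [Group G] [Group H] [Finite G] [Finite H]
    (e : H ≃* G) {χ : G → ℂ} (hχ : IsIrrCharacter G χ) : IsIrrCharacter H (χ ∘ e) := by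
  let _ : Fintype G := Fintype.ofFinite _
  let _ : Fintype H := Fintype.ofFinite _
  exact isIrrCharacter_comp_mulEquiv e hχ

section NSide

variable {G H : Type u} [Group G] [Group H] [Finite G] [Finite H]

/-- Characters of `G × H` of degree prime to `|H|`. -/
theorem card_coprime_degree_prod (hcop : Nat.Coprime (Nat.card G) (Nat.card H)) :
    Nat.card {η : IrrCharacter (G × H) // (charDegree (η : G × H → ℂ)).Coprime (Nat.card H)} =
      Nat.card (IrrCharacter G) * Nat.card (H →* ℂˣ) := by
  classical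
  let _ : Fintype G := Fintype.ofFinite _
  let _ : Fintype H := Fintype.ofFinite _
  rw [← Nat.card_prod]
  have hdeg : ∀ (β : IrrCharacter G) (l : IrrCharacter H),
      charDegree ((irrProd (β, l) : IrrCharacter (G × H)) : G × H → ℂ) =
        charDegree (β : G → ℂ) * charDegree (l : H → ℂ) := by
    intro β l
    have h1 : ((irrProd (β, l) : IrrCharacter (G × H)) : G × H → ℂ) 1 =
        ((charDegree (β : G → ℂ) * charDegree (l : H → ℂ) : ℕ) : ℂ) := by
      show (β : G → ℂ) 1 * (l : H → ℂ) 1 = _
      rw [apply_one_eq_charDegree (IsIrrCharacter.isCharacter β.2),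
        apply_one_eq_charDegree (IsIrrCharacter.isCharacter l.2)]
      push_cast
      rfl
    exact charDegree_eq h1
  refine (Nat.card_eq_of_bijective (fun p : IrrCharacter G × (H →* ℂˣ) =>
    (⟨irrProd (p.1, ⟨fun h => ((p.2 h : ℂˣ) : ℂ), isIrrCharacter_of_monoidHom p.2⟩), ?_⟩ :
      {η : IrrCharacter (G × H) // (charDegree (η : G × H → ℂ)).Coprime (Nat.card H)})) ⟨?_, ?_⟩).symm
  · rw [hdeg]
    have h1 : charDegree (fun h => ((p.2 h : ℂˣ) : ℂ)) = 1 := by
      apply charDegree_eq
      simp
    simp only [h1, mul_one]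
    exact hcop.coprime_dvd_left (charDegree_dvd_card p.1.2)
  · rintro ⟨β, l⟩ ⟨β', l'⟩ h
    have h1 := congrArg Subtype.val h
    have h2 := irrProd_injective h1
    obtain ⟨h3, h4⟩ := Prod.mk.inj h2
    refine Prod.ext h3 ?_
    ext x
    exact congrFun (congrArg Subtype.val h4) x
  · rintro ⟨η, hη⟩
    obtain ⟨⟨β, l⟩, rfl⟩ := irrProd_surjective η
    rw [hdeg] at hη
    have h1 : charDegree (l : H → ℂ) = 1 := by
      have h2 : (charDegree (l : H → ℂ)).Coprime (Nat.card H) := hη.coprime_dvd_left (dvd_mul_left _ _)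
      exact Nat.Coprime.eq_one_of_dvd h2 (charDegree_dvd_card l.2)
    have h3 : (l : H → ℂ) 1 = 1 := by
      rw [apply_one_eq_charDegree (IsIrrCharacter.isCharacter l.2), h1]
      simp
    obtain ⟨lam, hlam⟩ := IsCharacter.exists_monoidHom (IsIrrCharacter.isCharacter l.2) h3
    refine ⟨(β, lam), Subtype.ext ?_⟩
    show irrProd (β, ⟨fun h => ((lam h : ℂˣ) : ℂ), isIrrCharacter_of_monoidHom lam⟩) = irrProd (β, l)
    congr 2
    exact Subtype.ext hlam.symm

end NSide

section GSide

variable {G : Type u} [Group G] [Finite G] (K : Subgroup G) [hK : K.Normal]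

/-- Characters of `G` of degree prime to the index of `K`, when the index is prime to `|K|`. -/
theorem card_coprime_degree_normal [Group.IsSolvable (G ⧸ K)]
    (hcop : Nat.Coprime K.index (Nat.card K)) :
    Nat.card {χ : IrrCharacter G // (charDegree (χ : G → ℂ)).Coprime K.index} =
      Nat.card {θ : IrrCharacter K // ∀ g : G, conjFun K g (θ : K → ℂ) = θ} *
        Nat.card ((G ⧸ K) →* ℂˣ) := by
  classical
  let _ : Fintype G := Fintype.ofFinite _
  let _ : Fintype K := Fintype.ofFinite _
  let _ : Fintype (G ⧸ K) := Fintype.ofFinite _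
  rw [← Nat.card_prod]
  have hcan : ∀ θ : {θ : IrrCharacter K // ∀ g : G, conjFun K g (θ : K → ℂ) = θ},
      ∃ E : G → ℂ, IsIrrCharacter G E ∧ ∀ n : K, E n = (θ.1 : K → ℂ) n := by
    intro θ
    obtain ⟨E, h1, h2, -⟩ := exists_canonical_of_coprime K θ.1.2 θ.2 hcop
    exact ⟨E, h1, h2⟩
  choose E hE hEn using hcan
  have hEres : ∀ θ, resFun K (E θ) = (θ.1 : K → ℂ) := fun θ => funext (hEn θ)
  have hdegE : ∀ θ, E θ 1 = (θ.1 : K → ℂ) 1 := fun θ => hEn θ 1
  let Ψ : {θ : IrrCharacter K // ∀ g : G, conjFun K g (θ : K → ℂ) = θ} × ((G ⧸ K) →* ℂˣ) → G → ℂ :=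
    fun p g => ((p.2 (g : G ⧸ K) : ℂˣ) : ℂ) * E p.1 g
  have hΨirr : ∀ p, IsIrrCharacter G (Ψ p) := fun p =>
    isIrr_twist (p.2.comp (QuotientGroup.mk' K)) (hE p.1)
  have hΨdeg : ∀ p, charDegree (Ψ p) = charDegree (p.1.1 : K → ℂ) := by
    intro p
    apply charDegree_eq
    show ((p.2 ((1 : G) : G ⧸ K) : ℂˣ) : ℂ) * E p.1 1 = _
    rw [hdegE p.1]
    have h1 : ((1 : G) : G ⧸ K) = 1 := rfl
    rw [h1, map_one, Units.val_one, one_mul]
    exact apply_one_eq_charDegree (IsIrrCharacter.isCharacter p.1.1.2)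
  refine (Nat.card_eq_of_bijective (fun p =>
    (⟨⟨Ψ p, hΨirr p⟩, ?_⟩ : {χ : IrrCharacter G // (charDegree (χ : G → ℂ)).Coprime K.index})) ⟨?_, ?_⟩).symm
  · show (charDegree (Ψ p)).Coprime K.index
    rw [hΨdeg]
    exact hcop.symm.coprime_dvd_left (charDegree_dvd_card p.1.1.2)
  · rintro ⟨θ, l⟩ ⟨θ', l'⟩ h
    have h1 : Ψ (θ, l) = Ψ (θ', l') := congrArg (fun x => (x.1 : G → ℂ)) h
    have h2 : θ = θ' := by
      apply Subtype.ext
      apply Subtype.ext
      funext n
      have h3 := congrFun h1 (n : G)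
      simp only [Ψ] at h3
      have h4 : ((n : G) : G ⧸ K) = 1 := (QuotientGroup.eq_one_iff _).mpr n.2
      rw [h4, map_one, map_one, Units.val_one, one_mul, one_mul, hEn, hEn] at h3
      exact h3
    subst h2
    refine Prod.ext rfl ?_
    ext x
    have hres : IsIrrCharacter K (resFun K (E θ)) := by rw [hEres]; exact θ.1.2
    have hnorm := gallagher_norm K (IsIrrCharacter.isCharacter (hE θ)) hres x
    obtain ⟨n, hn⟩ : ∃ n : K, E θ ((n : G) * x) ≠ 0 := by
      by_contra hcon
      push Not at hcon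
      simp only [hcon, zero_mul, Finset.sum_const_zero] at hnorm
      exact (NeZero.ne (Nat.card K : ℂ)) hnorm.symm
    have h3 := congrFun h1 ((n : G) * x)
    simp only [Ψ] at h3
    have h4 : (((n : G) * x : G) : G ⧸ K) = (x : G ⧸ K) := mk_mul_of_mem n.2
    rw [h4] at h3
    exact mul_right_cancel₀ hn h3
  · rintro ⟨χ, hχ⟩
    obtain ⟨θ₀, hθ₀, hover⟩ := exists_under χ.2 K
    obtain ⟨e, he⟩ := IsCharacter.classInner_irr_eq_nat
      (isCharacter_resFun K (IsIrrCharacter.isCharacter χ.2)) hθ₀
    have h1 := clifford_degree_nat K χ.2 hθ₀ hover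
      (apply_one_eq_charDegree (IsIrrCharacter.isCharacter χ.2))
      (apply_one_eq_charDegree (IsIrrCharacter.isCharacter hθ₀)) he
    have hKI : K ≤ inertia K θ₀ := le_inertia K (IsCharacter.isClassFunction (IsIrrCharacter.isCharacter hθ₀))
    have hidx : (inertia K θ₀).index ∣ K.index := Subgroup.index_dvd_of_le hKI
    have hdvd : (inertia K θ₀).index ∣ charDegree (χ : G → ℂ) := by
      rw [h1]
      exact Dvd.dvd.mul_right (dvd_mul_left _ _) _
    have hone : (inertia K θ₀).index = 1 :=
      Nat.eq_one_of_dvd_coprimes hχ hdvd hidx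
    have htop : inertia K θ₀ = ⊤ := Subgroup.index_eq_one.mp hone
    have hinv : ∀ g : G, conjFun K g θ₀ = θ₀ := by
      intro g
      have : g ∈ inertia K θ₀ := by rw [htop]; trivial
      exact this
    let θ : {θ : IrrCharacter K // ∀ g : G, conjFun K g (θ : K → ℂ) = θ} := ⟨⟨θ₀, hθ₀⟩, hinv⟩
    have hres : IsIrrCharacter K (resFun K (E θ)) := by rw [hEres]; exact hθ₀
    have hover' : classInner (resFun K (χ : G → ℂ)) (resFun K (E θ)) ≠ 0 := by
      rw [hEres]
      exact hover
    obtain ⟨β, hβ, hχβ⟩ := exists_gallagher K (IsIrrCharacter.isCharacter (hE θ)) hres χ.2 hover'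
    -- the degree of `β`
    have hdeg : charDegree (χ : G → ℂ) = charDegree β * charDegree (θ₀ : K → ℂ) := by
      apply charDegree_eq
      rw [hχβ]
      show inflate K β 1 * E θ 1 = _
      have h2 : inflate K β 1 = β 1 := rfl
      rw [h2, hdegE θ, apply_one_eq_charDegree (IsIrrCharacter.isCharacter hβ)]
      show _ * (θ₀ 1) = _
      rw [apply_one_eq_charDegree (IsIrrCharacter.isCharacter hθ₀)]
      push_cast
      ring
    have hβone : charDegree β = 1 := by
      have h2 : charDegree β ∣ Nat.card (G ⧸ K) := charDegree_dvd_card hβ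
      have h3 : (charDegree β).Coprime K.index := hχ.coprime_dvd_left (by rw [hdeg]; exact dvd_mul_right _ _)
      exact Nat.Coprime.eq_one_of_dvd h3 h2
    have hβ1 : β 1 = 1 := by
      rw [apply_one_eq_charDegree (IsIrrCharacter.isCharacter hβ), hβone]
      simp
    obtain ⟨l, hl⟩ := IsCharacter.exists_monoidHom (IsIrrCharacter.isCharacter hβ) hβ1
    refine ⟨(θ, l), Subtype.ext (Subtype.ext ?_)⟩
    show Ψ (θ, l) = χ
    rw [hχβ]
    funext g
    show ((l (g : G ⧸ K) : ℂˣ) : ℂ) * E θ g = inflate K β g * E θ g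
    rw [hl]

end GSide

section Main

variable {G : Type u} [Group G] [Finite G] (K H : Subgroup G) [hK : K.Normal]

/-- Counting for a normal subgroup with a solvable complement. -/
theorem card_coprime_degree_complement (hKH : K ⊔ H = ⊤)
    (hcop : (Nat.card K).Coprime (Nat.card H)) (hsolv : Group.IsSolvable H) :
    Nat.card {χ : IrrCharacter G // (charDegree (χ : G → ℂ)).Coprime (Nat.card H)} =
      Nat.card {η : IrrCharacter (Subgroup.normalizer (H : Set G)) //
        (charDegree (η : Subgroup.normalizer (H : Set G) → ℂ)).Coprime (Nat.card H)} := by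
  classical
  let _ : Fintype G := Fintype.ofFinite _
  let _ : Fintype K := Fintype.ofFinite _
  have hdisj : K ⊓ H = ⊥ := (Subgroup.disjoint_of_coprime_natCard hcop).eq_bot
  -- the quotient is isomorphic to the complement
  let φ : H →* G ⧸ K := (QuotientGroup.mk' K).comp H.subtype
  have hφinj : Function.Injective φ := by
    rw [injective_iff_map_eq_one]
    intro h hh
    have h1 : (h : G) ∈ K := (QuotientGroup.eq_one_iff _).mp hh
    have h2 : (h : G) ∈ K ⊓ H := ⟨h1, h.2⟩
    rw [hdisj] at h2
    exact Subtype.ext h2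
  have hφsurj : Function.Surjective φ := by
    intro q
    obtain ⟨x, rfl⟩ := QuotientGroup.mk_surjective q
    have h1 : x ∈ (K : Set G) * (H : Set G) := by
      rw [← Subgroup.normal_mul, hKH]
      trivial
    obtain ⟨k, hk, h, hh, rfl⟩ := Set.mem_mul.mp h1
    refine ⟨⟨h, hh⟩, ?_⟩
    show ((h : G) : G ⧸ K) = ((k * h : G) : G ⧸ K)
    exact (mk_mul_of_mem hk).symm
  let eφ : H ≃* G ⧸ K := MulEquiv.ofBijective φ ⟨hφinj, hφsurj⟩
  have hsolvq : Group.IsSolvable (G ⧸ K) := Group.isSolvable_of_surjective hφsurj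
  have hidx : K.index = Nat.card H := by
    rw [Subgroup.index, Nat.card_congr eφ.toEquiv.symm]
  have hn : ∀ t ∈ H, t ∈ Subgroup.normalizer (K : Set G) := by
    intro t _
    rw [Subgroup.normalizer_eq_top]
    trivial
  -- the left side
  have hleft := card_coprime_degree_normal K (by rw [hidx]; exact hcop.symm)
  rw [hidx] at hleft
  rw [hleft]
  have hinvEq : Nat.card {θ : IrrCharacter K // ∀ g : G, conjFun K g (θ : K → ℂ) = θ} =
      Nat.card {θ : IrrCharacter K // InvBy H (θ : K → ℂ)} := by
    refine Nat.card_congr (Equiv.subtypeEquivRight fun θ => ⟨fun h => ?_, fun h => ?_⟩)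
    · intro s _ g g' hgg'
      have h1 := congrFun (h s) g'
      simp only [conjFun_apply] at h1
      rw [← h1]
      refine congrArg (θ : K → ℂ) (Subtype.ext ?_)
      show s⁻¹ * (g' : G) * s = g
      rw [hgg']
      group
    · have hle : (⊤ : Subgroup G) ≤ inertia K (θ : K → ℂ) := by
        rw [← hKH]
        refine sup_le (le_inertia K (IsCharacter.isClassFunction (IsIrrCharacter.isCharacter θ.2))) ?_
        intro s hs
        rw [mem_inertia]
        funext n
        simp only [conjFun_apply]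
        exact (h s hs _ n (by simp [mul_assoc])).symm
      intro g
      exact hle (Subgroup.mem_top g)
  rw [hinvEq, card_invariant_irr H _ K rfl hn hcop, ← card_irr_eq_card_conjClasses]
  -- the right side
  set C : Subgroup G := K ⊓ Subgroup.centralizer (H : Set G) with hC
  have hCH : ∀ c ∈ C, ∀ h ∈ H, c * h = h * c := by
    intro c hc h hh
    exact ((Subgroup.mem_centralizer_iff.mp (Subgroup.mem_inf.mp hc).2) h hh).symm
  have hCN : C ≤ Subgroup.normalizer (H : Set G) := by
    intro c hc
    rw [Subgroup.mem_normalizer_iff]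
    intro h
    constructor
    · intro hh
      rw [hCH c hc h hh]
      simpa using hh
    · intro hh
      have h1 := hCH c hc _ hh
      have h2 : c * (c * h * c⁻¹) = c * h := by
        rw [h1]
        group
      have h3 : c * h * c⁻¹ = h := mul_left_cancel h2
      rw [h3] at hh
      exact hh
  have hHN : H ≤ Subgroup.normalizer (H : Set G) := Subgroup.le_normalizer
  let f : C × H →* Subgroup.normalizer (H : Set G) :=
    { toFun := fun p => ⟨(p.1 : G) * p.2, Subgroup.mul_mem _ (hCN p.1.2) (hHN p.2.2)⟩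
      map_one' := by
        apply Subtype.ext
        simp
      map_mul' := by
        rintro ⟨a, b⟩ ⟨c, d⟩
        apply Subtype.ext
        show (a : G) * c * ((b : G) * d) = (a : G) * b * ((c : G) * d)
        have := hCH c c.2 b b.2
        calc (a : G) * c * ((b : G) * d) = a * ((c : G) * b) * d := by group
          _ = a * ((b : G) * c) * d := by rw [this]
          _ = _ := by group }
  have hfinj : Function.Injective f := by
    rw [injective_iff_map_eq_one]
    rintro ⟨c, h⟩ hp
    have h1 : (c : G) * h = 1 := congrArg Subtype.val hp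
    have h2 : (c : G) = (h : G)⁻¹ := eq_inv_of_mul_eq_one_left h1
    have h3 : (c : G) ∈ K ⊓ H := ⟨(Subgroup.mem_inf.mp c.2).1, by rw [h2]; exact H.inv_mem h.2⟩
    rw [hdisj] at h3
    have h4 : (c : G) = 1 := h3
    have h5 : (h : G) = 1 := by rw [h4, one_mul] at h1; exact h1
    exact Prod.ext (Subtype.ext h4) (Subtype.ext h5)
  have hfsurj : Function.Surjective f := by
    rintro ⟨n, hn'⟩
    have h1 : n ∈ (K : Set G) * (H : Set G) := by
      rw [← Subgroup.normal_mul, hKH]
      trivial
    obtain ⟨k, hk, h, hh, rfl⟩ := Set.mem_mul.mp h1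
    have hkN : k ∈ Subgroup.normalizer (H : Set G) := by
      have := Subgroup.mul_mem _ hn' (Subgroup.inv_mem _ (hHN hh))
      simpa using this
    have hkC : k ∈ C := by
      refine Subgroup.mem_inf.mpr ⟨hk, Subgroup.mem_centralizer_iff.mpr fun x hx => ?_⟩
      have h2 : k * x * k⁻¹ ∈ H := (Subgroup.mem_normalizer_iff.mp hkN x).mp hx
      have h3 : k * x * k⁻¹ * x⁻¹ ∈ H := H.mul_mem h2 (H.inv_mem hx)
      have h4 : k * x * k⁻¹ * x⁻¹ ∈ K := by
        have h5 : x * k⁻¹ * x⁻¹ ∈ K := hK.conj_mem _ (K.inv_mem hk) x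
        have : k * x * k⁻¹ * x⁻¹ = k * (x * k⁻¹ * x⁻¹) := by group
        rw [this]
        exact K.mul_mem hk h5
      have h5 : k * x * k⁻¹ * x⁻¹ ∈ K ⊓ H := ⟨h4, h3⟩
      rw [hdisj] at h5
      have h6 : k * x * k⁻¹ * x⁻¹ = 1 := h5
      have h7 : k * x = x * k := by
        have : k * x = (k * x * k⁻¹ * x⁻¹) * x * k := by group
        rw [this, h6, one_mul]
      exact h7.symm
    exact ⟨(⟨k, hkC⟩, ⟨h, hh⟩), rfl⟩
  let e : C × H ≃* Subgroup.normalizer (H : Set G) := MulEquiv.ofBijective f ⟨hfinj, hfsurj⟩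
  have hcopC : Nat.Coprime (Nat.card C) (Nat.card H) :=
    hcop.coprime_dvd_left (Subgroup.card_dvd_of_le inf_le_left)
  have hright : Nat.card {η : IrrCharacter (Subgroup.normalizer (H : Set G)) //
        (charDegree (η : Subgroup.normalizer (H : Set G) → ℂ)).Coprime (Nat.card H)} =
      Nat.card {η : IrrCharacter (C × H) // (charDegree (η : C × H → ℂ)).Coprime (Nat.card H)} := by
    refine Nat.card_eq_of_bijective (fun η =>
      (⟨⟨(η.1 : Subgroup.normalizer (H : Set G) → ℂ) ∘ e, isIrrCharacter_comp_mulEquiv' e η.1.2⟩, ?_⟩ :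
        {η : IrrCharacter (C × H) // (charDegree (η : C × H → ℂ)).Coprime (Nat.card H)})) ⟨?_, ?_⟩
    · show (charDegree ((η.1 : Subgroup.normalizer (H : Set G) → ℂ) ∘ e)).Coprime _
      have h1 : charDegree ((η.1 : Subgroup.normalizer (H : Set G) → ℂ) ∘ e) =
          charDegree (η.1 : Subgroup.normalizer (H : Set G) → ℂ) := by
        simp [charDegree]
      rw [h1]
      exact η.2
    · intro η η' h
      apply Subtype.ext
      apply Subtype.ext
      funext n
      have h1 := congrFun (congrArg (fun x => (x.1 : C × H → ℂ)) h) (e.symm n)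
      simpa using h1
    · rintro ⟨η, hη⟩
      refine ⟨⟨⟨(η : C × H → ℂ) ∘ e.symm, isIrrCharacter_comp_mulEquiv' e.symm η.2⟩, ?_⟩, ?_⟩
      · have h1 : charDegree ((η : C × H → ℂ) ∘ e.symm) = charDegree (η : C × H → ℂ) := by
          simp [charDegree]
        show (charDegree ((η : C × H → ℂ) ∘ e.symm)).Coprime _
        rw [h1]
        exact hη
      · apply Subtype.ext
        apply Subtype.ext
        funext n
        simp
  rw [hright, card_coprime_degree_prod hcopC]
  congr 1
  -- homomorphisms from isomorphic groups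
  refine Nat.card_congr
    { toFun := fun l => l.comp eφ.toMonoidHom
      invFun := fun l => l.comp eφ.symm.toMonoidHom
      left_inv := fun l => by
        ext x
        simp
      right_inv := fun l => by
        ext x
        simp }

end Main

end Cfsg.Agent.Lib.H8Group
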