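import Mathlib
import Cfsg.Agent.Lib.Blocks.Third
import Cfsg.Agent.Lib.Transfer.Frobenius
import Cfsg.Agent.Lib.H8Group.GlaubP
import Cfsg.Agent.Lib.H8Group.CoprimeDeg
import Cfsg.Prelude.Def_BrauerPairs
import Cfsg.Prelude.Def_BlockRank

set_option autoImplicit false

/-!
Basic facts about principal blocks and Brauer pairs.
-/

namespace Cfsg.Agent.Lib.H8Group

open Cfsg Module Cfsg.Agent.Lib.Char Cfsg.Agent.Lib.Blocks
open scoped ComplexConjugate

universe u

section Transport

variable {G H : Type u} [Group G] [Group H] (e : H ≃* G)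

theorem centralChar_comp_mulEquiv (χ : G → ℂ) (h : H) :
    centralChar (χ ∘ e) h = centralChar χ (e h) := by
  simp only [centralChar, Function.comp_apply, map_one]
  congr 2
  have h1 : Subgroup.centralizer ({e h} : Set G) =
      (Subgroup.centralizer ({h} : Set H)).map e.toMonoidHom := by
    ext x
    simp only [Subgroup.mem_map, Subgroup.mem_centralizer_iff, Set.mem_singleton_iff, forall_eq]
    constructor
    · intro hx
      refine ⟨e.symm x, ?_, by simp⟩
      apply e.injective
      simp [hx]
    · rintro ⟨y, hy, rfl⟩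
      show e h * e y = e y * e h
      rw [← map_mul, ← map_mul, hy]
  rw [h1]
  have h2 : ((Subgroup.centralizer ({h} : Set H)).map e.toMonoidHom).index =
      (Subgroup.centralizer ({h} : Set H)).index := Subgroup.index_map_equiv _ e
  rw [h2]

theorem sameBlock_comp_mulEquiv {M : Ideal AlgInt} {χ ψ : G → ℂ} (h : SameBlock M χ ψ) :
    SameBlock M (χ ∘ e) (ψ ∘ e) := by
  intro g
  rw [centralChar_comp_mulEquiv, centralChar_comp_mulEquiv]
  exact h (e g)

end Transport

section Principal

variable {G : Type u} [Group G] [Fintype G] {M : Ideal AlgInt} {p : ℕ} [hp : Fact p.Prime]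

omit hp in
theorem one_mem_principalBlock [M.IsPrime] : oneIrr G ∈ principalBlock M G :=
  SameBlock.refl' _

theorem isPBlock_principalBlock (M : Ideal AlgInt) (G : Type u) [Group G] :
    IsPBlock M (principalBlock M G) :=
  ⟨⟨fun _ => 1, isIrrCharacter_one⟩, rfl⟩

variable {D : Subgroup G}

local notation "𝐂" => Subgroup.centralizer ((D : Subgroup G) : Set G)

/-- The Brauer map sends the idempotent of the principal block to that of the principal block. -/
theorem isBrauerPairOf_principal (hM : IsPModular p M) (hD : IsPGroup p D) :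
    IsBrauerPairOf p M (principalBlock M G) D (principalBlock M 𝐂) := by
  classical
  have := isPrime_of_modular hM
  refine ⟨⟨hD, isPBlock_principalBlock _ _⟩, isPBlock_principalBlock _ _, fun ξ hξ => ?_⟩
  let _ : Fintype 𝐂 := Fintype.ofFinite _
  have hB₀block : IsPBlock M (principalBlock M G) := isPBlock_principalBlock _ _
  have hacl : IsClassFunction G (blockCoeff (principalBlock M G)) := blockCoeff_isClassFunction _
  have haloc : ∀ x, MemLocalRing M (blockCoeff (principalBlock M G) x) :=
    blockCoeff_memLocalRing hB₀block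
  have h1 : brauerOmega D (blockCoeff (principalBlock M G)) (ξ : 𝐂 → ℂ) =
      spec (Blocks.resFun 𝐂 (blockCoeff (principalBlock M G))) ξ := by
    simp only [brauerOmega, spec]
    rw [finsum_eq_sum_of_fintype, Finset.sum_div]
    refine Finset.sum_congr rfl fun x _ => ?_
    rfl
  have hc : spec (Blocks.resFun 𝐂 (blockCoeff (principalBlock M G))) ∈ zS M 𝐂 :=
    spec_mem_zS (resFun_isClassFunction 𝐂 hacl) (fun x => haloc x)
  have h2 := zS_apply_congr (isPBlock_principalBlock M 𝐂) hc hξ (one_mem_principalBlock (M := M))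
  have h3 : spec (Blocks.resFun 𝐂 (blockCoeff (principalBlock M G))) (oneIrr 𝐂) =
      ∑ c : 𝐂, blockCoeff (principalBlock M G) c := by
    simp [spec, oneIrr, Blocks.resFun]
  have h4 : spec (blockCoeff (principalBlock M G)) (oneIrr G) = 1 := by
    rw [spec_blockCoeff, indic_apply_of_mem one_mem_principalBlock]
  have h5 : spec (blockCoeff (principalBlock M G)) (oneIrr G) =
      ∑ x, blockCoeff (principalBlock M G) x := by
    simp [spec, oneIrr]
  obtain ⟨r, hr, hsum⟩ := exists_sum_eq_sum_centralizer hM hD (blockCoeff (principalBlock M G)) haloc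
    (fun s x => hacl x s)
  have h6 : ∑ x ∈ Finset.univ.filter (fun x => x ∈ 𝐂), blockCoeff (principalBlock M G) x =
      ∑ c : 𝐂, blockCoeff (principalBlock M G) c := by
    rw [Finset.sum_subtype (p := fun x => x ∈ 𝐂) _ (by simp)]
  have h7 : ∑ c : 𝐂, blockCoeff (principalBlock M G) c - 1 = - ((p : ℂ) * r) := by
    have : (1 : ℂ) = ∑ c : 𝐂, blockCoeff (principalBlock M G) c + (p : ℂ) * r := by
      rw [← h4, h5, hsum, h6]
    rw [this]
    ring
  have h8 : MemLocalIdeal M (∑ c : 𝐂, blockCoeff (principalBlock M G) c - 1) := by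
    rw [h7]
    exact MemLocalIdeal.neg (MemLocalIdeal.mul_right (p_memLocalIdeal hM) hr)
  rw [h1]
  rw [h3] at h2
  exact MemLocalIdeal.trans h2 h8

omit [Fintype G] hp in
/-- An element normalizing `D` normalizes its centralizer. -/
theorem conj_mem_centralizer {y : G} (hy : y ∈ Subgroup.normalizer (D : Set G)) {c : G} (hc : c ∈ 𝐂) :
    y * c * y⁻¹ ∈ 𝐂 := by
  rw [Subgroup.mem_centralizer_iff] at hc ⊢
  intro d hd
  have hd' : y⁻¹ * d * y ∈ D := by
    have h1 := (Subgroup.mem_normalizer_iff.mp (Subgroup.inv_mem _ hy) d).mp hd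
    simpa using h1
  have h1 := hc (y⁻¹ * d * y) hd'
  calc d * (y * c * y⁻¹) = y * ((y⁻¹ * d * y) * c) * y⁻¹ := by group
    _ = y * (c * (y⁻¹ * d * y)) * y⁻¹ := by rw [h1]
    _ = y * c * y⁻¹ * d := by group

omit [Fintype G] hp in
theorem mem_normalizer_centralizer {y : G} (hy : y ∈ Subgroup.normalizer (D : Set G)) :
    y ∈ Subgroup.normalizer ((𝐂 : Subgroup G) : Set G) := by
  rw [Subgroup.mem_normalizer_iff]
  intro c
  refine ⟨fun h => conj_mem_centralizer hy h, fun h => ?_⟩
  have := conj_mem_centralizer (Subgroup.inv_mem _ hy) h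
  simpa [mul_assoc] using this

omit hp in
/-- Conjugation by an element normalizing `D` stabilizes the principal block of the centralizer. -/
theorem stabilizesBlock_principal {x : G} (hx : x ∈ Subgroup.normalizer (D : Set G)) :
    StabilizesBlock 𝐂 (principalBlock M 𝐂) x := by
  classical
  have hxN := mem_normalizer_centralizer hx
  refine ⟨hxN, fun χ hχ => ?_⟩
  let α : 𝐂 ≃* 𝐂 := conjOn 𝐂 x⁻¹ (Subgroup.inv_mem _ hxN)
  refine ⟨⟨(χ : 𝐂 → ℂ) ∘ α, isIrrCharacter_comp_mulEquiv' α χ.2⟩, ?_, ?_⟩
  · have h1 : SameBlock M (fun _ : 𝐂 => (1 : ℂ)) (χ : 𝐂 → ℂ) := hχ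
    have h2 := sameBlock_comp_mulEquiv α h1
    exact h2
  · intro k k' hkk'
    refine congrArg (χ : 𝐂 → ℂ) (Subtype.ext ?_)
    show x⁻¹ * k' * x⁻¹⁻¹ = k
    rw [hkk']
    group

/-- A block having a normal complement: `G` has a normal `p`-complement iff its principal block is
nilpotent. -/
theorem hasNormalPComplement_iff_nilpotent (hM : IsPModular p M) :
    HasNormalPComplement p G ↔ IsNilpotentBlock p M (principalBlock M G) := by
  constructor
  · intro h
    have hs := Cfsg.Agent.Lib.Transfer.hasNormalPComplement_iff_stable.mp h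
    refine ⟨isPBlock_principalBlock M G, fun Q e hQe x hx _ hreg => hs Q hQe.1.1 x hx ?_⟩
    exact ((Nat.Prime.coprime_iff_not_dvd hp.out).mpr hreg).symm
  · intro h
    apply Cfsg.Agent.Lib.Transfer.hasNormalPComplement_of_stable
    intro D hD g hg hc
    refine h.2 D _ (isBrauerPairOf_principal hM hD) g hg (stabilizesBlock_principal hg) ?_
    exact (Nat.Prime.coprime_iff_not_dvd hp.out).mp hc.symm

omit [Fintype G] in
theorem pRegularPart_one_ne_zero : pRegularPart p (fun _ : G => (1 : ℂ)) ≠ 0 := by
  intro h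
  have h1 := congrFun h 1
  have hreg : IsPRegular p (1 : G) := by
    show ¬ p ∣ orderOf (1 : G)
    rw [orderOf_one]
    exact hp.out.one_lt.ne' ∘ Nat.dvd_one.mp
  simp [pRegularPart, hreg] at h1

/-- A nilpotent principal block has `p`-regular rank one. -/
theorem blockRank_principal_of_complement (hM : IsPModular p M) (h : HasNormalPComplement p G) :
    blockRank p (principalBlock M G) = 1 := by
  classical
  have := isPrime_of_modular hM
  obtain ⟨P, N, hNn, hc⟩ := h
  have hcard : Nat.card N * Nat.card (P : Subgroup G) = Nat.card G := hc.card_mul_card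
  obtain ⟨k, hk⟩ := IsPGroup.iff_card.mp P.2
  have hidx : N.index = p ^ k := by
    rw [← hk]
    exact hc.symm.index_eq_card
  have hN : ¬ p ∣ Nat.card N := by
    intro hdvd
    have h2 : (P : Subgroup G).index = Nat.card N := hc.index_eq_card
    exact P.not_dvd_index (h2 ▸ hdvd)
  have hB := principalBlock_eq_of_normal_complement hM hN hidx
  set v : G → ℂ := pRegularPart p (fun _ : G => (1 : ℂ)) with hv
  have hspan : Submodule.span ℂ ((fun χ : IrrCharacter G => pRegularPart p (χ : G → ℂ)) '' principalBlock M G) =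
      Submodule.span ℂ {v} := by
    apply le_antisymm
    · rw [Submodule.span_le]
      rintro _ ⟨χ, hχ, rfl⟩
      rw [hB] at hχ
      have h2 : pRegularPart p (χ : G → ℂ) = ((χ : G → ℂ) 1) • v := by
        funext g
        simp only [pRegularPart, hv, Pi.smul_apply, smul_eq_mul]
        split_ifs with hg
        · rw [hχ g (mem_of_regular_of_index hidx hg), mul_one]
        · simp
      show pRegularPart p (χ : G → ℂ) ∈ _
      rw [h2]
      exact Submodule.smul_mem _ _ (Submodule.mem_span_singleton_self v)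
    · rw [Submodule.span_le, Set.singleton_subset_iff]
      apply Submodule.subset_span
      exact ⟨oneIrr G, one_mem_principalBlock, rfl⟩
  rw [blockRank, hspan]
  exact finrank_span_singleton pRegularPart_one_ne_zero

/-- If the principal block has `p`-regular rank one then it is nilpotent. -/
theorem nilpotent_of_blockRank_principal (hM : IsPModular p M)
    (h : blockRank p (principalBlock M G) = 1) : IsNilpotentBlock p M (principalBlock M G) := by
  classical
  have := isPrime_of_modular hM
  set v : G → ℂ := pRegularPart p (fun _ : G => (1 : ℂ)) with hv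
  set S := Submodule.span ℂ ((fun χ : IrrCharacter G => pRegularPart p (χ : G → ℂ)) '' principalBlock M G) with hS
  have hvS : v ∈ S := Submodule.subset_span ⟨oneIrr G, one_mem_principalBlock, rfl⟩
  have hv0 : (⟨v, hvS⟩ : S) ≠ 0 := by
    intro h0
    exact pRegularPart_one_ne_zero (congrArg Subtype.val h0)
  have hall := (finrank_eq_one_iff_of_nonzero' (⟨v, hvS⟩ : S) hv0).mp h
  have hreg1 : IsPRegular p (1 : G) := by
    show ¬ p ∣ orderOf (1 : G)
    rw [orderOf_one]
    exact hp.out.one_lt.ne' ∘ Nat.dvd_one.mp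
  have hval : ∀ χ ∈ principalBlock M G, ∀ g : G, ¬ p ∣ orderOf g → (χ : G → ℂ) g = (χ : G → ℂ) 1 := by
    intro χ hχ g hg
    have hmem : pRegularPart p (χ : G → ℂ) ∈ S := Submodule.subset_span ⟨χ, hχ, rfl⟩
    obtain ⟨c, hc⟩ := hall ⟨_, hmem⟩
    have h1 : c • v = pRegularPart p (χ : G → ℂ) := congrArg Subtype.val hc
    have h2 := congrFun h1 1
    have h3 := congrFun h1 g
    have hg' : IsPRegular p g := hg
    simp only [pRegularPart, hv, Pi.smul_apply, smul_eq_mul, if_pos hreg1, if_pos hg', mul_one] at h2 h3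
    rw [← h3, h2]
  obtain ⟨K, hKn, hKset, hKp, -, -⟩ := exists_blockKer hM (isPBlock_principalBlock M G)
    (one_mem_principalBlock (M := M) (G := G))
  have hKmem : ∀ g : G, ¬ p ∣ orderOf g → g ∈ K := by
    intro g hg
    have : g ∈ (K : Set G) := by
      rw [hKset]
      intro χ hχ
      exact hval χ hχ g hg
    exact this
  refine ⟨isPBlock_principalBlock M G, fun Q e hQe x hx _ hreg => ?_⟩
  have hxK := hKmem x hreg
  rw [Subgroup.mem_centralizer_iff]
  intro q hq
  have h1 : x * q * x⁻¹ * q⁻¹ ∈ Q :=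
    Q.mul_mem ((Subgroup.mem_normalizer_iff.mp hx q).mp hq) (Q.inv_mem hq)
  have h2 : x * q * x⁻¹ * q⁻¹ ∈ K := by
    have h3 := hKn.conj_mem x⁻¹ (K.inv_mem hxK) q
    have h4 : x * q * x⁻¹ * q⁻¹ = x * (q * x⁻¹ * q⁻¹) := by group
    rw [h4]
    exact K.mul_mem hxK h3
  have h5 : x * q * x⁻¹ * q⁻¹ = 1 := by
    set t := x * q * x⁻¹ * q⁻¹ with ht
    have h6 : orderOf t ∣ Nat.card K := by
      have := orderOf_dvd_natCard (⟨t, h2⟩ : K)
      rwa [Subgroup.orderOf_mk] at this
    obtain ⟨n, hn⟩ := hQe.1.1 ⟨t, h1⟩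
    have h7 : t ^ (p ^ n) = 1 := congrArg Subtype.val hn
    obtain ⟨m, -, hm⟩ := (Nat.dvd_prime_pow hp.out).mp (orderOf_dvd_of_pow_eq_one h7)
    rcases Nat.eq_zero_or_pos m with rfl | hm0
    · exact orderOf_eq_one_iff.mp (by simpa using hm)
    · exfalso
      apply hKp
      rw [hm] at h6
      exact (dvd_pow_self p hm0.ne').trans h6
  have h8 : x * q * x⁻¹ = q := by
    rw [mul_inv_eq_one] at h5
    exact h5
  rw [mul_inv_eq_iff_eq_mul] at h8
  exact h8.symm

/-- The defect groups of the principal block are the Sylow subgroups. -/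
theorem isDefectGroup_principal_iff (hM : IsPModular p M) (D : Subgroup G) :
    IsDefectGroup p M (principalBlock M G) D ↔ ∃ S : Sylow p G, (S : Subgroup G) = D := by
  classical
  have := isPrime_of_modular hM
  have hdef : blockDefect p (principalBlock M G) = (Nat.card G).factorization p := by
    rw [blockDefect]
    have h0 : sInf ((fun χ : IrrCharacter G => (charDegree (χ : G → ℂ)).factorization p) ''
        principalBlock M G) = 0 := by
      apply Nat.sInf_eq_zero.mpr
      left
      refine ⟨oneIrr G, one_mem_principalBlock, ?_⟩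
      simp [charDegree, oneIrr]
    rw [h0, Nat.sub_zero]
  have hforward : ∀ D : Subgroup G, IsDefectGroup p M (principalBlock M G) D →
      ∃ S : Sylow p G, (S : Subgroup G) = D := by
    intro D hD
    have h1 := card_defectGroup hM (isPBlock_principalBlock M G) hD
    rw [hdef] at h1
    exact ⟨Sylow.ofCard D h1, rfl⟩
  constructor
  · exact hforward D
  · rintro ⟨S, rfl⟩
    obtain ⟨D₀, hD₀⟩ := IsPBlock.exists_isDefectGroup hM (isPBlock_principalBlock M G)
    obtain ⟨S₀, hS₀⟩ := hforward D₀ hD₀
    obtain ⟨g, hg⟩ := MulAction.exists_smul_eq G S₀ S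
    have h1 := IsDefectGroup.conj hD₀ g
    have h2 : (S : Subgroup G) = conjS g D₀ := by
      rw [← hg, ← hS₀]
      rfl
    rw [h2]
    exact h1

end Principal

end Cfsg.Agent.Lib.H8Group
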