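import Cfsg.Agent.Lib.H8Group.NormalBlocks
import Cfsg.Agent.Lib.H8Group.BlockBasics

/-!
# Transport of blocks along isomorphisms, and the block of a stabilizer
-/

set_option autoImplicit false
set_option linter.unusedSectionVars false
set_option linter.style.haveILetI false

namespace Cfsg.Agent.Lib.H8Group

open Cfsg Cfsg.Agent.Lib.Char Cfsg.Agent.Lib.Blocks
open scoped ComplexConjugate

universe u

section Transport

variable {H G : Type u} [Group H] [Group G] [Fintype H] [Fintype G] (e : H ≃* G) {M : Ideal AlgInt}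

/-- Pull back of a character along an isomorphism. -/
def irrComp (χ : IrrCharacter G) : IrrCharacter H := ⟨(χ : G → ℂ) ∘ e, isIrrCharacter_comp_mulEquiv' e χ.2⟩

@[simp] theorem irrComp_coe (χ : IrrCharacter G) : ((irrComp e χ : IrrCharacter H) : H → ℂ) = (χ : G → ℂ) ∘ e := rfl

/-- The bijection of the irreducible characters. -/
def irrCompEquiv : IrrCharacter G ≃ IrrCharacter H where
  toFun := irrComp e
  invFun := irrComp e.symm
  left_inv χ := by
    apply Subtype.ext
    funext g
    simp [irrComp]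
  right_inv χ := by
    apply Subtype.ext
    funext g
    simp [irrComp]

/-- The pull-back of a set of characters. -/
def blockPull (B : Set (IrrCharacter G)) : Set (IrrCharacter H) := {ξ | irrComp e.symm ξ ∈ B}

theorem mem_blockPull {B : Set (IrrCharacter G)} {χ : IrrCharacter G} : irrComp e χ ∈ blockPull e B ↔ χ ∈ B := by
  have : irrComp e.symm (irrComp e χ) = χ := (irrCompEquiv e).left_inv χ
  simp only [blockPull, Set.mem_ofPred_eq, this]

theorem blockPull_blockOf [M.IsPrime] (χ : IrrCharacter G) :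
    blockPull e (blockOf M (χ : G → ℂ)) = blockOf M ((irrComp e χ : IrrCharacter H) : H → ℂ) := by
  ext ξ
  constructor
  · intro h
    have h1 : SameBlock M (χ : G → ℂ) ((irrComp e.symm ξ : IrrCharacter G) : G → ℂ) := h
    have h2 := sameBlock_comp_mulEquiv e h1
    have h3 : ((irrComp e.symm ξ : IrrCharacter G) : G → ℂ) ∘ e = (ξ : H → ℂ) := by
      funext g
      simp [irrComp]
    rw [h3] at h2
    exact h2
  · intro h
    have h1 : SameBlock M ((irrComp e χ : IrrCharacter H) : H → ℂ) (ξ : H → ℂ) := h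
    have h2 := sameBlock_comp_mulEquiv e.symm h1
    have h3 : ((irrComp e χ : IrrCharacter H) : H → ℂ) ∘ e.symm = (χ : G → ℂ) := by
      funext g
      simp [irrComp]
    rw [h3] at h2
    exact h2

theorem isPBlock_blockPull [M.IsPrime] {B : Set (IrrCharacter G)} (hB : IsPBlock M B) :
    IsPBlock M (blockPull e B) := by
  obtain ⟨χ, rfl⟩ := hB
  exact ⟨irrComp e χ, blockPull_blockOf e χ⟩

theorem coef_blockPull (B : Set (IrrCharacter G)) (h : H) :
    coef (indic (blockPull e B)) h = coef (indic B) (e h) := by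
  classical
  simp only [coef]
  rw [Nat.card_congr e.toEquiv]
  congr 1
  rw [← Equiv.sum_comp (irrCompEquiv e)]
  refine Finset.sum_congr rfl fun χ _ => ?_
  have h1 : indic (blockPull e B) (irrCompEquiv e χ) = indic B χ := by
    show indic (blockPull e B) (irrComp e χ) = indic B χ
    by_cases hχ : χ ∈ B
    · rw [indic_apply_of_mem hχ, indic_apply_of_mem ((mem_blockPull e).mpr hχ)]
    · rw [indic_apply_of_notMem hχ, indic_apply_of_notMem (fun h => hχ ((mem_blockPull e).mp h))]
  rw [h1]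
  show _ * (((χ : G → ℂ) ∘ e) 1 * conj (((χ : G → ℂ) ∘ e) h)) = _
  simp

end Transport

section Conj

variable {G : Type u} [Group G] {Q : Subgroup G}

/-- Elements of the centralizer stabilize every set of irreducible characters. -/
theorem stabilizes_of_mem_centralizer [Finite G] (K : Subgroup G) (e : Set (IrrCharacter K)) {c : G} (hc : c ∈ K) :
    StabilizesBlock K e c := by
  letI : Fintype K := Fintype.ofFinite _
  refine ⟨Subgroup.le_normalizer hc, fun χ hχ => ⟨χ, hχ, fun k k' hk => ?_⟩⟩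
  have h1 : k' = ⟨c, hc⟩ * k * (⟨c, hc⟩ : K)⁻¹ := Subtype.ext hk
  rw [h1]
  exact irr_isClassFunction χ k ⟨c, hc⟩

/-- Elements of `Q` act trivially on `C_G(Q)`. -/
theorem stabilizes_of_mem_self [Finite G] (e : Set (IrrCharacter (Subgroup.centralizer (Q : Set G)))) {q : G} (hq : q ∈ Q) :
    StabilizesBlock (Subgroup.centralizer (Q : Set G)) e q := by
  have hcomm : ∀ k ∈ Subgroup.centralizer (Q : Set G), q * k * q⁻¹ = k := by
    intro k hk
    have : q * k = k * q := Subgroup.mem_centralizer_iff.mp hk q hq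
    rw [this]
    group
  refine ⟨?_, fun χ hχ => ⟨χ, hχ, fun k k' hk => ?_⟩⟩
  · rw [Subgroup.mem_normalizer_iff]
    intro y
    constructor
    · intro hy
      show q * y * q⁻¹ ∈ _
      rwa [hcomm y hy]
    · intro hy
      have hy' : q * y * q⁻¹ ∈ Subgroup.centralizer (Q : Set G) := hy
      have h1 := hcomm _ hy'
      have h2 : y = q * y * q⁻¹ := by
        have h3 : q⁻¹ * (q * (q * y * q⁻¹) * q⁻¹) * q = q⁻¹ * (q * y * q⁻¹) * q := by rw [h1]
        have h4 : q⁻¹ * (q * (q * y * q⁻¹) * q⁻¹) * q = q * y * q⁻¹ := by group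
        have h5 : q⁻¹ * (q * y * q⁻¹) * q = y := by group
        rw [h4, h5] at h3
        exact h3.symm
      rwa [h2]
  · have : k' = k := Subtype.ext (by rw [hk, hcomm k k.2])
    rw [this]

end Conj

section Stab

variable {G : Type u} [Group G] [Fintype G] {p : ℕ} [hp : Fact p.Prime] {M : Ideal AlgInt}

/-- **The block of the stabilizer.** -/
theorem exists_block_stabilizer (hM : IsPModular p M) {Q T : Subgroup G} (hQ : IsPGroup p Q) (hQT : Q ≤ T)
    (hKT : Subgroup.centralizer (Q : Set G) ≤ T) (hTN : T ≤ Subgroup.normalizer (Q : Set G))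
    [Fintype (Subgroup.centralizer (Q : Set G))] [Fintype T]
    {f : Set (IrrCharacter (Subgroup.centralizer (Q : Set G)))} (hf : IsPBlock M f)
    (hst : ∀ t ∈ T, StabilizesBlock (Subgroup.centralizer (Q : Set G)) f t) :
    ∃ F : Set (IrrCharacter T), IsPBlock M F ∧ ∀ t : T,
      blockCoeff F t = subgroupBlockCoeff (Subgroup.centralizer (Q : Set G)) f (t : G) := by
  classical
  have := isPrime_of_modular hM
  set N' : Subgroup T := (Subgroup.centralizer (Q : Set G)).subgroupOf T with hN'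
  letI : Fintype N' := Fintype.ofFinite _
  haveI hN'n : N'.Normal := by
    refine ⟨fun x hx t => ?_⟩
    rw [hN', Subgroup.mem_subgroupOf] at hx ⊢
    exact conj_mem_centralizer (hTN t.2) hx
  let e : N' ≃* (Subgroup.centralizer (Q : Set G)) := Subgroup.subgroupOfEquivOfLe hKT
  set f' : Set (IrrCharacter N') := blockPull e f with hf'
  have hf'b : IsPBlock M f' := isPBlock_blockPull e hf
  -- the invariance
  have hinv : ∀ (t : T) θ, θ ∈ f' → conjIrr N' t θ ∈ f' := by
    intro t θ hθ
    obtain ⟨χ', hχ', hconj⟩ := (hst t t.2).2 _ hθ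
    have h1 : irrComp e.symm (conjIrr N' t θ) = χ' := by
      apply Subtype.ext
      funext k
      have h2 : (t : G)⁻¹ * (k : G) * t ∈ Subgroup.centralizer (Q : Set G) := by
        have := conj_mem_centralizer (y := (t : G)⁻¹) (T.inv_mem t.2 |> hTN) k.2
        simpa using this
      have h3 := hconj ⟨(t : G)⁻¹ * (k : G) * t, h2⟩ k (by simp; group)
      rw [h3]
      rfl
    show irrComp e.symm (conjIrr N' t θ) ∈ f
    rwa [h1]
  have hsat : gSat (G := T) N' f' = f' := by
    ext θ
    constructor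
    · rintro ⟨g, hg⟩
      have h1 := hinv g⁻¹ _ hg
      rwa [← conjIrr_mul, inv_mul_cancel, conjIrr_one] at h1
    · exact fun h => self_subset_gSat N' f' h
  -- the off-ideal property
  have hoff : OffIdeal M N' := by
    intro g hg χ
    have hQ' : IsPGroup p (Q.subgroupOf T) := isPGroup_subgroupOf hQ T
    haveI hQn : (Q.subgroupOf T).Normal := by
      refine ⟨fun x hx t => ?_⟩
      rw [Subgroup.mem_subgroupOf] at hx ⊢
      exact (Subgroup.mem_normalizer_iff.mp (hTN t.2) x).mp hx
    refine centralChar_memLocalIdeal_of_normal hM (Q.subgroupOf T) hQ' g ?_ χ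
    intro x hx hxC
    apply hg
    have hxN : x ∈ N' := by
      rw [hN', Subgroup.mem_subgroupOf, Subgroup.mem_centralizer_iff]
      intro q hq
      have h1 := Subgroup.mem_centralizer_iff.mp hxC ⟨q, hQT hq⟩ (Subgroup.mem_subgroupOf.mpr hq)
      exact congrArg Subtype.val h1
    obtain ⟨c, hc⟩ := isConj_iff.mp hx.symm
    have := hN'n.conj_mem _ hxN c
    rwa [hc] at this
  obtain ⟨θ₀, hθ₀⟩ := IsPBlock.nonempty hf'b
  obtain ⟨χ₀, hcon⟩ := exists_over_irr (G := T) N' θ₀
  refine ⟨blockOf M (χ₀ : T → ℂ), isPBlock_blockOf χ₀, fun t => ?_⟩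
  rw [blockCoeff_eq_coef, coef_block_eq_covFun N' hoff (isPBlock_blockOf χ₀) hf'b (self_mem_blockOf χ₀) hθ₀ hcon,
    hsat]
  by_cases ht : t ∈ N'
  · rw [covFun, extendByZero_of_mem N' _ ht, coef_blockPull, subgroupBlockCoeff, dif_pos (by exact ht),
      blockCoeff_eq_coef]
    rfl
  · rw [covFun, extendByZero_of_notMem N' _ ht, subgroupBlockCoeff, dif_neg (by exact ht)]

end Stab

section Sum

variable {G : Type u} [Group G] [Fintype G] (N : Subgroup G) [hN : N.Normal] [Fintype N]
  {p : ℕ} [hp : Fact p.Prime] {M : Ideal AlgInt}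

/-- Stabilization, for a normal subgroup. -/
theorem stabilizes_iff {c : Set (IrrCharacter N)} {x : G} :
    StabilizesBlock N c x ↔ ∀ θ ∈ c, conjIrr N x θ ∈ c := by
  constructor
  · intro h θ hθ
    exact conjIrr_mem_of_stabilizes N h hθ
  · intro h
    refine ⟨by rw [Subgroup.normalizer_eq_top_iff.mpr hN]; exact Subgroup.mem_top _, fun θ hθ =>
      ⟨conjIrr N x θ, h θ hθ, fun k k' hk => ?_⟩⟩
    simp only [conjIrr_coe, Cfsg.Agent.Lib.Char.conjFun_apply]
    refine congrArg _ (Subtype.ext ?_)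
    simp only [hk]
    group

/-- A conjugation moving a member of a block into the block stabilizes it. -/
theorem conjIrr_mem_of_mem [M.IsPrime] {b : Set (IrrCharacter N)} (hb : IsPBlock M b) {t : G} {θ₀ : IrrCharacter N}
    (hθ₀ : θ₀ ∈ b) (ht : conjIrr N t θ₀ ∈ b) {θ : IrrCharacter N} (hθ : θ ∈ b) : conjIrr N t θ ∈ b := by
  have h1 := sameBlock_conjIrr N t (sameBlock_of_mem hb hθ₀ hθ)
  rw [blockOf_eq_of_mem hb ht]
  exact h1

/-- The count of the conjugations moving a character into a block. -/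
theorem sum_indic_conjIrr [M.IsPrime] {b : Set (IrrCharacter N)} (hb : IsPBlock M b) (T : Subgroup G)
    (hT : ∀ x, x ∈ T ↔ ∀ θ ∈ b, conjIrr N x θ ∈ b) (θ : IrrCharacter N) :
    ∑ x : G, indic b (conjIrr N x⁻¹ θ) = (Nat.card T : ℂ) * indic (gSat (G := G) N b) θ := by
  classical
  by_cases hθ : θ ∈ gSat (G := G) N b
  · obtain ⟨y, hy⟩ := hθ
    have hθ' : θ ∈ gSat (G := G) N b := ⟨y, hy⟩
    rw [indic_apply_of_mem hθ', mul_one]
    have h1 : ∀ x : G, indic b (conjIrr N x⁻¹ θ) = (if x⁻¹ * y⁻¹ ∈ T then 1 else 0 : ℂ) := by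
      intro x
      have h2 : conjIrr N x⁻¹ θ = conjIrr N (x⁻¹ * y⁻¹) (conjIrr N y θ) := by
        rw [← conjIrr_mul, inv_mul_cancel_right]
      have h3 : conjIrr N x⁻¹ θ ∈ b ↔ x⁻¹ * y⁻¹ ∈ T := by
        rw [h2, hT]
        constructor
        · intro h θ₁ hθ₁
          exact conjIrr_mem_of_mem N hb hy h hθ₁
        · intro h
          exact h _ hy
      by_cases h4 : x⁻¹ * y⁻¹ ∈ T
      · rw [if_pos h4, indic_apply_of_mem (h3.mpr h4)]
      · rw [if_neg h4, indic_apply_of_notMem (fun h => h4 (h3.mp h))]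
    rw [Finset.sum_congr rfl fun x _ => h1 x]
    have h5 := Equiv.sum_comp ((Equiv.inv G).trans (Equiv.mulRight y⁻¹)) (fun z => if z ∈ T then (1 : ℂ) else 0)
    simp only [Equiv.trans_apply, Equiv.inv_apply, Equiv.coe_mulRight] at h5
    rw [h5, Finset.sum_boole, Nat.card_eq_fintype_card (α := T)]
    congr 1
    rw [Fintype.card_subtype]
  · rw [indic_apply_of_notMem hθ, mul_zero]
    refine Finset.sum_eq_zero fun x _ => ?_
    rw [indic_apply_of_notMem]
    intro h
    exact hθ ⟨x⁻¹, h⟩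

/-- The idempotent of the block above an orbit, as a sum of conjugates. -/
theorem blockCoeff_eq_sum_conj (hoff : OffIdeal M N) [M.IsPrime] {B : Set (IrrCharacter G)} (hB : IsPBlock M B)
    {b : Set (IrrCharacter N)} (hb : IsPBlock M b) {χ₀ : IrrCharacter G} (hχ₀ : χ₀ ∈ B) {θ₀ : IrrCharacter N}
    (hθ₀ : θ₀ ∈ b) (hcon : classInner (fun n : N => (χ₀ : G → ℂ) n) (θ₀ : N → ℂ) ≠ 0)
    (T : Subgroup G) (hT : ∀ x, x ∈ T ↔ ∀ θ ∈ b, conjIrr N x θ ∈ b) (g : G) :
    blockCoeff B g = (Nat.card T : ℂ)⁻¹ * ∑ x : G, subgroupBlockCoeff N b (x⁻¹ * g * x) := by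
  classical
  have hT0 : (Nat.card T : ℂ) ≠ 0 := by exact_mod_cast Nat.card_pos.ne'
  rw [blockCoeff_eq_coef, coef_block_eq_covFun N hoff hB hb hχ₀ hθ₀ hcon]
  by_cases hg : g ∈ N
  · rw [covFun, extendByZero_of_mem N _ hg]
    have h1 : ∀ x : G, subgroupBlockCoeff N b (x⁻¹ * g * x) =
        (Nat.card N : ℂ)⁻¹ * ∑ θ : IrrCharacter N, indic b (conjIrr N x⁻¹ θ) *
          ((θ : N → ℂ) 1 * conj ((θ : N → ℂ) ⟨g, hg⟩)) := by
      intro x
      have hgx : x⁻¹ * g * x ∈ N := by
        have := hN.conj_mem g hg x⁻¹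
        simpa using this
      rw [subgroupBlockCoeff_eq_covFun, covFun, extendByZero_of_mem N _ hgx, coef]
      congr 1
      rw [← Equiv.sum_comp (conjIrrEquiv N x⁻¹)]
      refine Finset.sum_congr rfl fun θ _ => ?_
      show indic b (conjIrr N x⁻¹ θ) * (((conjIrr N x⁻¹ θ : IrrCharacter N) : N → ℂ) 1 *
        conj (((conjIrr N x⁻¹ θ : IrrCharacter N) : N → ℂ) ⟨x⁻¹ * g * x, hgx⟩)) = _
      rw [conjIrr_apply_one]
      congr 3
      simp only [conjIrr_coe, Cfsg.Agent.Lib.Char.conjFun_apply]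
      exact congrArg _ (Subtype.ext (by simp only []; group))
    rw [Finset.sum_congr rfl fun x _ => h1 x, ← Finset.mul_sum, Finset.sum_comm]
    simp only [← Finset.sum_mul]
    rw [coef]
    simp only [sum_indic_conjIrr N hb T hT]
    have h2 : ∑ θ : IrrCharacter N, (Nat.card T : ℂ) * indic (gSat (G := G) N b) θ *
        ((θ : N → ℂ) 1 * conj ((θ : N → ℂ) ⟨g, hg⟩)) = (Nat.card T : ℂ) * ∑ θ : IrrCharacter N,
          indic (gSat (G := G) N b) θ * ((θ : N → ℂ) 1 * conj ((θ : N → ℂ) ⟨g, hg⟩)) := by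
      rw [Finset.mul_sum]
      refine Finset.sum_congr rfl fun θ _ => ?_
      ring
    rw [h2]
    field_simp
  · rw [covFun, extendByZero_of_notMem N _ hg, Finset.sum_eq_zero, mul_zero]
    intro x _
    rw [subgroupBlockCoeff_eq_covFun, covFun, extendByZero_of_notMem]
    intro h
    apply hg
    have := hN.conj_mem _ h x
    simpa [mul_assoc] using this

end Sum

end Cfsg.Agent.Lib.H8Group
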