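import Mathlib

/-!
# Idempotents in graded rings whose homogeneous pairings are central and nilpotent
-/

set_option autoImplicit false
set_option linter.unusedSectionVars false

namespace Cfsg.Agent.Lib.H8Group

section Abstract

variable {R : Type*} [Ring R]

/-- A central nilpotent element. -/
def CenNil (z : R) : Prop := IsNilpotent z ∧ ∀ c, z * c = c * z

theorem CenNil.exists_pow_add {z : R} (hz : CenNil z) (c x : R) (n : ℕ) :
    ∃ w, (z * c + x) ^ n = z * w + x ^ n := by
  induction n with
  | zero => exact ⟨0, by simp⟩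
  | succ n ih =>
    obtain ⟨w, hw⟩ := ih
    refine ⟨w * z * c + w * x + x ^ n * c, ?_⟩
    rw [pow_succ, hw, pow_succ]
    have h1 : x ^ n * z = z * x ^ n := (hz.2 _).symm
    have h2 : x ^ n * (z * c) = z * (x ^ n * c) := by
      rw [← mul_assoc, h1, mul_assoc]
    rw [add_mul, mul_add, mul_add, h2, mul_add, mul_add]
    simp only [mul_assoc, add_assoc]

theorem CenNil.isNilpotent_mul_add {z : R} (hz : CenNil z) (c : R) {x : R} (hx : IsNilpotent x) :
    IsNilpotent (z * c + x) := by
  obtain ⟨n, hn⟩ := hx
  obtain ⟨w, hw⟩ := hz.exists_pow_add c x n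
  obtain ⟨m, hm⟩ := hz.1
  refine ⟨n * m, ?_⟩
  rw [pow_mul, hw, hn, add_zero]
  have hc : Commute z w := hz.2 w
  rw [hc.mul_pow, hm, zero_mul]

/-- The sums of multiples of central nilpotent elements. -/
def cenNilSpan (R : Type*) [Ring R] : AddSubmonoid R :=
  AddSubmonoid.closure {y | ∃ z c : R, CenNil z ∧ y = z * c}

theorem isNilpotent_of_mem_cenNilSpan {x : R} (hx : x ∈ cenNilSpan R) : IsNilpotent x := by
  unfold cenNilSpan at hx
  induction hx using AddSubmonoid.closure_induction_left with
  | zero => exact IsNilpotent.zero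
  | add_left a ha b _ ih =>
    obtain ⟨z, c, hz, rfl⟩ := ha
    exact hz.isNilpotent_mul_add c ih

variable {Γ : Type*} [Group Γ] [Fintype Γ] {H : Γ → Set R} {x : Γ → R}

/-- The product of the letters of a word. -/
def wordProd (x : Γ → R) (l : List Γ) : R := (l.map x).prod

@[simp] theorem wordProd_nil : wordProd x [] = 1 := rfl

@[simp] theorem wordProd_cons (t : Γ) (l : List Γ) : wordProd x (t :: l) = x t * wordProd x l := by
  simp [wordProd]

theorem wordProd_append (l l' : List Γ) : wordProd x (l ++ l') = wordProd x l * wordProd x l' := by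
  simp [wordProd]

theorem wordProd_mem (hone : 1 ∈ H 1) (hmul : ∀ s t a b, a ∈ H s → b ∈ H t → a * b ∈ H (s * t))
    (hx : ∀ t, x t ∈ H t) (l : List Γ) : wordProd x l ∈ H l.prod := by
  induction l with
  | nil => simpa using hone
  | cons t l ih =>
    rw [wordProd_cons, List.prod_cons]
    exact hmul _ _ _ _ (hx t) ih

theorem cenNil_wordProd (hone : 1 ∈ H 1) (hmul : ∀ s t a b, a ∈ H s → b ∈ H t → a * b ∈ H (s * t))
    (hx : ∀ t, x t ∈ H t) (hst : ∀ t, ∀ v ∈ H t⁻¹, CenNil (x t * v)) {l : List Γ} (hl : l ≠ [])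
    (hp : l.prod = 1) : CenNil (wordProd x l) := by
  cases l with
  | nil => exact absurd rfl hl
  | cons t l =>
    rw [wordProd_cons]
    rw [List.prod_cons] at hp
    have h1 : l.prod = t⁻¹ := eq_inv_of_mul_eq_one_right hp
    refine hst t _ ?_
    rw [← h1]
    exact wordProd_mem hone hmul hx l

theorem exists_cenNil_of_long (hone : 1 ∈ H 1) (hmul : ∀ s t a b, a ∈ H s → b ∈ H t → a * b ∈ H (s * t))
    (hx : ∀ t, x t ∈ H t) (hst : ∀ t, ∀ v ∈ H t⁻¹, CenNil (x t * v)) {l : List Γ}
    (hlen : Fintype.card Γ ≤ l.length) : ∃ z c, CenNil z ∧ wordProd x l = z * c := by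
  classical
  have hcard : Fintype.card Γ < Fintype.card (Fin (l.length + 1)) := by
    rw [Fintype.card_fin]
    omega
  obtain ⟨i, j, hij, he⟩ := Fintype.exists_ne_map_eq_of_card_lt (fun i : Fin (l.length + 1) => (l.take i).prod) hcard
  wlog hlt : i < j generalizing i j
  · exact this j i hij.symm he.symm (lt_of_le_of_ne (not_lt.mp hlt) hij.symm)
  have hi : (i : ℕ) < j := hlt
  have hj : (j : ℕ) ≤ l.length := Nat.lt_succ_iff.mp j.2
  set m := (l.drop i).take ((j : ℕ) - i) with hm
  have h1 : l.take j = l.take i ++ m := by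
    have h0 : (j : ℕ) = i + ((j : ℕ) - i) := by omega
    rw [hm]
    conv_lhs => rw [h0]
    rw [List.take_add]
  have h2 : l = l.take i ++ m ++ l.drop j := by
    rw [← h1, List.take_append_drop]
  have h3 : m.prod = 1 := by
    have : (l.take j).prod = (l.take i).prod * m.prod := by
      rw [h1, List.prod_append]
    have he' : (l.take i).prod = (l.take j).prod := he
    rw [← he'] at this
    exact (mul_eq_left.mp this.symm)
  have h4 : m ≠ [] := by
    intro h0
    have h5 : m.length = (j : ℕ) - i := by
      rw [hm, List.length_take, List.length_drop]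
      omega
    rw [h0] at h5
    simp at h5
    omega
  have hz := cenNil_wordProd hone hmul hx hst h4 h3
  refine ⟨wordProd x m, wordProd x (l.take i) * wordProd x (l.drop j), hz, ?_⟩
  conv_lhs => rw [h2]
  rw [wordProd_append, wordProd_append, ← hz.2 (wordProd x (l.take i))]
  rw [mul_assoc]

theorem pow_mem_closure_words (x : Γ → R) (m : ℕ) :
    (∑ t, x t) ^ m ∈ AddSubmonoid.closure {y | ∃ l : List Γ, l.length = m ∧ y = wordProd x l} := by
  induction m with
  | zero =>
    apply AddSubmonoid.subset_closure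
    exact ⟨[], rfl, by simp⟩
  | succ m ih =>
    rw [pow_succ', Finset.sum_mul]
    refine AddSubmonoid.sum_mem _ fun t _ => ?_
    have key : ∀ y ∈ AddSubmonoid.closure {y | ∃ l : List Γ, l.length = m ∧ y = wordProd x l},
        x t * y ∈ AddSubmonoid.closure {y | ∃ l : List Γ, l.length = m + 1 ∧ y = wordProd x l} := by
      intro y hy
      induction hy using AddSubmonoid.closure_induction with
      | mem y hy =>
        obtain ⟨l, hl, rfl⟩ := hy
        apply AddSubmonoid.subset_closure
        exact ⟨t :: l, by simp [hl], by simp⟩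
      | zero => simpa using AddSubmonoid.zero_mem _
      | add a b _ _ iha ihb =>
        rw [mul_add]
        exact AddSubmonoid.add_mem _ iha ihb
    exact key _ ih

/-- **The graded nil lemma.** An idempotent in a ring graded by a finite group vanishes when the
products of its homogeneous components with homogeneous elements of the inverse degree are central
and nilpotent. -/
theorem eq_zero_of_graded_idempotent (hone : 1 ∈ H 1) (hmul : ∀ s t a b, a ∈ H s → b ∈ H t → a * b ∈ H (s * t))
    (hx : ∀ t, x t ∈ H t) (hst : ∀ t, ∀ v ∈ H t⁻¹, CenNil (x t * v)) {e : R} (he : e * e = e)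
    (hsum : e = ∑ t, x t) : e = 0 := by
  have hle : AddSubmonoid.closure {y | ∃ l : List Γ, l.length = Fintype.card Γ ∧ y = wordProd x l} ≤
      cenNilSpan R := by
    refine (AddSubmonoid.closure_le).mpr ?_
    rintro y ⟨l, hl, rfl⟩
    obtain ⟨z, c, hz, h⟩ := exists_cenNil_of_long hone hmul hx hst (l := l) hl.ge
    rw [h]
    exact AddSubmonoid.subset_closure ⟨z, c, hz, rfl⟩
  have h1 := hle (pow_mem_closure_words x (Fintype.card Γ))
  rw [← hsum] at h1
  have hidem : IsIdempotentElem e := he
  obtain ⟨k, hk⟩ := isNilpotent_of_mem_cenNilSpan h1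
  rw [← pow_mul] at hk
  by_cases h0 : k = 0
  · subst h0
    simp only [mul_zero, pow_zero] at hk
    have : e = e * 1 := (mul_one e).symm
    rw [this, hk, mul_zero]
  · have hne : Fintype.card Γ * k ≠ 0 := mul_ne_zero Fintype.card_ne_zero h0
    obtain ⟨m, hm⟩ := Nat.exists_eq_succ_of_ne_zero hne
    rw [hm, hidem.pow_succ_eq] at hk
    exact hk

end Abstract

end Cfsg.Agent.Lib.H8Group
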