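import Cfsg.Agent.Lib.H8Group.RankTrace
import Cfsg.Agent.Lib.Blocks.Second
import Cfsg.Agent.Lib.Blocks.Third
import Cfsg.Prelude.Def_BrauerPairs

/-!
# Subsections: the functions `c ↦ χ (x c)` on the centralizer of a `p`-element

For a `p`-element `x` with centralizer `H`, the function `subF H x χ` is `c ↦ χ (x c)`.
The main results are Parseval-type identities for its restriction to the `p`-regular elements, and
the count of the characters of a block through subsections.
-/

set_option autoImplicit false
set_option linter.unusedSectionVars false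
set_option linter.style.haveILetI false

namespace Cfsg.Agent.Lib.H8Group

open Cfsg Cfsg.Agent.Lib.Char Cfsg.Agent.Lib.Blocks
open scoped ComplexConjugate

universe u

section Sub

variable {G : Type u} [Group G] [Fintype G] {M : Ideal AlgInt} {p : ℕ} [hp : Fact p.Prime]

/-- The function `c ↦ θ (x c)` on a subgroup containing `x`. -/
def subF (H : Subgroup G) (x : H) (θ : G → ℂ) : H → ℂ := fun c => θ ((x * c : H) : G)

theorem subF_apply (H : Subgroup G) (x : H) (θ : G → ℂ) (c : H) : subF H x θ c = θ ((x * c : H) : G) := rfl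

variable {H : Subgroup G} {x : H}

theorem central_of (hH : ∀ w : G, w ∈ H ↔ Commute w (x : G)) (c : H) : c * x = x * c :=
  Subtype.ext ((hH c).mp c.2)

theorem subF_isClassFunction (hH : ∀ w : G, w ∈ H ↔ Commute w (x : G)) {θ : G → ℂ}
    (hθ : IsClassFunction G θ) : IsClassFunction H (subF H x θ) := by
  intro g h
  simp only [subF_apply]
  have h1 : x * (h * g * h⁻¹) = h * (x * g) * h⁻¹ := by
    have h2 := central_of hH h
    calc x * (h * g * h⁻¹) = (x * h) * g * h⁻¹ := by group
      _ = (h * x) * g * h⁻¹ := by rw [h2]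
      _ = _ := by group
  rw [h1]
  simp only [Subgroup.coe_mul, Subgroup.coe_inv]
  simpa only [Subgroup.coe_mul] using hθ _ (h : G)

/-- The `p`-part of `x s`, for `s` regular. -/
theorem pow_mul_of_regular (hH : ∀ w : G, w ∈ H ↔ Commute w (x : G)) {α : ℕ} (hα : IsPExp p G α)
    (hxp : ∃ k, orderOf (x : G) = p ^ k) (s : H) :
    ((x * s : H) : G) ^ α = (x : G) * (s : G) ^ α := by
  have hc : Commute (x : G) (s : G) := ((hH s).mp s.2).symm
  obtain ⟨k, hk⟩ := hxp
  rw [Subgroup.coe_mul, hc.mul_pow, hα.pow_of_pPow hk]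

theorem pow_mul_eq_iff (hH : ∀ w : G, w ∈ H ↔ Commute w (x : G)) {α : ℕ} (hα : IsPExp p G α)
    (hxp : ∃ k, orderOf (x : G) = p ^ k) (s : H) :
    ((x * s : H) : G) ^ α = x ↔ ¬ p ∣ orderOf s := by
  rw [pow_mul_of_regular hH hα hxp, ← Subgroup.orderOf_coe, ← hα.pow_eq_one_iff]
  simp

/-- The function of `H` supported on the section of `x` attached to `φ`. -/
noncomputable def liftFun (H : Subgroup G) (x : H) (α : ℕ) (φ : H → ℂ) : H → ℂ := fun h => by
  classical exact if (h : G) ^ α = x then φ (x⁻¹ * h) else 0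

theorem liftFun_mul (hH : ∀ w : G, w ∈ H ↔ Commute w (x : G)) {α : ℕ} (hα : IsPExp p G α)
    (hxp : ∃ k, orderOf (x : G) = p ^ k) (φ : H → ℂ) (s : H) :
    liftFun H x α φ (x * s) = pRegularPart p φ s := by
  classical
  rw [pRegularPart_apply]
  simp only [liftFun, pow_mul_eq_iff hH hα hxp s, inv_mul_cancel_left]
  by_cases h : p ∣ orderOf s <;> simp [h]

theorem indFun_liftFun_mul (hH : ∀ w : G, w ∈ H ↔ Commute w (x : G)) {α : ℕ} (hα : IsPExp p G α)
    (hxp : ∃ k, orderOf (x : G) = p ^ k) {φ : H → ℂ} (hφ : IsClassFunction H φ) {s : H}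
    (hs : ¬ p ∣ orderOf s) : indFun H (liftFun H x α φ) ((x * s : H) : G) = φ s := by
  classical
  letI : Fintype H := Fintype.ofFinite _
  have hx1 : ((x * s : H) : G) ^ α = x := (pow_mul_eq_iff hH hα hxp s).mpr hs
  have key : ∀ a : G, a ∉ H → extendByZero H (liftFun H x α φ) (a⁻¹ * ((x * s : H) : G) * a) = 0 := by
    intro a ha
    by_cases hm : a⁻¹ * ((x * s : H) : G) * a ∈ H
    · rw [extendByZero_of_mem H _ hm]
      simp only [liftFun]
      rw [if_neg]
      intro h2
      apply ha
      have h3 : (a⁻¹ * ((x * s : H) : G) * a) ^ α = a⁻¹ * ((x * s : H) : G) ^ α * a := by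
        have := conj_pow (a := a⁻¹) (b := ((x * s : H) : G)) (i := α)
        simpa using this
      rw [h3, hx1] at h2
      refine (hH a).mpr ?_
      show a * (x : G) = (x : G) * a
      calc a * (x : G) = a * (a⁻¹ * (x : G) * a) := by rw [h2]
        _ = (x : G) * a := by group
    · exact extendByZero_of_notMem H _ hm
  have h1 : ∑ _a : H, φ s = ∑ a : G, extendByZero H (liftFun H x α φ) (a⁻¹ * ((x * s : H) : G) * a) := by
    refine Fintype.sum_of_injective (Subtype.val : H → G) Subtype.val_injective _ _ ?_ ?_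
    · intro a ha
      exact key a (fun h => ha ⟨⟨a, h⟩, rfl⟩)
    · intro a
      have h2 : (a : G)⁻¹ * ((x * s : H) : G) * a = ((x * (a⁻¹ * s * a) : H) : G) := by
        have h4 := central_of hH a⁻¹
        have h5 : a⁻¹ * (x * s) * a = x * (a⁻¹ * s * a) := by
          rw [← mul_assoc a⁻¹ x s, h4]
          group
        exact congrArg Subtype.val h5
      rw [h2, extendByZero_coe, liftFun_mul hH hα hxp, pRegularPart_of_not_dvd]
      · have h3 := hφ s a⁻¹
        simpa using h3.symm
      · have : orderOf (a⁻¹ * s * a) = orderOf s := by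
          have h5 := orderOf_conj (g := s) (h := a⁻¹)
          simpa using h5
        rwa [this]
  rw [indFun_apply, ← h1, Finset.sum_const, Finset.card_univ, nsmul_eq_mul, ← Nat.card_eq_fintype_card,
    ← mul_assoc, inv_mul_cancel₀ (by exact_mod_cast Nat.card_pos.ne'), one_mul]

theorem indFun_liftFun_of_not_conj (α : ℕ) (φ : H → ℂ) {g : G} (hg : ¬ IsConj (g ^ α) (x : G)) :
    indFun H (liftFun H x α φ) g = 0 := by
  classical
  rw [indFun_apply, Finset.sum_eq_zero, mul_zero]
  intro a _
  by_cases hm : a⁻¹ * g * a ∈ H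
  · rw [extendByZero_of_mem H _ hm]
    simp only [liftFun]
    rw [if_neg]
    intro h2
    apply hg
    have h3 : (a⁻¹ * g * a) ^ α = a⁻¹ * g ^ α * a := by
      have := conj_pow (a := a⁻¹) (b := g) (i := α)
      simpa using this
    rw [h3] at h2
    rw [isConj_iff]
    exact ⟨a⁻¹, by simpa using h2⟩
  · exact extendByZero_of_notMem H _ hm

variable [Fintype H]

/-- Frobenius reciprocity for the lift. -/
theorem classInner_lift_left (hH : ∀ w : G, w ∈ H ↔ Commute w (x : G)) {α : ℕ} (hα : IsPExp p G α)
    (hxp : ∃ k, orderOf (x : G) = p ^ k) (φ : H → ℂ) {θ : G → ℂ} (hθ : IsClassFunction G θ) :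
    classInner (indFun H (liftFun H x α φ)) θ = classInner (pRegularPart p φ) (subF H x θ) := by
  classical
  rw [classInner_indFun_left H _ θ hθ, classInner, classInner]
  congr 1
  refine Fintype.sum_equiv (Equiv.mulLeft x⁻¹) _ _ fun h => ?_
  have h1 : h = x * (Equiv.mulLeft x⁻¹ h) := by simp
  conv_lhs => rw [h1]
  rw [liftFun_mul hH hα hxp, subF_apply]

/-- The scalar product of two lifts. -/
theorem classInner_lift_lift (hH : ∀ w : G, w ∈ H ↔ Commute w (x : G)) {α : ℕ} (hα : IsPExp p G α)
    (hxp : ∃ k, orderOf (x : G) = p ^ k) (φ : H → ℂ) {φ' : H → ℂ} (hφ' : IsClassFunction H φ') :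
    classInner (indFun H (liftFun H x α φ)) (indFun H (liftFun H x α φ')) =
      classInner (pRegularPart p φ) φ' := by
  classical
  rw [classInner_lift_left hH hα hxp φ (isClassFunction_indFun H _), classInner, classInner]
  congr 1
  refine Finset.sum_congr rfl fun s _ => ?_
  by_cases hs : p ∣ orderOf s
  · rw [pRegularPart_of_dvd _ hs, zero_mul, zero_mul]
  · rw [subF_apply, indFun_liftFun_mul hH hα hxp hφ' hs]

/-- **Parseval over the characters of `G`** for a class function on the regular elements of `H`. -/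
theorem sum_subF_mul_conj (hH : ∀ w : G, w ∈ H ↔ Commute w (x : G))
    (hxp : ∃ k, orderOf (x : G) = p ^ k) {φ φ' : H → ℂ} (hφ' : IsClassFunction H φ') :
    ∑ χ : IrrCharacter G, classInner (pRegularPart p φ) (subF H x (χ : G → ℂ)) *
      conj (classInner (pRegularPart p φ') (subF H x (χ : G → ℂ))) =
      classInner (pRegularPart p φ) φ' := by
  classical
  obtain ⟨α, hα⟩ := exists_isPExp G p
  rw [← classInner_lift_lift hH hα hxp φ hφ',
    classInner_eq_sum_coeffs _ _ (isClassFunction_indFun H _) (isClassFunction_indFun H _)]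
  refine Finset.sum_congr rfl fun χ _ => ?_
  rw [classInner_lift_left hH hα hxp φ (irr_isClassFunction χ),
    classInner_lift_left hH hα hxp φ' (irr_isClassFunction χ)]

/-- The lift of a subsection function recovers the class function on the section. -/
theorem indFun_lift_subF (hH : ∀ w : G, w ∈ H ↔ Commute w (x : G)) {α : ℕ} (hα : IsPExp p G α)
    (hxp : ∃ k, orderOf (x : G) = p ^ k) {θ : G → ℂ} (hθ : IsClassFunction G θ) {g : G}
    (hg : IsConj (g ^ α) (x : G)) : indFun H (liftFun H x α (subF H x θ)) g = θ g := by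
  classical
  obtain ⟨a, ha⟩ := isConj_iff.mp hg
  set g' := a * g * a⁻¹ with hg'
  have h1 : g' ^ α = x := by rw [hg', conj_pow, ha]
  have h2 : g' ∈ H := by
    rw [hH]
    rw [← h1]
    exact (Commute.refl _).pow_right α |>.symm.symm
  have h3 := hα.isPPart g'
  rw [h1] at h3
  obtain ⟨y, hy, hc, -, hr⟩ := h3
  have hyH : y ∈ H := by
    rw [hH]
    exact hc.symm
  have h4 : g' = ((x * (⟨y, hyH⟩ : H) : H) : G) := hy.symm
  have h5 : ¬ p ∣ orderOf (⟨y, hyH⟩ : H) := by
    rwa [Subgroup.orderOf_mk]
  have h6 := indFun_liftFun_mul hH hα hxp (subF_isClassFunction hH hθ) h5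
  rw [← h4, subF_apply] at h6
  rw [← h4] at h6
  have h7 : θ g' = θ g := hθ g a
  have h8 : indFun H (liftFun H x α (subF H x θ)) g' = indFun H (liftFun H x α (subF H x θ)) g :=
    isClassFunction_indFun H _ g a
  rw [← h7, ← h8, h6]

/-- The vanishing of the subsection function on the regular elements, off the induced block. -/
theorem classInner_subF_eq_zero (hM : IsPModular p M) (hH : ∀ w : G, w ∈ H ↔ Commute w (x : G))
    (hxp : ∃ k, orderOf (x : G) = p ^ k) {b : Set (IrrCharacter H)} {B : Set (IrrCharacter G)}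
    (hind : IsInducedBlock M H b B) {χ : IrrCharacter G} (hχ : χ ∉ B) {ψ : IrrCharacter H} (hψ : ψ ∈ b) :
    classInner (pRegularPart p (subF H x (χ : G → ℂ))) (ψ : H → ℂ) = 0 := by
  classical
  have := isPrime_of_modular hM
  obtain ⟨α, hα⟩ := exists_isPExp G p
  obtain ⟨αH, hαH⟩ := exists_isPExp H p
  have hb := hind.1
  have hiS := indic_mem_zS hb
  have hii := indic_mul_self b
  have hf := subF_isClassFunction hH (irr_isClassFunction χ)
  have hϑ := pRegularPart_isClassFunction (p := p) hf
  have hzero : ∀ z, projOp (indic b) (pRegularPart p (subF H x (χ : G → ℂ))) z = 0 := by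
    intro z
    by_cases hz : p ∣ orderOf z
    · refine projOp_eq_zero_of_section hM hαH hiS hii hϑ ?_
      intro y hy
      apply pRegularPart_of_dvd
      by_contra hne
      rw [hαH.pow_of_regular hne] at hy
      exact hαH.pow_eq_one_iff.mp (isConj_one_right.mp hy) hz
    · have h1 : projOp (indic b) (subF H x (χ : G → ℂ) - pRegularPart p (subF H x (χ : G → ℂ))) z = 0 := by
        refine projOp_eq_zero_of_section hM hαH hiS hii (IsClassFunction.sub hf hϑ) ?_
        intro y hy
        rw [hαH.pow_of_regular hz] at hy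
        have h3 := hαH.pow_eq_one_iff.mp (isConj_one_left.mp hy)
        simp only [Pi.sub_apply, pRegularPart_of_not_dvd _ h3, sub_self]
      have h2 : projOp (indic b) (subF H x (χ : G → ℂ)) z = 0 := by
        have h3 := second_core hM hα H hind (z := x * z) (by
          intro w hw
          have h4 : ((x * z : H) : G) ^ α = x := (pow_mul_eq_iff hH hα hxp z).mpr hz
          rw [h4] at hw
          exact (hH w).mpr hw) hχ
        rw [← h3]
        simp only [projOp, subF_apply]
        refine Finset.sum_congr rfl fun k _ => ?_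
        congr 2
        rw [← mul_assoc, ← mul_assoc, central_of hH k]
      rw [projOp_sub, h2, sub_eq_zero] at h1
      exact h1.symm
  have h4 := eq_zero_of_sum_irr_eq_zero
    (t := fun ψ' => indic b ψ' * classInner (pRegularPart p (subF H x (χ : G → ℂ))) (ψ' : H → ℂ)) (by
      intro g
      have h5 := hzero g
      rw [projOp_eq_sum _ hϑ] at h5
      rw [← h5]
      refine Finset.sum_congr rfl fun χ' _ => ?_
      ring) ψ
  have h4' : indic b ψ * classInner (pRegularPart p (subF H x (χ : G → ℂ))) (ψ : H → ℂ) = 0 := h4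
  rwa [indic_apply_of_mem hψ, one_mul] at h4'

/-- Parseval on `H` for the regular part. -/
theorem classInner_regular_eq_sum {f : H → ℂ} (hf : IsClassFunction H f) :
    classInner (pRegularPart p f) f =
      ∑ ψ : IrrCharacter H, classInner (pRegularPart p f) (ψ : H → ℂ) *
        conj (classInner (pRegularPart p f) (ψ : H → ℂ)) := by
  have hϑ := pRegularPart_isClassFunction (p := p) hf
  have h1 : classInner (pRegularPart p f) f = classInner (pRegularPart p f) (pRegularPart p f) := by
    classical
    rw [classInner, classInner]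
    congr 1
    refine Finset.sum_congr rfl fun s _ => ?_
    by_cases hs : p ∣ orderOf s
    · rw [pRegularPart_of_dvd _ hs, zero_mul, zero_mul]
    · rw [pRegularPart_of_not_dvd _ hs]
  rw [h1, classInner_eq_sum_coeffs _ _ hϑ hϑ]

/-- The transposition of the regular pairing of `ψ` and `f`. -/
theorem conj_classInner_regular (f : H → ℂ) (φ : H → ℂ) :
    conj (classInner (pRegularPart p f) φ) = classInner (pRegularPart p φ) f := by
  classical
  rw [classInner_conj_symm (pRegularPart p φ) f]
  congr 1
  rw [classInner, classInner]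
  congr 1
  refine Finset.sum_congr rfl fun s _ => ?_
  by_cases hs : p ∣ orderOf s
  · rw [pRegularPart_of_dvd _ hs, pRegularPart_of_dvd _ hs, map_zero, zero_mul, mul_zero]
  · rw [pRegularPart_of_not_dvd _ hs, pRegularPart_of_not_dvd _ hs]

/-- The sum over the characters of the block `B` of the squares, for a member of a block inducing `B`. -/
theorem sum_block_subF_sq (hM : IsPModular p M) (hH : ∀ w : G, w ∈ H ↔ Commute w (x : G))
    (hxp : ∃ k, orderOf (x : G) = p ^ k) {b : Set (IrrCharacter H)} {B : Set (IrrCharacter G)}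
    (hind : IsInducedBlock M H b B) {ψ : IrrCharacter H} (hψ : ψ ∈ b) :
    ∑ χ : IrrCharacter G, indic B χ * (classInner (pRegularPart p (subF H x (χ : G → ℂ))) (ψ : H → ℂ) *
      conj (classInner (pRegularPart p (subF H x (χ : G → ℂ))) (ψ : H → ℂ))) =
      classInner (pRegularPart p (ψ : H → ℂ)) (ψ : H → ℂ) := by
  classical
  rw [← sum_subF_mul_conj (p := p) hH hxp (irr_isClassFunction ψ)]
  refine Finset.sum_congr rfl fun χ _ => ?_
  by_cases hχ : χ ∈ B
  · rw [indic_apply_of_mem hχ, one_mul, conj_classInner_regular, conj_classInner_regular, mul_comm]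
  · rw [indic_apply_of_notMem hχ, zero_mul, conj_classInner_regular,
      classInner_subF_eq_zero hM hH hxp hind hχ hψ, mul_zero]


/-- The induced block exists. -/
theorem exists_isInducedBlock_sub (hM : IsPModular p M) (hH : ∀ w : G, w ∈ H ↔ Commute w (x : G))
    (hxp : ∃ k, orderOf (x : G) = p ^ k) {b : Set (IrrCharacter H)} (hb : IsPBlock M b) :
    ∃ B, IsInducedBlock M H b B := by
  have := isPrime_of_modular hM
  have hHc : H = Subgroup.centralizer ({(x : G)} : Set G) := by
    ext w
    rw [hH, Subgroup.mem_centralizer_singleton_iff]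
    rfl
  refine exists_isInducedBlock H hM (isPGroup_zpowers hxp) ?_ ?_ ?_ hb
  · rw [Subgroup.zpowers_le]
    exact x.2
  · rw [centralizer_zpowers_eq, ← hHc]
  · intro w hw
    have hw' : w ∈ Subgroup.centralizer ({(x : G)} : Set G) := by
      rw [← hHc]
      exact hw
    exact centralizer_le_normalizer_zpowers _ hw'

/-- The sum over a block of the regular norms of the subsection functions. -/
theorem sum_block_classInner_subF (hM : IsPModular p M) (hH : ∀ w : G, w ∈ H ↔ Commute w (x : G))
    (hxp : ∃ k, orderOf (x : G) = p ^ k) {B : Set (IrrCharacter G)} (hB : IsPBlock M B)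
    [DecidablePred fun b : Set (IrrCharacter H) => IsInducedBlock M H b B] :
    ∑ χ : IrrCharacter G, indic B χ * classInner (pRegularPart p (subF H x (χ : G → ℂ))) (subF H x (χ : G → ℂ)) =
      ∑ b ∈ (blocksFinset M H).filter (fun b => IsInducedBlock M H b B), (blockRank p b : ℂ) := by
  classical
  have := isPrime_of_modular hM
  have hf : ∀ χ : IrrCharacter G, IsClassFunction H (subF H x (χ : G → ℂ)) := fun χ =>
    subF_isClassFunction hH (irr_isClassFunction χ)
  have h1 : ∀ ψ : IrrCharacter H,
      ∑ χ : IrrCharacter G, indic B χ * (classInner (pRegularPart p (subF H x (χ : G → ℂ))) (ψ : H → ℂ) *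
        conj (classInner (pRegularPart p (subF H x (χ : G → ℂ))) (ψ : H → ℂ))) =
      ∑ b ∈ (blocksFinset M H).filter (fun b => IsInducedBlock M H b B),
        if ψ ∈ b then classInner (pRegularPart p (ψ : H → ℂ)) (ψ : H → ℂ) else 0 := by
    intro ψ
    have hb := isPBlock_blockOf (M := M) ψ
    obtain ⟨B₁, hB₁⟩ := exists_isInducedBlock_sub hM hH hxp hb
    by_cases hB₁B : B₁ = B
    · subst hB₁B
      rw [Finset.sum_eq_single (blockOf M (ψ : H → ℂ))]
      · rw [if_pos (self_mem_blockOf ψ)]
        exact sum_block_subF_sq hM hH hxp hB₁ (self_mem_blockOf ψ)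
      · intro b hb' hne
        rw [if_neg]
        intro hψ
        exact hne (blockOf_eq_of_mem (mem_blocksFinset.mp (Finset.mem_filter.mp hb').1) hψ)
      · intro h
        exact absurd (Finset.mem_filter.mpr ⟨mem_blocksFinset.mpr hb, hB₁⟩) h
    · rw [Finset.sum_eq_zero, Finset.sum_eq_zero]
      · intro b hb'
        rw [if_neg]
        intro hψ
        have h2 := (Finset.mem_filter.mp hb').1
        have h3 := (Finset.mem_filter.mp hb').2
        have h4 := blockOf_eq_of_mem (mem_blocksFinset.mp h2) hψ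
        subst h4
        exact hB₁B (IsInducedBlock.unique H hB₁ h3)
      · intro χ _
        by_cases hχ : χ ∈ B
        · have hχ' : χ ∉ B₁ := by
            intro hc
            exact hB₁B ((blockOf_eq_of_mem hB₁.2.1 hc).trans (blockOf_eq_of_mem hB hχ).symm)
          rw [classInner_subF_eq_zero hM hH hxp hB₁ hχ' (self_mem_blockOf ψ), zero_mul, mul_zero]
        · rw [indic_apply_of_notMem hχ, zero_mul]
  calc ∑ χ : IrrCharacter G, indic B χ * classInner (pRegularPart p (subF H x (χ : G → ℂ))) (subF H x (χ : G → ℂ))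
      = ∑ χ : IrrCharacter G, ∑ ψ : IrrCharacter H, indic B χ * (classInner (pRegularPart p (subF H x (χ : G → ℂ))) (ψ : H → ℂ) *
        conj (classInner (pRegularPart p (subF H x (χ : G → ℂ))) (ψ : H → ℂ))) := by
        refine Finset.sum_congr rfl fun χ _ => ?_
        rw [classInner_regular_eq_sum (hf χ), Finset.mul_sum]
    _ = ∑ ψ : IrrCharacter H, ∑ b ∈ (blocksFinset M H).filter (fun b => IsInducedBlock M H b B),
        if ψ ∈ b then classInner (pRegularPart p (ψ : H → ℂ)) (ψ : H → ℂ) else 0 := by
        rw [Finset.sum_comm]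
        exact Finset.sum_congr rfl fun ψ _ => h1 ψ
    _ = ∑ b ∈ (blocksFinset M H).filter (fun b => IsInducedBlock M H b B), (blockRank p b : ℂ) := by
        rw [Finset.sum_comm]
        refine Finset.sum_congr rfl fun b hb => ?_
        have hbb := mem_blocksFinset.mp (Finset.mem_filter.mp hb).1
        rw [← sum_classInner_pRegularPart hM hbb, Finset.sum_ite, Finset.sum_const_zero, add_zero]
        refine (Finset.sum_subtype _ (fun ψ => by simp) _)

end Sub

section Count

variable {G : Type u} [Group G] [Fintype G] {M : Ideal AlgInt} {p : ℕ} [hp : Fact p.Prime]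

/-- The element `x`, in its centralizer. -/
def centElt (x : G) : Subgroup.centralizer ({x} : Set G) :=
  ⟨x, Subgroup.mem_centralizer_singleton_iff.mpr rfl⟩

theorem mem_cent_iff (x : G) (w : G) :
    w ∈ Subgroup.centralizer ({x} : Set G) ↔ Commute w ((centElt x : Subgroup.centralizer ({x} : Set G)) : G) := by
  rw [Subgroup.mem_centralizer_singleton_iff]
  rfl

variable [∀ x : G, Fintype (Subgroup.centralizer ({x} : Set G))]

/-- The scalar product on `G` as a sum over the sections. -/
theorem classInner_eq_sum_subF (X : Finset G) (hX : ∀ x ∈ X, ∃ k, orderOf x = p ^ k)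
    (hXrep : ∀ g : G, (∃ k, orderOf g = p ^ k) → ∃! x, x ∈ X ∧ IsConj g x)
    {θ θ' : G → ℂ} (hθ : IsClassFunction G θ) (hθ' : IsClassFunction G θ') :
    classInner θ θ' = ∑ x ∈ X, classInner (pRegularPart p (subF _ (centElt x) θ)) (subF _ (centElt x) θ') := by
  classical
  obtain ⟨α, hα⟩ := exists_isPExp G p
  have h1 : θ = ∑ x ∈ X, indFun (Subgroup.centralizer ({x} : Set G))
      (liftFun _ (centElt x) α (subF _ (centElt x) θ)) := by
    funext g
    rw [Finset.sum_apply]
    obtain ⟨y, -, -, ⟨k, hk⟩, -⟩ := hα.isPPart g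
    obtain ⟨x, ⟨hx, hgx⟩, huniq⟩ := hXrep (g ^ α) ⟨k, hk⟩
    rw [Finset.sum_eq_single x]
    · exact (indFun_lift_subF (mem_cent_iff x) hα (hX x hx) hθ hgx).symm
    · intro x' hx' hne
      refine indFun_liftFun_of_not_conj α _ ?_
      intro hc
      exact hne (huniq x' ⟨hx', hc⟩)
    · intro h
      exact absurd hx h
  conv_lhs => rw [h1]
  rw [classInner_sum_left]
  refine Finset.sum_congr rfl fun x hx => ?_
  exact classInner_lift_left (mem_cent_iff x) hα (hX x hx) _ hθ'

/-- **Brauer's count of the characters of a block.** -/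
theorem card_block_eq_sum (hM : IsPModular p M) {B : Set (IrrCharacter G)} (hB : IsPBlock M B)
    (X : Finset G) (hX : ∀ x ∈ X, ∃ k, orderOf x = p ^ k)
    (hXrep : ∀ g : G, (∃ k, orderOf g = p ^ k) → ∃! x, x ∈ X ∧ IsConj g x) :
    Nat.card B = ∑ x ∈ X, ∑ᶠ b ∈ {b : Set (IrrCharacter (Subgroup.centralizer ({x} : Set G))) |
      IsInducedBlock M (Subgroup.centralizer ({x} : Set G)) b B}, blockRank p b := by
  classical
  have := isPrime_of_modular hM
  have h1 : ∀ x : G, ∑ᶠ b ∈ {b : Set (IrrCharacter (Subgroup.centralizer ({x} : Set G))) |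
      IsInducedBlock M (Subgroup.centralizer ({x} : Set G)) b B}, blockRank p b =
      ∑ b ∈ (blocksFinset M _).filter (fun b => IsInducedBlock M (Subgroup.centralizer ({x} : Set G)) b B),
        blockRank p b := by
    intro x
    rw [← finsum_mem_coe_finset]
    refine finsum_mem_congr ?_ fun _ _ => rfl
    ext b
    simp only [Finset.coe_filter, mem_blocksFinset]
    constructor
    · intro h
      exact ⟨h.1, h⟩
    · intro h
      exact h.2
  have h2 : ∀ x ∈ X, ((∑ b ∈ (blocksFinset M _).filter (fun b => IsInducedBlock M (Subgroup.centralizer ({x} : Set G)) b B),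
        blockRank p b : ℕ) : ℂ) = ∑ χ : IrrCharacter G, indic B χ *
          classInner (pRegularPart p (subF _ (centElt x) (χ : G → ℂ))) (subF _ (centElt x) (χ : G → ℂ)) := by
    intro x hx
    push_cast
    rw [sum_block_classInner_subF hM (mem_cent_iff x) (hX x hx) hB]
  apply Nat.cast_injective (R := ℂ)
  simp only [h1]
  rw [Nat.cast_sum, Finset.sum_congr rfl h2, Finset.sum_comm]
  have h3 : ∀ χ : IrrCharacter G, ∑ x ∈ X, indic B χ *
      classInner (pRegularPart p (subF _ (centElt x) (χ : G → ℂ))) (subF _ (centElt x) (χ : G → ℂ)) = indic B χ := by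
    intro χ
    rw [← Finset.mul_sum, ← classInner_eq_sum_subF X hX hXrep (irr_isClassFunction χ) (irr_isClassFunction χ),
      classInner_irr_self χ.2, mul_one]
  rw [Finset.sum_congr rfl fun χ _ => h3 χ, natCard_block_eq, ← Finset.sum_boole]
  refine Finset.sum_congr rfl fun χ _ => ?_
  by_cases hχ : χ ∈ B
  · simp [hχ]
  · simp [hχ]

end Count


section Pairs

variable {G : Type u} [Group G] [Fintype G] {M : Ideal AlgInt} {p : ℕ} [hp : Fact p.Prime]

local notation "𝐂" Q => Subgroup.centralizer ((Q : Subgroup G) : Set G)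

/-- The induced block of a block of the centralizer of a `p`-subgroup exists. -/
theorem exists_isInducedBlock_cent (hM : IsPModular p M) {Q : Subgroup G} (hQ : IsPGroup p Q)
    [Fintype (𝐂 Q)] {e : Set (IrrCharacter (𝐂 Q))} (he : IsPBlock M e) :
    ∃ B, IsInducedBlock M (𝐂 Q) e B := by
  classical
  have := isPrime_of_modular hM
  have hT : ∀ a : G → ℂ, brT (𝐂 Q) Q a = Blocks.resFun (𝐂 Q) a := by
    intro a
    funext h
    rw [brT_of_mem _ _ _ h.2]
    rfl
  have hNC : (𝐂 Q) ≤ Subgroup.normalizer (Q : Set G) := by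
    intro w hw
    rw [Subgroup.mem_normalizer_iff]
    intro y
    have hc := fun (y : G) (hy : y ∈ Q) => (Subgroup.mem_centralizer_iff.mp hw y hy)
    constructor
    · intro hy
      have h1 : w * y * w⁻¹ = y := by
        rw [← hc y hy]
        group
      show w * y * w⁻¹ ∈ Q
      rwa [h1]
    · intro hy
      have hy' : w * y * w⁻¹ ∈ Q := hy
      have h1 := hc _ hy'
      have h2 : y = w * y * w⁻¹ := by
        have h3 : w * y = w * (w * y * w⁻¹) := by
          rw [← h1]
          group
        exact mul_left_cancel h3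
      rwa [h2]
  obtain ⟨ξ, hξ⟩ := IsPBlock.nonempty he
  obtain ⟨χ, hχ⟩ := (brPhi_isLocalHom (𝐂 Q) hM hQ le_rfl hNC ξ).exists_irr
  refine ⟨blockOf M (χ : G → ℂ), isInducedBlock_of_mem _ he (isPBlock_blockOf χ) hξ
    (self_mem_blockOf χ) ?_⟩
  intro g
  have h1 := hχ _ (centralChar_mem_zS g)
  rw [brPhi_centralChar, brauerCentralChar_eq_spec, hT] at h1
  rw [inducedCentralChar_eq_spec]
  exact h1

theorem brauerOmega_eq_resPhi {Q : Subgroup G} [Fintype (𝐂 Q)] (B : Set (IrrCharacter G))
    (ξ : IrrCharacter (𝐂 Q)) :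
    brauerOmega Q (blockCoeff B) (ξ : (𝐂 Q) → ℂ) = resPhi (𝐂 Q) ξ (indic B) := by
  simp only [brauerOmega, resPhi, spec]
  rw [finsum_eq_sum_of_fintype, Finset.sum_div]
  refine Finset.sum_congr rfl fun x _ => ?_
  rw [blockCoeff_eq_coef]
  rfl

/-- **Brauer pairs of a block are the blocks inducing it.** -/
theorem isBrauerPairOf_iff (hM : IsPModular p M) {Q : Subgroup G} (hQ : IsPGroup p Q)
    {e : Set (IrrCharacter (𝐂 Q))} (he : IsPBlock M e) {B : Set (IrrCharacter G)} [Fintype (𝐂 Q)] :
    IsBrauerPairOf p M B Q e ↔ IsInducedBlock M (𝐂 Q) e B := by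
  classical
  have := isPrime_of_modular hM
  constructor
  · rintro ⟨-, hB, hω⟩
    obtain ⟨B₁, hB₁⟩ := exists_isInducedBlock_cent hM hQ he
    obtain ⟨ξ, hξ⟩ := IsPBlock.nonempty he
    obtain ⟨χ₁, hχ₁⟩ := IsPBlock.nonempty hB₁.2.1
    have h1 := IsInducedBlock.resPhi_congr _ hB₁ hξ hχ₁ (indic_mem_zS hB)
    have h2 := hω ξ hξ
    rw [brauerOmega_eq_resPhi] at h2
    by_cases hχ : χ₁ ∈ B
    · rw [blockOf_eq_of_mem hB hχ, ← blockOf_eq_of_mem hB₁.2.1 hχ₁]
      exact hB₁
    · rw [indic_apply_of_notMem hχ, sub_zero] at h1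
      have h3 := MemLocalIdeal.sub h1 h2
      simp only [sub_sub_cancel] at h3
      exact absurd h3 not_memLocalIdeal_one
  · intro h
    refine ⟨⟨hQ, he⟩, h.2.1, fun ξ hξ => ?_⟩
    obtain ⟨χ₁, hχ₁⟩ := IsPBlock.nonempty h.2.1
    have h1 := IsInducedBlock.resPhi_congr _ h hξ hχ₁ (indic_mem_zS h.2.1)
    rw [indic_apply_of_mem hχ₁] at h1
    rw [brauerOmega_eq_resPhi]
    exact h1

end Pairs


section S4683

variable {G : Type u} [Group G] [Fintype G] {M : Ideal AlgInt} {p : ℕ} [hp : Fact p.Prime]
variable {H : Subgroup G} {x : H} [Fintype H]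

/-- The `e`-part of a class function, regular part. -/
theorem pRegularPart_projOp (hM : IsPModular p M) [M.IsPrime] {e : Set (IrrCharacter H)} (he : IsPBlock M e)
    {f : H → ℂ} (hf : IsClassFunction H f) :
    pRegularPart p (projOp (indic e) f) = projOp (indic e) (pRegularPart p f) := by
  classical
  obtain ⟨αH, hαH⟩ := exists_isPExp H p
  have hiS := indic_mem_zS he
  have hii := indic_mul_self e
  have hϑ := pRegularPart_isClassFunction (p := p) hf
  funext z
  by_cases hz : p ∣ orderOf z
  · rw [pRegularPart_of_dvd _ hz]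
    symm
    refine projOp_eq_zero_of_section hM hαH hiS hii hϑ ?_
    intro y hy
    apply pRegularPart_of_dvd
    by_contra hne
    rw [hαH.pow_of_regular hne] at hy
    exact hαH.pow_eq_one_iff.mp (isConj_one_right.mp hy) hz
  · rw [pRegularPart_of_not_dvd _ hz]
    have h1 : projOp (indic e) (f - pRegularPart p f) z = 0 := by
      refine projOp_eq_zero_of_section hM hαH hiS hii (IsClassFunction.sub hf hϑ) ?_
      intro y hy
      rw [hαH.pow_of_regular hz] at hy
      have h3 := hαH.pow_eq_one_iff.mp (isConj_one_left.mp hy)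
      simp only [Pi.sub_apply, pRegularPart_of_not_dvd _ h3, sub_self]
    rw [projOp_sub, sub_eq_zero] at h1
    exact h1

/-- The scalar product of two `e`-parts. -/
theorem classInner_projOp_projOp (e : Set (IrrCharacter H)) {f g : H → ℂ} (hf : IsClassFunction H f)
    (hg : IsClassFunction H g) :
    classInner (projOp (indic e) f) (projOp (indic e) g) =
      ∑ ψ : IrrCharacter H, indic e ψ * (classInner f (ψ : H → ℂ) * conj (classInner g (ψ : H → ℂ))) := by
  classical
  rw [classInner_eq_sum_coeffs _ _ (projOp_isClassFunction _ hf) (projOp_isClassFunction _ hg)]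
  refine Finset.sum_congr rfl fun ψ _ => ?_
  have h1 : ∀ {k : H → ℂ}, IsClassFunction H k → classInner (projOp (indic e) k) (ψ : H → ℂ) =
      indic e ψ * classInner k (ψ : H → ℂ) := by
    intro k hk
    rw [classInner_projOp_left _ hk]
    rw [Finset.sum_eq_single ψ]
    · rw [classInner_irr_self ψ.2, mul_one]
    · intro φ _ hφ
      rw [classInner_irr_of_ne φ.2 ψ.2 (fun h => hφ (Subtype.ext h)), mul_zero, mul_zero]
    · simp
  rw [h1 hf, h1 hg]
  by_cases hψ : ψ ∈ e
  · simp [indic_apply_of_mem hψ]
  · simp [indic_apply_of_notMem hψ]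

/-- The key identity for a subsection. -/
theorem sum_block_subsection (hM : IsPModular p M) (hH : ∀ w : G, w ∈ H ↔ Commute w (x : G))
    (hxp : ∃ k, orderOf (x : G) = p ^ k) {e : Set (IrrCharacter H)} {B : Set (IrrCharacter G)}
    (hind : IsInducedBlock M H e B) :
    ∑ χ : IrrCharacter G, indic B χ * classInner (projOp (indic e) (pRegularPart p (subF H x (χ : G → ℂ))))
      (projOp (indic e) (pRegularPart p (subF H x (χ : G → ℂ)))) = (blockRank p e : ℂ) := by
  classical
  have := isPrime_of_modular hM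
  have hf : ∀ χ : IrrCharacter G, IsClassFunction H (pRegularPart p (subF H x (χ : G → ℂ))) := fun χ =>
    pRegularPart_isClassFunction (subF_isClassFunction hH (irr_isClassFunction χ))
  simp only [classInner_projOp_projOp e (hf _) (hf _), Finset.mul_sum]
  rw [Finset.sum_comm]
  rw [← sum_classInner_pRegularPart hM hind.1]
  have h2 : ∀ y : IrrCharacter H, ∑ χ : IrrCharacter G, indic B χ * (indic e y *
      (classInner (pRegularPart p (subF H x (χ : G → ℂ))) (y : H → ℂ) *
        conj (classInner (pRegularPart p (subF H x (χ : G → ℂ))) (y : H → ℂ)))) =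
      if y ∈ e then classInner (pRegularPart p (y : H → ℂ)) (y : H → ℂ) else 0 := by
    intro y
    by_cases hy : y ∈ e
    · rw [if_pos hy, ← sum_block_subF_sq hM hH hxp hind hy]
      refine Finset.sum_congr rfl fun χ _ => ?_
      rw [indic_apply_of_mem hy, one_mul]
    · rw [if_neg hy]
      refine Finset.sum_eq_zero fun χ _ => ?_
      rw [indic_apply_of_notMem hy, zero_mul, mul_zero]
  rw [Finset.sum_congr rfl fun y _ => h2 y, Finset.sum_ite, Finset.sum_const_zero, add_zero]
  exact Finset.sum_subtype _ (fun ψ => by simp) _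

/-- The conjugate subsection function. -/
theorem projOp_subF_inv (hH : ∀ w : G, w ∈ H ↔ Commute w (x : G)) (e : Set (IrrCharacter H))
    (χ : IrrCharacter G) (s : H) :
    projOp (indic e) (subF H x⁻¹ (χ : G → ℂ)) s⁻¹ = conj (projOp (indic e) (subF H x (χ : G → ℂ)) s) := by
  classical
  have hH' : ∀ w : G, w ∈ H ↔ Commute w ((x⁻¹ : H) : G) := by
    intro w
    rw [hH]
    simp
  have hf := subF_isClassFunction hH (irr_isClassFunction χ)
  have hf' := subF_isClassFunction hH' (irr_isClassFunction χ)
  have h1 : ∀ ψ : IrrCharacter H, classInner (subF H x⁻¹ (χ : G → ℂ)) (ψ : H → ℂ) =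
      conj (classInner (subF H x (χ : G → ℂ)) (ψ : H → ℂ)) := by
    intro ψ
    simp only [classInner, map_mul, map_sum, map_inv₀, Complex.conj_natCast, Complex.conj_conj]
    congr 1
    refine Fintype.sum_equiv (Equiv.inv H) _ _ fun c => ?_
    simp only [Equiv.inv_apply, subF_apply]
    rw [irr_apply_inv ψ]
    congr 1
    have h2 : ((x⁻¹ * c : H) : G) = (((c⁻¹ * x : H) : G))⁻¹ := by
      simp
    have h3 : (c⁻¹ * x : H) = x * c⁻¹ := central_of hH c⁻¹
    rw [h2, irr_apply_inv χ, h3]
  rw [projOp_eq_sum _ hf', projOp_eq_sum _ hf, map_sum]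
  refine Finset.sum_congr rfl fun ψ _ => ?_
  rw [h1 ψ, irr_apply_inv ψ, map_mul, map_mul]
  congr 1
  by_cases hψ : ψ ∈ e
  · simp [indic_apply_of_mem hψ]
  · simp [indic_apply_of_notMem hψ]

/-- **The sum for a subsection.** -/
theorem subsection_sum (hM : IsPModular p M) (hH : ∀ w : G, w ∈ H ↔ Commute w (x : G))
    (hxp : ∃ k, orderOf (x : G) = p ^ k) {e : Set (IrrCharacter H)} {B : Set (IrrCharacter G)}
    (hind : IsInducedBlock M H e B) :
    ∑ᶠ χ ∈ B, ∑ᶠ s : H, pRegularPart p (blockPart e (subF H x (χ : G → ℂ))) s *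
      blockPart e (subF H x⁻¹ (χ : G → ℂ)) s⁻¹ = (Nat.card H : ℂ) * (blockRank p e : ℂ) := by
  classical
  have := isPrime_of_modular hM
  have hH' : ∀ w : G, w ∈ H ↔ Commute w ((x⁻¹ : H) : G) := by
    intro w
    rw [hH]
    simp
  rw [finsum_mem_eq_sum_indic, ← sum_block_subsection hM hH hxp hind, Finset.mul_sum]
  refine Finset.sum_congr rfl fun χ _ => ?_
  have hf := subF_isClassFunction hH (irr_isClassFunction χ)
  have hf' := subF_isClassFunction hH' (irr_isClassFunction χ)
  rw [finsum_eq_sum_of_fintype]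
  have h1 : ∑ s : H, pRegularPart p (blockPart e (subF H x (χ : G → ℂ))) s *
      blockPart e (subF H x⁻¹ (χ : G → ℂ)) s⁻¹ = (Nat.card H : ℂ) * classInner
        (projOp (indic e) (pRegularPart p (subF H x (χ : G → ℂ))))
        (projOp (indic e) (pRegularPart p (subF H x (χ : G → ℂ)))) := by
    have hcard : (Nat.card H : ℂ) ≠ 0 := by exact_mod_cast Nat.card_pos.ne'
    rw [classInner, ← mul_assoc, mul_inv_cancel₀ hcard, one_mul]
    refine Finset.sum_congr rfl fun s _ => ?_
    have h2 : blockPart e (subF H x (χ : G → ℂ)) = projOp (indic e) (subF H x (χ : G → ℂ)) := by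
      funext g
      exact blockPart_eq_projOp e hf g
    rw [h2, blockPart_eq_projOp e hf', projOp_subF_inv hH, pRegularPart_projOp hM hind.1 hf]
    by_cases hs : p ∣ orderOf s
    · have h3 := congrFun (pRegularPart_projOp (p := p) hM hind.1 hf) s
      rw [pRegularPart_of_dvd _ hs] at h3
      rw [← h3, zero_mul, zero_mul]
    · have h3 := congrFun (pRegularPart_projOp (p := p) hM hind.1 hf) s
      rw [pRegularPart_of_not_dvd _ hs] at h3
      rw [h3]
  rw [h1]
  ring

end S4683

end Cfsg.Agent.Lib.H8Group
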