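import Cfsg.Agent.Lib.H8Group.StabBlock
import Cfsg.Agent.Lib.Char.CliffordCorr
import Cfsg.Agent.Lib.Char.CliffordBij
import Cfsg.Agent.Lib.Blocks.CoverApps
import Cfsg.Agent.Lib.Blocks.Fong

/-!
# The Fong--Reynolds theorem
-/

set_option autoImplicit false
set_option linter.unusedSectionVars false

namespace Cfsg.Agent.Lib.H8Group

open Cfsg Cfsg.Agent.Lib.Char
open scoped ComplexConjugate

universe u

section Numeric

variable {G : Type u} [Group G] [Fintype G] (N : Subgroup G) [hN : N.Normal] [Fintype N]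
  {T : Subgroup G} [Fintype T] (hNT : N ≤ T)

/-- The inertia group seen inside an intermediate subgroup has the same order. -/
theorem card_inertia_subgroupOf {θ : N → ℂ} (hI : ∀ g, Cfsg.Agent.Lib.Char.conjFun N g θ = θ → g ∈ T) [Fintype (N.subgroupOf T)] :
    Nat.card (inertia (N.subgroupOf T) (θ ∘ Subgroup.subgroupOfEquivOfLe hNT)) = Nat.card (inertia N θ) := by
  classical
  refine Nat.card_congr
    { toFun := fun t => ⟨((t : T) : G), ?_⟩
      invFun := fun g => ⟨⟨g, hI g g.2⟩, ?_⟩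
      left_inv := fun t => rfl
      right_inv := fun g => rfl }
  · have h := t.2
    rw [mem_inertia] at h ⊢
    funext n
    have h1 := congrFun h (Subgroup.subgroupOfEquivOfLe hNT |>.symm n)
    simp only [Cfsg.Agent.Lib.Char.conjFun_apply, Function.comp_apply, MulEquiv.apply_symm_apply] at h1 ⊢
    rw [← h1]
    congr 1
  · have h := g.2
    rw [mem_inertia] at h ⊢
    funext n
    have h1 := congrFun h (Subgroup.subgroupOfEquivOfLe hNT n)
    simp only [Cfsg.Agent.Lib.Char.conjFun_apply, Function.comp_apply] at h1 ⊢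
    rw [← h1]
    congr 1

/-- The degree formula at the level of an intermediate subgroup containing the inertia group. -/
theorem degree_intermediate {ψ : T → ℂ} {θ : N → ℂ} (hψ : IsIrrCharacter T ψ) (hθ : IsIrrCharacter N θ)
    (hI : ∀ g, Cfsg.Agent.Lib.Char.conjFun N g θ = θ → g ∈ T) (h : classInner (resTN N hNT ψ) θ ≠ 0) :
    (Nat.card (inertia N θ) : ℂ) * ψ 1 = classInner (resTN N hNT ψ) θ * ((Nat.card T : ℂ) * θ 1) := by
  classical
  let N' : Subgroup T := N.subgroupOf T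
  haveI : N'.Normal := Subgroup.normal_subgroupOf
  let _ : Fintype N' := Fintype.ofFinite N'
  let e : N' ≃* N := Subgroup.subgroupOfEquivOfLe hNT
  have hres : resFun N' ψ = resTN N hNT ψ ∘ e := rfl
  have hθ' : IsIrrCharacter N' (θ ∘ e) := isIrrCharacter_comp_mulEquiv e hθ
  have hinner : classInner (resFun N' ψ) (θ ∘ e) = classInner (resTN N hNT ψ) θ := by
    rw [hres]
    exact classInner_comp_mulEquiv e _ _
  have h1 := clifford_degree_aux N' hψ hθ' (by rwa [hinner])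
  rw [hinner, card_inertia_subgroupOf N hNT hI] at h1
  rw [h1]
  simp only [Function.comp_apply, map_one]

/-- The core of the Fong--Reynolds correspondence. -/
theorem fr_core {χ : G → ℂ} {ψ : T → ℂ} {θ : N → ℂ} (hχ : IsIrrCharacter G χ)
    (hψ : IsIrrCharacter T ψ) (hθ : IsIrrCharacter N θ) (hI : ∀ g, Cfsg.Agent.Lib.Char.conjFun N g θ = θ → g ∈ T)
    (hm : classInner (resFun T χ) ψ ≠ 0) (he : classInner (resTN N hNT ψ) θ ≠ 0) :
    classInner (resFun N χ) θ ≠ 0 ∧ indFun T ψ = χ ∧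
      classInner (resTN N hNT ψ) θ = classInner (resFun N χ) θ := by
  classical
  have hχ' := IsIrrCharacter.isCharacter hχ
  have hθ' := IsIrrCharacter.isCharacter hθ
  -- decomposition of `χ_T`
  obtain ⟨m, hm1, hsum⟩ := IsCharacter.exists_eq_sum (isCharacter_resFun T hχ')
  have hresN : resFun N χ = ∑ ψ' : IrrCharacter T, m ψ' • resTN N hNT (ψ' : T → ℂ) := by
    funext n
    have := congrFun hsum ⟨n, hNT n.2⟩
    simpa [Finset.sum_apply] using this
  have hg : ∀ ψ' : IrrCharacter T, ∃ k : ℕ, classInner (resTN N hNT (ψ' : T → ℂ)) θ = k := fun ψ' =>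
    IsCharacter.classInner_irr_eq_nat (isCharacter_resTN N hNT (IsIrrCharacter.isCharacter ψ'.2)) hθ
  choose g hg using hg
  have hf : classInner (resFun N χ) θ = ((∑ ψ' : IrrCharacter T, m ψ' * g ψ' : ℕ) : ℂ) := by
    rw [hresN, classInner_sum_left]
    push_cast
    refine Finset.sum_congr rfl fun ψ' _ => ?_
    rw [← Nat.cast_smul_eq_nsmul ℂ, classInner_smul_left, hg]
  set f : ℕ := ∑ ψ' : IrrCharacter T, m ψ' * g ψ' with hfdef
  have hmψ : m ⟨ψ, hψ⟩ ≠ 0 := by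
    intro h0
    apply hm
    have := hm1 ⟨ψ, hψ⟩
    rw [this, h0]
    simp
  have hgψ : g ⟨ψ, hψ⟩ ≠ 0 := by
    intro h0
    apply he
    have := hg ⟨ψ, hψ⟩
    rw [this, h0]
    simp
  have hle : g ⟨ψ, hψ⟩ ≤ f := by
    have h1 : m ⟨ψ, hψ⟩ * g ⟨ψ, hψ⟩ ≤ f :=
      Finset.single_le_sum (f := fun ψ' : IrrCharacter T => m ψ' * g ψ') (fun _ _ => Nat.zero_le _)
        (Finset.mem_univ _)
    have h2 : g ⟨ψ, hψ⟩ ≤ m ⟨ψ, hψ⟩ * g ⟨ψ, hψ⟩ := Nat.le_mul_of_pos_left _ (Nat.pos_of_ne_zero hmψ)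
    exact h2.trans h1
  have hfpos : f ≠ 0 := by omega
  have hf' : classInner (resFun N χ) θ ≠ 0 := by
    rw [hf]
    exact_mod_cast hfpos
  refine ⟨hf', ?_⟩
  -- degrees
  obtain ⟨t, ht, htθ⟩ := IsIrrCharacter.apply_one hθ
  obtain ⟨a, ha, haψ⟩ := IsIrrCharacter.apply_one hψ
  obtain ⟨c, hc, hcχ⟩ := IsIrrCharacter.apply_one hχ
  have hgg : classInner (resTN N hNT ψ) θ = g ⟨ψ, hψ⟩ := hg ⟨ψ, hψ⟩
  have d1 := degree_intermediate N hNT hψ hθ hI he
  have d2 := clifford_degree_aux N hχ hθ hf'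
  rw [hgg, htθ, haψ] at d1
  rw [hf, htθ, hcχ] at d2
  have hcardI : 0 < Nat.card (inertia N θ) := Nat.card_pos
  have hidx : T.index * Nat.card T = Nat.card G := Subgroup.index_mul_card T
  have d1' : Nat.card (inertia N θ) * a = g ⟨ψ, hψ⟩ * (Nat.card T * t) := by exact_mod_cast d1
  have d2' : Nat.card (inertia N θ) * c = f * (Nat.card G * t) := by exact_mod_cast d2
  have hleN : T.index * a ≤ c := by
    apply Nat.le_of_mul_le_mul_left _ hcardI
    calc Nat.card (inertia N θ) * (T.index * a) = T.index * (Nat.card (inertia N θ) * a) := by ring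
      _ = g ⟨ψ, hψ⟩ * (Nat.card G * t) := by rw [d1', ← hidx]; ring
      _ ≤ f * (Nat.card G * t) := Nat.mul_le_mul_right _ hle
      _ = Nat.card (inertia N θ) * c := d2'.symm
  have hind1 : indFun T ψ 1 = ((T.index * a : ℕ) : ℂ) := by
    rw [indFun_one, haψ]
    push_cast
    ring
  have hinner : classInner (indFun T ψ) χ ≠ 0 := by
    rw [classInner_indFun_left T ψ χ (IsCharacter.isClassFunction hχ')]
    intro h0
    apply hm
    rw [classInner_conj_symm]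
    have : classInner ψ (resFun T χ) = 0 := h0
    rw [this, map_zero]
  have heq : indFun T ψ = χ := by
    apply IsCharacter.eq_of_constituent_of_degree_le (isCharacter_indFun T (IsIrrCharacter.isCharacter hψ)) hχ hinner
    rw [hind1, hcχ, Complex.natCast_re, Complex.natCast_re]
    exact_mod_cast hleN
  refine ⟨heq, ?_⟩
  -- equality of multiplicities
  have hceq : T.index * a = c := by
    have h5 : indFun T ψ 1 = χ 1 := by rw [heq]
    rw [hind1, hcχ] at h5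
    exact_mod_cast h5
  have hgf : g ⟨ψ, hψ⟩ = f := by
    have h6 : g ⟨ψ, hψ⟩ * (Nat.card G * t) = f * (Nat.card G * t) := by
      calc g ⟨ψ, hψ⟩ * (Nat.card G * t) = T.index * (g ⟨ψ, hψ⟩ * (Nat.card T * t)) := by rw [← hidx]; ring
        _ = T.index * (Nat.card (inertia N θ) * a) := by rw [d1']
        _ = Nat.card (inertia N θ) * (T.index * a) := by ring
        _ = f * (Nat.card G * t) := by rw [hceq, d2']
    have h7 : 0 < Nat.card G * t := Nat.mul_pos Nat.card_pos ht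
    exact Nat.eq_of_mul_eq_mul_right h7 h6
  rw [hf, ← hgf, hgg]

/-- Characters over a character whose inertia group lies in `T` induce irreducibly. -/
theorem fr_irr {ψ : T → ℂ} {θ : N → ℂ} (hψ : IsIrrCharacter T ψ) (hθ : IsIrrCharacter N θ)
    (hI : ∀ g, Cfsg.Agent.Lib.Char.conjFun N g θ = θ → g ∈ T) (he : classInner (resTN N hNT ψ) θ ≠ 0) :
    IsIrrCharacter G (indFun T ψ) := by
  classical
  have hne : ∃ χ : IrrCharacter G, classInner (indFun T ψ) (χ : G → ℂ) ≠ 0 := by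
    by_contra hcon
    push Not at hcon
    have h1 := classFunction_eq_sum (indFun T ψ) (isClassFunction_indFun T ψ)
    have h2 : indFun T ψ = 0 := by
      rw [h1]
      refine Finset.sum_eq_zero fun μ _ => ?_
      rw [hcon μ, zero_smul]
    have h3 := congrFun h2 1
    rw [indFun_one] at h3
    have h4 : (T.index : ℂ) ≠ 0 := by
      exact_mod_cast Subgroup.index_ne_zero_of_finite
    exact (mul_ne_zero h4 (IsIrrCharacter.apply_one_ne_zero hψ)) h3
  obtain ⟨χ, hχ⟩ := hne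
  have hm : classInner (resFun T (χ : G → ℂ)) ψ ≠ 0 := by
    rw [classInner_conj_symm]
    intro h0
    apply hχ
    rw [classInner_indFun_left T ψ _ (IsCharacter.isClassFunction (IsIrrCharacter.isCharacter χ.2))]
    have h1 := (map_eq_zero _).mp h0
    exact h1
  rw [(fr_core N hNT χ.2 hψ hθ hI hm he).2.1]
  exact χ.2

/-- The restriction of the induced character contains the multiplicity of `θ` unchanged. -/
theorem fr_res {ψ : T → ℂ} {θ : N → ℂ} (hψ : IsIrrCharacter T ψ) (hθ : IsIrrCharacter N θ)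
    (hI : ∀ g, Cfsg.Agent.Lib.Char.conjFun N g θ = θ → g ∈ T) (he : classInner (resTN N hNT ψ) θ ≠ 0) :
    classInner (resFun N (indFun T ψ)) θ = classInner (resTN N hNT ψ) θ := by
  classical
  have hirr := fr_irr N hNT hψ hθ hI he
  have hm : classInner (resFun T (indFun T ψ)) ψ ≠ 0 := by
    rw [classInner_conj_symm]
    intro h0
    have h1 := (map_eq_zero _).mp h0
    have h2 := classInner_indFun_left T ψ (indFun T ψ)
      (IsCharacter.isClassFunction (IsIrrCharacter.isCharacter hirr))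
    rw [classInner_irr_self hirr] at h2
    exact one_ne_zero (h2.trans h1)
  exact (fr_core N hNT hirr hψ hθ hI hm he).2.2.symm

/-- Every character over `θ` is induced. -/
theorem fr_corr {χ : G → ℂ} {θ : N → ℂ} (hχ : IsIrrCharacter G χ) (hθ : IsIrrCharacter N θ)
    (hI : ∀ g, Cfsg.Agent.Lib.Char.conjFun N g θ = θ → g ∈ T) (h : classInner (resFun N χ) θ ≠ 0) :
    ∃ ψ : T → ℂ, IsIrrCharacter T ψ ∧ indFun T ψ = χ ∧ classInner (resTN N hNT ψ) θ ≠ 0 := by
  classical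
  have hχ' := IsIrrCharacter.isCharacter hχ
  obtain ⟨m, hm1, hsum⟩ := IsCharacter.exists_eq_sum (isCharacter_resFun T hχ')
  have hresN : resFun N χ = ∑ ψ' : IrrCharacter T, m ψ' • resTN N hNT (ψ' : T → ℂ) := by
    funext n
    have := congrFun hsum ⟨n, hNT n.2⟩
    simpa [Finset.sum_apply] using this
  have hf : classInner (resFun N χ) θ =
      ∑ ψ' : IrrCharacter T, (m ψ' : ℂ) * classInner (resTN N hNT (ψ' : T → ℂ)) θ := by
    rw [hresN, classInner_sum_left]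
    refine Finset.sum_congr rfl fun ψ' _ => ?_
    rw [← Nat.cast_smul_eq_nsmul ℂ, classInner_smul_left]
  rw [hf] at h
  obtain ⟨ψ, -, hψ⟩ := Finset.exists_ne_zero_of_sum_ne_zero h
  have hψ1 := left_ne_zero_of_mul hψ
  have hψ2 := right_ne_zero_of_mul hψ
  have hm : classInner (resFun T χ) (ψ : T → ℂ) ≠ 0 := by
    rw [hm1]
    exact hψ1
  obtain ⟨-, h3, -⟩ := fr_core N hNT hχ ψ.2 hθ hI hm hψ2
  exact ⟨ψ, ψ.2, h3, hψ2⟩

/-- The multiplicity of `ψ` in its induced character restricted to `T` is one. -/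
theorem fr_classInner_res_self {ψ : T → ℂ} (hψ : IsCharacter T ψ) (hirr : IsIrrCharacter G (indFun T ψ)) :
    classInner (resFun T (indFun T ψ)) ψ = 1 := by
  rw [classInner_conj_symm]
  have h2 := classInner_indFun_left T ψ (indFun T ψ) (IsCharacter.isClassFunction (IsIrrCharacter.isCharacter hirr))
  rw [classInner_irr_self hirr] at h2
  have h3 : classInner ψ (resFun T (indFun T ψ)) = 1 := h2.symm
  rw [h3, map_one]

/-- Two characters over `θ` with the same induced character are equal. -/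
theorem fr_inj {ψ₁ ψ₂ : T → ℂ} {θ : N → ℂ} (hψ₁ : IsIrrCharacter T ψ₁) (hψ₂ : IsIrrCharacter T ψ₂)
    (hθ : IsIrrCharacter N θ) (hI : ∀ g, Cfsg.Agent.Lib.Char.conjFun N g θ = θ → g ∈ T)
    (h₁ : classInner (resTN N hNT ψ₁) θ ≠ 0) (h₂ : classInner (resTN N hNT ψ₂) θ ≠ 0)
    (heq : indFun T ψ₁ = indFun T ψ₂) : ψ₁ = ψ₂ := by
  classical
  by_contra hne
  set χ := indFun T ψ₁ with hχdef
  have hχ : IsIrrCharacter G χ := fr_irr N hNT hψ₁ hθ hI h₁
  have hχc := IsIrrCharacter.isCharacter hχ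
  have hψ₁c := IsIrrCharacter.isCharacter hψ₁
  have ha₁ : classInner (resFun T χ) ψ₁ = ((1 : ℕ) : ℂ) := by
    rw [Nat.cast_one]
    exact fr_classInner_res_self hψ₁c hχ
  have ha₂ : classInner (resFun T χ) ψ₂ = ((1 : ℕ) : ℂ) := by
    rw [Nat.cast_one, heq]
    exact fr_classInner_res_self (IsIrrCharacter.isCharacter hψ₂) (by rw [← heq]; exact hχ)
  obtain ⟨Δ, hΔ, hT⟩ := exists_complement (isCharacter_resFun T hχc) hψ₁ ha₁
  have ha₃ : classInner Δ ψ₂ = ((1 : ℕ) : ℂ) := by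
    have h3 := ha₂
    rw [hT, classInner_add_left, ← Nat.cast_smul_eq_nsmul ℂ, classInner_smul_left,
      classInner_irr_of_ne hψ₁ hψ₂ hne] at h3
    simpa using h3
  obtain ⟨Δ₂, hΔ₂, hT₂⟩ := exists_complement hΔ hψ₂ ha₃
  obtain ⟨e₁, he₁⟩ := IsCharacter.classInner_irr_eq_nat (isCharacter_resTN N hNT hψ₁c) hθ
  obtain ⟨e₂, he₂⟩ := IsCharacter.classInner_irr_eq_nat
    (isCharacter_resTN N hNT (IsIrrCharacter.isCharacter hψ₂)) hθ
  obtain ⟨d, hd⟩ := IsCharacter.classInner_irr_eq_nat (isCharacter_resTN N hNT hΔ₂) hθ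
  have hres : resFun N χ = resTN N hNT ψ₁ + (resTN N hNT ψ₂ + resTN N hNT Δ₂) := by
    funext n
    have h5 := congrFun hT ⟨n, hNT n.2⟩
    have h6 := congrFun hT₂ ⟨n, hNT n.2⟩
    simp only [Pi.add_apply, Pi.smul_apply, one_smul] at h5 h6
    simp only [Pi.add_apply]
    rw [← h6]
    exact h5
  have h7 := fr_res N hNT hψ₁ hθ hI h₁
  rw [← hχdef, hres, classInner_add_left, classInner_add_left, he₁, he₂, hd] at h7
  have h8 : e₁ + (e₂ + d) = e₁ := by exact_mod_cast h7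
  have h9 : e₂ = 0 := by omega
  apply h₂
  rw [he₂, h9]
  simp

end Numeric

section Blocks

open Cfsg.Agent.Lib.Blocks

variable {G : Type u} [Group G] [Fintype G] (N : Subgroup G) [hN : N.Normal] [Fintype N]
  {T : Subgroup G} [Fintype T] (hNT : N ≤ T) {M : Ideal AlgInt} [M.IsPrime]
  {b : Set (IrrCharacter N)}

/-- The stabilizer of a block contains the inertia groups of its members. -/
theorem stab_inertia (hb : IsPBlock M b) (hT : ∀ x, x ∈ T ↔ ∀ θ ∈ b, conjIrr N x θ ∈ b)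
    {θ : IrrCharacter N} (hθ : θ ∈ b) (g : G) (hg : Cfsg.Agent.Lib.Char.conjFun N g (θ : N → ℂ) = θ) : g ∈ T := by
  rw [hT]
  intro θ' hθ'
  refine conjIrr_mem_of_mem N hb hθ ?_ hθ'
  have : conjIrr N g θ = θ := Subtype.ext hg
  rwa [this]

theorem conjFun_resTN (ψ : IrrCharacter T) {t : G} (ht : t ∈ T) :
    Cfsg.Agent.Lib.Char.conjFun N t (resTN N hNT (ψ : T → ℂ)) = resTN N hNT (ψ : T → ℂ) := by
  funext n
  simp only [Cfsg.Agent.Lib.Char.conjFun_apply]
  have h := irr_isClassFunction ψ ⟨n, hNT n.2⟩ ⟨t⁻¹, T.inv_mem ht⟩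
  show (ψ : T → ℂ) ⟨t⁻¹ * n * t, _⟩ = (ψ : T → ℂ) ⟨n, hNT n.2⟩
  rw [← h]
  refine congrArg (ψ : T → ℂ) (Subtype.ext ?_)
  simp

theorem classInner_resTN_conj (ψ : IrrCharacter T) {t : G} (ht : t ∈ T) (θ : N → ℂ) :
    classInner (resTN N hNT (ψ : T → ℂ)) (Cfsg.Agent.Lib.Char.conjFun N t θ) =
      classInner (resTN N hNT (ψ : T → ℂ)) θ := by
  conv_lhs => rw [← conjFun_resTN N hNT ψ ht]
  exact classInner_conjFun N t _ _

/-- Two characters over members of `b` with the same induced character coincide. -/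
theorem fr_inj_block (hb : IsPBlock M b) (hT : ∀ x, x ∈ T ↔ ∀ θ ∈ b, conjIrr N x θ ∈ b)
    {ψ τ : IrrCharacter T} {θ θ' : IrrCharacter N} (hθ : θ ∈ b) (hθ' : θ' ∈ b)
    (h : classInner (resTN N hNT (ψ : T → ℂ)) (θ : N → ℂ) ≠ 0)
    (h' : classInner (resTN N hNT (τ : T → ℂ)) (θ' : N → ℂ) ≠ 0)
    (heq : indFun T (ψ : T → ℂ) = indFun T (τ : T → ℂ)) : ψ = τ := by
  have hI := stab_inertia N hb hT hθ
  have hI' := stab_inertia N hb hT hθ'
  have hχ := fr_irr N hNT ψ.2 θ.2 hI h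
  have h1 := fr_res N hNT ψ.2 θ.2 hI h
  have h2 := fr_res N hNT τ.2 θ'.2 hI' h'
  rw [← heq] at h2
  obtain ⟨g, hg⟩ := clifford_constituent N hχ θ.2 θ'.2 (by rw [h1]; exact h) (by rw [h2]; exact h')
  have hgT : g ∈ T := by
    rw [hT]
    intro θ₁ hθ₁
    refine conjIrr_mem_of_mem N hb hθ ?_ hθ₁
    have : conjIrr N g θ = θ' := Subtype.ext hg.symm
    rwa [this]
  have h3 : classInner (resTN N hNT (τ : T → ℂ)) (θ : N → ℂ) ≠ 0 := by
    rw [← classInner_resTN_conj N hNT τ hgT, ← hg]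
    exact h'
  exact Subtype.ext (fr_inj N hNT ψ.2 τ.2 θ.2 hI h h3 heq)

/-- All the constituents on `N` of the characters in a block of `T` covering `b` lie in `b`. -/
theorem mem_of_sameBlock_over (hb : IsPBlock M b) (hT : ∀ x, x ∈ T ↔ ∀ θ ∈ b, conjIrr N x θ ∈ b)
    {ψ₀ ψ : IrrCharacter T} (h : SameBlock M (ψ₀ : T → ℂ) (ψ : T → ℂ)) {θ₀ θ₁ : IrrCharacter N} (hθ₀ : θ₀ ∈ b)
    (h₀ : classInner (resTN N hNT (ψ₀ : T → ℂ)) (θ₀ : N → ℂ) ≠ 0)
    (h₁ : classInner (resTN N hNT (ψ : T → ℂ)) (θ₁ : N → ℂ) ≠ 0) : θ₁ ∈ b := by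
  classical
  let N' : Subgroup T := N.subgroupOf T
  haveI : N'.Normal := Subgroup.normal_subgroupOf
  let _ : Fintype N' := Fintype.ofFinite N'
  let e : N' ≃* N := Subgroup.subgroupOfEquivOfLe hNT
  have hinner : ∀ (φ : IrrCharacter T) (θ : IrrCharacter N),
      classInner (fun n : N' => (φ : T → ℂ) n) ((irrComp e θ : IrrCharacter N') : N' → ℂ) =
        classInner (resTN N hNT (φ : T → ℂ)) (θ : N → ℂ) := by
    intro φ θ
    exact classInner_comp_mulEquiv e (resTN N hNT (φ : T → ℂ)) (θ : N → ℂ)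
  have hAb : ∀ θ ∈ blockPull e b, blockOf M ((θ : IrrCharacter N') : N' → ℂ) ⊆ blockPull e b := by
    intro θ hθ
    rw [← blockOf_eq_of_mem (isPBlock_blockPull e hb) hθ]
  have hA : ∀ (t : T) θ, θ ∈ blockPull e b → conjIrr N' t θ ∈ blockPull e b := by
    intro t θ hθ
    have h2 : irrComp e.symm (conjIrr N' t θ) = conjIrr N (t : G) (irrComp e.symm θ) := by
      apply Subtype.ext
      funext n
      simp only [irrComp_coe, conjIrr_coe, Function.comp_apply, Cfsg.Agent.Lib.Char.conjFun_apply]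
      congr 1
    show irrComp e.symm (conjIrr N' t θ) ∈ b
    rw [h2]
    exact (hT t).mp t.2 _ hθ
  have h3 := mem_iff_of_central_congr N' hAb hA (χ := ψ₀) (χ' := ψ) (fun n => h _)
    (θ₁ := irrComp e θ₀) (θ₂ := irrComp e θ₁) (by rw [hinner]; exact h₀) (by rw [hinner]; exact h₁)
  have h4 : irrComp e θ₀ ∈ blockPull e b := mem_blockPull e |>.mpr hθ₀
  exact (mem_blockPull e).mp (h3.mp h4)

/-- The central character of an induced character. -/
theorem sameBlock_indFun_of_sameBlock {ψ ψ' : IrrCharacter T} (h : SameBlock M (ψ : T → ℂ) (ψ' : T → ℂ)) :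
    SameBlock M (indFun T (ψ : T → ℂ)) (indFun T (ψ' : T → ℂ)) := by
  intro g
  rw [← inducedCentralChar_eq_centralChar_indFun, ← inducedCentralChar_eq_centralChar_indFun]
  exact inducedCentralChar_congr T (isPBlock_blockOf ψ) (self_mem_blockOf ψ) h g

/-- Sums against an induced function. -/
theorem sum_indFun_mul (f : T → ℂ) (F : G → ℂ) (hF : IsClassFunction G F) :
    ∑ x, indFun T f x * F x = (Nat.card G : ℂ) * (Nat.card T : ℂ)⁻¹ * ∑ t : T, f t * F t := by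
  classical
  have h1 : ∀ y : G, ∑ x : G, (Nat.card T : ℂ)⁻¹ * extendByZero T f (y⁻¹ * x * y) * F x =
      (Nat.card T : ℂ)⁻¹ * ∑ t : T, f t * F t := by
    intro y
    rw [← sum_extendByZero_mul T f F, Finset.mul_sum]
    refine Fintype.sum_equiv ((MulAut.conj y⁻¹).toEquiv) _ _ fun x => ?_
    simp only [MulEquiv.toEquiv_eq_coe, MulEquiv.coe_toEquiv, MulAut.conj_apply, inv_inv]
    rw [mul_assoc]
    congr 1
    have := hF (y⁻¹ * x * y) y
    have h2 : y * (y⁻¹ * x * y) * y⁻¹ = x := by group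
    rw [h2] at this
    rw [this]
  have h0 : ∑ x, indFun T f x * F x =
      ∑ y : G, ∑ x : G, (Nat.card T : ℂ)⁻¹ * extendByZero T f (y⁻¹ * x * y) * F x := by
    rw [Finset.sum_comm]
    refine Finset.sum_congr rfl fun x _ => ?_
    rw [indFun_apply, Finset.mul_sum, Finset.sum_mul]
  rw [h0, Finset.sum_congr rfl fun y _ => h1 y, Finset.sum_const, Finset.card_univ, nsmul_eq_mul,
    Nat.card_eq_fintype_card (α := G)]
  ring

/-- The spectrum of the induced function of a central function. -/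
theorem spec_indFun_coef (c : IrrCharacter T → ℂ) (ψ : IrrCharacter T)
    (hirr : IsIrrCharacter G (indFun T (ψ : T → ℂ)))
    (hc : ∀ τ : IrrCharacter T, τ ≠ ψ →
      classInner (Cfsg.Agent.Lib.Char.resFun T (indFun T (ψ : T → ℂ))) (τ : T → ℂ) ≠ 0 → c τ = 0) :
    spec (indFun T (coef c)) ⟨indFun T (ψ : T → ℂ), hirr⟩ = c ψ := by
  classical
  set χ : G → ℂ := indFun T (ψ : T → ℂ) with hχ
  have hχc := IsIrrCharacter.isCharacter hirr
  obtain ⟨m, hm1, hsum⟩ := IsCharacter.exists_eq_sum (isCharacter_resFun T hχc)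
  have h1 : ∑ t : T, coef c t * χ t = ∑ τ : IrrCharacter T, (m τ : ℂ) * (c τ * (τ : T → ℂ) 1) := by
    have h2 : ∀ t : T, χ t = ∑ τ : IrrCharacter T, (m τ : ℂ) * (τ : T → ℂ) t := by
      intro t
      have := congrFun hsum t
      simpa [Finset.sum_apply] using this
    simp only [h2, Finset.mul_sum]
    rw [Finset.sum_comm]
    refine Finset.sum_congr rfl fun τ _ => ?_
    have h3 := congrFun (spec_coef c) τ
    rw [spec] at h3
    have hτ1 := irr_apply_one_ne_zero τ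
    have h4 : ∑ t : T, coef c t * (τ : T → ℂ) t = c τ * (τ : T → ℂ) 1 := by
      rw [← h3]
      field_simp
    rw [← h4, Finset.mul_sum]
    refine Finset.sum_congr rfl fun t _ => ?_
    ring
  have hmψ : (m ψ : ℂ) = 1 := by
    rw [← hm1 ψ]
    exact fr_classInner_res_self (IsIrrCharacter.isCharacter ψ.2) hirr
  have h5 : ∑ τ : IrrCharacter T, (m τ : ℂ) * (c τ * (τ : T → ℂ) 1) = c ψ * (ψ : T → ℂ) 1 := by
    rw [Finset.sum_eq_single ψ]
    · rw [hmψ, one_mul]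
    · intro τ _ hτ
      by_cases h6 : (m τ : ℂ) = 0
      · rw [h6, zero_mul]
      · rw [hc τ hτ (by rw [hm1]; exact h6)]
        simp
    · intro h
      exact absurd (Finset.mem_univ ψ) h
  rw [spec]
  simp only
  rw [sum_indFun_mul _ _ (IsCharacter.isClassFunction hχc), h1, h5, indFun_one]
  have hψ1 := irr_apply_one_ne_zero ψ
  have hT0 : (Nat.card T : ℂ) ≠ 0 := by exact_mod_cast Nat.card_pos.ne'
  have hI0 : (T.index : ℂ) ≠ 0 := by exact_mod_cast Subgroup.index_ne_zero_of_finite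
  have hidx : (Nat.card G : ℂ) = (T.index : ℂ) * (Nat.card T : ℂ) := by
    exact_mod_cast (Subgroup.index_mul_card T).symm
  rw [hidx]
  field_simp

/-- The conjugation sum of a local class function of `T` is local. -/
theorem indFun_memLocalRing {f : T → ℂ} (hf : IsClassFunction T f) (hS : ∀ t, MemLocalRing M (f t)) (g : G) :
    MemLocalRing M (indFun T f g) := by
  classical
  have hT0 : (Nat.card T : ℂ) ≠ 0 := by exact_mod_cast Nat.card_pos.ne'
  have hext : ∀ (a : T) (y : G), extendByZero T f ((a : G)⁻¹ * y * a) = extendByZero T f y := by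
    intro a y
    by_cases hy : y ∈ T
    · have hy' : (a : G)⁻¹ * y * a ∈ T := T.mul_mem (T.mul_mem (T.inv_mem a.2) hy) a.2
      rw [extendByZero_of_mem T f hy, extendByZero_of_mem T f hy']
      have := hf ⟨y, hy⟩ a⁻¹
      rw [← this]
      congr 1
      apply Subtype.ext
      simp
    · have hy' : (a : G)⁻¹ * y * a ∉ T := by
        intro h
        apply hy
        have := T.mul_mem (T.mul_mem a.2 h) (T.inv_mem a.2)
        simpa [mul_assoc] using this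
      rw [extendByZero_of_notMem T f hy, extendByZero_of_notMem T f hy']
  have h1 : indFun T f g = ∑ q : G ⧸ T, extendByZero T f ((q.out)⁻¹ * g * q.out) := by
    rw [indFun_apply, ← sum_quotient_out T (fun x => extendByZero T f (x⁻¹ * g * x)), Finset.mul_sum]
    refine Finset.sum_congr rfl fun q _ => ?_
    have h2 : ∀ a : T, extendByZero T f ((q.out * a)⁻¹ * g * (q.out * a)) =
        extendByZero T f ((q.out)⁻¹ * g * q.out) := by
      intro a
      rw [← hext a ((q.out)⁻¹ * g * q.out)]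
      congr 1
      group
    rw [Finset.sum_congr rfl fun a _ => h2 a, Finset.sum_const, Finset.card_univ, nsmul_eq_mul,
      Nat.card_eq_fintype_card (α := T), ← mul_assoc]
    rw [Nat.card_eq_fintype_card (α := T)] at hT0
    rw [inv_mul_cancel₀ hT0, one_mul]
  rw [h1]
  exact MemLocalRing.sum _ fun q _ => extendByZero_memLocalRing T hS _

/-- The spectrum of the induced idempotent of a set of characters over `b`. -/
theorem spec_indFun_indic (hb : IsPBlock M b) (hT : ∀ x, x ∈ T ↔ ∀ θ ∈ b, conjIrr N x θ ∈ b)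
    {A : Set (IrrCharacter T)} (hA : ∀ τ ∈ A, ∃ θ ∈ b, classInner (resTN N hNT (τ : T → ℂ)) (θ : N → ℂ) ≠ 0)
    (ψ : IrrCharacter T) {θ : IrrCharacter N} (hθ : θ ∈ b)
    (hψ : classInner (resTN N hNT (ψ : T → ℂ)) (θ : N → ℂ) ≠ 0) (hirr : IsIrrCharacter G (indFun T (ψ : T → ℂ))) :
    spec (indFun T (coef (indic A))) ⟨indFun T (ψ : T → ℂ), hirr⟩ = indic A ψ := by
  classical
  refine spec_indFun_coef (indic A) ψ hirr ?_
  intro τ hτ hcon
  by_contra hc
  have hτA : τ ∈ A := by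
    by_contra hn
    exact hc (indic_apply_of_notMem hn)
  obtain ⟨θ', hθ'b, hθ'c⟩ := hA τ hτA
  have hI' := stab_inertia N hb hT hθ'b
  have h3 := (fr_core N hNT hirr τ.2 θ'.2 hI' hcon hθ'c).2.1
  exact hτ (fr_inj_block N hNT hb hT hθ hθ'b hψ hθ'c h3.symm).symm

/-- Every member of a block of `T` covering `b` lies over a member of `b`. -/
theorem exists_over_of_covering (hb : IsPBlock M b) (hT : ∀ x, x ∈ T ↔ ∀ θ ∈ b, conjIrr N x θ ∈ b)
    {B' : Set (IrrCharacter T)} (hB' : IsPBlock M B')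
    (hcov : ∃ ψ ∈ B', ∃ θ ∈ b, classInner (resTN N hNT (ψ : T → ℂ)) (θ : N → ℂ) ≠ 0)
    {ψ : IrrCharacter T} (hψ : ψ ∈ B') : ∃ θ ∈ b, classInner (resTN N hNT (ψ : T → ℂ)) (θ : N → ℂ) ≠ 0 := by
  obtain ⟨ψ₀, hψ₀, θ₀, hθ₀, h₀⟩ := hcov
  obtain ⟨θ', hθ', hθ'c⟩ := Cfsg.Agent.Lib.Char.exists_constituent
    (isCharacter_resTN N hNT (IsIrrCharacter.isCharacter ψ.2)) (by
      have := irr_apply_one_ne_zero ψ
      exact this)
  exact ⟨⟨θ', hθ'⟩, mem_of_sameBlock_over N hNT hb hT (sameBlock_of_mem hB' hψ₀ hψ) hθ₀ h₀ (θ₁ := ⟨θ', hθ'⟩) hθ'c,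
    hθ'c⟩

/-- **The key step.** Characters over `b` whose induced characters lie in one block lie in one
block. -/
theorem sameBlock_of_indFun_sameBlock (hb : IsPBlock M b) (hT : ∀ x, x ∈ T ↔ ∀ θ ∈ b, conjIrr N x θ ∈ b)
    {ψ₁ ψ₂ : IrrCharacter T} {θ₁ θ₂ : IrrCharacter N} (hθ₁ : θ₁ ∈ b) (hθ₂ : θ₂ ∈ b)
    (h₁ : classInner (resTN N hNT (ψ₁ : T → ℂ)) (θ₁ : N → ℂ) ≠ 0)
    (h₂ : classInner (resTN N hNT (ψ₂ : T → ℂ)) (θ₂ : N → ℂ) ≠ 0)
    (h : SameBlock M (indFun T (ψ₁ : T → ℂ)) (indFun T (ψ₂ : T → ℂ))) :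
    SameBlock M (ψ₁ : T → ℂ) (ψ₂ : T → ℂ) := by
  classical
  by_contra hne
  have hI₁ := stab_inertia N hb hT hθ₁
  have hI₂ := stab_inertia N hb hT hθ₂
  have hirr₁ := fr_irr N hNT ψ₁.2 θ₁.2 hI₁ h₁
  have hirr₂ := fr_irr N hNT ψ₂.2 θ₂.2 hI₂ h₂
  have hB₀ := isPBlock_blockOf (M := M) ψ₁
  have hA : ∀ τ ∈ blockOf M (ψ₁ : T → ℂ), ∃ θ ∈ b, classInner (resTN N hNT (τ : T → ℂ)) (θ : N → ℂ) ≠ 0 :=
    fun τ hτ => exists_over_of_covering N hNT hb hT hB₀ ⟨ψ₁, self_mem_blockOf ψ₁, θ₁, hθ₁, h₁⟩ hτ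
  have hzS : spec (indFun T (coef (indic (blockOf M (ψ₁ : T → ℂ))))) ∈ zS M G :=
    spec_mem_zS (isClassFunction_indFun T _)
      (indFun_memLocalRing (coef_isClassFunction _) (fun t => indic_mem_zS hB₀ t))
  let χ₁ : IrrCharacter G := ⟨_, hirr₁⟩
  let χ₂ : IrrCharacter G := ⟨_, hirr₂⟩
  have hχ₂ : χ₂ ∈ blockOf M (χ₁ : G → ℂ) := h
  have hc := zS_apply_congr (isPBlock_blockOf (M := M) χ₁) hzS (self_mem_blockOf χ₁) hχ₂
  have e₁ : spec (indFun T (coef (indic (blockOf M (ψ₁ : T → ℂ))))) χ₁ = 1 := by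
    rw [spec_indFun_indic N hNT hb hT hA ψ₁ hθ₁ h₁ hirr₁]
    exact indic_apply_of_mem (self_mem_blockOf ψ₁)
  have e₂ : spec (indFun T (coef (indic (blockOf M (ψ₁ : T → ℂ))))) χ₂ = 0 := by
    rw [spec_indFun_indic N hNT hb hT hA ψ₂ hθ₂ h₂ hirr₂]
    exact indic_apply_of_notMem hne
  rw [e₁, e₂, sub_zero] at hc
  exact not_memLocalIdeal_one hc

/-- **Fong--Reynolds, part (i).** -/
theorem fr_main (hb : IsPBlock M b) (hT : ∀ x, x ∈ T ↔ ∀ θ ∈ b, conjIrr N x θ ∈ b)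
    {B' : Set (IrrCharacter T)} (hB' : IsPBlock M B')
    (hcov : ∃ ψ ∈ B', ∃ θ ∈ b, classInner (resTN N hNT (ψ : T → ℂ)) (θ : N → ℂ) ≠ 0) :
    ∃ B : Set (IrrCharacter G), IsInducedBlock M T B' B ∧
      (∃ χ ∈ B, ∃ θ ∈ b, classInner (fun n : N => (χ : G → ℂ) n) (θ : N → ℂ) ≠ 0) ∧
      (∀ ψ ∈ B', IsIrrCharacter G (indFun T (ψ : T → ℂ))) ∧
      ∀ χ : IrrCharacter G, χ ∈ B ↔ ∃ ψ ∈ B', (χ : G → ℂ) = indFun T (ψ : T → ℂ) := by
  classical
  have hcov' := hcov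
  obtain ⟨ψ₀, hψ₀, θ₀, hθ₀, h₀⟩ := hcov
  have hirr₀ := fr_irr N hNT ψ₀.2 θ₀.2 (stab_inertia N hb hT hθ₀) h₀
  let χ₀ : IrrCharacter G := ⟨_, hirr₀⟩
  have hB := isPBlock_blockOf (M := M) χ₀
  have hχ₀ := self_mem_blockOf (M := M) χ₀
  have hover₀ : classInner (fun n : N => (χ₀ : G → ℂ) n) (θ₀ : N → ℂ) ≠ 0 := by
    have := fr_res N hNT ψ₀.2 θ₀.2 (stab_inertia N hb hT hθ₀) h₀
    show classInner (Cfsg.Agent.Lib.Char.resFun N (indFun T (ψ₀ : T → ℂ))) (θ₀ : N → ℂ) ≠ 0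
    rw [this]
    exact h₀
  refine ⟨blockOf M (χ₀ : G → ℂ), ?_, ⟨χ₀, hχ₀, θ₀, hθ₀, hover₀⟩, ?_, ?_⟩
  · refine isInducedBlock_of_mem T hB' hB hψ₀ hχ₀ fun g => ?_
    rw [inducedCentralChar_eq_centralChar_indFun]
    show MemLocalIdeal M (centralChar (indFun T (ψ₀ : T → ℂ)) g - centralChar (indFun T (ψ₀ : T → ℂ)) g)
    rw [sub_self]
    exact memLocalIdeal_zero
  · intro ψ hψ
    obtain ⟨θ, hθ, hc⟩ := exists_over_of_covering N hNT hb hT hB' hcov' hψ
    exact fr_irr N hNT ψ.2 θ.2 (stab_inertia N hb hT hθ) hc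
  · intro χ
    constructor
    · intro hχ
      obtain ⟨θ₁, hθ₁⟩ := Cfsg.Agent.Lib.Blocks.exists_constituent N χ
      obtain ⟨g, hg⟩ := covering_constituents N hB hb hχ₀ hχ hθ₀ hover₀ hθ₁
      have hθ₂ : classInner (Cfsg.Agent.Lib.Char.resFun N (χ : G → ℂ)) ((conjIrr N g θ₁ : IrrCharacter N) : N → ℂ) ≠ 0 := by
        have := classInner_conjIrr N (χ := χ) g θ₁
        show classInner (fun n : N => (χ : G → ℂ) n) _ ≠ 0
        rw [this]
        exact hθ₁
      obtain ⟨ψ, hψ, hψχ, hψo⟩ := fr_corr N hNT χ.2 (conjIrr N g θ₁).2 (stab_inertia N hb hT hg) hθ₂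
      refine ⟨⟨ψ, hψ⟩, ?_, hψχ.symm⟩
      rw [blockOf_eq_of_mem hB' hψ₀]
      refine sameBlock_of_indFun_sameBlock N hNT hb hT hθ₀ hg h₀ hψo ?_
      show SameBlock M (indFun T (ψ₀ : T → ℂ)) (indFun T ψ)
      rw [hψχ]
      exact hχ
    · rintro ⟨ψ, hψ, hχψ⟩
      show SameBlock M (indFun T (ψ₀ : T → ℂ)) (χ : G → ℂ)
      rw [hχψ]
      exact sameBlock_indFun_of_sameBlock (sameBlock_of_mem hB' hψ₀ hψ)

/-- **Fong--Reynolds, part (ii).** -/
theorem fr_inj_blocks (hb : IsPBlock M b) (hT : ∀ x, x ∈ T ↔ ∀ θ ∈ b, conjIrr N x θ ∈ b)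
    {B₁ B₂ : Set (IrrCharacter T)} (hB₁ : IsPBlock M B₁) (hB₂ : IsPBlock M B₂)
    (hc₁ : ∃ ψ ∈ B₁, ∃ θ ∈ b, classInner (resTN N hNT (ψ : T → ℂ)) (θ : N → ℂ) ≠ 0)
    (hc₂ : ∃ ψ ∈ B₂, ∃ θ ∈ b, classInner (resTN N hNT (ψ : T → ℂ)) (θ : N → ℂ) ≠ 0)
    {B : Set (IrrCharacter G)} (h₁ : IsInducedBlock M T B₁ B) (h₂ : IsInducedBlock M T B₂ B) : B₁ = B₂ := by
  obtain ⟨C₁, hC₁, -, hirr₁, hmem₁⟩ := fr_main N hNT hb hT hB₁ hc₁
  obtain ⟨C₂, hC₂, -, hirr₂, hmem₂⟩ := fr_main N hNT hb hT hB₂ hc₂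
  have e₁ := IsInducedBlock.unique T hC₁ h₁
  have e₂ := IsInducedBlock.unique T hC₂ h₂
  rw [e₁] at hmem₁
  rw [e₂] at hmem₂
  obtain ⟨ψ₁, hψ₁, θ₁, hθ₁, ho₁⟩ := hc₁
  obtain ⟨ψ₂, hψ₂, θ₂, hθ₂, ho₂⟩ := hc₂
  have m₁ : (⟨_, hirr₁ ψ₁ hψ₁⟩ : IrrCharacter G) ∈ B := (hmem₁ _).mpr ⟨ψ₁, hψ₁, rfl⟩
  have m₂ : (⟨_, hirr₂ ψ₂ hψ₂⟩ : IrrCharacter G) ∈ B := (hmem₂ _).mpr ⟨ψ₂, hψ₂, rfl⟩
  have h3 := sameBlock_of_mem h₁.2.1 m₁ m₂
  have h4 := sameBlock_of_indFun_sameBlock N hNT hb hT hθ₁ hθ₂ ho₁ ho₂ h3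
  rw [blockOf_eq_of_mem hB₁ hψ₁, blockOf_eq_of_mem hB₂ hψ₂]
  ext τ
  exact ⟨fun h => SameBlock.trans' (SameBlock.symm' h4) h, fun h => SameBlock.trans' h4 h⟩

/-- **Fong--Reynolds, part (iii).** -/
theorem fr_surj (hb : IsPBlock M b) (hT : ∀ x, x ∈ T ↔ ∀ θ ∈ b, conjIrr N x θ ∈ b)
    {B : Set (IrrCharacter G)} (hB : IsPBlock M B)
    (hcov : ∃ χ ∈ B, ∃ θ ∈ b, classInner (fun n : N => (χ : G → ℂ) n) (θ : N → ℂ) ≠ 0) :
    ∃ B' : Set (IrrCharacter T), IsPBlock M B' ∧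
      (∃ ψ ∈ B', ∃ θ ∈ b, classInner (resTN N hNT (ψ : T → ℂ)) (θ : N → ℂ) ≠ 0) ∧ IsInducedBlock M T B' B := by
  obtain ⟨χ, hχ, θ, hθ, h⟩ := hcov
  obtain ⟨ψ, hψ, hψχ, hψo⟩ := fr_corr N hNT χ.2 θ.2 (stab_inertia N hb hT hθ) h
  let ψ' : IrrCharacter T := ⟨ψ, hψ⟩
  refine ⟨blockOf M (ψ' : T → ℂ), isPBlock_blockOf ψ', ⟨ψ', self_mem_blockOf ψ', θ, hθ, hψo⟩, ?_⟩
  refine isInducedBlock_of_mem T (isPBlock_blockOf ψ') hB (self_mem_blockOf ψ') hχ fun g => ?_
  rw [inducedCentralChar_eq_centralChar_indFun]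
  show MemLocalIdeal M (centralChar (indFun T ψ) g - centralChar (χ : G → ℂ) g)
  rw [hψχ, sub_self]
  exact memLocalIdeal_zero

/-- Shifting an infimum of natural numbers. -/
theorem sInf_image_add (a : ℕ) {S : Set ℕ} (hS : S.Nonempty) : sInf ((fun k => a + k) '' S) = a + sInf S := by
  have h1 : a + sInf S ∈ (fun k => a + k) '' S := ⟨sInf S, Nat.sInf_mem hS, rfl⟩
  apply le_antisymm (Nat.sInf_le h1)
  have h2 := Nat.sInf_mem (hS.image (fun k => a + k))
  obtain ⟨k, hk, hk'⟩ := h2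
  rw [← hk']
  have := Nat.sInf_le hk
  simp only
  omega

/-- The least `p`-adic valuation of the degrees in the induced block. -/
theorem sInf_degree_induced (p : ℕ) (hp : p.Prime) {B : Set (IrrCharacter G)} {B' : Set (IrrCharacter T)}
    (hne : B'.Nonempty)
    (hirr : ∀ ψ ∈ B', IsIrrCharacter G (indFun T (ψ : T → ℂ)))
    (hmem : ∀ χ : IrrCharacter G, χ ∈ B ↔ ∃ ψ ∈ B', (χ : G → ℂ) = indFun T (ψ : T → ℂ)) :
    sInf ((fun χ : IrrCharacter G => (charDegree (χ : G → ℂ)).factorization p) '' B) =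
      (T.index).factorization p + sInf ((fun ψ : IrrCharacter T => (charDegree (ψ : T → ℂ)).factorization p) '' B') := by
  classical
  have hdeg : ∀ ψ : IrrCharacter T, (charDegree (indFun T (ψ : T → ℂ))).factorization p =
      (T.index).factorization p + (charDegree (ψ : T → ℂ)).factorization p := by
    intro ψ
    rw [charDegree_indFun (IsIrrCharacter.isCharacter ψ.2), Nat.factorization_mul Subgroup.index_ne_zero_of_finite
      (charDegree_pos ψ.2).ne']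
    rfl
  rw [← sInf_image_add _ (hne.image _)]
  congr 1
  ext k
  constructor
  · rintro ⟨χ, hχ, rfl⟩
    obtain ⟨ψ, hψ, hχψ⟩ := (hmem χ).mp hχ
    refine ⟨_, ⟨ψ, hψ, rfl⟩, ?_⟩
    simp only
    rw [hχψ, hdeg]
  · rintro ⟨_, ⟨ψ, hψ, rfl⟩, rfl⟩
    refine ⟨⟨_, hirr ψ hψ⟩, (hmem _).mpr ⟨ψ, hψ, rfl⟩, ?_⟩
    simp only
    rw [hdeg]

/-- The heights agree. -/
theorem blockHeight_induced (p : ℕ) (hp : p.Prime) {B : Set (IrrCharacter G)} {B' : Set (IrrCharacter T)}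
    (hne : B'.Nonempty)
    (hirr : ∀ ψ ∈ B', IsIrrCharacter G (indFun T (ψ : T → ℂ)))
    (hmem : ∀ χ : IrrCharacter G, χ ∈ B ↔ ∃ ψ ∈ B', (χ : G → ℂ) = indFun T (ψ : T → ℂ))
    (ψ : IrrCharacter T) : blockHeight p B (indFun T (ψ : T → ℂ)) = blockHeight p B' (ψ : T → ℂ) := by
  rw [blockHeight, blockHeight, sInf_degree_induced p hp hne hirr hmem,
    charDegree_indFun (IsIrrCharacter.isCharacter ψ.2),
    Nat.factorization_mul Subgroup.index_ne_zero_of_finite (charDegree_pos ψ.2).ne']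
  simp only [Finsupp.add_apply]
  omega

/-- The defects agree. -/
theorem blockDefect_induced (p : ℕ) (hp : p.Prime) {B : Set (IrrCharacter G)} {B' : Set (IrrCharacter T)}
    (hne : B'.Nonempty)
    (hirr : ∀ ψ ∈ B', IsIrrCharacter G (indFun T (ψ : T → ℂ)))
    (hmem : ∀ χ : IrrCharacter G, χ ∈ B ↔ ∃ ψ ∈ B', (χ : G → ℂ) = indFun T (ψ : T → ℂ)) :
    blockDefect p B = blockDefect p B' := by
  rw [blockDefect, blockDefect, sInf_degree_induced p hp hne hirr hmem, ← Subgroup.index_mul_card T,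
    Nat.factorization_mul Subgroup.index_ne_zero_of_finite Nat.card_pos.ne']
  simp only [Finsupp.add_apply]
  omega

/-- **Fong--Reynolds, defect groups.** -/
theorem isDefectGroup_induced_of_fr {p : ℕ} [hp : Fact p.Prime] (hM : IsPModular p M)
    {B : Set (IrrCharacter G)} {B' : Set (IrrCharacter T)} (hB' : IsPBlock M B')
    (hind : IsInducedBlock M T B' B)
    (hirr : ∀ ψ ∈ B', IsIrrCharacter G (indFun T (ψ : T → ℂ)))
    (hmem : ∀ χ : IrrCharacter G, χ ∈ B ↔ ∃ ψ ∈ B', (χ : G → ℂ) = indFun T (ψ : T → ℂ))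
    {D : Subgroup T} (hD : IsDefectGroup p M B' D) : IsDefectGroup p M B (D.map T.subtype) := by
  obtain ⟨E, hE, hle⟩ := IsInducedBlock.exists_defect_le T hM hind hD
  have h1 := card_defectGroup hM hind.2.1 hE
  have h2 := card_defectGroup hM hB' hD
  have h3 := blockDefect_induced p hM.1 (IsPBlock.nonempty hB') hirr hmem
  have h4 : Nat.card (D.map T.subtype) = Nat.card D :=
    Subgroup.card_map_of_injective (Subgroup.subtype_injective T)
  have h5 : D.map T.subtype = E := Subgroup.eq_of_le_of_card_ge hle (by rw [h1, h4, h2, h3])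
  rw [h5]
  exact hE

/-- The stabilizer hypothesis of the frozen statements. -/
theorem stab_of_frozen {T : Subgroup G}
    (hT : ∀ g : G, g ∈ T ↔ ∀ θ ∈ b, ∀ θ' : IrrCharacter N,
      (∀ n : N, (θ' : N → ℂ) n = (θ : N → ℂ) ⟨g * n * g⁻¹, hN.conj_mem n n.2 g⟩) → θ' ∈ b) :
    ∀ x, x ∈ T ↔ ∀ θ ∈ b, conjIrr N x θ ∈ b := by
  have key : ∀ (x : G) (θ θ' : IrrCharacter N),
      (∀ n : N, (θ' : N → ℂ) n = (θ : N → ℂ) ⟨x⁻¹ * n * x⁻¹⁻¹, hN.conj_mem n n.2 x⁻¹⟩) → θ' = conjIrr N x θ := by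
    intro x θ θ' h
    apply Subtype.ext
    funext n
    rw [h n, conjIrr_coe, Cfsg.Agent.Lib.Char.conjFun_apply]
    refine congrArg _ (Subtype.ext ?_)
    simp
  intro x
  constructor
  · intro hx θ hθ
    refine (hT x⁻¹).mp (T.inv_mem hx) θ hθ _ fun n => ?_
    rw [conjIrr_coe, Cfsg.Agent.Lib.Char.conjFun_apply]
    refine congrArg _ (Subtype.ext ?_)
    simp
  · intro h
    rw [← inv_inv x]
    refine T.inv_mem ((hT x⁻¹).mpr fun θ hθ θ' h' => ?_)
    rw [key x θ θ' h']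
    exact h θ hθ

end Blocks

end Cfsg.Agent.Lib.H8Group
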