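import Cfsg.Agent.Lib.H8Group.RegBlock

/-!
# The contribution matrix of a block

For irreducible characters `χ, ξ`, the integer `regInt p χ ξ` is `p^a ⟨χ°, ξ⟩`.  On a block the
matrix `t χ ξ = regInt p χ ξ / p^k` (`k` the least `p`-part of a degree) is an integer matrix with
`t² = p^d t`, whose rows at characters of height zero have no zero entries.  This gives the
Brauer--Feit bound.
-/

set_option autoImplicit false
set_option linter.unusedSectionVars false
set_option linter.style.haveILetI false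

namespace Cfsg.Agent.Lib.H8Group

open Cfsg Cfsg.Agent.Lib.Char Cfsg.Agent.Lib.Blocks
open scoped ComplexConjugate

universe u

section Main

variable {G : Type u} [Group G] [Fintype G] {M : Ideal AlgInt} {p : ℕ} [hp : Fact p.Prime]

/-- The integer `p^a ⟨χ°, ξ⟩`. -/
noncomputable def regInt (p : ℕ) [hp : Fact p.Prime] (χ ξ : IrrCharacter G) : ℤ :=
  Classical.choose (exists_int_regInner (p := p) χ ξ)

theorem classInner_regTrunc_eq (χ ξ : IrrCharacter G) :
    classInner (regTrunc p ((p ^ (Nat.card G).factorization p : ℕ) : ℂ) (χ : G → ℂ)) (ξ : G → ℂ) =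
      regInt p χ ξ :=
  (Classical.choose_spec (exists_int_regInner (p := p) χ ξ)).1

theorem regInt_symm (χ ξ : IrrCharacter G) : regInt p χ ξ = regInt p ξ χ := by
  have h1 : classInner (regTrunc p ((p ^ (Nat.card G).factorization p : ℕ) : ℂ) (ξ : G → ℂ)) (χ : G → ℂ) =
      (regInt p χ ξ : ℂ) := (Classical.choose_spec (exists_int_regInner (p := p) χ ξ)).2.1
  rw [classInner_regTrunc_eq] at h1
  exact_mod_cast h1.symm

theorem spec_regConj_eq_regInt (χ ξ : IrrCharacter G) :
    spec (regConj p (χ : G → ℂ)) ξ =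
      ((Nat.card G / p ^ (Nat.card G).factorization p : ℕ) : ℂ) * (regInt p χ ξ : ℂ) / (ξ : G → ℂ) 1 :=
  (Classical.choose_spec (exists_int_regInner (p := p) χ ξ)).2.2

theorem regInt_eq_zero_of_notMem (hM : IsPModular p M) {B : Set (IrrCharacter G)} (hB : IsPBlock M B)
    {χ ψ : IrrCharacter G} (hχ : χ ∈ B) (hψ : ψ ∉ B) : regInt p χ ψ = 0 := by
  have h := classInner_regTrunc_eq_zero hM hB hχ hψ
  rw [classInner_regTrunc_eq] at h
  exact_mod_cast h

theorem not_dvd_card_div : ¬ p ∣ Nat.card G / p ^ (Nat.card G).factorization p :=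
  Nat.not_dvd_ordCompl hp.out Nat.card_pos.ne'

theorem irr_one_eq (ξ : IrrCharacter G) : (ξ : G → ℂ) 1 = (charDegree (ξ : G → ℂ) : ℂ) :=
  apply_one_eq_charDegree (IsIrrCharacter.isCharacter ξ.2)

/-- The `p`-part of `ξ(1)` divides the integer. -/
theorem pow_degree_dvd_regInt (hM : IsPModular p M) (χ ξ : IrrCharacter G) :
    ((p ^ (charDegree (ξ : G → ℂ)).factorization p : ℕ) : ℤ) ∣ regInt p χ ξ := by
  have := isPrime_of_modular hM
  have hpp : p.Prime := hp.out
  by_cases h0 : regInt p χ ξ = 0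
  · rw [h0]
    exact dvd_zero _
  have hloc : MemLocalRing M (spec (regConj p (χ : G → ℂ)) ξ) :=
    memLocalRing_of_isIntegral (spec_regConj_isIntegral χ ξ)
  rw [spec_regConj_eq_regInt, irr_one_eq] at hloc
  have h1 := val_le_of_int_memLocalRing hM (not_dvd_card_div (G := G) (p := p))
    (charDegree_pos ξ.2).ne' h0 hloc
  have h2 : p ^ (charDegree (ξ : G → ℂ)).factorization p ∣ (regInt p χ ξ).natAbs :=
    (hpp.pow_dvd_iff_le_factorization (Int.natAbs_ne_zero.mpr h0)).mpr h1
  exact Int.natCast_dvd.mpr h2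

/-- The entry is a unit times the degree part when one character has height zero. -/
theorem regInt_val_of_height_zero (hM : IsPModular p M) {B : Set (IrrCharacter G)} (hB : IsPBlock M B)
    {χ ξ : IrrCharacter G} (hχ : χ ∈ B) (h0 : blockHeight p B (χ : G → ℂ) = 0) (hξ : ξ ∈ B) :
    regInt p χ ξ ≠ 0 ∧ (regInt p χ ξ).natAbs.factorization p = (charDegree (ξ : G → ℂ)).factorization p := by
  have := isPrime_of_modular hM
  have h1 := spec_regConj_unit_of_height_zero hM hB hχ h0 hξ
  have hloc : MemLocalRing M (spec (regConj p (χ : G → ℂ)) ξ) :=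
    memLocalRing_of_isIntegral (spec_regConj_isIntegral χ ξ)
  rw [spec_regConj_eq_regInt, irr_one_eq] at h1 hloc
  exact val_eq_of_int_unit hM (not_dvd_card_div (G := G) (p := p)) (charDegree_pos ξ.2).ne' hloc h1

/-- The inner product of two truncations. -/
theorem classInner_regTrunc_regTrunc (χ χ' : IrrCharacter G) :
    classInner (regTrunc p ((p ^ (Nat.card G).factorization p : ℕ) : ℂ) (χ : G → ℂ))
        (regTrunc p ((p ^ (Nat.card G).factorization p : ℕ) : ℂ) (χ' : G → ℂ)) =
      ((p ^ (Nat.card G).factorization p : ℕ) : ℂ) *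
        classInner (regTrunc p ((p ^ (Nat.card G).factorization p : ℕ) : ℂ) (χ : G → ℂ)) (χ' : G → ℂ) := by
  simp only [classInner, Finset.mul_sum]
  refine Finset.sum_congr rfl fun x _ => ?_
  simp only [regTrunc]
  split_ifs
  · simp
  · simp only [map_mul, map_natCast]
    ring

/-- **Row identity.** -/
theorem sum_regInt_mul (χ χ' : IrrCharacter G) :
    ∑ ψ : IrrCharacter G, regInt p χ ψ * regInt p χ' ψ =
      ((p ^ (Nat.card G).factorization p : ℕ) : ℤ) * regInt p χ χ' := by
  have h1 := classInner_regTrunc_regTrunc (p := p) χ χ'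
  rw [classInner_eq_sum_coeffs _ _ (regTrunc_isClassFunction (irr_isClassFunction χ))
    (regTrunc_isClassFunction (irr_isClassFunction χ')), classInner_regTrunc_eq] at h1
  simp only [classInner_regTrunc_eq, map_intCast] at h1
  exact_mod_cast h1

/-- Positivity on the diagonal. -/
theorem regInt_self_pos (χ : IrrCharacter G) : 0 < regInt p χ χ := by
  have hpp : p.Prime := hp.out
  have h1 := classInner_regTrunc_eq (p := p) χ χ
  have hre : ((regInt p χ χ : ℂ)).re = (regInt p χ χ : ℝ) := by simp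
  rw [← h1] at hre
  have hpos : 0 < (classInner (regTrunc p ((p ^ (Nat.card G).factorization p : ℕ) : ℂ) (χ : G → ℂ))
      (χ : G → ℂ)).re := by
    simp only [classInner, regTrunc]
    rw [← Complex.ofReal_natCast, ← Complex.ofReal_inv, Complex.re_ofReal_mul]
    apply mul_pos
    · exact inv_pos.mpr (by exact_mod_cast Nat.card_pos)
    · rw [Complex.re_sum]
      apply Finset.sum_pos'
      · intro x _
        split_ifs
        · simp
        · rw [mul_assoc, Complex.mul_conj, ← Complex.ofReal_natCast, ← Complex.ofReal_mul,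
            Complex.ofReal_re]
          exact mul_nonneg (by positivity) (Complex.normSq_nonneg _)
      · refine ⟨1, Finset.mem_univ _, ?_⟩
        rw [if_neg (by
          rw [orderOf_one]
          exact hpp.one_lt.ne' ∘ Nat.dvd_one.mp)]
        rw [mul_assoc, Complex.mul_conj, ← Complex.ofReal_natCast, ← Complex.ofReal_mul,
          Complex.ofReal_re]
        apply mul_pos
        · exact_mod_cast pow_pos hpp.pos _
        · rw [irr_one_eq]
          have : (charDegree (χ : G → ℂ) : ℂ) ≠ 0 := by exact_mod_cast (charDegree_pos χ.2).ne'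
          exact_mod_cast Complex.normSq_pos.mpr this
  rw [hre] at hpos
  exact_mod_cast hpos

/-- The self pairing is at most `p^a`, with equality only if the row is supported at `χ`. -/
theorem regInt_self_le (χ : IrrCharacter G) :
    regInt p χ χ ≤ ((p ^ (Nat.card G).factorization p : ℕ) : ℤ) := by
  classical
  have h1 := sum_regInt_mul (p := p) χ χ
  have h2 : regInt p χ χ * regInt p χ χ ≤ ∑ ψ : IrrCharacter G, regInt p χ ψ * regInt p χ ψ :=
    Finset.single_le_sum (f := fun ψ => regInt p χ ψ * regInt p χ ψ) (fun i _ => mul_self_nonneg _)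
      (Finset.mem_univ χ)
  rw [h1] at h2
  exact le_of_mul_le_mul_right h2 (regInt_self_pos χ)

theorem regInt_eq_zero_of_self_eq (χ : IrrCharacter G)
    (h : regInt p χ χ = ((p ^ (Nat.card G).factorization p : ℕ) : ℤ)) {ψ : IrrCharacter G} (hψ : ψ ≠ χ) :
    regInt p χ ψ = 0 := by
  classical
  have h1 := sum_regInt_mul (p := p) χ χ
  rw [← Finset.add_sum_erase _ _ (Finset.mem_univ χ), ← h] at h1
  have h2 : ∑ ψ ∈ Finset.univ.erase χ, regInt p χ ψ * regInt p χ ψ = 0 := by
    rw [h] at h1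
    linarith
  have h3 := (Finset.sum_eq_zero_iff_of_nonneg (fun i _ => mul_self_nonneg _)).mp h2 ψ
    (Finset.mem_erase.mpr ⟨hψ, Finset.mem_univ _⟩)
  exact mul_self_eq_zero.mp h3

/-! ### The scaled matrix on a block -/

/-- The least `p`-part of a degree in `B`. -/
noncomputable def minVal (p : ℕ) (B : Set (IrrCharacter G)) : ℕ :=
  sInf ((fun χ : IrrCharacter G => (charDegree (χ : G → ℂ)).factorization p) '' B)

theorem minVal_le {B : Set (IrrCharacter G)} {χ : IrrCharacter G} (hχ : χ ∈ B) :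
    minVal p B ≤ (charDegree (χ : G → ℂ)).factorization p :=
  Nat.sInf_le ⟨χ, hχ, rfl⟩

theorem val_eq_minVal_add_height {B : Set (IrrCharacter G)} {χ : IrrCharacter G} (hχ : χ ∈ B) :
    (charDegree (χ : G → ℂ)).factorization p = minVal p B + blockHeight p B (χ : G → ℂ) := by
  have := minVal_le (p := p) hχ
  rw [blockHeight]
  unfold minVal at *
  omega

theorem val_degree_le_card (χ : IrrCharacter G) :
    (charDegree (χ : G → ℂ)).factorization p ≤ (Nat.card G).factorization p :=
  (Nat.factorization_le_iff_dvd (charDegree_pos χ.2).ne' Nat.card_pos.ne').mpr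
    (charDegree_dvd_card χ.2) p

theorem card_val_eq_minVal_add_defect {B : Set (IrrCharacter G)} (hB : B.Nonempty) :
    (Nat.card G).factorization p = minVal p B + blockDefect p B := by
  obtain ⟨χ, hχ⟩ := hB
  have h1 := minVal_le (p := p) hχ
  have h2 := val_degree_le_card (p := p) χ
  rw [blockDefect]
  unfold minVal at *
  omega

/-- The scaled entry. -/
noncomputable def blockT (p : ℕ) [hp : Fact p.Prime] (B : Set (IrrCharacter G)) (χ ξ : IrrCharacter G) : ℤ :=
  regInt p χ ξ / ((p ^ minVal p B : ℕ) : ℤ)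

theorem pow_minVal_dvd (hM : IsPModular p M) {B : Set (IrrCharacter G)} (hB : IsPBlock M B)
    {χ : IrrCharacter G} (hχ : χ ∈ B) (ξ : IrrCharacter G) :
    ((p ^ minVal p B : ℕ) : ℤ) ∣ regInt p χ ξ := by
  by_cases hξ : ξ ∈ B
  · refine dvd_trans ?_ (pow_degree_dvd_regInt hM χ ξ)
    exact_mod_cast pow_dvd_pow p (minVal_le hξ)
  · rw [regInt_eq_zero_of_notMem hM hB hχ hξ]
    exact dvd_zero _

theorem regInt_eq_mul_blockT (hM : IsPModular p M) {B : Set (IrrCharacter G)} (hB : IsPBlock M B)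
    {χ : IrrCharacter G} (hχ : χ ∈ B) (ξ : IrrCharacter G) :
    regInt p χ ξ = ((p ^ minVal p B : ℕ) : ℤ) * blockT p B χ ξ :=
  (Int.mul_ediv_cancel' (pow_minVal_dvd hM hB hχ ξ)).symm

theorem pow_minVal_ne_zero (B : Set (IrrCharacter G)) : ((p ^ minVal p B : ℕ) : ℤ) ≠ 0 := by
  have hpp : p.Prime := hp.out
  exact_mod_cast pow_ne_zero _ hpp.ne_zero

theorem blockT_symm (B : Set (IrrCharacter G)) (χ ξ : IrrCharacter G) :
    blockT p B χ ξ = blockT p B ξ χ := by
  rw [blockT, blockT, regInt_symm]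

theorem blockT_self_pos (hM : IsPModular p M) {B : Set (IrrCharacter G)} (hB : IsPBlock M B)
    {χ : IrrCharacter G} (hχ : χ ∈ B) : 0 < blockT p B χ χ := by
  have h1 := regInt_self_pos (p := p) χ
  rw [regInt_eq_mul_blockT hM hB hχ] at h1
  have hpp : p.Prime := hp.out
  have h2 : (0 : ℤ) < ((p ^ minVal p B : ℕ) : ℤ) := by exact_mod_cast pow_pos hpp.pos _
  exact (pos_iff_pos_of_mul_pos h1).mp h2

theorem blockT_eq_zero_of_notMem (hM : IsPModular p M) {B : Set (IrrCharacter G)} (hB : IsPBlock M B)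
    {χ ψ : IrrCharacter G} (hχ : χ ∈ B) (hψ : ψ ∉ B) : blockT p B χ ψ = 0 := by
  rw [blockT, regInt_eq_zero_of_notMem hM hB hχ hψ, Int.zero_ediv]

/-- **Row identity** on the block. -/
theorem sum_blockT_mul (hM : IsPModular p M) {B : Set (IrrCharacter G)} (hB : IsPBlock M B)
    {χ χ' : IrrCharacter G} (hχ : χ ∈ B) (hχ' : χ' ∈ B) :
    ∑ ψ : IrrCharacter G, blockT p B χ ψ * blockT p B χ' ψ =
      ((p ^ blockDefect p B : ℕ) : ℤ) * blockT p B χ χ' := by
  have := isPrime_of_modular hM
  have h1 := sum_regInt_mul (p := p) χ χ'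
  have hne := pow_minVal_ne_zero (p := p) B
  have hcard := card_val_eq_minVal_add_defect (p := p) (IsPBlock.nonempty hB)
  have h2 : ∑ ψ : IrrCharacter G, regInt p χ ψ * regInt p χ' ψ =
      ((p ^ minVal p B : ℕ) : ℤ) * (((p ^ minVal p B : ℕ) : ℤ) *
        ∑ ψ : IrrCharacter G, blockT p B χ ψ * blockT p B χ' ψ) := by
    rw [Finset.mul_sum, Finset.mul_sum]
    refine Finset.sum_congr rfl fun ψ _ => ?_
    rw [regInt_eq_mul_blockT hM hB hχ, regInt_eq_mul_blockT hM hB hχ']
    ring
  rw [h2, regInt_eq_mul_blockT hM hB hχ, hcard, pow_add] at h1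
  push_cast at h1
  have h3 : ((p : ℤ) ^ minVal p B) ≠ 0 := by
    have := hne
    push_cast at this
    exact this
  apply mul_left_cancel₀ h3
  apply mul_left_cancel₀ h3
  push_cast
  rw [h1]
  ring

/-- The `p`-part of the height divides the entry. -/
theorem pow_height_dvd_blockT (hM : IsPModular p M) {B : Set (IrrCharacter G)} (hB : IsPBlock M B)
    {χ ξ : IrrCharacter G} (hχ : χ ∈ B) (hξ : ξ ∈ B) :
    ((p ^ blockHeight p B (ξ : G → ℂ) : ℕ) : ℤ) ∣ blockT p B χ ξ := by
  have h1 := pow_degree_dvd_regInt hM χ ξ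
  rw [val_eq_minVal_add_height hξ, regInt_eq_mul_blockT hM hB hχ, pow_add] at h1
  push_cast at h1 ⊢
  have hne := pow_minVal_ne_zero (p := p) B
  push_cast at hne
  exact (mul_dvd_mul_iff_left hne).mp h1

theorem pow_height_dvd_blockT' (hM : IsPModular p M) {B : Set (IrrCharacter G)} (hB : IsPBlock M B)
    {χ ξ : IrrCharacter G} (hχ : χ ∈ B) (hξ : ξ ∈ B) :
    ((p ^ blockHeight p B (χ : G → ℂ) : ℕ) : ℤ) ∣ blockT p B χ ξ := by
  rw [blockT_symm]
  exact pow_height_dvd_blockT hM hB hξ hχ

/-- Entries in a row of height zero do not vanish. -/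
theorem blockT_ne_zero_of_height_zero (hM : IsPModular p M) {B : Set (IrrCharacter G)} (hB : IsPBlock M B)
    {χ ξ : IrrCharacter G} (hχ : χ ∈ B) (h0 : blockHeight p B (χ : G → ℂ) = 0) (hξ : ξ ∈ B) :
    blockT p B χ ξ ≠ 0 := by
  intro h
  have h1 := (regInt_val_of_height_zero hM hB hχ h0 hξ).1
  rw [regInt_eq_mul_blockT hM hB hχ, h, mul_zero] at h1
  exact h1 rfl

/-- The diagonal entry is at most `p^d`. -/
theorem blockT_self_le (hM : IsPModular p M) {B : Set (IrrCharacter G)} (hB : IsPBlock M B)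
    {χ : IrrCharacter G} (hχ : χ ∈ B) : blockT p B χ χ ≤ ((p ^ blockDefect p B : ℕ) : ℤ) := by
  have := isPrime_of_modular hM
  have hpp : p.Prime := hp.out
  have h1 := regInt_self_le (p := p) χ
  rw [regInt_eq_mul_blockT hM hB hχ, card_val_eq_minVal_add_defect (p := p) (IsPBlock.nonempty hB), pow_add] at h1
  push_cast at h1 ⊢
  have h2 : (0 : ℤ) < (p : ℤ) ^ minVal p B := by
    have : (0 : ℤ) < (p : ℤ) := by exact_mod_cast hpp.pos
    positivity
  exact le_of_mul_le_mul_left h1 h2

/-- **The quadratic identity for a row.** -/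
theorem sum_erase_blockT_sq (hM : IsPModular p M) {B : Set (IrrCharacter G)} (hB : IsPBlock M B)
    {χ : IrrCharacter G} (hχ : χ ∈ B) :
    ∑ ψ ∈ (Finset.univ : Finset (IrrCharacter G)).erase χ, blockT p B χ ψ ^ 2 =
      blockT p B χ χ * (((p ^ blockDefect p B : ℕ) : ℤ) - blockT p B χ χ) := by
  classical
  have h1 := sum_blockT_mul hM hB hχ hχ
  rw [← Finset.add_sum_erase _ _ (Finset.mem_univ χ)] at h1
  have h2 : ∑ ψ ∈ (Finset.univ : Finset (IrrCharacter G)).erase χ, blockT p B χ ψ ^ 2 =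
      ∑ ψ ∈ (Finset.univ : Finset (IrrCharacter G)).erase χ, blockT p B χ ψ * blockT p B χ ψ :=
    Finset.sum_congr rfl fun ψ _ => by ring
  rw [h2]
  linarith

/-- The AM--GM step. -/
theorem four_mul_mul_sub_le (s P : ℤ) : 4 * (s * (P - s)) ≤ P ^ 2 := by
  nlinarith [sq_nonneg (P - 2 * s)]

/-- Nonzero entries divisible by `p^h` are at least `p^(2h)` in square. -/
theorem pow_two_mul_le_sq {n : ℤ} {m : ℕ} (hn : n ≠ 0) (h : (m : ℤ) ∣ n) : ((m ^ 2 : ℕ) : ℤ) ≤ n ^ 2 := by
  obtain ⟨c, rfl⟩ := h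
  have hc : c ≠ 0 := right_ne_zero_of_mul hn
  have hc2 : 1 ≤ c ^ 2 := by
    have : 0 < c ^ 2 := by positivity
    omega
  push_cast
  have hm : 0 ≤ (m : ℤ) ^ 2 := by positivity
  nlinarith

/-- The sum over a block as a sum over a filter. -/
theorem finsum_mem_eq_filter {α β : Type*} [Fintype α] [AddCommMonoid β] (B : Set α)
    [DecidablePred (· ∈ B)] (f : α → β) :
    ∑ᶠ χ ∈ B, f χ = ∑ χ ∈ Finset.univ.filter (· ∈ B), f χ := by
  rw [← finsum_mem_coe_finset]
  congr 1
  ext x
  simp

/-- **Brauer--Feit**, for a row at a character of height zero. -/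
theorem four_mul_sum_height_le (hM : IsPModular p M) {B : Set (IrrCharacter G)} (hB : IsPBlock M B)
    {χ : IrrCharacter G} (hχ : χ ∈ B) (h0 : blockHeight p B (χ : G → ℂ) = 0)
    [DecidablePred (· ∈ B)] :
    4 * ∑ ψ ∈ (Finset.univ.filter (· ∈ B)).erase χ, p ^ (2 * blockHeight p B (ψ : G → ℂ)) ≤
      (p ^ blockDefect p B) ^ 2 := by
  classical
  have h1 := sum_erase_blockT_sq hM hB hχ
  have h2 : (((∑ ψ ∈ (Finset.univ.filter (· ∈ B)).erase χ, p ^ (2 * blockHeight p B (ψ : G → ℂ)) : ℕ)) : ℤ) ≤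
      ∑ ψ ∈ (Finset.univ : Finset (IrrCharacter G)).erase χ, blockT p B χ ψ ^ 2 := by
    push_cast
    have h3 : (Finset.univ.filter (· ∈ B)).erase χ ⊆ (Finset.univ : Finset (IrrCharacter G)).erase χ :=
      Finset.erase_subset_erase _ (Finset.subset_univ _)
    refine le_trans ?_ (Finset.sum_le_sum_of_subset_of_nonneg h3 fun _ _ _ => sq_nonneg _)
    refine Finset.sum_le_sum fun ψ hψ => ?_
    have hψB : ψ ∈ B := by
      have := (Finset.mem_erase.mp hψ).2
      simpa using this
    have h4 := pow_two_mul_le_sq (blockT_ne_zero_of_height_zero hM hB hχ h0 hψB)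
      (pow_height_dvd_blockT hM hB hχ hψB)
    push_cast at h4
    calc (p : ℤ) ^ (2 * blockHeight p B (ψ : G → ℂ)) = ((p : ℤ) ^ blockHeight p B (ψ : G → ℂ)) ^ 2 := by
          rw [pow_mul']
      _ ≤ _ := h4
  have h5 := four_mul_mul_sub_le (blockT p B χ χ) ((p ^ blockDefect p B : ℕ) : ℤ)
  rw [← h1] at h5
  have h6 : ((4 * ∑ ψ ∈ (Finset.univ.filter (· ∈ B)).erase χ, p ^ (2 * blockHeight p B (ψ : G → ℂ)) : ℕ) : ℤ) ≤
      (((p ^ blockDefect p B) ^ 2 : ℕ) : ℤ) := by
    push_cast at h2 h5 ⊢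
    linarith
  exact_mod_cast h6

/-- **Brauer--Feit**, weighted form. -/
theorem sum_pow_height_le (hM : IsPModular p M) {B : Set (IrrCharacter G)} (hB : IsPBlock M B) :
    ∑ᶠ χ ∈ B, p ^ (2 * blockHeight p B (χ : G → ℂ)) ≤ (p ^ blockDefect p B) ^ 2 / 4 + 1 := by
  classical
  have := isPrime_of_modular hM
  obtain ⟨χ, hχ, h0⟩ := exists_height_zero (p := p) (IsPBlock.nonempty hB)
  have h1 := four_mul_sum_height_le hM hB hχ h0
  have hχS : χ ∈ Finset.univ.filter (· ∈ B) := by simpa using hχ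
  rw [finsum_mem_eq_filter, ← Finset.add_sum_erase (Finset.univ.filter (· ∈ B)) _ hχS, h0]
  simp only [mul_zero, pow_zero]
  have h2 : ∑ ψ ∈ (Finset.univ.filter (· ∈ B)).erase χ, p ^ (2 * blockHeight p B (ψ : G → ℂ)) ≤
      (p ^ blockDefect p B) ^ 2 / 4 :=
    (Nat.le_div_iff_mul_le (by norm_num)).mpr (by rw [mul_comm]; exact h1)
  omega

/-- The number of members of a block as a filter. -/
theorem natCard_block_eq {B : Set (IrrCharacter G)} [DecidablePred (· ∈ B)] :
    Nat.card B = (Finset.univ.filter (· ∈ B)).card := by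
  rw [Nat.card_eq_fintype_card, Fintype.card_subtype]

/-- **Brauer--Feit**. -/
theorem four_mul_card_block_le (hM : IsPModular p M) {B : Set (IrrCharacter G)} (hB : IsPBlock M B) :
    4 * Nat.card B ≤ p ^ (2 * blockDefect p B) + 4 := by
  classical
  have := isPrime_of_modular hM
  have hpp : p.Prime := hp.out
  obtain ⟨χ, hχ, h0⟩ := exists_height_zero (p := p) (IsPBlock.nonempty hB)
  have h1 := four_mul_sum_height_le hM hB hχ h0
  have hχS : χ ∈ Finset.univ.filter (· ∈ B) := by simpa using hχ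
  rw [natCard_block_eq, ← Finset.card_erase_add_one hχS]
  have h2 : ((Finset.univ.filter (· ∈ B)).erase χ).card ≤
      ∑ ψ ∈ (Finset.univ.filter (· ∈ B)).erase χ, p ^ (2 * blockHeight p B (ψ : G → ℂ)) := by
    rw [Finset.card_eq_sum_ones]
    exact Finset.sum_le_sum fun ψ _ => Nat.one_le_pow _ _ hpp.pos
  rw [mul_comm 2, pow_mul]
  omega

/-- A height-zero character different from a character of positive height. -/
theorem height_lt_defect (hM : IsPModular p M) {B : Set (IrrCharacter G)} (hB : IsPBlock M B)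
    {ψ : IrrCharacter G} (hψ : ψ ∈ B) (hh : 1 ≤ blockHeight p B (ψ : G → ℂ)) :
    blockHeight p B (ψ : G → ℂ) < blockDefect p B := by
  classical
  have := isPrime_of_modular hM
  have hpp : p.Prime := hp.out
  obtain ⟨χ, hχ, h0⟩ := exists_height_zero (p := p) (IsPBlock.nonempty hB)
  have h1 := four_mul_sum_height_le hM hB hχ h0
  have hne : ψ ≠ χ := by
    rintro rfl
    omega
  have h2 : p ^ (2 * blockHeight p B (ψ : G → ℂ)) ≤
      ∑ ψ ∈ (Finset.univ.filter (· ∈ B)).erase χ, p ^ (2 * blockHeight p B (ψ : G → ℂ)) :=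
    Finset.single_le_sum (f := fun ψ : IrrCharacter G => p ^ (2 * blockHeight p B (ψ : G → ℂ)))
      (fun i _ => Nat.zero_le _) (Finset.mem_erase.mpr ⟨hne, Finset.mem_filter.mpr ⟨Finset.mem_univ _, hψ⟩⟩)
  have h3 : p ^ (2 * blockHeight p B (ψ : G → ℂ)) < p ^ (2 * blockDefect p B) := by
    have h5 : p ^ (2 * blockDefect p B) = (p ^ blockDefect p B) ^ 2 := by
      rw [mul_comm, pow_mul]
    rw [h5]
    have h4 : 0 < p ^ (2 * blockHeight p B (ψ : G → ℂ)) := pow_pos hpp.pos _
    omega
  have h4 := (Nat.pow_lt_pow_iff_right hpp.one_lt).mp h3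
  omega

/-- The defect of a block is bounded by the defect of any class on which it does not vanish. -/
theorem blockDefect_le_of_central_unit (hM : IsPModular p M) {B : Set (IrrCharacter G)} (hB : IsPBlock M B)
    {χ : IrrCharacter G} (hχ : χ ∈ B) {h : G} (hh : ¬ MemLocalIdeal M (centralChar (χ : G → ℂ) h)) :
    blockDefect p B ≤ (Nat.card (Subgroup.centralizer ({h} : Set G))).factorization p := by
  have := isPrime_of_modular hM
  have hpp : p.Prime := hp.out
  obtain ⟨D, hD⟩ := IsPBlock.exists_isDefectGroup hM hB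
  obtain ⟨y, hy⟩ := IsDefectGroup.conj_le_of_central hM hB hD hχ hh
  have h1 := card_defectGroup hM hB hD
  have h2 : Nat.card (conjS y D) ∣ Nat.card (Subgroup.centralizer ({h} : Set G)) :=
    Subgroup.card_dvd_of_le hy
  rw [card_conjS, h1] at h2
  exact (hpp.pow_dvd_iff_le_factorization Nat.card_pos.ne').mp h2

/-- If a character of positive height has degree with `p`-part `p^(a-1)`, then some `p`-regular class
with `p ∥ |C(x)|` has a unit central character. -/
theorem exists_unit_class (hM : IsPModular p M) {B : Set (IrrCharacter G)} (hB : IsPBlock M B)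
    {ψ : IrrCharacter G} (hψ : ψ ∈ B) (hh : 1 ≤ blockHeight p B (ψ : G → ℂ))
    (hv : (charDegree (ψ : G → ℂ)).factorization p + 1 = (Nat.card G).factorization p) :
    ∃ x : G, (Nat.card (Subgroup.centralizer ({x} : Set G))).factorization p = 1 ∧
      ¬ MemLocalIdeal M (centralChar (ψ : G → ℂ) x) := by
  classical
  have := isPrime_of_modular hM
  have hpp : p.Prime := hp.out
  by_contra hcon
  push Not at hcon
  have hd0 : charDegree (ψ : G → ℂ) ≠ 0 := (charDegree_pos ψ.2).ne'
  have hdC : ((charDegree (ψ : G → ℂ) : ℕ) : ℂ) ≠ 0 := by exact_mod_cast hd0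
  -- every term is in the ideal
  have hterm : ∀ x : G, MemLocalIdeal M (regConj p (ψ : G → ℂ) x * centralChar (ψ : G → ℂ) x) := by
    intro x
    by_cases hx : p ∣ orderOf x
    · simp only [regConj, if_pos hx, zero_mul]
      exact memLocalIdeal_zero
    have hreg : regConj p (ψ : G → ℂ) x = (ψ : G → ℂ) x⁻¹ := by
      simp only [regConj, if_neg hx]
      rw [irr_apply_inv]
    have hsum := factorization_index_add_card (p := p) (Subgroup.centralizer ({x} : Set G))
    have hidx0 : (Subgroup.centralizer ({x} : Set G)).index ≠ 0 := Subgroup.index_ne_zero_of_finite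
    set δ := (Nat.card (Subgroup.centralizer ({x} : Set G))).factorization p with hδ
    rcases Nat.lt_or_ge δ 1 with h0 | h1
    · -- `δ = 0`
      have h2 : MemLocalIdeal M (((Subgroup.centralizer ({x} : Set G)).index : ℂ) /
          (charDegree (ψ : G → ℂ) : ℂ)) :=
        natCast_div_memLocalIdeal hM hd0 (by omega)
      have h3 : centralChar (ψ : G → ℂ) x = (((Subgroup.centralizer ({x} : Set G)).index : ℂ) /
          (charDegree (ψ : G → ℂ) : ℂ)) * (ψ : G → ℂ) x := by
        rw [centralChar, irr_one_eq]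
        ring
      rw [h3]
      refine MemLocalIdeal.mul_left (regConj_memLocalRing ψ x) ?_
      exact MemLocalIdeal.mul_right h2 (memLocalRing_of_isIntegral (irr_isIntegral ψ x))
    rcases Nat.lt_or_ge δ 2 with h2 | h2
    · -- `δ = 1`
      have h3 : δ = 1 := by omega
      exact MemLocalIdeal.mul_left (regConj_memLocalRing ψ x) (hcon x h3)
    · -- `δ ≥ 2`
      have h3 : MemLocalIdeal M ((charDegree (ψ : G → ℂ) : ℂ) /
          ((Subgroup.centralizer ({x} : Set G)).index : ℂ)) :=
        natCast_div_memLocalIdeal hM hidx0 (by omega)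
      have hidxC : ((Subgroup.centralizer ({x} : Set G)).index : ℂ) ≠ 0 := by exact_mod_cast hidx0
      have h4 : (ψ : G → ℂ) x⁻¹ = ((charDegree (ψ : G → ℂ) : ℂ) /
          ((Subgroup.centralizer ({x} : Set G)).index : ℂ)) * centralChar (ψ : G → ℂ) x⁻¹ := by
        rw [centralChar, irr_one_eq, centralizer_singleton_inv]
        field_simp
      rw [hreg, h4]
      refine MemLocalIdeal.mul_right ?_ (centralChar_memLocalRing ψ x)
      exact MemLocalIdeal.mul_right h3 (centralChar_memLocalRing ψ _)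
  have hideal : MemLocalIdeal M (spec (regConj p (ψ : G → ℂ)) ψ) := by
    rw [spec_eq_sum_classes _ (regConj_isClassFunction ψ)]
    exact MemLocalIdeal.sum _ fun K _ => hterm _
  rw [spec_regConj_eq_regInt, irr_one_eq] at hideal
  have hn := regInt_self_pos (p := p) ψ
  have hn0 : regInt p ψ ψ ≠ 0 := hn.ne'
  have hdvd := pow_degree_dvd_regInt hM ψ ψ
  have hnat0 : (regInt p ψ ψ).natAbs ≠ 0 := Int.natAbs_ne_zero.mpr hn0
  have hval : (charDegree (ψ : G → ℂ)).factorization p ≤ (regInt p ψ ψ).natAbs.factorization p :=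
    (hpp.pow_dvd_iff_le_factorization hnat0).mp (Int.natCast_dvd.mp hdvd)
  have hval2 : (regInt p ψ ψ).natAbs.factorization p ≠ (charDegree (ψ : G → ℂ)).factorization p :=
    fun h => int_not_memLocalIdeal_of_val_eq hM (not_dvd_card_div (G := G) (p := p)) hd0 hn0 h hideal
  have hdvd2 : ((p ^ (Nat.card G).factorization p : ℕ) : ℤ) ∣ regInt p ψ ψ := by
    apply Int.natCast_dvd.mpr
    exact (hpp.pow_dvd_iff_le_factorization hnat0).mpr (by omega)
  have hle := regInt_self_le (p := p) ψ
  have heq : regInt p ψ ψ = ((p ^ (Nat.card G).factorization p : ℕ) : ℤ) :=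
    le_antisymm hle (Int.le_of_dvd hn hdvd2)
  obtain ⟨χ, hχ, h0⟩ := exists_height_zero (p := p) (IsPBlock.nonempty hB)
  have hne : χ ≠ ψ := by
    rintro rfl
    omega
  have h1 := regInt_eq_zero_of_self_eq ψ heq hne
  rw [regInt_symm] at h1
  exact (regInt_val_of_height_zero hM hB hχ h0 hψ).1 h1

/-- **The height bound.** -/
theorem height_add_two_le (hM : IsPModular p M) {B : Set (IrrCharacter G)} (hB : IsPBlock M B)
    {ψ : IrrCharacter G} (hψ : ψ ∈ B) (hh : 1 ≤ blockHeight p B (ψ : G → ℂ)) :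
    blockHeight p B (ψ : G → ℂ) + 2 ≤ blockDefect p B := by
  have := isPrime_of_modular hM
  have h1 := height_lt_defect hM hB hψ hh
  by_contra hcon
  have h2 : blockHeight p B (ψ : G → ℂ) + 1 = blockDefect p B := by omega
  have hcard := card_val_eq_minVal_add_defect (p := p) (IsPBlock.nonempty hB)
  have hv := val_eq_minVal_add_height (p := p) hψ
  obtain ⟨x, hx1, hx2⟩ := exists_unit_class hM hB hψ hh (by omega)
  have h3 := blockDefect_le_of_central_unit hM hB hψ hx2
  omega

/-- Counting characters of height zero and of positive height, given a character of positive height. -/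
theorem two_mul_card_block_le (hM : IsPModular p M) {B : Set (IrrCharacter G)} (hB : IsPBlock M B)
    {ψ : IrrCharacter G} (hψ : ψ ∈ B) (hh : 1 ≤ blockHeight p B (ψ : G → ℂ)) :
    2 * Nat.card B ≤ p ^ (2 * blockDefect p B - 2) := by
  classical
  have := isPrime_of_modular hM
  have hpp : p.Prime := hp.out
  have hdef := height_lt_defect hM hB hψ hh
  set d := blockDefect p B with hd
  set S := Finset.univ.filter (· ∈ B) with hS
  set S₀ := S.filter (fun φ : IrrCharacter G => blockHeight p B (φ : G → ℂ) = 0) with hS₀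
  set S₁ := S.filter (fun φ : IrrCharacter G => ¬ blockHeight p B (φ : G → ℂ) = 0) with hS₁
  have hcard : S₀.card + S₁.card = S.card := Finset.card_filter_add_card_filter_not _
  have hp2 : 1 < p := hpp.one_lt
  have hpp2 : p ^ 2 * p ^ (2 * d - 2) = p ^ (2 * d) := by
    rw [← pow_add]
    congr 1
    omega
  -- bound for height zero
  have h0 : 4 * (p ^ 2 * S₀.card) ≤ (p ^ d) ^ 2 := by
    have h1 := sum_erase_blockT_sq hM hB hψ
    have h2 : ((p ^ 2 * S₀.card : ℕ) : ℤ) ≤
        ∑ φ ∈ (Finset.univ : Finset (IrrCharacter G)).erase ψ, blockT p B ψ φ ^ 2 := by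
      have h3 : S₀ ⊆ (Finset.univ : Finset (IrrCharacter G)).erase ψ := by
        intro φ hφ
        refine Finset.mem_erase.mpr ⟨?_, Finset.mem_univ _⟩
        rintro rfl
        have := (Finset.mem_filter.mp hφ).2
        omega
      refine le_trans ?_ (Finset.sum_le_sum_of_subset_of_nonneg h3 fun _ _ _ => sq_nonneg _)
      rw [Nat.cast_mul, mul_comm, ← nsmul_eq_mul, ← Finset.sum_const]
      refine Finset.sum_le_sum fun φ hφ => ?_
      have hφB : φ ∈ B := by
        have := (Finset.mem_filter.mp (Finset.mem_filter.mp hφ).1).2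
        exact this
      have hφ0 := (Finset.mem_filter.mp hφ).2
      have h4 : blockT p B ψ φ ≠ 0 := by
        rw [blockT_symm]
        exact blockT_ne_zero_of_height_zero hM hB hφB hφ0 hψ
      have h5 := pow_height_dvd_blockT' hM hB hψ hφB
      have h6 := pow_two_mul_le_sq h4 h5
      have h7 : ((p ^ 2 : ℕ) : ℤ) ≤ (((p ^ blockHeight p B (ψ : G → ℂ)) ^ 2 : ℕ) : ℤ) := by
        exact_mod_cast Nat.pow_le_pow_left (Nat.le_self_pow (by omega) p) 2
      exact le_trans h7 h6
    have h3 := four_mul_mul_sub_le (blockT p B ψ ψ) ((p ^ d : ℕ) : ℤ)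
    rw [← h1] at h3
    have h4 : ((4 * (p ^ 2 * S₀.card) : ℕ) : ℤ) ≤ (((p ^ d) ^ 2 : ℕ) : ℤ) := by
      push_cast at h2 h3 ⊢
      linarith
    exact_mod_cast h4
  -- bound for positive height
  have h1 : 4 * (p ^ 2 * S₁.card) ≤ (p ^ d) ^ 2 := by
    obtain ⟨χ, hχ, h00⟩ := exists_height_zero (p := p) (IsPBlock.nonempty hB)
    have h2 : 4 * ∑ φ ∈ S.erase χ, p ^ (2 * blockHeight p B (φ : G → ℂ)) ≤ (p ^ d) ^ 2 :=
      four_mul_sum_height_le hM hB hχ h00
    have h3 : p ^ 2 * S₁.card ≤ ∑ φ ∈ S.erase χ, p ^ (2 * blockHeight p B (φ : G → ℂ)) := by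
      have h4 : S₁ ⊆ S.erase χ := by
        intro φ hφ
        refine Finset.mem_erase.mpr ⟨?_, (Finset.mem_filter.mp hφ).1⟩
        rintro rfl
        exact (Finset.mem_filter.mp hφ).2 h00
      refine le_trans ?_ (Finset.sum_le_sum_of_subset h4)
      rw [mul_comm, ← smul_eq_mul, ← Finset.sum_const]
      refine Finset.sum_le_sum fun φ hφ => ?_
      have hφ0 := (Finset.mem_filter.mp hφ).2
      have : 1 ≤ blockHeight p B (φ : G → ℂ) := Nat.one_le_iff_ne_zero.mpr hφ0
      exact Nat.pow_le_pow_right hpp.pos (by omega)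
    omega
  have hc : Nat.card B = S.card := natCard_block_eq
  rw [hc]
  have h5 : (p ^ d) ^ 2 = p ^ 2 * p ^ (2 * d - 2) := by
    rw [hpp2, mul_comm 2 d, pow_mul]
  have h6 : 0 < p ^ 2 := by positivity
  rw [h5] at h0 h1
  have h7 : 4 * S₀.card ≤ p ^ (2 * d - 2) := by
    have : p ^ 2 * (4 * S₀.card) ≤ p ^ 2 * p ^ (2 * d - 2) := by
      calc p ^ 2 * (4 * S₀.card) = 4 * (p ^ 2 * S₀.card) := by ring
        _ ≤ _ := h0
    exact Nat.le_of_mul_le_mul_left this h6
  have h8 : 4 * S₁.card ≤ p ^ (2 * d - 2) := by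
    have : p ^ 2 * (4 * S₁.card) ≤ p ^ 2 * p ^ (2 * d - 2) := by
      calc p ^ 2 * (4 * S₁.card) = 4 * (p ^ 2 * S₁.card) := by ring
        _ ≤ _ := h1
    exact Nat.le_of_mul_le_mul_left this h6
  omega

end Main

end Cfsg.Agent.Lib.H8Group
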