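import Mathlib
import Cfsg.Prelude.Def_Blocks
import Cfsg.Prelude.Def_Transfer
import Cfsg.Agent.Lib.H8Group.LinearExt
import Cfsg.Agent.Lib.Transfer.Basic
import Cfsg.Agent.Lib.Char.Degree

set_option autoImplicit false

/-!
Canonical extensions to `p`-power index and the congruence for `|O^p(G)|`.
-/

namespace Cfsg.Agent.Lib.H8Group

open Cfsg Module Cfsg.Agent.Lib.Char MulAction

section Orbits

/-- Weighted orbit-counting modulo `p`. -/
theorem sum_modEq_sum_fixed {Γ X : Type*} [Group Γ] [MulAction Γ X] [Fintype X] [DecidableEq X]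
    (f : X → ℤ) (hf : ∀ (g : Γ) x, f (g • x) = f x) (p : ℕ)
    (hp : ∀ x : X, (∃ g : Γ, g • x ≠ x) → p ∣ Nat.card (orbit Γ x)) :
    open scoped Classical in
    (∑ x, f x) ≡ ∑ x, (if (∀ g : Γ, g • x = x) then f x else 0) [ZMOD p] := by
  classical
  apply Int.ModEq.symm
  apply (Int.modEq_iff_dvd).mpr
  rw [← Finset.sum_sub_distrib]
  let Q := orbitRel.Quotient Γ X
  let π : X → Q := fun x => Quotient.mk'' x
  let _ : Fintype Q := Fintype.ofFinite Q
  rw [← Finset.sum_fiberwise Finset.univ π]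
  refine Finset.dvd_sum fun q _ => ?_
  obtain ⟨x₀, rfl⟩ : ∃ x₀, π x₀ = q := Quotient.exists_rep q
  set S := Finset.univ.filter (fun x => π x = π x₀) with hS
  have hmem : ∀ x, x ∈ S ↔ x ∈ orbit Γ x₀ := by
    intro x
    simp only [hS, Finset.mem_filter, Finset.mem_univ, true_and]
    show (Quotient.mk'' x : Q) = Quotient.mk'' x₀ ↔ _
    rw [Quotient.eq'']
    exact orbitRel_apply
  have hval : ∀ x ∈ S, f x - (if (∀ g : Γ, g • x = x) then f x else 0) =
      f x₀ - (if (∀ g : Γ, g • x₀ = x₀) then f x₀ else 0) := by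
    intro x hx
    obtain ⟨g, rfl⟩ := (hmem x).mp hx
    have hfix : (∀ h : Γ, h • (g • x₀) = g • x₀) ↔ ∀ h : Γ, h • x₀ = x₀ := by
      constructor
      · intro h k
        have h1 := h (g * k * g⁻¹)
        simp only [mul_smul, inv_smul_smul] at h1
        exact smul_left_cancel g h1
      · intro h k
        rw [h g, h k]
    have : f ((fun m : Γ => m • x₀) g) = f x₀ := hf g x₀
    simp only [this, hfix]
  rw [Finset.sum_congr rfl hval, Finset.sum_const, nsmul_eq_mul]
  by_cases hfix : ∀ g : Γ, g • x₀ = x₀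
  · simp [hfix]
  · have h1 := hp x₀ (by push Not at hfix; exact hfix)
    have h2 : Nat.card (orbit Γ x₀) = S.card := by
      have : ↥(orbit Γ x₀) ≃ ↥S := Equiv.subtypeEquivRight (fun x => (hmem x).symm)
      rw [Nat.card_congr this, Nat.card_eq_fintype_card, Fintype.card_coe]
    rw [h2] at h1
    exact Dvd.dvd.mul_right (by exact_mod_cast h1) _

end Orbits

section Action

variable {G : Type*} [Group G] [Fintype G] (N : Subgroup G) [hN : N.Normal] [Fintype N]

/-- The conjugation action on the irreducible characters of a normal subgroup. -/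
@[instance_reducible] noncomputable def irrConjAction : MulAction G (IrrCharacter N) where
  smul g θ := ⟨conjFun N g θ, isIrrCharacter_conjFun N g θ.2⟩
  one_smul θ := Subtype.ext (conjFun_one N θ)
  mul_smul g h θ := Subtype.ext (conjFun_mul N g h θ)

omit [Fintype G] [Fintype N] in
theorem conjFun_of_mem {θ : N → ℂ} (hθ : IsIrrCharacter N θ) {g : G} (hg : g ∈ N) :
    conjFun N g θ = θ := by
  funext n
  have h1 := IsCharacter.isClassFunction (IsIrrCharacter.isCharacter hθ) n ⟨g, hg⟩⁻¹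
  simp only [conjFun_apply]
  rw [← h1]
  congr 1
  ext
  simp

/-- `|N|` modulo `p` only sees the invariant characters when the index is a power of `p`. -/
theorem card_modEq_sum_invariant (p : ℕ) [hp : Fact p.Prime] {k : ℕ} (hk : N.index = p ^ k) :
    open scoped Classical in
    (Nat.card N : ℤ) ≡ ∑ θ : IrrCharacter N, (if (∀ g : G, conjFun N g θ = θ) then
      (charDegree (θ : N → ℂ) : ℤ) ^ 2 else 0) [ZMOD p] := by
  classical
  let _ := irrConjAction N
  have h1 := sum_modEq_sum_fixed (Γ := G) (X := IrrCharacter N)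
    (fun θ => (charDegree (θ : N → ℂ) : ℤ) ^ 2) ?_ p ?_
  · have h2 : ((Nat.card N : ℕ) : ℤ) = ∑ θ : IrrCharacter N, (charDegree (θ : N → ℂ) : ℤ) ^ 2 := by
      have h3 := sum_irr_degree_sq (G := N)
      have h4 : ((Nat.card N : ℕ) : ℂ) = ((∑ θ : IrrCharacter N, (charDegree (θ : N → ℂ) : ℤ) ^ 2 : ℤ) : ℂ) := by
        rw [← h3]
        push_cast
        refine Finset.sum_congr rfl fun θ _ => ?_
        rw [apply_one_eq_charDegree (IsIrrCharacter.isCharacter θ.2)]
      exact_mod_cast h4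
    rw [h2]
    have h5 : ∑ θ : IrrCharacter N, (if (∀ g : G, conjFun N g θ = θ) then
        (charDegree (θ : N → ℂ) : ℤ) ^ 2 else 0) = ∑ x : IrrCharacter N, (if (∀ g : G, g • x = x) then
        (charDegree (x : N → ℂ) : ℤ) ^ 2 else 0) := by
      refine Finset.sum_congr rfl fun θ _ => ?_
      by_cases h : ∀ g : G, conjFun N g θ = θ
      · rw [if_pos h, if_pos]
        intro g
        exact Subtype.ext (h g)
      · rw [if_neg h, if_neg]
        intro h'
        exact h (fun g => congrArg Subtype.val (h' g))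
    rw [h5]
    convert h1
  · intro g θ
    have h2 : ((g • θ : IrrCharacter N) : N → ℂ) = conjFun N g θ := rfl
    have h3 : ((g • θ : IrrCharacter N) : N → ℂ) 1 = (θ : N → ℂ) 1 := by
      rw [h2, conjFun_apply]
      exact congrArg _ (Subtype.ext (by simp))
    have h4 : charDegree ((g • θ : IrrCharacter N) : N → ℂ) = charDegree (θ : N → ℂ) := by
      have h5 := apply_one_eq_charDegree (IsIrrCharacter.isCharacter (g • θ).2)
      have h6 := apply_one_eq_charDegree (IsIrrCharacter.isCharacter θ.2)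
      rw [h3, h6] at h5
      exact_mod_cast h5.symm
    rw [h4]
  · intro θ hθ
    have hle : N ≤ stabilizer G θ := by
      intro n hn
      rw [mem_stabilizer_iff]
      exact Subtype.ext (conjFun_of_mem N θ.2 hn)
    have hdvd : (stabilizer G θ).index ∣ p ^ k := hk ▸ Subgroup.index_dvd_of_le hle
    obtain ⟨j, -, hj⟩ := (Nat.dvd_prime_pow hp.out).mp hdvd
    have hcard : Nat.card (orbit G θ) = (stabilizer G θ).index := by
      rw [index_stabilizer, Nat.card_coe_set_eq]
    rw [hcard, hj]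
    have hj0 : j ≠ 0 := by
      rintro rfl
      obtain ⟨g, hg⟩ := hθ
      rw [pow_zero, Subgroup.index_eq_one] at hj
      have : g ∈ stabilizer G θ := by rw [hj]; trivial
      exact hg this
    exact dvd_pow_self p hj0

end Action

section Canonical

universe u

variable {G : Type u} [Group G] [Finite G] (N : Subgroup G) [hN : N.Normal] (p : ℕ) [hp : Fact p.Prime]

include hp in
/-- The canonical extension to `p`-power index. -/
theorem exists_canonical_ext (hq : IsPGroup p (G ⧸ N)) {m : ℕ} (hmc : Nat.Coprime m p)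
    (hm : ∀ lam : N →* ℂˣ, ∀ x, lam x ^ m = 1) {θ : N → ℂ} (hθ : IsIrrCharacter N θ)
    (hinv : ∀ g, conjFun N g θ = θ) {d : ℕ} (hd : θ 1 = d) (hdp : ¬ p ∣ d) :
    ∃ χ : G → ℂ, IsIrrCharacter G χ ∧ (∀ n : N, χ n = θ n) ∧ ∀ g, detChar χ g ^ m = 1 := by
  classical
  obtain ⟨k, hk⟩ := Transfer.index_eq_pow_of_isPGroup_quotient hq
  obtain ⟨δ, hδ⟩ := exists_detHom (IsIrrCharacter.isCharacter hθ)
  have hcopm : Nat.Coprime N.index m := by
    rw [hk]
    exact Nat.Coprime.pow_left _ hmc.symm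
  have hcopd : Nat.Coprime N.index d := by
    rw [hk]
    exact Nat.Coprime.pow_left _ ((Nat.Prime.coprime_iff_not_dvd hp.out).mpr hdp)
  have hδinv : ∀ (g n : G) (hn : n ∈ N), δ ⟨g * n * g⁻¹, hN.conj_mem n hn g⟩ = δ ⟨n, hn⟩ := by
    intro g n hn
    apply Units.ext
    rw [← hδ, ← hδ]
    have h1 := congrFun (detChar_comp (conjEquiv N g⁻¹).toMonoidHom
      (IsIrrCharacter.isCharacter hθ)) ⟨n, hn⟩
    have h2 : (fun h : N => θ ((conjEquiv N g⁻¹).toMonoidHom h)) = θ := by
      have := hinv g⁻¹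
      rw [conjFun_eq_comp] at this
      exact this
    rw [h2] at h1
    rw [h1]
    congr 1
    apply Subtype.ext
    show g * n * g⁻¹ = ((conjEquiv N g⁻¹ ⟨n, hn⟩ : N) : G)
    rw [conjEquiv_coe]
    simp
  obtain ⟨μ, hμ, hμm⟩ := exists_ext_linear N δ hδinv (hm δ) hcopm
  have : Group.IsSolvable (G ⧸ N) := by
    have := hq.isNilpotent
    infer_instance
  obtain ⟨χ, hχ, hχN, hχd⟩ := exists_ext_det_of_solvable _ G N θ hθ hinv d hd hcopd μ
    (fun n => by rw [hμ, hδ]) rfl
  refine ⟨χ, hχ, hχN, fun g => ?_⟩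
  rw [hχd, ← Units.val_pow_eq_pow_val, hμm]
  rfl

include hp in
/-- An irreducible character of degree prime to `p` restricts irreducibly to `N`. -/
theorem res_irr_of_not_dvd (hq : IsPGroup p (G ⧸ N)) {m : ℕ} (hmc : Nat.Coprime m p)
    (hm : ∀ lam : N →* ℂˣ, ∀ x, lam x ^ m = 1) {χ : G → ℂ} (hχ : IsIrrCharacter G χ)
    (hd : ¬ p ∣ charDegree χ) : IsIrrCharacter N (resFun N χ) := by
  classical
  let _ : Fintype G := Fintype.ofFinite G
  let _ : Fintype N := Fintype.ofFinite N
  let _ : Fintype (G ⧸ N) := Fintype.ofFinite _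
  obtain ⟨k, hk⟩ := Transfer.index_eq_pow_of_isPGroup_quotient hq
  obtain ⟨θ, hθ, hov⟩ := exists_under hχ N
  obtain ⟨e, he⟩ := IsCharacter.classInner_irr_eq_nat
    (isCharacter_resFun N (IsIrrCharacter.isCharacter hχ)) hθ
  have hdeg := clifford_degree_nat N hχ hθ hov
    (apply_one_eq_charDegree (IsIrrCharacter.isCharacter hχ))
    (apply_one_eq_charDegree (IsIrrCharacter.isCharacter hθ)) he
  have hNT : N ≤ inertia N θ := fun n hn => conjFun_of_mem N hθ hn
  have htop : inertia N θ = ⊤ := by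
    have h1 : (inertia N θ).index ∣ p ^ k := hk ▸ Subgroup.index_dvd_of_le hNT
    obtain ⟨j, -, hj⟩ := (Nat.dvd_prime_pow hp.out).mp h1
    rcases Nat.eq_zero_or_pos j with rfl | hj0
    · rw [pow_zero] at hj
      exact Subgroup.index_eq_one.mp hj
    · exfalso
      apply hd
      rw [hdeg, hj]
      exact Dvd.dvd.mul_right (Dvd.dvd.mul_left (dvd_pow_self p hj0.ne') _) _
  have hinv : ∀ g, conjFun N g θ = θ := by
    intro g
    have : g ∈ inertia N θ := by rw [htop]; trivial
    exact this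
  have hdt : ¬ p ∣ charDegree θ := by
    intro h
    apply hd
    rw [hdeg]
    exact Dvd.dvd.mul_left h _
  obtain ⟨χ₀, hχ₀, hχ₀N, -⟩ := exists_canonical_ext N p hq hmc hm hθ hinv
    (apply_one_eq_charDegree (IsIrrCharacter.isCharacter hθ)) hdt
  have hres : resFun N χ₀ = θ := funext hχ₀N
  obtain ⟨β, hβ, hβe⟩ := exists_gallagher N (IsIrrCharacter.isCharacter hχ₀)
    (by rw [hres]; exact hθ) hχ (by rw [hres]; exact hov)
  have hβ1 : β 1 = (charDegree β : ℂ) := apply_one_eq_charDegree (IsIrrCharacter.isCharacter hβ)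
  have hχ1 : (charDegree χ : ℂ) = (charDegree β : ℂ) * (charDegree θ : ℂ) := by
    rw [← apply_one_eq_charDegree (IsIrrCharacter.isCharacter hχ), hβe]
    simp only [inflate]
    have h1 : ((1 : G) : G ⧸ N) = 1 := rfl
    rw [h1, hβ1]
    have h2 : χ₀ 1 = θ 1 := hχ₀N 1
    rw [h2, apply_one_eq_charDegree (IsIrrCharacter.isCharacter hθ)]
  have hχ1' : charDegree χ = charDegree β * charDegree θ := by exact_mod_cast hχ1
  have hb1 : charDegree β = 1 := by
    have h1 : charDegree β ∣ Nat.card (G ⧸ N) := charDegree_dvd_card hβ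
    have h2 : Nat.card (G ⧸ N) = p ^ k := by rw [← Subgroup.index_eq_card, hk]
    rw [h2] at h1
    obtain ⟨j, -, hj⟩ := (Nat.dvd_prime_pow hp.out).mp h1
    rcases Nat.eq_zero_or_pos j with rfl | hj0
    · simpa using hj
    · exfalso
      apply hd
      rw [hχ1', hj]
      exact Dvd.dvd.mul_right (dvd_pow_self p hj0.ne') _
  have hres' : resFun N χ = θ := by
    funext n
    have h1 := congrFun hβe (n : G)
    show χ n = θ n
    rw [h1]
    simp only [inflate]
    rw [(QuotientGroup.eq_one_iff (n : G)).mpr n.2, hβ1, hb1, hχ₀N]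
    simp
  rw [hres']
  exact hθ

end Canonical

section Residual

universe u

variable {G : Type u} [Group G] [Finite G] (p : ℕ) [hp : Fact p.Prime]

/-- The `p'`-part of the group order. -/
noncomputable def pCompl (G : Type u) [Group G] (p : ℕ) : ℕ := ordCompl[p] (Nat.card G)

include hp in
theorem pCompl_coprime : Nat.Coprime (pCompl G p) p :=
  (Nat.coprime_ordCompl hp.out Nat.card_pos.ne').symm

omit [Finite G] hp in
/-- Every linear character of `O^p(G)` has order dividing the `p'`-part of `|G|`. -/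
theorem residual_hom_pow (lam : pResidual p G →* ℂˣ) (x : pResidual p G) :
    lam x ^ pCompl G p = 1 := by
  obtain ⟨x, hx⟩ := x
  induction hx using Subgroup.closure_induction with
  | mem y hy =>
    have hy' : Nat.Coprime (orderOf y) p := hy
    have h1 : orderOf y ∣ pCompl G p := by
      apply (Nat.Coprime.dvd_of_dvd_mul_left (k := orderOf y) (m := p ^ (Nat.card G).factorization p)
        (Nat.Coprime.pow_right _ hy'))
      rw [pCompl, Nat.ordProj_mul_ordCompl_eq_self]
      exact orderOf_dvd_natCard y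
    obtain ⟨c, hc⟩ := h1
    rw [hc, pow_mul, ← map_pow]
    have h2 : (⟨y, Subgroup.subset_closure hy⟩ : pResidual p G) ^ orderOf y = 1 := by
      apply Subtype.ext
      simp [pow_orderOf_eq_one]
    rw [h2, map_one, one_pow]
  | one =>
    have : (⟨1, Subgroup.one_mem _⟩ : pResidual p G) = 1 := rfl
    rw [this, map_one, one_pow]
  | mul a b ha hb iha ihb =>
    have : (⟨a * b, Subgroup.mul_mem _ ha hb⟩ : pResidual p G) = ⟨a, ha⟩ * ⟨b, hb⟩ := rfl
    rw [this, map_mul, mul_pow, iha, ihb, one_mul]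
  | inv a ha iha =>
    have : (⟨a⁻¹, Subgroup.inv_mem _ ha⟩ : pResidual p G) = (⟨a, ha⟩ : pResidual p G)⁻¹ := rfl
    rw [this, map_inv, inv_pow, iha, inv_one]

omit [Finite G] hp in
theorem detChar_pow_orderOf (χ : G → ℂ) (g : G) : detChar χ g ^ detOrder χ = 1 := by
  have h1 : detChar χ ^ orderOf (detChar χ) = 1 := pow_orderOf_eq_one _
  exact congrFun h1 g

/-- The congruence for `|O^p(G)|`, sum form. -/
theorem card_residual_modEq :
    open scoped Classical in
    (Nat.card (pResidual p G) : ℤ) ≡ ∑ χ : IrrCharacter G,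
      (if ¬ p ∣ charDegree (χ : G → ℂ) ∧ ¬ p ∣ detOrder (χ : G → ℂ) then
        (charDegree (χ : G → ℂ) : ℤ) ^ 2 else 0) [ZMOD p] := by
  classical
  let _ : Fintype G := Fintype.ofFinite G
  set N := pResidual p G with hNdef
  have hNn : N.Normal := Transfer.pResidual_normal p G
  let _ : Fintype N := Fintype.ofFinite N
  have hq : IsPGroup p (G ⧸ N) := Transfer.isPGroup_quotient_pResidual
  obtain ⟨k, hk⟩ := Transfer.index_eq_pow_of_isPGroup_quotient hq
  have hmc := pCompl_coprime (G := G) p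
  have hm : ∀ lam : N →* ℂˣ, ∀ x, lam x ^ pCompl G p = 1 := fun lam x => residual_hom_pow p lam x
  have h1 := card_modEq_sum_invariant N p hk
  refine h1.trans ?_
  -- remove the characters with `p ∣ θ(1)`
  have h2 : (∑ θ : IrrCharacter N, (if (∀ g : G, conjFun N g θ = θ) then
      (charDegree (θ : N → ℂ) : ℤ) ^ 2 else 0)) ≡
      ∑ θ : IrrCharacter N, (if (∀ g : G, conjFun N g θ = θ) ∧ ¬ p ∣ charDegree (θ : N → ℂ) then
      (charDegree (θ : N → ℂ) : ℤ) ^ 2 else 0) [ZMOD p] := by
    apply Int.ModEq.symm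
    apply (Int.modEq_iff_dvd).mpr
    rw [← Finset.sum_sub_distrib]
    refine Finset.dvd_sum fun θ _ => ?_
    by_cases hinv : ∀ g : G, conjFun N g θ = θ
    · by_cases hd : p ∣ charDegree (θ : N → ℂ)
      · simp only [hinv, hd, not_true_eq_false, and_false, if_false, implies_true, if_true, sub_zero]
        exact Dvd.dvd.pow (by exact_mod_cast hd) two_ne_zero
      · simp [hinv, hd]
    · simp [hinv]
  refine h2.trans ?_
  -- the bijection
  suffices hbij : (∑ θ : IrrCharacter N, (if (∀ g : G, conjFun N g θ = θ) ∧ ¬ p ∣ charDegree (θ : N → ℂ) then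
      (charDegree (θ : N → ℂ) : ℤ) ^ 2 else 0)) = ∑ χ : IrrCharacter G,
      (if ¬ p ∣ charDegree (χ : G → ℂ) ∧ ¬ p ∣ detOrder (χ : G → ℂ) then
        (charDegree (χ : G → ℂ) : ℤ) ^ 2 else 0) by rw [hbij]
  rw [← Finset.sum_filter, ← Finset.sum_filter]
  symm
  have hdegres : ∀ χ : IrrCharacter G, charDegree (resFun N (χ : G → ℂ)) = charDegree (χ : G → ℂ) := by
    intro χ
    apply charDegree_eq
    show (χ : G → ℂ) 1 = _
    exact apply_one_eq_charDegree (IsIrrCharacter.isCharacter χ.2)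
  have hdp : ∀ d : ℕ, ¬ p ∣ d → Nat.Coprime N.index d := by
    intro d hd
    rw [hk]
    exact Nat.Coprime.pow_left _ ((Nat.Prime.coprime_iff_not_dvd hp.out).mpr hd)
  refine Finset.sum_bij (fun χ hχ => ⟨resFun N χ.1, res_irr_of_not_dvd N p hq hmc hm χ.2
      (Finset.mem_filter.mp hχ).2.1⟩) ?_ ?_ ?_ ?_
  · intro χ hχ
    have hχ' := (Finset.mem_filter.mp hχ).2
    refine Finset.mem_filter.mpr ⟨Finset.mem_univ _, fun g => ?_, ?_⟩
    · exact conjFun_resFun N g (IsCharacter.isClassFunction (IsIrrCharacter.isCharacter χ.2))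
    · show ¬ p ∣ charDegree (resFun N (χ : G → ℂ))
      rw [hdegres]
      exact hχ'.1
  · intro χ₁ h₁ χ₂ h₂ heq
    have h₁' := (Finset.mem_filter.mp h₁).2
    have h₂' := (Finset.mem_filter.mp h₂).2
    have hres : resFun N (χ₁ : G → ℂ) = resFun N (χ₂ : G → ℂ) := congrArg Subtype.val heq
    apply Subtype.ext
    apply ext_unique_of_det N χ₂.2 χ₁.2 hres ?_ (d := charDegree (χ₂ : G → ℂ))
      (m := detOrder (χ₁ : G → ℂ) * detOrder (χ₂ : G → ℂ))
      (apply_one_eq_charDegree (IsIrrCharacter.isCharacter χ₂.2)) ?_ ?_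
    · exact res_irr_of_not_dvd N p hq hmc hm χ₂.2 h₂'.1
    · apply hdp
      intro h
      rcases (Nat.Prime.dvd_mul hp.out).mp h with h | h
      · exact h₂'.1 h
      · rcases (Nat.Prime.dvd_mul hp.out).mp h with h | h
        · exact h₁'.2 h
        · exact h₂'.2 h
    · intro g
      have h3 : detChar (χ₁ : G → ℂ) g ^ (detOrder (χ₁ : G → ℂ) * detOrder (χ₂ : G → ℂ)) = 1 := by
        rw [pow_mul, detChar_pow_orderOf, one_pow]
      have h4 : detChar (χ₂ : G → ℂ) g ^ (detOrder (χ₁ : G → ℂ) * detOrder (χ₂ : G → ℂ)) = 1 := by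
        rw [mul_comm, pow_mul, detChar_pow_orderOf, one_pow]
      rw [h3, h4]
  · intro θ hθ
    have hθ' := (Finset.mem_filter.mp hθ).2
    obtain ⟨χ, hχ, hχN, hχd⟩ := exists_canonical_ext N p hq hmc hm θ.2 hθ'.1
      (apply_one_eq_charDegree (IsIrrCharacter.isCharacter θ.2)) hθ'.2
    have hres : resFun N χ = (θ : N → ℂ) := funext hχN
    have hdeg : charDegree χ = charDegree (θ : N → ℂ) := by
      have h1 := hdegres ⟨χ, hχ⟩
      simp only at h1
      rw [← h1, hres]
    refine ⟨⟨χ, hχ⟩, Finset.mem_filter.mpr ⟨Finset.mem_univ _, ?_, ?_⟩, Subtype.ext hres⟩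
    · show ¬ p ∣ charDegree χ
      rw [hdeg]
      exact hθ'.2
    · show ¬ p ∣ detOrder χ
      intro hdvd
      have h1 : detOrder χ ∣ pCompl G p := by
        apply orderOf_dvd_of_pow_eq_one
        funext g
        exact hχd g
      have h2 := Nat.Coprime.eq_one_of_dvd hmc.symm (hdvd.trans h1)
      exact hp.out.one_lt.ne' h2
  · intro χ hχ
    have h1 := hdegres χ
    simp only
    rw [h1]

end Residual

end Cfsg.Agent.Lib.H8Group
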