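import Mathlib
import Cfsg.Agent.Lib.H8Group.GlaubCount
import Cfsg.Agent.Lib.H8Group.Thompson

set_option autoImplicit false

/-!
Compatibility of the Glauberman correspondence with restriction, and invariant characters lying
over an invariant character of a normal subgroup.
-/

namespace Cfsg.Agent.Lib.H8Group

open Cfsg Module Cfsg.Agent.Lib.Char MulAction

universe u

section Split

variable {Γ : Type u} [Group Γ]

/-- Restricting further a character with a `CorrRel`: modulo `p` only the correspondent counts. -/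
theorem CorrRel.split {p : ℕ} {D C₁ C : Subgroup Γ} [Fintype C₁] [Fintype C]
    (h₁ : C₁ ≤ D) (h₂ : C ≤ C₁) {χ : D → ℂ} (hχ : IsCharacter D χ) {β₁ : IrrCharacter C₁}
    (hr₁ : CorrRel p h₁ χ (β₁ : C₁ → ℂ)) :
    ∃ ε₁ : ℤ, (ε₁ = 1 ∨ ε₁ = -1) ∧ ∀ γ : IrrCharacter C, ∃ Z : ℤ,
      classInner (fun c : C => χ ⟨c, (h₂.trans h₁) c.2⟩) (γ : C → ℂ) =
        (ε₁ : ℂ) * classInner (fun c : C => (β₁ : C₁ → ℂ) ⟨c, h₂ c.2⟩) (γ : C → ℂ) + (p : ℂ) * (Z : ℂ) := by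
  classical
  let f : C₁ → ℂ := fun c => χ ⟨c, h₁ c.2⟩
  have hf : IsCharacter C₁ f := IsCharacter.comp hχ (Subgroup.inclusion h₁)
  have hsum : f = ∑ ψ : IrrCharacter C₁, classInner f (ψ : C₁ → ℂ) • (ψ : C₁ → ℂ) :=
    classFunction_eq_sum f (IsCharacter.isClassFunction hf)
  obtain ⟨ε₁, hε₁, ⟨q₁, hq₁⟩, h0₁⟩ := hr₁
  have hq : ∀ ψ : IrrCharacter C₁, ∃ q : ℤ, ψ ≠ β₁ → classInner f (ψ : C₁ → ℂ) = (p : ℂ) * (q : ℂ) := by
    intro ψ
    by_cases hψ : ψ = β₁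
    · exact ⟨0, fun h => absurd hψ h⟩
    · obtain ⟨q, hq⟩ := h0₁ ψ (fun h => hψ (Subtype.ext h))
      exact ⟨q, fun _ => hq⟩
  choose Q hQ using hq
  have hn : ∀ (ψ : IrrCharacter C₁) (γ : IrrCharacter C), ∃ n : ℕ,
      classInner (fun c : C => (ψ : C₁ → ℂ) ⟨c, h₂ c.2⟩) (γ : C → ℂ) = (n : ℂ) := by
    intro ψ γ
    exact IsCharacter.classInner_irr_eq_nat
      (IsCharacter.comp (IsIrrCharacter.isCharacter ψ.2) (Subgroup.inclusion h₂)) γ.2
  choose N hN using hn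
  have hexp : ∀ γ : C → ℂ, classInner (fun c : C => χ ⟨c, (h₂.trans h₁) c.2⟩) γ =
      ∑ ψ : IrrCharacter C₁, classInner f (ψ : C₁ → ℂ) *
        classInner (fun c : C => (ψ : C₁ → ℂ) ⟨c, h₂ c.2⟩) γ := by
    intro γ
    have h1 : (fun c : C => χ ⟨c, (h₂.trans h₁) c.2⟩) =
        ∑ ψ : IrrCharacter C₁, classInner f (ψ : C₁ → ℂ) •
          (fun c : C => (ψ : C₁ → ℂ) ⟨c, h₂ c.2⟩) := by
      funext c
      have h2 := congrFun hsum ⟨c, h₂ c.2⟩
      simp only [Finset.sum_apply, Pi.smul_apply, smul_eq_mul] at h2 ⊢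
      exact h2
    rw [h1, classInner_sum_left]
    refine Finset.sum_congr rfl fun ψ _ => ?_
    rw [classInner_smul_left]
  refine ⟨ε₁, hε₁, fun γ => ?_⟩
  refine ⟨q₁ * N β₁ γ + ∑ ψ ∈ Finset.univ.erase β₁, Q ψ * N ψ γ, ?_⟩
  rw [hexp, ← Finset.add_sum_erase _ _ (Finset.mem_univ β₁), hq₁, hN β₁ γ]
  have h2 : ∑ ψ ∈ Finset.univ.erase β₁, classInner f (ψ : C₁ → ℂ) *
      classInner (fun c : C => (ψ : C₁ → ℂ) ⟨c, h₂ c.2⟩) (γ : C → ℂ) =
      (p : ℂ) * ∑ ψ ∈ Finset.univ.erase β₁, ((Q ψ : ℂ) * (N ψ γ : ℂ)) := by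
    rw [Finset.mul_sum]
    refine Finset.sum_congr rfl fun ψ hψ => ?_
    rw [hQ ψ (Finset.ne_of_mem_erase hψ), hN ψ γ]
    ring
  rw [h2]
  push_cast
  ring

end Split

section Action

variable {Γ : Type u} [Group Γ] [Finite Γ]

/-- A subgroup normalizing `N` acts on the irreducible characters of `N`. -/
@[instance_reducible] noncomputable def normAction (T N : Subgroup Γ) [Fintype N]
    (hT : ∀ t ∈ T, t ∈ Subgroup.normalizer (N : Set Γ)) : MulAction T (IrrCharacter N) where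
  smul u φ := ⟨(φ : N → ℂ) ∘ conjOn N (u : Γ)⁻¹ (Subgroup.inv_mem _ (hT u u.2)),
    isIrrCharacter_comp_mulEquiv _ φ.2⟩
  one_smul φ := by
    apply Subtype.ext
    funext n
    show (φ : N → ℂ) (conjOn N ((1 : T) : Γ)⁻¹ _ n) = (φ : N → ℂ) n
    refine congrArg (φ : N → ℂ) (Subtype.ext ?_)
    simp
  mul_smul u v φ := by
    apply Subtype.ext
    funext n
    show (φ : N → ℂ) (conjOn N ((u * v : T) : Γ)⁻¹ _ n) =
      (φ : N → ℂ) (conjOn N (v : Γ)⁻¹ _ (conjOn N (u : Γ)⁻¹ _ n))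
    refine congrArg (φ : N → ℂ) (Subtype.ext ?_)
    simp only [conjOn_coe, Subgroup.coe_mul, mul_inv_rev, inv_inv]
    group

/-- Restriction of an invariant character and the correspondence, modulo `p`. -/
theorem corr_restrict {p : ℕ} [hp : Fact p.Prime] {T N C : Subgroup Γ} [Fintype N] [Fintype C]
    (hTp : IsPGroup p T) (hT : ∀ t ∈ T, t ∈ Subgroup.normalizer (N : Set Γ)) (hCN : C ≤ N)
    (hfix : ∀ c ∈ C, ∀ t ∈ T, t * c * t⁻¹ = c)
    (a1 : ∀ φ : IrrCharacter N, InvBy T (φ : N → ℂ) →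
      ∃ β : IrrCharacter C, CorrRel p hCN (φ : N → ℂ) (β : C → ℂ))
    (a2 : ∀ φ φ' : IrrCharacter N, InvBy T (φ : N → ℂ) → InvBy T (φ' : N → ℂ) →
      ∀ β : IrrCharacter C, CorrRel p hCN (φ : N → ℂ) (β : C → ℂ) →
        CorrRel p hCN (φ' : N → ℂ) (β : C → ℂ) → φ = φ')
    {ζ : N → ℂ} (hζ : IsCharacter N ζ) (hζinv : InvBy T ζ)
    {θ : IrrCharacter N} {θ₁ : IrrCharacter C} (hθ : InvBy T (θ : N → ℂ))
    (hr : CorrRel p hCN (θ : N → ℂ) (θ₁ : C → ℂ)) :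
    ∃ ε : ℤ, (ε = 1 ∨ ε = -1) ∧ ∃ Z : ℤ,
      classInner (fun c : C => ζ ⟨c, hCN c.2⟩) (θ₁ : C → ℂ) =
        (ε : ℂ) * classInner ζ (θ : N → ℂ) + (p : ℂ) * (Z : ℂ) := by
  classical
  let _ : Fintype T := Fintype.ofFinite _
  let _ := normAction T N hT
  have hsmul : ∀ (u : T) (φ : IrrCharacter N) (n : N),
      ((u • φ : IrrCharacter N) : N → ℂ) n = (φ : N → ℂ) (conjOn N (u : Γ)⁻¹ (Subgroup.inv_mem _ (hT u u.2)) n) :=
    fun _ _ _ => rfl
  have hfixed : ∀ φ : IrrCharacter N, (∀ u : T, u • φ = φ) → InvBy T (φ : N → ℂ) := by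
    intro φ h s hs g g' hgg'
    have h1 := congrFun (congrArg Subtype.val (h ⟨s, hs⟩)) g'
    have h2 : conjOn N ((⟨s, hs⟩ : T) : Γ)⁻¹ (Subgroup.inv_mem _ (hT s hs)) g' = g := by
      apply Subtype.ext
      simp only [conjOn_coe, inv_inv]
      rw [hgg']
      group
    show (φ : N → ℂ) g' = (φ : N → ℂ) g
    rw [← h2]
    exact h1.symm
  have hfixed' : ∀ φ : IrrCharacter N, InvBy T (φ : N → ℂ) → ∀ u : T, u • φ = φ := by
    intro φ h u
    apply Subtype.ext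
    funext n
    show (φ : N → ℂ) (conjOn N (u : Γ)⁻¹ _ n) = (φ : N → ℂ) n
    exact (h u u.2 (conjOn N (u : Γ)⁻¹ (Subgroup.inv_mem _ (hT u u.2)) n) n (by
      simp [mul_assoc])).symm
  -- multiplicities
  have hb : ∀ φ : IrrCharacter N, ∃ b : ℕ, classInner ζ (φ : N → ℂ) = (b : ℂ) := fun φ =>
    IsCharacter.classInner_irr_eq_nat hζ φ.2
  choose b hb using hb
  have hn : ∀ φ : IrrCharacter N, ∃ n : ℕ,
      classInner (fun c : C => (φ : N → ℂ) ⟨c, hCN c.2⟩) (θ₁ : C → ℂ) = (n : ℂ) := fun φ =>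
    IsCharacter.classInner_irr_eq_nat
      (IsCharacter.comp (IsIrrCharacter.isCharacter φ.2) (Subgroup.inclusion hCN)) θ₁.2
  choose m hm using hn
  -- invariance of the multiplicities
  have hbinv : ∀ (u : T) (φ : IrrCharacter N), b (u • φ) = b φ := by
    intro u φ
    have h1 : ζ = ζ ∘ conjOn N (u : Γ)⁻¹ (Subgroup.inv_mem _ (hT u u.2)) := by
      funext n
      exact (hζinv u u.2 (conjOn N (u : Γ)⁻¹ (Subgroup.inv_mem _ (hT u u.2)) n) n (by
        simp [mul_assoc]))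
    have h2 : classInner ζ ((u • φ : IrrCharacter N) : N → ℂ) = classInner ζ (φ : N → ℂ) := by
      conv_lhs => rw [h1]
      exact classInner_comp_mulEquiv _ ζ (φ : N → ℂ)
    rw [hb, hb] at h2
    exact_mod_cast h2
  have hminv : ∀ (u : T) (φ : IrrCharacter N), m (u • φ) = m φ := by
    intro u φ
    have h1 : (fun c : C => ((u • φ : IrrCharacter N) : N → ℂ) ⟨c, hCN c.2⟩) =
        fun c : C => (φ : N → ℂ) ⟨c, hCN c.2⟩ := by
      funext c
      rw [hsmul]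
      refine congrArg (φ : N → ℂ) (Subtype.ext ?_)
      simp only [conjOn_coe, inv_inv]
      have := hfix c c.2 (u : Γ)⁻¹ (T.inv_mem u.2)
      simpa using this
    have h2 := hm (u • φ)
    rw [h1, hm φ] at h2
    exact_mod_cast h2.symm
  -- the expansion
  have hexp : classInner (fun c : C => ζ ⟨c, hCN c.2⟩) (θ₁ : C → ℂ) =
      ((∑ φ : IrrCharacter N, ((b φ : ℤ) * (m φ : ℤ)) : ℤ) : ℂ) := by
    have hsum : ζ = ∑ φ : IrrCharacter N, classInner ζ (φ : N → ℂ) • (φ : N → ℂ) :=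
      classFunction_eq_sum ζ (IsCharacter.isClassFunction hζ)
    have h1 : (fun c : C => ζ ⟨c, hCN c.2⟩) = ∑ φ : IrrCharacter N, classInner ζ (φ : N → ℂ) •
        (fun c : C => (φ : N → ℂ) ⟨c, hCN c.2⟩) := by
      funext c
      have h2 := congrFun hsum ⟨c, hCN c.2⟩
      simp only [Finset.sum_apply, Pi.smul_apply, smul_eq_mul] at h2 ⊢
      exact h2
    rw [h1, classInner_sum_left]
    push_cast
    refine Finset.sum_congr rfl fun φ _ => ?_
    rw [classInner_smul_left, hb, hm]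
  -- orbit sum
  have hmod := sum_modEq_sum_fixed (Γ := T) (X := IrrCharacter N)
    (fun φ => ((b φ : ℤ) * (m φ : ℤ))) (by
      intro u φ
      show ((b (u • φ) : ℤ) * (m (u • φ) : ℤ)) = _
      rw [hbinv, hminv]) p (by
      intro x hx
      obtain ⟨k, hk⟩ := IsPGroup.card_orbit hTp x
      rw [hk]
      rcases Nat.eq_zero_or_pos k with rfl | hkpos
      · exfalso
        rw [pow_zero] at hk
        obtain ⟨g, hg⟩ := hx
        have h1 : g • x ∈ orbit T x := ⟨g, rfl⟩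
        have h2 : x ∈ orbit T x := mem_orbit_self x
        have h3 := (Nat.card_eq_one_iff_unique.mp hk).1.elim ⟨_, h1⟩ ⟨_, h2⟩
        exact hg (congrArg Subtype.val h3)
      · exact dvd_pow_self p hkpos.ne')
  obtain ⟨ε, hε, ⟨q, hq⟩, h0⟩ := id hr
  have hmθ : (m θ : ℤ) = ε + p * q := by
    have h1 := hm θ
    rw [hq] at h1
    exact_mod_cast h1.symm
  have hother : ∀ φ : IrrCharacter N, φ ≠ θ → InvBy T (φ : N → ℂ) → (p : ℤ) ∣ (m φ : ℤ) := by
    intro φ hne hφ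
    obtain ⟨β, hβ⟩ := a1 φ hφ
    have hβne : (θ₁ : C → ℂ) ≠ (β : C → ℂ) := by
      intro h
      have h1 : θ₁ = β := Subtype.ext h
      rw [← h1] at hβ
      exact hne (a2 φ θ hφ hθ θ₁ hβ hr)
    obtain ⟨-, -, -, h0'⟩ := hβ
    obtain ⟨q', hq'⟩ := h0' θ₁ hβne
    have h1 := hm φ
    rw [hq'] at h1
    refine ⟨q', ?_⟩
    exact_mod_cast h1.symm
  -- the fixed part
  have hfixedsum : (p : ℤ) ∣ (∑ φ : IrrCharacter N, (if (∀ u : T, u • φ = φ) then
      ((b φ : ℤ) * (m φ : ℤ)) else 0)) - (b θ : ℤ) * (ε : ℤ) := by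
    rw [← Finset.add_sum_erase _ _ (Finset.mem_univ θ), if_pos (hfixed' θ hθ)]
    have h1 : (b θ : ℤ) * (m θ : ℤ) + ∑ φ ∈ Finset.univ.erase θ, (if (∀ u : T, u • φ = φ) then
        ((b φ : ℤ) * (m φ : ℤ)) else 0) - (b θ : ℤ) * (ε : ℤ) =
        (b θ : ℤ) * (p * q) + ∑ φ ∈ Finset.univ.erase θ, (if (∀ u : T, u • φ = φ) then
        ((b φ : ℤ) * (m φ : ℤ)) else 0) := by
      rw [hmθ]
      ring
    rw [h1]
    refine dvd_add (Dvd.dvd.mul_left (dvd_mul_right _ _) _) (Finset.dvd_sum fun φ hφ => ?_)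
    split_ifs with hfx
    · exact Dvd.dvd.mul_left (hother φ (Finset.ne_of_mem_erase hφ) (hfixed φ hfx)) _
    · exact dvd_zero _
  have hfinal : (p : ℤ) ∣ (∑ φ : IrrCharacter N, ((b φ : ℤ) * (m φ : ℤ))) - (b θ : ℤ) * (ε : ℤ) := by
    have h1 := hmod.symm.dvd
    obtain ⟨c₁, hc₁⟩ := h1
    obtain ⟨c₂, hc₂⟩ := hfixedsum
    refine ⟨c₁ + c₂, ?_⟩
    have hc₁' : (∑ φ : IrrCharacter N, ((b φ : ℤ) * (m φ : ℤ))) -
        (∑ φ : IrrCharacter N, (if (∀ u : T, u • φ = φ) then ((b φ : ℤ) * (m φ : ℤ)) else 0)) = p * c₁ := by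
      convert hc₁
    linear_combination hc₁' + hc₂
  obtain ⟨Z, hZ⟩ := hfinal
  refine ⟨ε, hε, Z, ?_⟩
  rw [hexp, hb θ]
  have h3 : (∑ φ : IrrCharacter N, ((b φ : ℤ) * (m φ : ℤ))) = (ε : ℤ) * (b θ : ℤ) + p * Z := by
    linear_combination hZ
  rw [h3]
  push_cast
  ring

end Action

section Over

variable {Γ : Type u} [Group Γ] [Finite Γ]

theorem classInner_subgroupOf (G N : Subgroup Γ) [Fintype N] (hNG : N ≤ G) [Fintype G]
    [Fintype (N.subgroupOf G)] (χ : G → ℂ) (θ : N → ℂ) :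
    classInner (fun n : N => χ ⟨n, hNG n.2⟩) θ =
      classInner (resFun (N.subgroupOf G) χ) (θ ∘ Subgroup.subgroupOfEquivOfLe hNG) :=
  (classInner_comp_mulEquiv (Subgroup.subgroupOfEquivOfLe hNG) (fun n : N => χ ⟨n, hNG n.2⟩) θ).symm

theorem exists_over_ambient (G N : Subgroup Γ) [Fintype N] (hNG : N ≤ G)
    (hNn : ∀ g ∈ G, g ∈ Subgroup.normalizer (N : Set Γ)) (θ : IrrCharacter N) :
    ∃ χ : IrrCharacter G, classInner (fun n : N => (χ : G → ℂ) ⟨n, hNG n.2⟩) (θ : N → ℂ) ≠ 0 := by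
  classical
  let _ : Fintype G := Fintype.ofFinite _
  let _ : Fintype (N.subgroupOf G) := Fintype.ofFinite _
  have hN' : (N.subgroupOf G).Normal := (Subgroup.normal_subgroupOf_iff_le_normalizer hNG).mpr hNn
  obtain ⟨χ, hχ, h⟩ := exists_over (N := N.subgroupOf G)
    (isIrrCharacter_comp_mulEquiv (Subgroup.subgroupOfEquivOfLe hNG) θ.2)
  refine ⟨⟨χ, hχ⟩, ?_⟩
  rw [classInner_subgroupOf G N hNG]
  exact h

theorem mult_dvd_degree (G N : Subgroup Γ) [Fintype N] (hNG : N ≤ G)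
    (hNn : ∀ g ∈ G, g ∈ Subgroup.normalizer (N : Set Γ)) (χ : IrrCharacter G) (θ : IrrCharacter N)
    {m : ℕ} (hm : classInner (fun n : N => (χ : G → ℂ) ⟨n, hNG n.2⟩) (θ : N → ℂ) = (m : ℂ))
    (hm0 : m ≠ 0) : m ∣ charDegree (χ : G → ℂ) := by
  classical
  let _ : Fintype G := Fintype.ofFinite _
  let _ : Fintype (N.subgroupOf G) := Fintype.ofFinite _
  have hN' : (N.subgroupOf G).Normal := (Subgroup.normal_subgroupOf_iff_le_normalizer hNG).mpr hNn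
  rw [classInner_subgroupOf G N hNG] at hm
  have hθ' := isIrrCharacter_comp_mulEquiv (Subgroup.subgroupOfEquivOfLe hNG) θ.2
  have h1 := clifford_degree_nat (N := N.subgroupOf G) χ.2 hθ' (by
    rw [hm]
    exact_mod_cast hm0) (apply_one_eq_charDegree (IsIrrCharacter.isCharacter χ.2))
    (apply_one_eq_charDegree (IsIrrCharacter.isCharacter hθ')) hm
  rw [h1]
  exact Dvd.dvd.mul_right (dvd_mul_right _ _) _

theorem exists_invariant_over (S : Subgroup Γ) [Group.IsSolvable S] :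
    ∀ (n : ℕ) (G N : Subgroup Γ) [Fintype N], Nat.card G = n →
      (∀ t ∈ S, t ∈ Subgroup.normalizer (G : Set Γ)) → ∀ (hNG : N ≤ G),
      (∀ g ∈ G, g ∈ Subgroup.normalizer (N : Set Γ)) →
      (∀ t ∈ S, t ∈ Subgroup.normalizer (N : Set Γ)) →
      Nat.Coprime (Nat.card G) (Nat.card S) → ∀ θ : IrrCharacter N, InvBy S (θ : N → ℂ) →
      ∃ χ : IrrCharacter G, classInner (fun n : N => (χ : G → ℂ) ⟨n, hNG n.2⟩) (θ : N → ℂ) ≠ 0 ∧
        InvBy S (χ : G → ℂ) := by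
  classical
  intro n
  induction n using Nat.strong_induction_on with
  | _ n ih =>
  intro G N iN hGn hnorm hNG hNn hNS hcop θ hθ
  by_cases hcent : S ≤ Subgroup.centralizer (G : Set Γ)
  · obtain ⟨χ, hχ⟩ := exists_over_ambient G N hNG hNn θ
    refine ⟨χ, hχ, ?_⟩
    intro s hs g g' hgg'
    have hcomm := (Subgroup.mem_centralizer_iff.mp (hcent hs)) g g.2
    have : g' = g := by
      apply Subtype.ext
      rw [hgg', ← hcomm]
      group
    rw [this]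
  · obtain ⟨p, P, hp, hPp, hPS, hPG, hconj⟩ := exists_reduction S G hnorm hcent
    have := Fact.mk hp
    obtain ⟨G₁, hG₁⟩ : ∃ G₁ : Subgroup Γ, G₁ = G ⊓ Subgroup.centralizer (P : Set Γ) := ⟨_, rfl⟩
    obtain ⟨N₁, hN₁⟩ : ∃ N₁ : Subgroup Γ, N₁ = N ⊓ Subgroup.centralizer (P : Set Γ) := ⟨_, rfl⟩
    have hG₁G : G₁ ≤ G := by rw [hG₁]; exact inf_le_left
    have hN₁N : N₁ ≤ N := by rw [hN₁]; exact inf_le_left
    have hN₁G₁ : N₁ ≤ G₁ := by
      rw [hN₁, hG₁]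
      exact inf_le_inf_right _ hNG
    let _ : Fintype G := Fintype.ofFinite _
    let _ : Fintype G₁ := Fintype.ofFinite _
    let _ : Fintype N₁ := Fintype.ofFinite _
    have hnP : ∀ t ∈ P, t ∈ Subgroup.normalizer (G : Set Γ) := fun t ht => hnorm t (hPS ht)
    have hnPN : ∀ t ∈ P, t ∈ Subgroup.normalizer (N : Set Γ) := fun t ht => hNS t (hPS ht)
    have hcopP : Nat.Coprime (Nat.card G) (Nat.card P) :=
      hcop.coprime_dvd_right (Subgroup.card_dvd_of_le hPS)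
    have hcopPN : Nat.Coprime (Nat.card N) (Nat.card P) :=
      hcopP.coprime_dvd_left (Subgroup.card_dvd_of_le hNG)
    obtain ⟨a1, a2, a3⟩ := p_corr (p := p) _ P rfl hPp G G₁ hnP hcopP hG₁ hG₁G
    obtain ⟨a1N, a2N, -⟩ := p_corr (p := p) _ P rfl hPp N N₁ hnPN hcopPN hN₁ hN₁N
    have hnG₁ : ∀ y ∈ S, y ∈ Subgroup.normalizer (G₁ : Set Γ) := by
      rw [hG₁]
      exact red_norm hnorm hconj
    have hcentle : Subgroup.centralizer (G : Set Γ) ≤ Subgroup.centralizer (N : Set Γ) :=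
      Subgroup.centralizer_le hNG
    have hconjN : ∀ y ∈ S, ∀ u ∈ P, ∃ u' ∈ P, ∃ k ∈ S ⊓ Subgroup.centralizer (N : Set Γ),
        y * u * y⁻¹ = u' * k := by
      intro y hy u hu
      obtain ⟨u', hu', k, hk, h⟩ := hconj y hy u hu
      exact ⟨u', hu', k, ⟨hk.1, hcentle hk.2⟩, h⟩
    have hnN₁ : ∀ y ∈ S, y ∈ Subgroup.normalizer (N₁ : Set Γ) := by
      rw [hN₁]
      exact red_norm hNS hconjN
    have hN₁n : ∀ g ∈ G₁, g ∈ Subgroup.normalizer (N₁ : Set Γ) := by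
      have key : ∀ g ∈ G₁, ∀ x ∈ N₁, g * x * g⁻¹ ∈ N₁ := by
        intro g hg x hx
        rw [hG₁] at hg
        rw [hN₁] at hx ⊢
        obtain ⟨hgG, hgP⟩ := Subgroup.mem_inf.mp hg
        obtain ⟨hxN, hxP⟩ := Subgroup.mem_inf.mp hx
        exact Subgroup.mem_inf.mpr ⟨(Subgroup.mem_normalizer_iff.mp (hNn g hgG) x).mp hxN,
          Subgroup.mul_mem _ (Subgroup.mul_mem _ hgP hxP) (Subgroup.inv_mem _ hgP)⟩
      intro g hg
      rw [Subgroup.mem_normalizer_iff]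
      intro x
      refine ⟨key g hg x, fun hx => ?_⟩
      have := key g⁻¹ (Subgroup.inv_mem _ hg) _ hx
      simpa [mul_assoc] using this
    have hres : ∀ {D : Subgroup Γ} (χ : D → ℂ), InvBy S χ → InvBy P χ :=
      fun χ h x hx => h x (hPS hx)
    have hlt : Nat.card G₁ < n := by
      rw [← hGn]
      by_contra hcon
      push Not at hcon
      have h := Subgroup.eq_of_le_of_card_ge hG₁G hcon
      apply hPG
      have h2 : G ≤ Subgroup.centralizer (P : Set Γ) := by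
        rw [← h, hG₁]
        exact inf_le_right
      exact Subgroup.le_centralizer_iff.mp h2
    have hcop₁ : Nat.Coprime (Nat.card G₁) (Nat.card S) :=
      hcop.coprime_dvd_left (Subgroup.card_dvd_of_le hG₁G)
    obtain ⟨θ₁, hθ₁⟩ := a1N θ (hres _ hθ)
    have hθ₁S := corrRel_invBy_right hp hNS hnN₁ hθ hθ₁
    obtain ⟨χ₁, hχ₁, hχ₁S⟩ := ih _ hlt G₁ N₁ rfl hnG₁ hN₁G₁ hN₁n hnN₁ hcop₁ θ₁ hθ₁S
    obtain ⟨χ, hχP, hr⟩ := a3 χ₁
    have hinvS : InvBy S (χ : G → ℂ) := by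
      intro y hy g g' hgg'
      have h1 := corrRel_conj (hnorm y hy) (hnG₁ y hy) hr
      rw [comp_conjOn_of_invBy hy (hnG₁ y hy) hχ₁S] at h1
      have e := a2 ⟨(χ : G → ℂ) ∘ conjOn G y (hnorm y hy), isIrrCharacter_comp_mulEquiv _ χ.2⟩ χ
        (red_inv hconj hy (hnorm y hy) hχP) hχP χ₁ h1 hr
      have h4 := congrFun (congrArg Subtype.val e) g
      have hg' : g' = conjOn G y (hnorm y hy) g := Subtype.ext hgg'
      rw [hg']
      exact h4
    refine ⟨χ, fun h0 => ?_, hinvS⟩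
    -- comparison of the multiplicities
    let ζ : N → ℂ := fun n => (χ : G → ℂ) ⟨n, hNG n.2⟩
    have hζ : IsCharacter N ζ :=
      IsCharacter.comp (IsIrrCharacter.isCharacter χ.2) (Subgroup.inclusion hNG)
    have hζinv : InvBy P ζ := fun u hu g g' hgg' => hχP u hu ⟨g, hNG g.2⟩ ⟨g', hNG g'.2⟩ hgg'
    have hfix : ∀ c ∈ N₁, ∀ t ∈ P, t * c * t⁻¹ = c := by
      intro c hc t ht
      rw [hN₁] at hc
      have h1 := (Subgroup.mem_centralizer_iff.mp (Subgroup.mem_inf.mp hc).2) t ht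
      rw [h1]
      group
    obtain ⟨ε₂, hε₂, Z₂, hZ₂⟩ := corr_restrict hPp hnPN hN₁N hfix a1N a2N hζ hζinv (hres _ hθ) hθ₁
    obtain ⟨ε₁, hε₁, hsplit⟩ := CorrRel.split hG₁G hN₁G₁ (IsIrrCharacter.isCharacter χ.2) hr
    obtain ⟨Z₁, hZ₁⟩ := hsplit θ₁
    obtain ⟨e, he⟩ : ∃ e : ℕ, classInner (fun c : N₁ => (χ₁ : G₁ → ℂ) ⟨c, hN₁G₁ c.2⟩) (θ₁ : N₁ → ℂ) = (e : ℂ) :=
      IsCharacter.classInner_irr_eq_nat
        (IsCharacter.comp (IsIrrCharacter.isCharacter χ₁.2) (Subgroup.inclusion hN₁G₁)) θ₁.2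
    have he0 : e ≠ 0 := by
      rintro rfl
      apply hχ₁
      rw [he]
      simp
    have hsame : (fun c : N₁ => ζ ⟨c, hN₁N c.2⟩) = fun c : N₁ => (χ : G → ℂ) ⟨c, (hN₁G₁.trans hG₁G) c.2⟩ := rfl
    rw [hsame] at hZ₂
    rw [hZ₁, he] at hZ₂
    have h0' : classInner ζ (θ : N → ℂ) = 0 := h0
    rw [h0', mul_zero, zero_add] at hZ₂
    have h5 : (ε₁ * e + p * Z₁ : ℤ) = p * Z₂ := by exact_mod_cast hZ₂
    have h6 : (p : ℤ) ∣ ε₁ * e := ⟨Z₂ - Z₁, by linear_combination h5⟩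
    have h7 : (p : ℤ) ∣ e := by
      rcases hε₁ with rfl | rfl
      · simpa using h6
      · simpa using h6
    have h8 : p ∣ e := by exact_mod_cast h7
    have h9 : e ∣ charDegree (χ₁ : G₁ → ℂ) := mult_dvd_degree G₁ N₁ hN₁G₁ hN₁n χ₁ θ₁ he he0
    have h10 : p ∣ Nat.card G := (h8.trans h9).trans
      ((charDegree_dvd_card χ₁.2).trans (Subgroup.card_dvd_of_le hG₁G))
    -- `p` divides `|P|`
    have hPne : P ≠ ⊥ := by
      rintro rfl
      exact hPG bot_le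
    have hnt : Nontrivial P := (Subgroup.nontrivial_iff_ne_bot P).mpr hPne
    have h11 : p ∣ Nat.card P := by
      obtain ⟨k, hk⟩ := IsPGroup.iff_card.mp hPp
      rw [hk]
      refine dvd_pow_self p fun hk0 => ?_
      rw [hk0, pow_zero] at hk
      exact Finite.one_lt_card.ne' hk
    exact hp.one_lt.ne' (Nat.dvd_one.mp (hcopP ▸ Nat.dvd_gcd h10 h11))

end Over

end Cfsg.Agent.Lib.H8Group
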