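import Cfsg.Agent.Lib.H8Group.AbelianPairs
import Cfsg.Agent.Lib.H8Group.Subsection

/-!
# The number of characters of a block with abelian defect group, by orbits on the defect group

For a maximal Brauer pair `(P, e)` of `B` with `P` abelian, and `T` the stabilizer of `(P, e)`,
`k(B) = ∑ l(f_u)`, summed over the `T`-orbits on `P`, where `(⟨u⟩, f_u) ≤ (P, e)`.
-/

set_option autoImplicit false
set_option linter.unusedSectionVars false
set_option linter.style.haveILetI false

namespace Cfsg.Agent.Lib.H8Group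

open Cfsg Cfsg.Agent.Lib.Char Cfsg.Agent.Lib.Blocks

universe u

section Conj

variable {G : Type u} [Group G] [Fintype G] {M : Ideal AlgInt} {p : ℕ} [hp : Fact p.Prime] {Q Q' P P₂ : Subgroup G}
  {B : Set (IrrCharacter G)} {e : Set (IrrCharacter (Subgroup.centralizer (P : Set G)))}
  {e₂ : Set (IrrCharacter (Subgroup.centralizer (P₂ : Set G)))}
  {f : Set (IrrCharacter (Subgroup.centralizer (Q : Set G)))}

/-- Two maximal pairs above `(Q, f)`, one on an abelian `P`, are conjugate under `C_G(Q)`. -/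
theorem exists_cen_conj_of_abelian (hM : IsPModular p M) (hmax : IsMaximalBrauerPair p M B P e)
    (hab : ∀ x ∈ P, ∀ y ∈ P, x * y = y * x) (hle : SubpairLE p M Q f P e)
    (hmax₂ : IsMaximalBrauerPair p M B P₂ e₂) (hle₂ : SubpairLE p M Q f P₂ e₂)
    (hP₂C : P₂ ≤ Subgroup.centralizer (Q : Set G)) :
    ∃ u ∈ Subgroup.centralizer (Q : Set G), ∃ h : conjS u P₂ = P, conjB u h e₂ = e := by
  classical
  have := isPrime_of_modular hM
  letI : Fintype (Subgroup.centralizer (Q : Set G)) := Fintype.ofFinite _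
  have hPe := hmax.1.1
  have hPe₂ := hmax₂.1.1
  have hQP := le_of_subpairLE hle
  have hQP₂ := le_of_subpairLE hle₂
  have hf := isPBlock_of_subpairLE hM hPe hle
  have hPC : P ≤ Subgroup.centralizer (Q : Set G) := by
    intro y hy
    rw [Subgroup.mem_centralizer_iff]
    intro q hq
    exact hab q (hQP hq) y hy
  have hPN : P ≤ Subgroup.normalizer (Q : Set G) := hPC.trans (Subgroup.centralizer_le_normalizer _)
  have hP₂N : P₂ ≤ Subgroup.normalizer (Q : Set G) := hP₂C.trans (Subgroup.centralizer_le_normalizer _)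
  have hns := isNormalSubpair_of_subpairLE hM hPe hle Relation.ReflTransGen.refl hQP hPN
  have hns₂ := isNormalSubpair_of_subpairLE hM hPe₂ hle₂ Relation.ReflTransGen.refl hQP₂ hP₂N
  have hcoefW : ∀ w : Subgroup.centralizer (Q : Set G), blockCoeff f w =
      subgroupBlockCoeff (Subgroup.centralizer (Q : Set G)) f (w : G) := fun w => by
    simp only [subgroupBlockCoeff, dif_pos w.2]
  have cdP : CenData (P.subgroupOf (Subgroup.centralizer (Q : Set G))) P := cenData_of_le le_rfl hPC hQP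
  letI : Fintype (Subgroup.centralizer (P : Set G)) := Fintype.ofFinite _
  letI : Fintype (Subgroup.centralizer ((P.subgroupOf (Subgroup.centralizer (Q : Set G)) : Subgroup _) :
    Set (Subgroup.centralizer (Q : Set G)))) := Fintype.ofFinite _
  have hpP := isBrauerPairOf_of_isNormalSubpair cdP hf hcoefW hns
  -- `P` is a defect group of `f`
  have hD : IsDefectGroup p M f (P.subgroupOf (Subgroup.centralizer (Q : Set G))) := by
    obtain ⟨x₁, hx₁, hx₁D⟩ := exists_conj_isDefectGroup_cen hM hmax hf hle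
    obtain ⟨D, hD, hDle⟩ := exists_defect_ge_cen hM hPe hQP hf hle
    rw [inf_eq_left.mpr hPC] at hDle
    have h1 := card_defect_conjB hM x₁ rfl hf hD hx₁D
    rw [card_subgroupOf_of_le inf_le_right] at h1
    have h2 : Nat.card (P ⊓ Subgroup.centralizer ((conjS x₁ Q : Subgroup G) : Set G) : Subgroup G) ≤ Nat.card P :=
      Subgroup.card_le_of_le inf_le_left
    have heq := Subgroup.eq_of_le_of_card_ge hDle (by
      rw [card_subgroupOf_of_le hPC, ← h1]
      exact h2)
    rw [heq]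
    exact hD
  have hmaxW := isMaximalBrauerPair_of_defect hM hpP hD
  have cdP₂ : CenData (P₂.subgroupOf (Subgroup.centralizer (Q : Set G))) P₂ := cenData_of_le le_rfl hP₂C hQP₂
  letI : Fintype (Subgroup.centralizer (P₂ : Set G)) := Fintype.ofFinite _
  letI : Fintype (Subgroup.centralizer ((P₂.subgroupOf (Subgroup.centralizer (Q : Set G)) : Subgroup _) :
    Set (Subgroup.centralizer (Q : Set G)))) := Fintype.ofFinite _
  have hpP₂ := isBrauerPairOf_of_isNormalSubpair cdP₂ hf hcoefW hns₂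
  obtain ⟨u, hu⟩ := exists_conj_subpairLE hM hmaxW hpP₂
  have hWN : Subgroup.centralizer (Q : Set G) ≤ Subgroup.normalizer (Q : Set G) := Subgroup.centralizer_le_normalizer _
  have hlift := subpairLE_lift_conj le_rfl hPC hP₂C hQP₂ hWN cdP₂ cdP u hu
  have hB := hmax.1.2.1
  have hcard : Nat.card P₂ = Nat.card P :=
    card_defect_eq hM hB (isDefectGroup_of_isMaximalBrauerPair hM hmax) (isDefectGroup_of_isMaximalBrauerPair hM hmax₂)
  have hzP : conjS (u : G) P₂ = P :=
    Subgroup.eq_of_le_of_card_ge (le_of_subpairLE hlift) (by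
      rw [card_conjS, hcard])
  have hle₃ := subpairLE_of_eq rfl hzP hlift
  refine ⟨u, u.2, hzP, ?_⟩
  exact subpairLE_unique hM hPe P le_rfl _ e hle₃ Relation.ReflTransGen.refl

/-- Fusion of subpairs of an abelian defect group is controlled by the stabilizer of the maximal pair. -/
theorem exists_stab_of_conj (hM : IsPModular p M) (hmax : IsMaximalBrauerPair p M B P e)
    (hab : ∀ x ∈ P, ∀ y ∈ P, x * y = y * x) {g : G} (hQ : conjS g Q = Q') (hle : SubpairLE p M Q f P e)
    (hle' : SubpairLE p M Q' (conjB g hQ f) P e) :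
    ∃ t : G, (∃ h : conjS t P = P, conjB t h e = e) ∧ ∀ z ∈ Q, t * z * t⁻¹ = g * z * g⁻¹ := by
  classical
  have hQP := le_of_subpairLE hle
  have hQ'P := le_of_subpairLE hle'
  have hinv : conjS g⁻¹ Q' = Q := conjS_inv_of_conjS g hQ
  have hmax₂ : IsMaximalBrauerPair p M B (conjS g⁻¹ P) (conjB g⁻¹ rfl e) := isMaximalBrauerPair_conjB g⁻¹ rfl hmax
  have hle₂ : SubpairLE p M Q f (conjS g⁻¹ P) (conjB g⁻¹ rfl e) := by
    have h1 := subpairLE_conjB g⁻¹ hinv rfl hle'
    rwa [conjB_conjB_inv] at h1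
  have hP₂C : conjS g⁻¹ P ≤ Subgroup.centralizer (Q : Set G) := by
    intro y hy
    rw [mem_conjS, inv_inv] at hy
    rw [Subgroup.mem_centralizer_iff]
    intro q hq
    have h2 : g * q * g⁻¹ ∈ Q' := by
      rw [← hQ]
      exact conj_mem_conjS hq
    have h3 := hab _ (hQ'P h2) _ hy
    have h4 : g⁻¹ * (g * q * g⁻¹ * (g * y * g⁻¹)) * g = q * y := by group
    have h5 : g⁻¹ * (g * y * g⁻¹ * (g * q * g⁻¹)) * g = y * q := by group
    rw [← h4, h3, h5]
  obtain ⟨u, hu, hzP, hconj⟩ := exists_cen_conj_of_abelian hM hmax hab hle hmax₂ hle₂ hP₂C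
  have h₃ : conjS (u * g⁻¹) P = P := by
    rw [← conjS_conjS]
    exact hzP
  have h₄ := conjB_conjB g⁻¹ u rfl hzP h₃ e
  rw [hconj] at h₄
  refine ⟨(u * g⁻¹)⁻¹, ⟨conjS_inv_of_conjS _ h₃, ?_⟩, ?_⟩
  · have h₅ := conjB_conjB_inv (u * g⁻¹) h₃ e
    rw [← h₄] at h₅
    exact h₅
  · intro z hz
    have h1 : u * z = z * u := (Subgroup.mem_centralizer_iff.mp hu z hz).symm
    have h2 : u⁻¹ * z * u = z := by
      rw [mul_assoc, ← h1]
      group
    calc (u * g⁻¹)⁻¹ * z * (u * g⁻¹)⁻¹⁻¹ = g * (u⁻¹ * z * u) * g⁻¹ := by group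
      _ = g * z * g⁻¹ := by rw [h2]

/-- Conjugation by the stabilizer of `(P, e)` permutes the subpairs of `(P, e)`. -/
theorem conjB_eq_of_stab (hM : IsPModular p M) (hPe : IsBrauerPair p M P e) {t : G} (hP : conjS t P = P)
    (he : conjB t hP e = e) (hQ : conjS t Q = Q') (hle : SubpairLE p M Q f P e) {f' : Set (IrrCharacter (Subgroup.centralizer (Q' : Set G)))}
    (hle' : SubpairLE p M Q' f' P e) : conjB t hQ f = f' := by
  have h1 := subpairLE_conjB t hQ hP hle
  rw [he] at h1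
  exact subpairLE_unique hM hPe Q' (le_of_subpairLE hle') _ _ h1 hle'

/-- An element of the centralizer acts trivially on the blocks of the centralizer. -/
theorem conjB_eq_self_of_mem_centralizer (hM : IsPModular p M) {c : G} (hc : c ∈ Subgroup.centralizer (Q : Set G))
    (h : conjS c Q = Q) (hf : IsPBlock M f) : conjB c h f = f :=
  conjB_eq_of_stabilizes hM h hf (stabilizes_of_mem_centralizer _ f hc)

end Conj

section Rank

variable {H K : Type u} [Group H] [Group K] [Fintype H] [Fintype K] {p : ℕ}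

theorem blockRank_transBlock (ε : H ≃* K) (b : Set (IrrCharacter K)) :
    blockRank p (transBlock ε b) = blockRank p b := by
  classical
  let L : (K → ℂ) ≃ₗ[ℂ] (H → ℂ) := LinearEquiv.funCongrLeft ℂ ℂ ε.toEquiv
  have hL : ∀ f : K → ℂ, L f = f ∘ ε := fun f => rfl
  have hreg : ∀ (f : K → ℂ), pRegularPart p (f ∘ ε) = pRegularPart p f ∘ ε := by
    intro f
    funext h
    simp only [pRegularPart, Function.comp_apply, IsPRegular, MulEquiv.orderOf_eq]
    congr
  have himg : (fun χ : IrrCharacter H => pRegularPart p (χ : H → ℂ)) '' transBlock ε b =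
      L '' ((fun χ : IrrCharacter K => pRegularPart p (χ : K → ℂ)) '' b) := by
    ext f
    constructor
    · rintro ⟨ξ, hξ, rfl⟩
      refine ⟨pRegularPart p ((Cfsg.Agent.Lib.Blocks.irrComp ε.symm ξ : IrrCharacter K) : K → ℂ), ⟨_, hξ, rfl⟩, ?_⟩
      show L _ = _
      rw [hL, ← hreg]
      congr 1
      funext h
      simp [Cfsg.Agent.Lib.Blocks.irrComp]
    · rintro ⟨_, ⟨χ, hχ, rfl⟩, rfl⟩
      refine ⟨Cfsg.Agent.Lib.Blocks.irrComp ε χ, irrComp_mem_transBlock ε hχ, ?_⟩
      show _ = L _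
      rw [hL, ← hreg]
      rfl
  rw [blockRank, blockRank, himg]
  have h1 : Submodule.span ℂ (L '' ((fun χ : IrrCharacter K => pRegularPart p (χ : K → ℂ)) '' b)) =
      (Submodule.span ℂ ((fun χ : IrrCharacter K => pRegularPart p (χ : K → ℂ)) '' b)).map (L : (K → ℂ) →ₗ[ℂ] (H → ℂ)) := by
    rw [Submodule.map_span]
    rfl
  rw [h1]
  exact LinearEquiv.finrank_map_eq L _

theorem blockRank_conjB {G : Type u} [Group G] [Fintype G] {Q Q' : Subgroup G} (x : G) (h : conjS x Q = Q')
    (f : Set (IrrCharacter (Subgroup.centralizer (Q : Set G)))) :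
    blockRank p (conjB x h f) = blockRank p f := by
  classical
  letI : Fintype (Subgroup.centralizer (Q : Set G)) := Fintype.ofFinite _
  letI : Fintype (Subgroup.centralizer (Q' : Set G)) := Fintype.ofFinite _
  rw [conjB_eq_transBlock]
  exact blockRank_transBlock _ _

end Rank

section Count

variable {G : Type u} [Group G] [Fintype G] {M : Ideal AlgInt} {p : ℕ} [hp : Fact p.Prime]

theorem conjS_zpowers (g u : G) : conjS g (Subgroup.zpowers u) = Subgroup.zpowers (g * u * g⁻¹) := by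
  rw [conjS, MonoidHom.map_zpowers]
  rfl

theorem exists_pElement_reps (p : ℕ) : ∃ X : Finset G, (∀ x ∈ X, ∃ k, orderOf x = p ^ k) ∧
    ∀ g : G, (∃ k, orderOf g = p ^ k) → ∃! x, x ∈ X ∧ IsConj g x := by
  classical
  refine ⟨(Finset.univ.filter (fun K : ConjClasses G => ∃ k, orderOf (clsRep K) = p ^ k)).image clsRep, ?_, ?_⟩
  · intro x hx
    obtain ⟨K, hK, rfl⟩ := Finset.mem_image.mp hx
    exact (Finset.mem_filter.mp hK).2
  · intro g hg
    have hcon : IsConj g (clsRep (ConjClasses.mk g)) := ((mk_eq_iff_isConj_clsRep _ g).mp rfl).symm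
    refine ⟨clsRep (ConjClasses.mk g), ⟨Finset.mem_image.mpr ⟨_, Finset.mem_filter.mpr ⟨Finset.mem_univ _, ?_⟩, rfl⟩, hcon⟩, ?_⟩
    · obtain ⟨k, hk⟩ := hg
      refine ⟨k, ?_⟩
      rw [← hk]
      obtain ⟨c, hc⟩ := isConj_iff.mp hcon
      rw [← hc]
      exact orderOf_injective (MulAut.conj c).toMonoidHom (MulAut.conj c).injective g
    · rintro y ⟨hy, hgy⟩
      obtain ⟨K, -, rfl⟩ := Finset.mem_image.mp hy
      have h1 : ConjClasses.mk g = K := (mk_eq_iff_isConj_clsRep K g).mpr hgy.symm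
      rw [h1]

theorem finsum_induced_congr {H H' : Subgroup G} (h : H = H') (B : Set (IrrCharacter G)) :
    ∑ᶠ b ∈ {b : Set (IrrCharacter H) | IsInducedBlock M H b B}, blockRank p b =
      ∑ᶠ b ∈ {b : Set (IrrCharacter H') | IsInducedBlock M H' b B}, blockRank p b := by
  subst h
  rfl

variable {P : Subgroup G} {B : Set (IrrCharacter G)} {e : Set (IrrCharacter (Subgroup.centralizer (P : Set G)))}
  {T : Subgroup G}
  (f : ∀ u : G, Set (IrrCharacter (Subgroup.centralizer ((Subgroup.zpowers u : Subgroup G) : Set G))))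

/-- The block of `C(x)` obtained from `f u`, for `u` conjugate to `x`. -/
noncomputable def secPsi (x u : G) : Set (IrrCharacter (Subgroup.centralizer ((Subgroup.zpowers x : Subgroup G) : Set G))) :=
  open scoped Classical in
  if h : ∃ g : G, g * u * g⁻¹ = x then
    conjB h.choose ((conjS_zpowers _ _).trans (by rw [h.choose_spec])) (f u) else ∅

omit [Fintype G] in
variable {f} in
theorem conjS_zpowers_of_eq {g u x : G} (hg : g * u * g⁻¹ = x) : conjS g (Subgroup.zpowers u) = Subgroup.zpowers x :=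
  (MonoidHom.map_zpowers _ _).trans (by rw [← hg]; rfl)

variable {f} in
theorem secPsi_eq (hM : IsPModular p M) {u x g : G} (hf : IsPBlock M (f u)) (hg : g * u * g⁻¹ = x) :
    secPsi f x u = conjB g (conjS_zpowers_of_eq hg) (f u) := by
  classical
  have hex : ∃ g : G, g * u * g⁻¹ = x := ⟨g, hg⟩
  rw [secPsi, dif_pos hex]
  set g₁ := hex.choose with hg₁
  have hg₁s : g₁ * u * g₁⁻¹ = x := hex.choose_spec
  have hc : g * g₁⁻¹ ∈ Subgroup.centralizer ((Subgroup.zpowers x : Subgroup G) : Set G) := by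
    rw [centralizer_zpowers_eq, Subgroup.mem_centralizer_singleton_iff]
    calc g * g₁⁻¹ * x = g * g₁⁻¹ * (g₁ * u * g₁⁻¹) := by rw [hg₁s]
      _ = g * u * g₁⁻¹ := by group
      _ = (g * u * g⁻¹) * (g * g₁⁻¹) := by group
      _ = x * (g * g₁⁻¹) := by rw [hg]
  have h3 : conjS (g * g₁⁻¹) (Subgroup.zpowers x) = Subgroup.zpowers x :=
    conjS_eq_of_mem_normalizer (Subgroup.centralizer_le_normalizer _ hc)
  have h₁ : conjS g₁ (Subgroup.zpowers u) = Subgroup.zpowers x := conjS_zpowers_of_eq hg₁s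
  have h4 : conjS (g * g₁⁻¹ * g₁) (Subgroup.zpowers u) = Subgroup.zpowers x := by
    rw [inv_mul_cancel_right]
    exact conjS_zpowers_of_eq hg
  have h5 := conjB_conjB g₁ (g * g₁⁻¹) h₁ h3 h4 (f u)
  rw [conjB_eq_self_of_mem_centralizer hM hc h3 (isPBlock_conjB g₁ h₁ hf)] at h5
  rw [h5]
  exact conjB_congr (inv_mul_cancel_right g g₁) _ _ _

/-- `secPsi` is a bijection between the `G`-conjugates of `x` among the orbit representatives and the blocks
of `C(x)` inducing `B`. -/
theorem bijOn_secPsi (hM : IsPModular p M) (hmax : IsMaximalBrauerPair p M B P e)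
    (hab : ∀ x ∈ P, ∀ y ∈ P, x * y = y * x)
    (hT : ∀ y : G, y ∈ T ↔ y ∈ Subgroup.normalizer (P : Set G) ∧
      StabilizesBlock (Subgroup.centralizer (P : Set G)) e y)
    (hf : ∀ u ∈ P, SubpairLE p M (Subgroup.zpowers u) (f u) P e)
    (U : Finset G) (hUP : ∀ u ∈ U, u ∈ P)
    (hU : ∀ v ∈ P, ∃! u, u ∈ U ∧ ∃ t ∈ T, t * v * t⁻¹ = u) {x : G} (hx : ∃ k, orderOf x = p ^ k) :
    open scoped Classical in
    Set.BijOn (secPsi f x) (↑(U.filter (fun u => IsConj u x)) : Set G)
      {b : Set (IrrCharacter (Subgroup.centralizer ((Subgroup.zpowers x : Subgroup G) : Set G))) |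
        IsInducedBlock M (Subgroup.centralizer ((Subgroup.zpowers x : Subgroup G) : Set G)) b B} := by
  classical
  have := isPrime_of_modular hM
  have hPe := hmax.1.1
  have hB := hmax.1.2.1
  letI : ∀ x : G, Fintype (Subgroup.centralizer ((Subgroup.zpowers x : Subgroup G) : Set G)) := fun _ => Fintype.ofFinite _
  have hblock : ∀ u ∈ P, IsPBlock M (f u) := fun u hu => isPBlock_of_subpairLE hM hPe (hf u hu)
  have hpair : ∀ u ∈ P, IsBrauerPairOf p M B (Subgroup.zpowers u) (f u) := fun u hu =>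
    (isBrauerPairOf_iff_of_chain hM (hf u hu) hB).mp hmax.1
  have hpgroup : ∀ v : G, (∃ k, orderOf v = p ^ k) → IsPGroup p (Subgroup.zpowers v) := fun v hv => isPGroup_zpowers hv
  refine ⟨?_, ?_, ?_⟩
  · -- maps to
    intro u hu
    have hu' := Finset.mem_filter.mp (Finset.mem_coe.mp hu)
    obtain ⟨g, hg⟩ := isConj_iff.mp hu'.2
    have huP := hUP u hu'.1
    show IsInducedBlock _ _ _ _
    rw [secPsi_eq hM (hblock u huP) hg]
    have h1 := isBrauerPairOf_conjB g (conjS_zpowers_of_eq hg) (hpair u huP)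
    exact (isBrauerPairOf_iff hM h1.1.1 h1.1.2).mp h1
  · -- injective
    intro u hu u' hu' heq
    have h1 := Finset.mem_filter.mp (Finset.mem_coe.mp hu)
    have h1' := Finset.mem_filter.mp (Finset.mem_coe.mp hu')
    obtain ⟨g, hg⟩ := isConj_iff.mp h1.2
    obtain ⟨g', hg'⟩ := isConj_iff.mp h1'.2
    have huP := hUP u h1.1
    have huP' := hUP u' h1'.1
    rw [secPsi_eq hM (hblock u huP) hg, secPsi_eq hM (hblock u' huP') hg'] at heq
    -- the element `h = g'⁻¹ g`
    have hh : (g'⁻¹ * g) * u * (g'⁻¹ * g)⁻¹ = u' := by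
      calc (g'⁻¹ * g) * u * (g'⁻¹ * g)⁻¹ = g'⁻¹ * (g * u * g⁻¹) * g' := by group
        _ = g'⁻¹ * x * g' := by rw [hg]
        _ = g'⁻¹ * (g' * u' * g'⁻¹) * g' := by rw [hg']
        _ = u' := by group
    have hQ := conjS_zpowers_of_eq hh
    have hconj : conjB (g'⁻¹ * g) hQ (f u) = f u' := by
      have hinv := conjS_inv_of_conjS g' (conjS_zpowers_of_eq hg')
      have h2 := conjB_conjB_inv g' (conjS_zpowers_of_eq hg') (f u')
      rw [← heq] at h2
      rw [← h2, conjB_conjB g g'⁻¹ (conjS_zpowers_of_eq hg) hinv hQ]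
    have hle' : SubpairLE p M (Subgroup.zpowers u') (conjB (g'⁻¹ * g) hQ (f u)) P e := by
      rw [hconj]
      exact hf u' huP'
    obtain ⟨t, ⟨hP, he⟩, htz⟩ := exists_stab_of_conj hM hmax hab hQ (hf u huP) hle'
    have htu : t * u * t⁻¹ = u' := by
      rw [htz u (Subgroup.mem_zpowers u), hh]
    have htT : t ∈ T := (hT t).mpr ⟨mem_normalizer_of_conjS_eq hP, stabilizes_of_conjB_eq hP he⟩
    obtain ⟨w, -, hw⟩ := hU u huP
    rw [hw u ⟨h1.1, 1, Subgroup.one_mem _, by simp⟩, hw u' ⟨h1'.1, t, htT, htu⟩]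
  · -- surjective
    intro b hb
    have hb' : IsInducedBlock M (Subgroup.centralizer ((Subgroup.zpowers x : Subgroup G) : Set G)) b B := hb
    have hpr : IsBrauerPairOf p M B (Subgroup.zpowers x) b := (isBrauerPairOf_iff hM (hpgroup x hx) hb'.1).mpr hb'
    obtain ⟨g, hg⟩ := exists_conj_subpairLE hM hmax hpr
    have h0 : conjS g (Subgroup.zpowers x) = Subgroup.zpowers (g * x * g⁻¹) := conjS_zpowers g x
    have hle₀ : SubpairLE p M (Subgroup.zpowers (g * x * g⁻¹)) (conjB g h0 b) P e := subpairLE_of_eq rfl h0 hg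
    have hu₀P : g * x * g⁻¹ ∈ P := le_of_subpairLE hle₀ (Subgroup.mem_zpowers _)
    have hfu₀ : conjB g h0 b = f (g * x * g⁻¹) :=
      subpairLE_unique hM hPe _ (le_of_subpairLE hle₀) _ _ hle₀ (hf _ hu₀P)
    obtain ⟨u, ⟨huU, t, htT, htu⟩, -⟩ := hU _ hu₀P
    obtain ⟨htN, hts⟩ := (hT t).mp htT
    have hP : conjS t P = P := conjS_eq_of_mem_normalizer htN
    have he : conjB t hP e = e := conjB_eq_of_stabilizes hM hP hPe.2 hts
    have h1 : conjS t (Subgroup.zpowers (g * x * g⁻¹)) = Subgroup.zpowers u := conjS_zpowers_of_eq htu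
    have hfu : conjB t h1 (f (g * x * g⁻¹)) = f u := conjB_eq_of_stab hM hPe hP he h1 (hf _ hu₀P) (hf u (hUP u huU))
    have hg' : (t * g)⁻¹ * u * (t * g)⁻¹⁻¹ = x := by
      rw [← htu]
      group
    refine ⟨u, Finset.mem_coe.mpr (Finset.mem_filter.mpr ⟨huU, isConj_iff.mpr ⟨_, hg'⟩⟩), ?_⟩
    rw [secPsi_eq hM (hblock u (hUP u huU)) hg', ← hfu, ← hfu₀]
    have h3 : conjS (t * g) (Subgroup.zpowers x) = Subgroup.zpowers u := by
      rw [← conjS_conjS, h0, h1]
    rw [conjB_conjB g t h0 h1 h3 b]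
    exact conjB_conjB_inv (t * g) h3 b

/-- **The number of characters of a block with abelian defect group.** -/
theorem card_block_eq_sum_orbits (hM : IsPModular p M) (hmax : IsMaximalBrauerPair p M B P e)
    (hab : ∀ x ∈ P, ∀ y ∈ P, x * y = y * x)
    (hT : ∀ y : G, y ∈ T ↔ y ∈ Subgroup.normalizer (P : Set G) ∧
      StabilizesBlock (Subgroup.centralizer (P : Set G)) e y)
    (hf : ∀ u ∈ P, SubpairLE p M (Subgroup.zpowers u) (f u) P e)
    (U : Finset G) (hUP : ∀ u ∈ U, u ∈ P)
    (hU : ∀ v ∈ P, ∃! u, u ∈ U ∧ ∃ t ∈ T, t * v * t⁻¹ = u) :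
    Nat.card B = ∑ u ∈ U, blockRank p (f u) := by
  classical
  have := isPrime_of_modular hM
  have hB := hmax.1.2.1
  obtain ⟨X, hX, hXrep⟩ := exists_pElement_reps (G := G) p
  rw [card_block_eq_sum hM hB X hX hXrep]
  have hPp : IsPGroup p P := hmax.1.1.1
  have hper : ∀ x ∈ X, ∑ᶠ b ∈ {b : Set (IrrCharacter (Subgroup.centralizer ({x} : Set G))) |
      IsInducedBlock M (Subgroup.centralizer ({x} : Set G)) b B}, blockRank p b =
      ∑ u ∈ U.filter (fun u => IsConj u x), blockRank p (f u) := by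
    intro x hx
    rw [finsum_induced_congr (centralizer_zpowers_eq x).symm B, ← finsum_mem_coe_finset]
    symm
    refine finsum_mem_eq_of_bijOn (secPsi f x) (bijOn_secPsi f hM hmax hab hT hf U hUP hU (hX x hx)) ?_
    intro u hu
    have h1 := Finset.mem_filter.mp (Finset.mem_coe.mp hu)
    obtain ⟨g, hg⟩ := isConj_iff.mp h1.2
    rw [secPsi_eq hM (isPBlock_of_subpairLE hM hmax.1.1 (hf u (hUP u h1.1))) hg, blockRank_conjB]
  rw [Finset.sum_congr rfl hper]
  rw [Finset.sum_comm' (t' := U) (s' := fun u => X.filter (fun x => IsConj u x))]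
  · refine Finset.sum_congr rfl fun u hu => ?_
    have huel : ∃ k, orderOf u = p ^ k := by
      obtain ⟨k, hk⟩ := (IsPGroup.iff_orderOf.mp hPp) ⟨u, hUP u hu⟩
      exact ⟨k, by rw [← Subgroup.orderOf_coe] at hk; exact hk⟩
    obtain ⟨x, ⟨hxX, hux⟩, huniq⟩ := hXrep u huel
    have hfil : X.filter (fun x => IsConj u x) = {x} := by
      ext y
      simp only [Finset.mem_filter, Finset.mem_singleton]
      constructor
      · rintro ⟨hy, huy⟩
        exact huniq y ⟨hy, huy⟩
      · rintro rfl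
        exact ⟨hxX, hux⟩
    rw [hfil, Finset.sum_singleton]
  · intro x u
    simp only [Finset.mem_filter]
    tauto

end Count

end Cfsg.Agent.Lib.H8Group
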