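import Cfsg.Agent.Lib.H8Group.HeightLocal
import Cfsg.Agent.Lib.Char.Galois

/-!
# Major subsections: heights and rows

For a subsection `(x, b)` of `B` such that `b` has the same defect as `B`, the pairing of a row with a vector of
nonzero degree form is a unit multiple of a power of `p` which is the height of the character.
-/

set_option autoImplicit false
set_option linter.unusedSectionVars false
set_option linter.style.haveILetI false

namespace Cfsg.Agent.Lib.H8Group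

open Cfsg Cfsg.Agent.Lib.Char Cfsg.Agent.Lib.Blocks
open scoped ComplexConjugate

universe u

section GaloisAvg

variable {p : ℕ} [hp : Fact p.Prime]

theorem intCast_isIntegralZ (n : ℤ) : IsIntegral ℤ (n : ℂ) := by
  have h := isIntegral_algebraMap (R := ℤ) (A := ℂ) (x := n)
  rwa [eq_intCast] at h

theorem one_mem_unitsJ {N : ℕ} (hN : 1 ≤ N) : 1 ∈ unitsJ p N := by
  have hpp : p.Prime := hp.out
  simp only [unitsJ, Finset.mem_filter, Finset.mem_range]
  refine ⟨Nat.one_lt_pow (by omega) hpp.one_lt, ?_⟩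
  intro h
  exact hpp.one_lt.ne' (Nat.dvd_one.mp h)

theorem coprime_of_mem_unitsJ {N j : ℕ} (hj : j ∈ unitsJ p N) : j.Coprime (p ^ N) := by
  have hpp : p.Prime := hp.out
  exact Nat.Coprime.pow_right _ ((Nat.Prime.coprime_iff_not_dvd hpp).mpr (Finset.mem_filter.mp hj).2).symm

/-- The product of the Galois conjugates of an algebraic integer has norm at least one. -/
theorem one_le_prod_norm_units {κ : Type*} [Fintype κ] {N : ℕ} (hN : 1 ≤ N) (c : κ → ℚ) {w : κ → ℂ}
    (hw : ∀ k, w k ^ p ^ N = 1) (hint : IsIntegral ℤ (∑ k, (c k : ℂ) * w k)) (hne : ∑ k, (c k : ℂ) * w k ≠ 0) :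
    1 ≤ ∏ j ∈ unitsJ p N, ‖∑ k, (c k : ℂ) * w k ^ j‖ := by
  classical
  have hpp : p.Prime := hp.out
  haveI : NeZero (p ^ N) := ⟨pow_ne_zero _ hpp.ne_zero⟩
  set α : ℕ → ℂ := fun j => ∑ k, (c k : ℂ) * w k ^ j with hα
  have hσ : ∀ (σ : ℂ →+* ℂ) (j : ℕ), (∀ ε : ℂ, ε ^ p ^ N = 1 → σ ε = ε ^ j) → σ (α 1) = α j := by
    intro σ j h
    simp only [hα, pow_one, map_sum, map_mul, map_ratCast]
    refine Finset.sum_congr rfl fun k _ => ?_
    rw [h _ (hw k)]
  have hα1 : α 1 = ∑ k, (c k : ℂ) * w k := by simp [hα]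
  have hint' : ∀ j ∈ unitsJ p N, IsIntegral ℤ (α j) ∧ α j ≠ 0 := by
    intro j hj
    obtain ⟨σ, hs⟩ := exists_sigma (p ^ N) j (coprime_of_mem_unitsJ hj)
    rw [← hσ σ j hs, hα1]
    exact ⟨IsIntegral.map σ.toIntAlgHom hint, (map_ne_zero σ).mpr hne⟩
  have hP : ∃ m : ℤ, ∏ j ∈ unitsJ p N, α j = m := by
    apply int_of_isIntegral_of_rat
    · exact IsIntegral.prod _ fun j hj => (hint' j hj).1
    · apply rat_of_forall_sigma (p ^ N)
      · exact prod_mem fun j _ => sum_mem fun k _ => mul_mem (SubfieldClass.ratCast_mem _ (c k))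
          (pow_mem (mem_cycField_of_pow_eq_one _ (hw k)) j)
      · intro σ l hl hs
        rw [map_prod]
        have h1 : ∀ j, σ (α j) = α (j * l % p ^ N) := by
          intro j
          simp only [hα, map_sum, map_mul, map_ratCast, map_pow]
          refine Finset.sum_congr rfl fun k _ => ?_
          rw [hs _ (hw k), ← pow_mul, ← pow_eq_pow_mod _ (hw k), mul_comm l j]
        simp only [h1]
        -- the permutation
        have hmaps : ∀ j ∈ unitsJ p N, j * l % p ^ N ∈ unitsJ p N := by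
          intro j hj
          have hj' := Finset.mem_filter.mp hj
          simp only [unitsJ, Finset.mem_filter, Finset.mem_range]
          refine ⟨Nat.mod_lt _ (pow_pos hpp.pos _), fun h => ?_⟩
          have h2 : p ∣ p ^ N := dvd_pow_self p (by omega)
          have h3 : p ∣ j * l := (Nat.dvd_mod_iff h2).mp h
          rcases (Nat.Prime.dvd_mul hpp).mp h3 with h4 | h4
          · exact hj'.2 h4
          · have h5 : p ∣ Nat.gcd l (p ^ N) := Nat.dvd_gcd h4 h2
            rw [hl] at h5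
            exact hpp.one_lt.ne' (Nat.dvd_one.mp h5)
        have hinj : Set.InjOn (fun j => j * l % p ^ N) (unitsJ p N : Set ℕ) := by
          intro a ha b hb hab
          have ha' : a < p ^ N := Finset.mem_range.mp (Finset.mem_filter.mp ha).1
          have hb' : b < p ^ N := Finset.mem_range.mp (Finset.mem_filter.mp hb).1
          have h2 : a * l ≡ b * l [MOD p ^ N] := hab
          have h3 : a ≡ b [MOD p ^ N] := Nat.ModEq.cancel_right_of_coprime (by
            rw [Nat.gcd_comm]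
            exact hl) h2
          exact Nat.ModEq.eq_of_lt_of_lt h3 ha' hb'
        have himg : (unitsJ p N).image (fun j => j * l % p ^ N) = unitsJ p N := by
          apply Finset.eq_of_subset_of_card_le
          · intro y hy
            obtain ⟨x, hx, rfl⟩ := Finset.mem_image.mp hy
            exact hmaps x hx
          · rw [Finset.card_image_of_injOn hinj]
        conv_rhs => rw [← himg]
        rw [Finset.prod_image hinj]
  obtain ⟨m, hm⟩ := hP
  have hm0 : m ≠ 0 := by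
    rintro rfl
    rw [Int.cast_zero, Finset.prod_eq_zero_iff] at hm
    obtain ⟨j, hj, h⟩ := hm
    exact (hint' j hj).2 h
  rw [← norm_prod, hm]
  simp only [Complex.norm_intCast]
  exact_mod_cast Int.one_le_abs hm0

/-- The arithmetic-geometric mean for the conjugates, first powers. -/
theorem card_le_sum_norm_units {κ : Type*} [Fintype κ] {N : ℕ} (hN : 1 ≤ N) (c : κ → ℚ) {w : κ → ℂ}
    (hw : ∀ k, w k ^ p ^ N = 1) (hint : IsIntegral ℤ (∑ k, (c k : ℂ) * w k)) (hne : ∑ k, (c k : ℂ) * w k ≠ 0) :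
    ((unitsJ p N).card : ℝ) ≤ ∑ j ∈ unitsJ p N, ‖∑ k, (c k : ℂ) * w k ^ j‖ := by
  classical
  have h1 := one_le_prod_norm_units hN c hw hint hne
  refine card_le_sum_of_one_le_prod _ _ (fun j hj => ?_) h1
  have h2 : ∏ j ∈ unitsJ p N, ‖∑ k, (c k : ℂ) * w k ^ j‖ ≠ 0 := by
    linarith
  have h3 := Finset.prod_ne_zero_iff.mp h2 j hj
  exact lt_of_le_of_ne (norm_nonneg _) h3.symm

/-- The arithmetic-geometric mean for the conjugates, squares. -/
theorem card_le_sum_norm_sq_units {κ : Type*} [Fintype κ] {N : ℕ} (hN : 1 ≤ N) (c : κ → ℚ) {w : κ → ℂ}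
    (hw : ∀ k, w k ^ p ^ N = 1) (hint : IsIntegral ℤ (∑ k, (c k : ℂ) * w k)) (hne : ∑ k, (c k : ℂ) * w k ≠ 0) :
    ((unitsJ p N).card : ℝ) ≤ ∑ j ∈ unitsJ p N, ‖∑ k, (c k : ℂ) * w k ^ j‖ ^ 2 := by
  classical
  have h1 := one_le_prod_norm_units hN c hw hint hne
  have h2 : ∏ j ∈ unitsJ p N, ‖∑ k, (c k : ℂ) * w k ^ j‖ ≠ 0 := by
    linarith
  refine card_le_sum_of_one_le_prod _ _ (fun j hj => ?_) ?_
  · have h3 := Finset.prod_ne_zero_iff.mp h2 j hj
    have h4 := lt_of_le_of_ne (norm_nonneg _) h3.symm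
    positivity
  · rw [Finset.prod_pow]
    exact one_le_pow₀ h1

end GaloisAvg

section Theta

variable {G : Type u} [Group G] [Fintype G] {M : Ideal AlgInt} {p : ℕ} [hp : Fact p.Prime]
variable {H : Subgroup G} [Fintype H] {x : H}

/-- The class function of `G` attached to a class function of the centralizer. -/
noncomputable def thetaFun (H : Subgroup G) [Fintype H] (x : H) (α : ℕ) (y : H → ℂ) : G → ℂ :=
  fun g => conj (indFun H (liftFun H x α y) g)

theorem thetaFun_isClassFunction (α : ℕ) (y : H → ℂ) : IsClassFunction G (thetaFun H x α y) := by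
  intro g h
  simp only [thetaFun]
  rw [isClassFunction_indFun H _ g h]

theorem thetaFun_isIntegral (hH : ∀ w : G, w ∈ H ↔ Commute w (x : G)) {α : ℕ} (hα : IsPExp p G α)
    (hxp : ∃ k, orderOf (x : G) = p ^ k) {y : H → ℂ} (hyc : IsClassFunction H y) (hy : ∀ s, IsIntegral ℤ (y s)) (g : G) :
    IsIntegral ℤ (thetaFun H x α y g) := by
  classical
  simp only [thetaFun]
  refine IsIntegral.map (starRingEnd ℂ).toIntAlgHom ?_
  by_cases hg : IsConj (g ^ α) (x : G)
  · obtain ⟨a, ha⟩ := isConj_iff.mp hg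
    set g' := a * g * a⁻¹ with hg'
    have h1 : g' ^ α = x := by rw [hg', conj_pow, ha]
    have h3 := hα.isPPart g'
    rw [h1] at h3
    obtain ⟨r, hr, hc, -, hreg⟩ := h3
    have hrH : r ∈ H := by
      rw [hH]
      exact hc.symm
    have h4 : g' = ((x * (⟨r, hrH⟩ : H) : H) : G) := hr.symm
    have h5 : ¬ p ∣ orderOf (⟨r, hrH⟩ : H) := by
      rwa [Subgroup.orderOf_mk]
    have h6 := indFun_liftFun_mul hH hα hxp hyc h5
    rw [← h4] at h6
    have h8 : indFun H (liftFun H x α y) g' = indFun H (liftFun H x α y) g :=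
      isClassFunction_indFun H _ g a
    rw [← h8, h6]
    exact hy _
  · rw [indFun_liftFun_of_not_conj α _ hg]
    exact isIntegral_zero

theorem spec_thetaFun (hH : ∀ w : G, w ∈ H ↔ Commute w (x : G)) {α : ℕ} (hα : IsPExp p G α)
    (hxp : ∃ k, orderOf (x : G) = p ^ k) (y : H → ℂ) (χ : IrrCharacter G) :
    spec (thetaFun H x α y) χ =
      ((Nat.card G : ℂ) / (χ : G → ℂ) 1) * classInner (pRegularPart p (subF H x (χ : G → ℂ))) y := by
  rw [spec, ← conj_classInner_regular, ← classInner_lift_left hH hα hxp y (irr_isClassFunction χ),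
    ← classInner_conj_symm]
  rw [classInner]
  have hG : (Nat.card G : ℂ) ≠ 0 := card_ne_zero_complex
  simp only [thetaFun]
  have h1 : ∑ g, conj (indFun H (liftFun H x α y) g) * (χ : G → ℂ) g =
      ∑ g, (χ : G → ℂ) g * conj (indFun H (liftFun H x α y) g) :=
    Finset.sum_congr rfl fun g _ => mul_comm _ _
  rw [h1]
  field_simp

theorem spec_thetaFun_isIntegral (hH : ∀ w : G, w ∈ H ↔ Commute w (x : G)) {α : ℕ} (hα : IsPExp p G α)
    (hxp : ∃ k, orderOf (x : G) = p ^ k) {y : H → ℂ} (hyc : IsClassFunction H y) (hy : ∀ s, IsIntegral ℤ (y s))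
    (χ : IrrCharacter G) : IsIntegral ℤ (spec (thetaFun H x α y) χ) := by
  rw [spec_eq_sum_classes _ (thetaFun_isClassFunction α y)]
  exact IsIntegral.sum _ fun K _ => (thetaFun_isIntegral hH hα hxp hyc hy _).mul (isIntegral_centralChar χ _)

theorem spec_thetaFun_mem_zS [M.IsPrime] (hH : ∀ w : G, w ∈ H ↔ Commute w (x : G)) {α : ℕ} (hα : IsPExp p G α)
    (hxp : ∃ k, orderOf (x : G) = p ^ k) {y : H → ℂ} (hyc : IsClassFunction H y) (hy : ∀ s, IsIntegral ℤ (y s)) :
    spec (thetaFun H x α y) ∈ zS M G :=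
  spec_mem_zS (thetaFun_isClassFunction α y) fun g =>
    memLocalRing_of_isIntegral (thetaFun_isIntegral hH hα hxp hyc hy g)

end Theta

section Major

variable {G : Type u} [Group G] [Fintype G] {M : Ideal AlgInt} {p : ℕ} [hp : Fact p.Prime]
variable {H : Subgroup G} [Fintype H] {x : H}

open scoped Classical

/-- The class function of an integer vector. -/
noncomputable def vecInt (b : Set (IrrCharacter H)) (n : {ψ : IrrCharacter H // ψ ∈ b} → ℤ) : H → ℂ :=
  vecFun b (fun i => (n i : ℂ))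

theorem vecInt_isClassFunction (b : Set (IrrCharacter H)) (n : {ψ : IrrCharacter H // ψ ∈ b} → ℤ) :
    IsClassFunction H (vecInt b n) := vecFun_isClassFunction b _

theorem vecInt_isIntegral (b : Set (IrrCharacter H)) (n : {ψ : IrrCharacter H // ψ ∈ b} → ℤ) (s : H) :
    IsIntegral ℤ (vecInt b n s) := by
  simp only [vecInt, vecFun, Finset.sum_apply, Pi.smul_apply, smul_eq_mul]
  exact IsIntegral.sum _ fun i _ => (intCast_isIntegralZ _).mul
    (irr_isIntegral _ _)

/-- The pairing of a row with a vector. -/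
noncomputable def rowR (b : Set (IrrCharacter H)) (χ : IrrCharacter G) (x : H) (j : ℕ)
    (n : {ψ : IrrCharacter H // ψ ∈ b} → ℤ) : ℂ :=
  ∑ i, rowD b χ x j i * (tVec (p := p) b n i : ℂ)

theorem rowR_eq (hM : IsPModular p M) (hH : ∀ w : G, w ∈ H ↔ Commute w (x : G)) {b : Set (IrrCharacter H)}
    (hb : IsPBlock M b) (χ : IrrCharacter G) (j : ℕ) (n : {ψ : IrrCharacter H // ψ ∈ b} → ℤ) :
    rowR (p := p) b χ x j n = ((p ^ blockDefect p b : ℕ) : ℂ) *
      classInner (pRegularPart p (subF H (x ^ j) (χ : G → ℂ))) (vecInt b n) := by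
  have h1 := fun ξ => classInner_reg_row_eq hM hH hb χ j ξ
  rw [vecInt, vecFun, classInner_sum_right, Finset.mul_sum, rowR]
  have h5 : ∀ i, rowD b χ x j i * (tVec (p := p) b n i : ℂ) =
      ∑ ξ, (n ξ : ℂ) * (rowD b χ x j i * (tMat p b i ξ : ℂ)) := by
    intro i
    simp only [tVec]
    push_cast
    rw [Finset.mul_sum]
    refine Finset.sum_congr rfl fun ξ _ => ?_
    ring
  simp only [h5]
  rw [Finset.sum_comm]
  refine Finset.sum_congr rfl fun ξ _ => ?_
  rw [classInner_smul_right, ← Finset.mul_sum, ← h1]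
  simp only [map_intCast]
  ring

theorem rowD_isIntegral (b : Set (IrrCharacter H)) (hH : ∀ w : G, w ∈ H ↔ Commute w (x : G))
    (χ : IrrCharacter G) (j : ℕ) (i : {ψ : IrrCharacter H // ψ ∈ b}) : IsIntegral ℤ (rowD b χ x j i) := by
  refine IsIntegral.mul (intCast_isIntegralZ _) (IsIntegral.pow ?_ j)
  exact isIntegral_central_div _ (central_x hH)

theorem rowR_isIntegral (b : Set (IrrCharacter H)) (hH : ∀ w : G, w ∈ H ↔ Commute w (x : G))
    (χ : IrrCharacter G) (j : ℕ) (n : {ψ : IrrCharacter H // ψ ∈ b} → ℤ) :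
    IsIntegral ℤ (rowR (p := p) b χ x j n) :=
  IsIntegral.sum _ fun i _ => (rowD_isIntegral b hH χ j i).mul (intCast_isIntegralZ _)

/-- The order of `G` divided by its `p`-part. -/
noncomputable def cardQ (p : ℕ) (G : Type u) [Group G] : ℕ := Nat.card G / p ^ (Nat.card G).factorization p

theorem not_dvd_cardQ : ¬ p ∣ cardQ p G := not_dvd_card_div

/-- **The central function in a major subsection.** -/
theorem spec_theta_eq (hM : IsPModular p M) (hH : ∀ w : G, w ∈ H ↔ Commute w (x : G)) {α : ℕ} (hα : IsPExp p G α)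
    (hxp : ∃ k, orderOf (x : G) = p ^ k) {b : Set (IrrCharacter H)} {B : Set (IrrCharacter G)}
    (hind : IsInducedBlock M H b B) (hdef : blockDefect p b = blockDefect p B)
    (n : {ψ : IrrCharacter H // ψ ∈ b} → ℤ) {χ : IrrCharacter G} (hχ : χ ∈ B) :
    spec (thetaFun H x α (vecInt b n)) χ = (cardQ p G : ℂ) * rowR (p := p) b χ x 1 n / (degQ p B χ : ℂ) := by
  have hpp : p.Prime := hp.out
  rw [spec_thetaFun hH hα hxp, rowR_eq hM hH hind.1, pow_one, irr_one_eq, degQ_spec (p := p) hχ, hdef]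
  have h1 : Nat.card G = p ^ minVal p B * p ^ blockDefect p B * cardQ p G := by
    have h2 := Nat.ordProj_mul_ordCompl_eq_self (Nat.card G) p
    rw [card_val_eq_minVal_add_defect (p := p) ⟨χ, hχ⟩, pow_add] at h2
    rw [cardQ, card_val_eq_minVal_add_defect (p := p) ⟨χ, hχ⟩, pow_add]
    exact h2.symm
  have hd : (degQ p B χ : ℂ) ≠ 0 := by exact_mod_cast degQ_ne_zero hχ
  have hP : ((p : ℂ) ^ minVal p B) ≠ 0 := pow_ne_zero _ (by exact_mod_cast hpp.ne_zero)
  have h3 : (Nat.card G : ℂ) = (p : ℂ) ^ minVal p B * (p : ℂ) ^ blockDefect p B * (cardQ p G : ℂ) := by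
    conv_lhs => rw [h1]
    push_cast
    ring
  rw [h3]
  push_cast
  field_simp

/-- The pairing of a row of height zero with a good vector is a unit. -/
theorem rowR_not_mem (hM : IsPModular p M) (hH : ∀ w : G, w ∈ H ↔ Commute w (x : G))
    (hxp : ∃ k, orderOf (x : G) = p ^ k) {b : Set (IrrCharacter H)} {B : Set (IrrCharacter G)}
    (hind : IsInducedBlock M H b B) {n : {ψ : IrrCharacter H // ψ ∈ b} → ℤ}
    (hn : ¬ (p : ℤ) ∣ ∑ i, n i * degF p b i) {χ : IrrCharacter G} (hχ : χ ∈ B)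
    (h0 : blockHeight p B (χ : G → ℂ) = 0) : ¬ MemLocalIdeal M (rowR (p := p) b χ x 1 n) := by
  have := isPrime_of_modular hM
  have hb := hind.1
  have hrow := height_zero_row hM hH hxp hind hχ h0
  obtain ⟨k, hk⟩ := hxp
  have hxk : x ^ p ^ k = 1 := by
    apply Subtype.ext
    simp only [Subgroup.coe_pow, Subgroup.coe_one]
    rw [← hk, pow_orderOf_eq_one]
  have hv : ∀ i : {ψ : IrrCharacter H // ψ ∈ b}, MemLocalIdeal M (scalarAt (i : IrrCharacter H) x - 1) := fun i =>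
    root_sub_one_memLocalIdeal hM (scalarAt_pow_eq_one _ (central_x hH) hxk)
  have h1 : MemLocalIdeal M (rowR (p := p) b χ x 1 n -
      ((qbil (tMat p b) (fun ψ => (resMul H χ ψ : ℤ)) n : ℤ) : ℂ)) := by
    have h2 : ((qbil (tMat p b) (fun ψ => (resMul H χ ψ : ℤ)) n : ℤ) : ℂ) =
        ∑ i : {ψ : IrrCharacter H // ψ ∈ b}, ((resMul H χ i : ℤ) : ℂ) * (tVec (p := p) b n i : ℂ) := by
      simp only [qbil_apply, tVec]
      push_cast
      refine Finset.sum_congr rfl fun i _ => ?_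
      rw [Finset.mul_sum]
      refine Finset.sum_congr rfl fun i' _ => ?_
      ring
    rw [h2, rowR, ← Finset.sum_sub_distrib]
    refine MemLocalIdeal.sum _ fun i _ => ?_
    have h3 : rowD b χ x 1 i * (tVec (p := p) b n i : ℂ) - ((resMul H χ i : ℤ) : ℂ) * (tVec (p := p) b n i : ℂ) =
        (scalarAt (i : IrrCharacter H) x - 1) * (((resMul H χ i : ℤ) : ℂ) * (tVec (p := p) b n i : ℂ)) := by
      simp only [rowD, pow_one]
      ring
    rw [h3]
    exact MemLocalIdeal.mul_right (hv i) (MemLocalRing.mul (MemLocalRing.intCast _) (MemLocalRing.intCast _))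
  have h4 : ¬ (p : ℤ) ∣ qbil (tMat p b) (fun ψ => (resMul H χ ψ : ℤ)) n := qbil_tMat_not_dvd hM hb hrow hn
  intro h5
  apply h4
  rw [← intCast_memLocalIdeal_iff hM]
  have h6 := MemLocalIdeal.symm h1
  simpa using MemLocalIdeal.add h6 h5

/-- **In a major subsection the central function at a good vector is a unit on the block.** -/
theorem spec_theta_not_mem (hM : IsPModular p M) (hH : ∀ w : G, w ∈ H ↔ Commute w (x : G)) {α : ℕ} (hα : IsPExp p G α)
    (hxp : ∃ k, orderOf (x : G) = p ^ k) {b : Set (IrrCharacter H)} {B : Set (IrrCharacter G)}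
    (hind : IsInducedBlock M H b B) (hdef : blockDefect p b = blockDefect p B)
    {n : {ψ : IrrCharacter H // ψ ∈ b} → ℤ} (hn : ¬ (p : ℤ) ∣ ∑ i, n i * degF p b i)
    {χ : IrrCharacter G} (hχ : χ ∈ B) : ¬ MemLocalIdeal M (spec (thetaFun H x α (vecInt b n)) χ) := by
  have := isPrime_of_modular hM
  have hB := hind.2.1
  obtain ⟨χ₀, hχ₀, h00⟩ := exists_height_zero (p := p) (IsPBlock.nonempty hB)
  have hS := spec_thetaFun_mem_zS (M := M) hH hα hxp (vecInt_isClassFunction b n) (vecInt_isIntegral b n)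
  have h1 := zS_apply_congr hB hS hχ hχ₀
  intro h2
  have h3 := MemLocalIdeal.symm h1
  have h4 : MemLocalIdeal M (spec (thetaFun H x α (vecInt b n)) χ₀) := by
    simpa using MemLocalIdeal.add h3 h2
  rw [spec_theta_eq hM hH hα hxp hind hdef n hχ₀] at h4
  have hd := not_dvd_degQ (p := p) hχ₀ h00
  have h5 := MemLocalIdeal.mul_left (MemLocalRing.mul (inv_natCast_memLocalRing hM (not_dvd_cardQ (p := p) (G := G)))
    (MemLocalRing.natCast (degQ p B χ₀))) h4
  have hc0 : (cardQ p G : ℂ) ≠ 0 := natCast_ne_zero_of_not_dvd not_dvd_cardQ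
  have hd0 : (degQ p B χ₀ : ℂ) ≠ 0 := natCast_ne_zero_of_not_dvd hd
  have h6 : (cardQ p G : ℂ)⁻¹ * (degQ p B χ₀ : ℂ) * ((cardQ p G : ℂ) * rowR (p := p) b χ₀ x 1 n / (degQ p B χ₀ : ℂ)) =
      rowR (p := p) b χ₀ x 1 n := by
    field_simp
  rw [h6] at h5
  exact rowR_not_mem hM hH hxp hind hn hχ₀ h00 h5

theorem rowR_ne_zero (hM : IsPModular p M) (hH : ∀ w : G, w ∈ H ↔ Commute w (x : G)) {α : ℕ} (hα : IsPExp p G α)
    (hxp : ∃ k, orderOf (x : G) = p ^ k) {b : Set (IrrCharacter H)} {B : Set (IrrCharacter G)}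
    (hind : IsInducedBlock M H b B) (hdef : blockDefect p b = blockDefect p B)
    {n : {ψ : IrrCharacter H // ψ ∈ b} → ℤ} (hn : ¬ (p : ℤ) ∣ ∑ i, n i * degF p b i)
    {χ : IrrCharacter G} (hχ : χ ∈ B) : rowR (p := p) b χ x 1 n ≠ 0 := by
  have := isPrime_of_modular hM
  intro h
  apply spec_theta_not_mem hM hH hα hxp hind hdef hn hχ
  rw [spec_theta_eq hM hH hα hxp hind hdef n hχ, h]
  simpa using memLocalIdeal_zero

/-- The reduced degree in terms of the height. -/
theorem degQ_eq_height {B : Set (IrrCharacter G)} {χ : IrrCharacter G} (hχ : χ ∈ B) :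
    ∃ c : ℕ, ¬ p ∣ c ∧ degQ p B χ = p ^ blockHeight p B (χ : G → ℂ) * c := by
  have hpp : p.Prime := hp.out
  have h1 := degQ_spec (p := p) hχ
  have h2 := val_eq_minVal_add_height (p := p) hχ
  have hd := degQ_ne_zero (p := p) hχ
  have hP : p ^ minVal p B ≠ 0 := pow_ne_zero _ hpp.ne_zero
  have h3 : (degQ p B χ).factorization p = blockHeight p B (χ : G → ℂ) := by
    rw [h1, Nat.factorization_mul hP hd, Finsupp.add_apply, hpp.factorization_pow] at h2
    simp only [Finsupp.single_eq_same] at h2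
    omega
  refine ⟨degQ p B χ / p ^ (degQ p B χ).factorization p, Nat.not_dvd_ordCompl hpp hd, ?_⟩
  rw [← h3]
  exact (Nat.ordProj_mul_ordCompl_eq_self _ _).symm

/-- **The height divides the pairing.** -/
theorem rowR_div_isIntegral (hM : IsPModular p M) (hH : ∀ w : G, w ∈ H ↔ Commute w (x : G)) {α : ℕ} (hα : IsPExp p G α)
    (hxp : ∃ k, orderOf (x : G) = p ^ k) {b : Set (IrrCharacter H)} {B : Set (IrrCharacter G)}
    (hind : IsInducedBlock M H b B) (hdef : blockDefect p b = blockDefect p B)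
    (n : {ψ : IrrCharacter H // ψ ∈ b} → ℤ) {χ : IrrCharacter G} (hχ : χ ∈ B) :
    IsIntegral ℤ (rowR (p := p) b χ x 1 n / (p : ℂ) ^ blockHeight p B (χ : G → ℂ)) := by
  have hpp : p.Prime := hp.out
  obtain ⟨c, hc, hdc⟩ := degQ_eq_height (p := p) hχ
  set h := blockHeight p B (χ : G → ℂ) with hh
  set R := rowR (p := p) b χ x 1 n with hR
  have hpC : (p : ℂ) ≠ 0 := by exact_mod_cast hpp.ne_zero
  have hP : (p : ℂ) ^ h ≠ 0 := pow_ne_zero _ hpC
  have hc0 : (c : ℂ) ≠ 0 := natCast_ne_zero_of_not_dvd hc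
  have h1 : IsIntegral ℤ ((cardQ p G : ℂ) * (R / (p : ℂ) ^ h)) := by
    have h2 := (spec_thetaFun_isIntegral hH hα hxp (vecInt_isClassFunction b n) (vecInt_isIntegral b n) χ).mul
      (by simpa using intCast_isIntegralZ (c : ℤ) : IsIntegral ℤ (c : ℂ))
    rw [spec_theta_eq hM hH hα hxp hind hdef n hχ, hdc] at h2
    have h3 : ((p ^ h * c : ℕ) : ℂ) = (p : ℂ) ^ h * (c : ℂ) := by
      push_cast
      ring
    rw [h3] at h2
    have h4 : (cardQ p G : ℂ) * (R / (p : ℂ) ^ h) = (cardQ p G : ℂ) * rowR (p := p) b χ x 1 n / ((p : ℂ) ^ h * (c : ℂ)) * (c : ℂ) := by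
      rw [← hR]
      field_simp
    rw [h4]
    exact h2
  have h2 : IsIntegral ℤ (((p ^ h : ℕ) : ℂ) * (R / (p : ℂ) ^ h)) := by
    convert rowR_isIntegral (p := p) b hH χ 1 n using 1
    push_cast
    rw [mul_div_cancel₀ _ hP]
  have hcop : Nat.Coprime (cardQ p G) (p ^ h) :=
    Nat.Coprime.pow_right _ ((Nat.Prime.coprime_iff_not_dvd hpp).mpr not_dvd_cardQ).symm
  have hbez : (1 : ℤ) = (cardQ p G : ℤ) * Nat.gcdA (cardQ p G) (p ^ h) + ((p ^ h : ℕ) : ℤ) * Nat.gcdB (cardQ p G) (p ^ h) := by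
    have h3 := Nat.gcd_eq_gcd_ab (cardQ p G) (p ^ h)
    rw [hcop] at h3
    simpa using h3
  have hbezC : (1 : ℂ) = (cardQ p G : ℂ) * (Nat.gcdA (cardQ p G) (p ^ h) : ℂ) +
      ((p ^ h : ℕ) : ℂ) * (Nat.gcdB (cardQ p G) (p ^ h) : ℂ) := by
    exact_mod_cast congrArg (fun z : ℤ => (z : ℂ)) hbez
  have h3 : R / (p : ℂ) ^ h = (Nat.gcdA (cardQ p G) (p ^ h) : ℂ) * ((cardQ p G : ℂ) * (R / (p : ℂ) ^ h)) +
      (Nat.gcdB (cardQ p G) (p ^ h) : ℂ) * (((p ^ h : ℕ) : ℂ) * (R / (p : ℂ) ^ h)) := by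
    calc R / (p : ℂ) ^ h = 1 * (R / (p : ℂ) ^ h) := (one_mul _).symm
      _ = _ := by
        rw [hbezC]
        ring
  rw [h3]
  exact ((intCast_isIntegralZ _).mul h1).add ((intCast_isIntegralZ _).mul h2)

/-- The tensor form at a vector. -/
theorem hq_tensor {ι : Type*} [Fintype ι] (t : ι → ℤ) (D : ι → ℂ) :
    hq (fun i i' => t i * t i') D = ((‖∑ i, D i * (t i : ℂ)‖ ^ 2 : ℝ) : ℂ) := by
  have h7 : hq (fun i i' => t i * t i') D = (∑ i, D i * (t i : ℂ)) * conj (∑ i, D i * (t i : ℂ)) := by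
    rw [hq, map_sum, Finset.sum_mul_sum]
    refine Finset.sum_congr rfl fun i _ => Finset.sum_congr rfl fun i' _ => ?_
    simp only [map_mul, map_intCast]
    push_cast
    ring
  rw [h7, Complex.mul_conj, Complex.normSq_eq_norm_sq]

/-- **The lower bound for the square of a row.** -/
theorem major_S2_lb (hM : IsPModular p M) (hH : ∀ w : G, w ∈ H ↔ Commute w (x : G)) {α : ℕ} (hα : IsPExp p G α)
    (hxp : ∃ k, orderOf (x : G) = p ^ k) {b : Set (IrrCharacter H)} {B : Set (IrrCharacter G)}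
    (hind : IsInducedBlock M H b B) (hdef : blockDefect p b = blockDefect p B)
    {n : {ψ : IrrCharacter H // ψ ∈ b} → ℤ} (hn : ¬ (p : ℤ) ∣ ∑ i, n i * degF p b i)
    {χ : IrrCharacter G} (hχ : χ ∈ B) {N : ℕ} (hN : 1 ≤ N) (hxN : x ^ p ^ N = 1) :
    ((unitsJ p N).card : ℝ) * ((p : ℝ) ^ blockHeight p B (χ : G → ℂ)) ^ 2 ≤
      ∑ j ∈ unitsJ p N, ‖rowR (p := p) b χ x j n‖ ^ 2 := by
  have hpp : p.Prime := hp.out
  set h := blockHeight p B (χ : G → ℂ) with hh
  have hpC : (p : ℂ) ≠ 0 := by exact_mod_cast hpp.ne_zero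
  have hP : (p : ℂ) ^ h ≠ 0 := pow_ne_zero _ hpC
  have hpR : (0 : ℝ) < (p : ℝ) ^ h := pow_pos (by exact_mod_cast hpp.pos) _
  set c : {ψ : IrrCharacter H // ψ ∈ b} → ℚ := fun i => ((resMul H χ i : ℤ) * tVec (p := p) b n i : ℚ) / (p : ℚ) ^ h with hc
  set w : {ψ : IrrCharacter H // ψ ∈ b} → ℂ := fun i => scalarAt (i : IrrCharacter H) x with hw
  have hwN : ∀ i, w i ^ p ^ N = 1 := fun i => scalarAt_pow_eq_one _ (central_x hH) hxN
  have h1 : ∀ j, ∑ i, (c i : ℂ) * w i ^ j = rowR (p := p) b χ x j n / (p : ℂ) ^ h := by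
    intro j
    rw [rowR, Finset.sum_div]
    refine Finset.sum_congr rfl fun i _ => ?_
    simp only [hc, hw, rowD]
    push_cast
    ring
  have h2 : ∑ i, (c i : ℂ) * w i = rowR (p := p) b χ x 1 n / (p : ℂ) ^ h := by
    rw [← h1 1]
    simp
  have h3 := card_le_sum_norm_sq_units hN c hwN (by
      rw [h2]
      exact rowR_div_isIntegral hM hH hα hxp hind hdef n hχ) (by
      rw [h2]
      exact div_ne_zero (rowR_ne_zero hM hH hα hxp hind hdef hn hχ) hP)
  simp only [h1, norm_div, norm_pow, Complex.norm_natCast] at h3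
  have h4 : ∑ j ∈ unitsJ p N, (‖rowR (p := p) b χ x j n‖ / (p : ℝ) ^ h) ^ 2 =
      (∑ j ∈ unitsJ p N, ‖rowR (p := p) b χ x j n‖ ^ 2) / ((p : ℝ) ^ h) ^ 2 := by
    rw [Finset.sum_div]
    refine Finset.sum_congr rfl fun j _ => ?_
    rw [div_pow]
  rw [h4, le_div_iff₀ (by positivity)] at h3
  exact h3

/-- The form in terms of the pairings with the basis vectors. -/
theorem hq_tMat_eq_rowR (b : Set (IrrCharacter H)) (χ : IrrCharacter G) (j : ℕ) :
    hq (tMat p b) (rowD b χ x j) =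
      ∑ i', conj (rowD b χ x j i') * rowR (p := p) b χ x j (fun ξ => if ξ = i' then 1 else 0) := by
  simp only [hq, rowR, tVec]
  rw [Finset.sum_comm]
  refine Finset.sum_congr rfl fun i' _ => ?_
  rw [Finset.mul_sum]
  refine Finset.sum_congr rfl fun i _ => ?_
  have h1 : ∑ ξ, (if ξ = i' then 1 else 0) * tMat p b i ξ = tMat p b i i' := by
    simp
  rw [h1]
  ring

theorem hq_tMat_real (hM : IsPModular p M) {b : Set (IrrCharacter H)} (hb : IsPBlock M b)
    (D : {ψ : IrrCharacter H // ψ ∈ b} → ℂ) : ∃ r : ℝ, 0 ≤ r ∧ hq (tMat p b) D = (r : ℂ) := by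
  rw [hq_tMat hM hb, ← classInner_reg_self]
  obtain ⟨r, hr, h2⟩ := classInner_self_nonneg (pRegularPart p (vecFun b D))
  refine ⟨((p ^ blockDefect p b : ℕ) : ℝ) * r, by positivity, ?_⟩
  rw [h2]
  push_cast
  rfl

theorem classInner_projOp_mem {b : Set (IrrCharacter H)} {ξ : IrrCharacter H} (hξ : ξ ∈ b) {δ : H → ℂ}
    (hδ : IsClassFunction H δ) : classInner (projOp (indic b) δ) (ξ : H → ℂ) = classInner δ (ξ : H → ℂ) := by
  rw [classInner_projOp_left _ hδ, Finset.sum_eq_single ξ]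
  · rw [indic_apply_of_mem hξ, classInner_irr_self ξ.2]
    ring
  · intro ψ _ hψ
    rw [classInner_irr_of_ne ψ.2 ξ.2 (fun h => hψ (Subtype.ext h))]
    ring
  · simp

/-- The form on a row vanishes only if the row pairings vanish. -/
theorem rowR_eq_zero_of_hq (hM : IsPModular p M) (hH : ∀ w : G, w ∈ H ↔ Commute w (x : G))
    (hxp : ∃ k, orderOf (x : G) = p ^ k) {b : Set (IrrCharacter H)} (hb : IsPBlock M b) (χ : IrrCharacter G) {j : ℕ}
    (hj : ¬ p ∣ j) (h0 : hq (tMat p b) (rowD b χ x j) = 0) (n : {ψ : IrrCharacter H // ψ ∈ b} → ℤ) :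
    rowR (p := p) b χ x j n = 0 := by
  have hpp : p.Prime := hp.out
  have := isPrime_of_modular hM
  have hH' := hH_pow hH hxp hj
  have hf := subF_isClassFunction hH' (irr_isClassFunction χ)
  have hP0 : ((p ^ blockDefect p b : ℕ) : ℂ) ≠ 0 := by exact_mod_cast (pow_ne_zero _ hpp.ne_zero)
  rw [hq_tMat hM hb, ← classInner_reg_self] at h0
  have h1 := (mul_eq_zero.mp h0).resolve_left hP0
  have h2 : pRegularPart p (vecFun b (rowD b χ x j)) = 0 := funext fun g => eq_zero_of_classInner_self _ h1 g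
  rw [← projOp_subF_eq_vecFun hH hf, pRegularPart_projOp hM hb hf] at h2
  -- the pairing with the class function
  rw [rowR_eq hM hH hb]
  have h3 : classInner (pRegularPart p (subF H (x ^ j) (χ : G → ℂ))) (vecInt b n) = 0 := by
    rw [vecInt, vecFun, classInner_sum_right]
    refine Finset.sum_eq_zero fun ξ _ => ?_
    rw [classInner_smul_right]
    have h4 := classInner_projOp_mem (b := b) ξ.2 (pRegularPart_isClassFunction (p := p) hf)
    rw [← h4, h2]
    simp [classInner]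
  rw [h3, mul_zero]

/-- **The form on a row is divisible by the height.** -/
theorem hq_div_isIntegral (hM : IsPModular p M) (hH : ∀ w : G, w ∈ H ↔ Commute w (x : G)) {α : ℕ} (hα : IsPExp p G α)
    (hxp : ∃ k, orderOf (x : G) = p ^ k) {b : Set (IrrCharacter H)} {B : Set (IrrCharacter G)}
    (hind : IsInducedBlock M H b B) (hdef : blockDefect p b = blockDefect p B)
    {χ : IrrCharacter G} (hχ : χ ∈ B) :
    IsIntegral ℤ (hq (tMat p b) (rowD b χ x 1) / (p : ℂ) ^ blockHeight p B (χ : G → ℂ)) := by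
  rw [hq_tMat_eq_rowR, Finset.sum_div]
  refine IsIntegral.sum _ fun i' _ => ?_
  rw [mul_div_assoc]
  refine IsIntegral.mul ?_ (rowR_div_isIntegral hM hH hα hxp hind hdef _ hχ)
  exact IsIntegral.map (starRingEnd ℂ).toIntAlgHom (rowD_isIntegral b hH χ 1 i')

theorem hq_rowD_ne_zero (hM : IsPModular p M) (hH : ∀ w : G, w ∈ H ↔ Commute w (x : G)) {α : ℕ} (hα : IsPExp p G α)
    (hxp : ∃ k, orderOf (x : G) = p ^ k) {b : Set (IrrCharacter H)} {B : Set (IrrCharacter G)}
    (hind : IsInducedBlock M H b B) (hdef : blockDefect p b = blockDefect p B)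
    {χ : IrrCharacter G} (hχ : χ ∈ B) : hq (tMat p b) (rowD b χ x 1) ≠ 0 := by
  have hpp : p.Prime := hp.out
  have := isPrime_of_modular hM
  obtain ⟨n, hn⟩ := exists_degF_not_dvd (p := p) (IsPBlock.nonempty hind.1)
  intro h0
  refine rowR_ne_zero hM hH hα hxp hind hdef hn hχ (rowR_eq_zero_of_hq hM hH hxp hind.1 χ ?_ h0 n)
  intro h
  exact hpp.one_lt.ne' (Nat.dvd_one.mp h)

/-- The form on a row at `j` as a sum over pairs. -/
theorem hq_rowD_eq_sum (b : Set (IrrCharacter H)) (χ : IrrCharacter G) (h j : ℕ) :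
    ∑ k : {ψ : IrrCharacter H // ψ ∈ b} × {ψ : IrrCharacter H // ψ ∈ b},
      (((resMul H χ k.1 : ℤ) * (resMul H χ k.2 : ℤ) * tMat p b k.1 k.2 : ℚ) / (p : ℚ) ^ h : ℚ) *
        (scalarAt (k.1 : IrrCharacter H) x * conj (scalarAt (k.2 : IrrCharacter H) x)) ^ j =
      hq (tMat p b) (rowD b χ x j) / (p : ℂ) ^ h := by
  rw [Fintype.sum_prod_type, hq, Finset.sum_div]
  refine Finset.sum_congr rfl fun i _ => ?_
  rw [Finset.sum_div]
  refine Finset.sum_congr rfl fun i' _ => ?_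
  simp only [rowD, map_mul, map_pow, map_intCast]
  push_cast
  ring

/-- **The lower bound for the form on a row.** -/
theorem major_S1_lb (hM : IsPModular p M) (hH : ∀ w : G, w ∈ H ↔ Commute w (x : G)) {α : ℕ} (hα : IsPExp p G α)
    (hxp : ∃ k, orderOf (x : G) = p ^ k) {b : Set (IrrCharacter H)} {B : Set (IrrCharacter G)}
    (hind : IsInducedBlock M H b B) (hdef : blockDefect p b = blockDefect p B)
    {χ : IrrCharacter G} (hχ : χ ∈ B) {N : ℕ} (hN : 1 ≤ N) (hxN : x ^ p ^ N = 1) :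
    ((unitsJ p N).card : ℝ) * (p : ℝ) ^ blockHeight p B (χ : G → ℂ) ≤
      ∑ j ∈ unitsJ p N, ‖hq (tMat p b) (rowD b χ x j)‖ := by
  have hpp : p.Prime := hp.out
  set h := blockHeight p B (χ : G → ℂ) with hh
  have hpC : (p : ℂ) ≠ 0 := by exact_mod_cast hpp.ne_zero
  have hP : (p : ℂ) ^ h ≠ 0 := pow_ne_zero _ hpC
  have hpR : (0 : ℝ) < (p : ℝ) ^ h := pow_pos (by exact_mod_cast hpp.pos) _
  set c : {ψ : IrrCharacter H // ψ ∈ b} × {ψ : IrrCharacter H // ψ ∈ b} → ℚ :=
    fun k => ((resMul H χ k.1 : ℤ) * (resMul H χ k.2 : ℤ) * tMat p b k.1 k.2 : ℚ) / (p : ℚ) ^ h with hc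
  set w : {ψ : IrrCharacter H // ψ ∈ b} × {ψ : IrrCharacter H // ψ ∈ b} → ℂ :=
    fun k => scalarAt (k.1 : IrrCharacter H) x * conj (scalarAt (k.2 : IrrCharacter H) x) with hw
  have hwN : ∀ k, w k ^ p ^ N = 1 := fun k => by
    simp only [hw]
    rw [mul_pow, ← map_pow, scalarAt_pow_eq_one _ (central_x hH) hxN, scalarAt_pow_eq_one _ (central_x hH) hxN]
    simp
  have h1 : ∀ j, ∑ k, (c k : ℂ) * w k ^ j = hq (tMat p b) (rowD b χ x j) / (p : ℂ) ^ h := by
    intro j
    rw [← hq_rowD_eq_sum]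
  have h2 : ∑ k, (c k : ℂ) * w k = hq (tMat p b) (rowD b χ x 1) / (p : ℂ) ^ h := by
    rw [← h1 1]
    simp
  have h3 := card_le_sum_norm_units hN c hwN (by
      rw [h2]
      exact hq_div_isIntegral hM hH hα hxp hind hdef hχ) (by
      rw [h2]
      exact div_ne_zero (hq_rowD_ne_zero hM hH hα hxp hind hdef hχ) hP)
  simp only [h1, norm_div, norm_pow, Complex.norm_natCast] at h3
  rw [← Finset.sum_div, le_div_iff₀ hpR] at h3
  exact h3

/-- **The core estimates in a major subsection.** -/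
theorem major_core (hM : IsPModular p M) (hH : ∀ w : G, w ∈ H ↔ Commute w (x : G)) {k : ℕ}
    (hk : orderOf (x : G) = p ^ k) {b : Set (IrrCharacter H)} {B : Set (IrrCharacter G)}
    (hind : IsInducedBlock M H b B) (hdef : blockDefect p b = blockDefect p B)
    {w : IrrCharacter G → ℕ}
    (hw : ∀ χ ∈ B, 1 ≤ blockHeight p B (χ : G → ℂ) → ∀ S : ℤ,
      (S : ℂ) = ∑ j ∈ unitsJ p (k + 1), hq (tMat p b) (rowD b χ x j) → ((unitsJ p (k + 1)).card : ℤ) * w χ ≤ S) :
    ∃ m : ℕ, 0 < m ∧ (p = 2 → Odd m) ∧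
      ∑ χ ∈ Finset.univ.filter (· ∈ B), p ^ (2 * blockHeight p B ((χ : IrrCharacter G) : G → ℂ)) ≤ m * p ^ blockDefect p B ∧
      ∑ χ ∈ Finset.univ.filter (· ∈ B), (if blockHeight p B ((χ : IrrCharacter G) : G → ℂ) = 0 then m else w χ) ≤
        p ^ blockDefect p B * blockRank p b := by
  have := isPrime_of_modular hM
  have hpp : p.Prime := hp.out
  have hb := hind.1
  have hxp : ∃ k, orderOf (x : G) = p ^ k := ⟨k, hk⟩
  obtain ⟨α, hα⟩ := exists_isPExp G p
  obtain ⟨n₀, hn₀, hmin⟩ := exists_min_qbil (p := p) hM hb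
  set m₀ : ℤ := qbil (tMat p b) n₀ n₀ with hm₀
  have hm₀nn : 0 ≤ m₀ := qbil_tMat_nonneg hM hb n₀
  have hm₀nd : ¬ (p : ℤ) ∣ m₀ := qbil_tMat_not_dvd hM hb hn₀ hn₀
  have hm₀pos : 0 < m₀ := by
    rcases hm₀nn.lt_or_eq with h | h
    · exact h
    · exact absurd (h ▸ dvd_zero _) hm₀nd
  -- the exponent
  have hN : 1 ≤ k + 1 := by omega
  set N := k + 1 with hNdef
  have hxN : x ^ p ^ N = 1 := by
    apply Subtype.ext
    simp only [Subgroup.coe_pow, Subgroup.coe_one]
    rw [hNdef, pow_succ, pow_mul, ← hk, pow_orderOf_eq_one, one_pow]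
  set v : {ψ : IrrCharacter H // ψ ∈ b} → ℂ := fun ψ => scalarAt (ψ : IrrCharacter H) x with hv
  have hvN : ∀ i, v i ^ p ^ N = 1 := fun i => scalarAt_pow_eq_one _ (central_x hH) hxN
  set J := unitsJ p N with hJ
  have hJne : ∀ j ∈ J, ¬ p ∣ j := fun j hj => (Finset.mem_filter.mp hj).2
  have hJpos : 0 < J.card := unitsJ_pos N hN
  -- the first family
  have hF1 : ∀ χ : IrrCharacter G, ∃ S : ℤ, (S : ℂ) = ∑ j ∈ J, hq (tMat p b) (rowD b χ x j) ∧ 0 ≤ S ∧
      (¬ (p : ℤ) ∣ ∑ ψ : {ψ : IrrCharacter H // ψ ∈ b}, (resMul H χ ψ : ℤ) * degF p b ψ → (J.card : ℤ) * m₀ ≤ S) := fun χ =>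
    fourier_lb hN (tMat_symm b) (degF p b) hm₀nn (qbil_tMat_nonneg hM hb) hmin (fun ψ => (resMul H χ ψ : ℤ)) hvN
  choose S₁ hS₁ hS₁0 hS₁lb using hF1
  -- the second family
  set t : {ψ : IrrCharacter H // ψ ∈ b} → ℤ := tVec (p := p) b n₀ with ht
  have hQ₂val : ∀ n : {ψ : IrrCharacter H // ψ ∈ b} → ℤ, qbil (fun i i' => t i * t i') n n = (qbil (tMat p b) n n₀) ^ 2 := by
    intro n
    have h1 : qbil (tMat p b) n n₀ = ∑ i, n i * t i := by
      have h2 : ∀ i, t i = ∑ i', n₀ i' * tMat p b i i' := fun i => rfl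
      simp only [h2, qbil_apply, Finset.mul_sum]
      refine Finset.sum_congr rfl fun i _ => Finset.sum_congr rfl fun i' _ => ?_
      ring
    rw [h1, sq, Finset.sum_mul_sum, qbil_apply]
    refine Finset.sum_congr rfl fun i _ => Finset.sum_congr rfl fun i' _ => ?_
    ring
  have hF2 : ∀ χ : IrrCharacter G, ∃ S : ℤ, (S : ℂ) = ∑ j ∈ J, hq (fun i i' => t i * t i') (rowD b χ x j) ∧ 0 ≤ S ∧
      (¬ (p : ℤ) ∣ ∑ ψ : {ψ : IrrCharacter H // ψ ∈ b}, (resMul H χ ψ : ℤ) * degF p b ψ → (J.card : ℤ) * 1 ≤ S) := fun χ =>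
    fourier_lb hN (fun i i' => mul_comm _ _) (degF p b) zero_le_one
      (fun n => by
        rw [hQ₂val]
        positivity)
      (fun n hn => by
        rw [hQ₂val]
        have h1 := qbil_tMat_not_dvd hM hb hn hn₀
        have h2 : qbil (tMat p b) n n₀ ≠ 0 := fun h => h1 (h ▸ dvd_zero _)
        have h3 : 0 < (qbil (tMat p b) n n₀) ^ 2 := by positivity
        omega) (fun ψ => (resMul H χ ψ : ℤ)) hvN
  choose S₂ hS₂ hS₂0 hS₂lb using hF2
  -- the total sums
  have hPpos : 0 < p ^ blockDefect p b := pow_pos hpp.pos _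
  set BB : Finset (IrrCharacter G) := Finset.univ.filter (· ∈ B) with hBB
  have htot1 : ∑ χ ∈ BB, S₁ χ = (J.card : ℤ) * (((p ^ blockDefect p b : ℕ) : ℤ) * (blockRank p b : ℤ)) := by
    have h1 : ((∑ χ ∈ BB, S₁ χ : ℤ) : ℂ) = ∑ j ∈ J, ∑ χ : IrrCharacter G, indic B χ * hq (tMat p b) (rowD b χ x j) := by
      rw [Finset.sum_comm, hBB, Int.cast_sum, Finset.sum_filter]
      refine Finset.sum_congr rfl fun χ _ => ?_
      by_cases hχ : χ ∈ B
      · rw [if_pos hχ, hS₁]
        refine Finset.sum_congr rfl fun j _ => ?_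
        rw [indic_apply_of_mem hχ, one_mul]
      · rw [if_neg hχ]
        symm
        refine Finset.sum_eq_zero fun j _ => ?_
        rw [indic_apply_of_notMem hχ, zero_mul]
    rw [Finset.sum_congr rfl fun j hj => sum_hq_tMat hM hH hxp hind (hJne j hj), Finset.sum_const,
      nsmul_eq_mul] at h1
    exact_mod_cast h1
  have htot2 : ∑ χ, S₂ χ = (J.card : ℤ) * (((p ^ blockDefect p b : ℕ) : ℤ) * m₀) := by
    have h1 : ((∑ χ, S₂ χ : ℤ) : ℂ) = ∑ j ∈ J, ∑ χ : IrrCharacter G, hq (fun i i' => t i * t i') (rowD b χ x j) := by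
      rw [Finset.sum_comm, Int.cast_sum]
      exact Finset.sum_congr rfl fun χ _ => hS₂ χ
    rw [Finset.sum_congr rfl fun j hj => sum_hq_row hM hH hxp hb (hJne j hj) n₀, Finset.sum_const,
      nsmul_eq_mul] at h1
    exact_mod_cast h1
  have hJZ : (0 : ℤ) < (J.card : ℤ) := by exact_mod_cast hJpos
  have hmcast : ((m₀.toNat : ℕ) : ℤ) = m₀ := Int.toNat_of_nonneg hm₀nn
  -- the lower bound for the second family
  have hS₂val : ∀ χ ∈ B, (J.card : ℤ) * ((p ^ (2 * blockHeight p B (χ : G → ℂ)) : ℕ) : ℤ) ≤ S₂ χ := by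
    intro χ hχ
    have h1 := major_S2_lb hM hH hα hxp hind hdef hn₀ hχ hN hxN
    have h2 : ((S₂ χ : ℤ) : ℂ) = ((∑ j ∈ J, ‖rowR (p := p) b χ x j n₀‖ ^ 2 : ℝ) : ℂ) := by
      rw [hS₂ χ]
      push_cast
      refine Finset.sum_congr rfl fun j _ => ?_
      rw [hq_tensor]
      push_cast
      rfl
    have h3 : ((S₂ χ : ℤ) : ℝ) = ∑ j ∈ J, ‖rowR (p := p) b χ x j n₀‖ ^ 2 := by
      exact_mod_cast h2
    have h4 : (((J.card : ℤ) * ((p ^ (2 * blockHeight p B (χ : G → ℂ)) : ℕ) : ℤ) : ℤ) : ℝ) ≤ ((S₂ χ : ℤ) : ℝ) := by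
      rw [h3]
      refine le_trans (le_of_eq ?_) h1
      push_cast
      rw [pow_mul', sq]
    exact_mod_cast h4
  have hS₁val : ∀ χ ∈ B, (J.card : ℤ) * ((if blockHeight p B (χ : G → ℂ) = 0 then m₀.toNat else w χ : ℕ) : ℤ) ≤ S₁ χ := by
    intro χ hχ
    by_cases h0 : blockHeight p B (χ : G → ℂ) = 0
    · rw [if_pos h0, hmcast]
      exact hS₁lb χ (height_zero_row hM hH hxp hind hχ h0)
    · rw [if_neg h0]
      exact hw χ hχ (by omega) _ (hS₁ χ)
  refine ⟨m₀.toNat, by omega, ?_, ?_, ?_⟩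
  · intro hp2
    have h3 : ¬ (2 : ℤ) ∣ m₀ := by
      rw [hp2] at hm₀nd
      exact_mod_cast hm₀nd
    have h4 : Odd m₀ := by
      rw [← Int.not_even_iff_odd, even_iff_two_dvd]
      exact h3
    obtain ⟨c, hc⟩ := h4
    exact ⟨c.toNat, by omega⟩
  · have h1 : (J.card : ℤ) * ∑ χ ∈ BB, ((p ^ (2 * blockHeight p B (χ : G → ℂ)) : ℕ) : ℤ) ≤ ∑ χ, S₂ χ := by
      rw [Finset.mul_sum]
      calc _ ≤ ∑ χ ∈ BB, S₂ χ := Finset.sum_le_sum fun χ hχ => hS₂val χ (Finset.mem_filter.mp hχ).2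
        _ ≤ ∑ χ, S₂ χ := Finset.sum_le_sum_of_subset_of_nonneg (Finset.subset_univ _) (fun χ _ _ => hS₂0 χ)
    rw [htot2] at h1
    have h3 := le_of_mul_le_mul_left h1 hJZ
    rw [← hdef]
    have h4 : ((∑ χ ∈ BB, p ^ (2 * blockHeight p B (χ : G → ℂ)) : ℕ) : ℤ) ≤ ((m₀.toNat * p ^ blockDefect p b : ℕ) : ℤ) := by
      push_cast
      rw [hmcast]
      push_cast at h3
      linarith
    exact_mod_cast h4
  · have h1 : (J.card : ℤ) * ∑ χ ∈ BB, ((if blockHeight p B (χ : G → ℂ) = 0 then m₀.toNat else w χ : ℕ) : ℤ) ≤ ∑ χ ∈ BB, S₁ χ := by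
      rw [Finset.mul_sum]
      exact Finset.sum_le_sum fun χ hχ => hS₁val χ (Finset.mem_filter.mp hχ).2
    rw [htot1] at h1
    have h3 := le_of_mul_le_mul_left h1 hJZ
    rw [← hdef]
    exact_mod_cast h3

/-- **The estimates in a major subsection.** -/
theorem major_bounds (hM : IsPModular p M) (hH : ∀ w : G, w ∈ H ↔ Commute w (x : G))
    (hxp : ∃ k, orderOf (x : G) = p ^ k) {b : Set (IrrCharacter H)} {B : Set (IrrCharacter G)}
    (hind : IsInducedBlock M H b B) (hdef : blockDefect p b = blockDefect p B) :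
    ∃ m : ℕ, 0 < m ∧ (p = 2 → Odd m) ∧
      ∑ χ ∈ Finset.univ.filter (· ∈ B), p ^ (2 * blockHeight p B ((χ : IrrCharacter G) : G → ℂ)) ≤ m * p ^ blockDefect p B ∧
      ∑ χ ∈ Finset.univ.filter (· ∈ B), (if blockHeight p B ((χ : IrrCharacter G) : G → ℂ) = 0 then m else
          p ^ blockHeight p B ((χ : IrrCharacter G) : G → ℂ)) ≤
        p ^ blockDefect p B * blockRank p b := by
  obtain ⟨k, hk⟩ := hxp
  obtain ⟨α, hα⟩ := exists_isPExp G p
  have hpp : p.Prime := hp.out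
  have hxN : x ^ p ^ (k + 1) = 1 := by
    apply Subtype.ext
    simp only [Subgroup.coe_pow, Subgroup.coe_one]
    rw [pow_succ, pow_mul, ← hk, pow_orderOf_eq_one, one_pow]
  refine major_core hM hH hk hind hdef (w := fun χ => p ^ blockHeight p B (χ : G → ℂ)) ?_
  intro χ hχ _ S hS
  have h1 := major_S1_lb hM hH hα ⟨k, hk⟩ hind hdef hχ (by omega) hxN
  have h2 : ∑ j ∈ unitsJ p (k + 1), ‖hq (tMat p b) (rowD b χ x j)‖ = ((S : ℤ) : ℝ) := by
    have h3 : ∀ j, ∃ r : ℝ, 0 ≤ r ∧ hq (tMat p b) (rowD b χ x j) = (r : ℂ) := fun j => hq_tMat_real hM hind.1 _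
    choose r hr hrv using h3
    have h4 : ((S : ℤ) : ℂ) = ((∑ j ∈ unitsJ p (k + 1), r j : ℝ) : ℂ) := by
      rw [hS]
      push_cast
      exact Finset.sum_congr rfl fun j _ => hrv j
    have h5 : ((S : ℤ) : ℝ) = ∑ j ∈ unitsJ p (k + 1), r j := by exact_mod_cast h4
    rw [h5]
    refine Finset.sum_congr rfl fun j _ => ?_
    rw [hrv j, Complex.norm_real, Real.norm_of_nonneg (hr j)]
  rw [h2] at h1
  have h4 : ((((unitsJ p (k + 1)).card : ℤ) * ((p ^ blockHeight p B (χ : G → ℂ) : ℕ) : ℤ) : ℤ) : ℝ) ≤ ((S : ℤ) : ℝ) := by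
    refine le_trans (le_of_eq ?_) h1
    push_cast
    ring
  exact_mod_cast h4

end Major

section Setup

variable {G : Type u} [Group G] [Fintype G] {M : Ideal AlgInt} {p : ℕ} [hp : Fact p.Prime]

/-- The defects in a major subsection agree. -/
theorem defect_eq_of_major (hM : IsPModular p M) {z : G} [Fintype (Subgroup.centralizer ({z} : Set G))]
    {B : Set (IrrCharacter G)} (hB : IsPBlock M B)
    {b : Set (IrrCharacter (Subgroup.centralizer ({z} : Set G)))} (hb : IsPBlock M b)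
    {D : Subgroup G} (hD : IsDefectGroup p M B D) (hzc : ∀ d ∈ D, d * z = z * d)
    (hbD : IsDefectGroup p M b (D.subgroupOf (Subgroup.centralizer ({z} : Set G)))) :
    blockDefect p b = blockDefect p B := by
  have hpp : p.Prime := hp.out
  have h1 := card_defectGroup hM hB hD
  have h2 := card_defectGroup hM hb hbD
  have hle : D ≤ Subgroup.centralizer ({z} : Set G) := by
    intro d hd
    rw [Subgroup.mem_centralizer_iff]
    intro w hw
    rw [Set.mem_singleton_iff.mp hw]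
    exact (hzc d hd).symm
  have h3 : Nat.card (D.subgroupOf (Subgroup.centralizer ({z} : Set G))) = Nat.card D :=
    Nat.card_congr (Subgroup.subgroupOfEquivOfLe hle).toEquiv
  rw [h3, h1] at h2
  exact (Nat.pow_right_injective hpp.two_le h2).symm

/-- An element of a defect group has order a power of `p`. -/
theorem orderOf_of_mem_defect (hM : IsPModular p M) {B : Set (IrrCharacter G)} (hB : IsPBlock M B)
    {D : Subgroup G} (hD : IsDefectGroup p M B D) {z : G} (hz : z ∈ D) : ∃ k, orderOf z = p ^ k := by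
  have hpp : p.Prime := hp.out
  have h1 := card_defectGroup hM hB hD
  have h2 : orderOf (⟨z, hz⟩ : D) ∣ Nat.card D := orderOf_dvd_natCard _
  rw [Subgroup.orderOf_mk, h1] at h2
  obtain ⟨k, -, hk⟩ := (Nat.dvd_prime_pow hpp).mp h2
  exact ⟨k, hk⟩

end Setup

end Cfsg.Agent.Lib.H8Group
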