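import Cfsg.Agent.Lib.H8Group.RankOne
import Cfsg.Agent.Lib.Blocks.NormalCentral

/-!
# The characters of a block with defect group `P` when `G = P C(P)`
-/

set_option autoImplicit false
set_option linter.unusedSectionVars false
set_option linter.style.haveILetI false

namespace Cfsg.Agent.Lib.H8Group

open Cfsg Cfsg.Agent.Lib.Char Cfsg.Agent.Lib.Blocks
open scoped ComplexConjugate

universe u

section Central

variable {G : Type u} [Group G] [Fintype G] {M : Ideal AlgInt} {p : ℕ} [hp : Fact p.Prime]
variable {P : Subgroup G} [hPn : P.Normal] [Fintype P]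

/-- **The structure of a block with defect group `P` when `G = P C(P)`**: explicit form. -/
theorem normal_central_block_struct (hM : IsPModular p M) (hP : IsPGroup p P)
    (hG : P ⊔ Subgroup.centralizer (P : Set G) = ⊤) {B : Set (IrrCharacter G)} (hB : IsPBlock M B)
    (hD : IsDefectGroup p M B P) :
    ∃ (θ : IrrCharacter G) (α : ℕ) (Ψ : IrrCharacter P → IrrCharacter G), θ ∈ B ∧ NCData P p α θ ∧
      Function.Injective Ψ ∧ (∀ lam, (Ψ lam : G → ℂ) = psi P α (θ : G → ℂ) (lam : P → ℂ)) ∧ Set.range Ψ = B := by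
  classical
  have := isPrime_of_modular hM
  have hpp : p.Prime := hp.out
  -- regular elements centralize `P`
  set C := Subgroup.centralizer (P : Set G) with hC
  haveI hCn : C.Normal := Subgroup.normal_centralizer
  have hCidx : ∃ k, C.index = p ^ k := by
    have h1 : C.index = C.relIndex P := by
      rw [← Subgroup.relIndex_sup_right, hG, Subgroup.relIndex_top_right]
    have h2 : C.relIndex P ∣ Nat.card P := Subgroup.index_dvd_card _
    obtain ⟨m, hm⟩ := IsPGroup.iff_card.mp hP
    rw [hm] at h2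
    obtain ⟨k, -, hk⟩ := (Nat.dvd_prime_pow hpp).mp h2
    exact ⟨k, h1.trans hk⟩
  obtain ⟨kC, hkC⟩ := hCidx
  have hreg : ∀ d ∈ P, ∀ r : G, ¬ p ∣ orderOf r → Commute d r := by
    intro d hd r hr
    have h1 : r ∈ C := mem_of_regular_of_index hkC hr
    exact Subgroup.mem_centralizer_iff.mp h1 d hd
  -- invariance
  have hinv : ∀ {f : P → ℂ}, IsClassFunction P f → ∀ (x : G) (y : P),
      f ⟨x * y * x⁻¹, hPn.conj_mem _ y.2 x⟩ = f y := by
    intro f hf x y
    have hx : x ∈ P ⊔ C := by rw [hG]; trivial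
    obtain ⟨d, hd, c, hc, rfl⟩ := Subgroup.mem_sup_of_normal_right.mp hx
    have h1 := hf y ⟨d, hd⟩
    rw [← h1]
    congr 1
    apply Subtype.ext
    have hcy : (y : G) * c = c * y := Subgroup.mem_centralizer_iff.mp hc _ y.2
    show d * c * y * (d * c)⁻¹ = d * y * d⁻¹
    calc d * c * y * (d * c)⁻¹ = d * (c * y) * c⁻¹ * d⁻¹ := by group
      _ = d * ((y : G) * c) * c⁻¹ * d⁻¹ := by rw [hcy]
      _ = d * y * d⁻¹ := by group
  -- the character `θ`
  obtain ⟨y, hy, hS⟩ := isDefectGroup_iff.mp hD
  obtain ⟨θ, hθ, hθker⟩ := exists_kernel_char_of_normal hM hB hP hy.2.1 hS.le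
  obtain ⟨α, hα⟩ := exists_isPExp G p
  have hval := val_degree_ge hM hD hθ
  have Dat : NCData P p α θ := ⟨hα, hP, hreg, hθker, fun h z hz hzP =>
    irr_eq_zero_of_pPart_notMem hθker hval hz hzP⟩
  have hθc := irr_isCharacter θ
  have hθ1 : (θ : G → ℂ) 1 ≠ 0 := irr_apply_one_ne_zero θ
  -- the characters
  have hΨ : ∀ lam : IrrCharacter P, ∃ a : IrrCharacter G, (a : G → ℂ) = psi P α (θ : G → ℂ) (lam : P → ℂ) := by
    intro lam
    have hlc := irr_isCharacter lam
    have hgen : IsGeneralizedCharacter G (psi P α (θ : G → ℂ) (lam : P → ℂ)) := by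
      apply isGeneralizedCharacter_of_elementary
      · exact psi_isClassFunction (hinv (irr_isClassFunction lam))
      · intro E ℓ hℓ hE
        refine ⟨_, 0, Dat.isCharacter_psi_elementary hlc (hinv (irr_isClassFunction lam)) E hℓ hE, isCharacter_zero, ?_⟩
        funext e
        simp
    have hnorm : classInner (psi P α (θ : G → ℂ) (lam : P → ℂ)) (psi P α (θ : G → ℂ) (lam : P → ℂ)) = 1 := by
      rw [Dat.psi_inner]
      exact classInner_irr_self lam.2
    obtain ⟨a, ha | ha⟩ := eq_irr_of_norm_one hgen hnorm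
    · exact ⟨a, ha.symm⟩
    · exfalso
      have h1 := congrFun ha 1
      have h2 : ¬ p ∣ orderOf (1 : G) := by
        rw [orderOf_one]
        exact hpp.one_lt.ne' ∘ Nat.dvd_one.mp
      rw [Dat.psi_regular _ h2, Pi.neg_apply, apply_one_eq_charDegree hlc, apply_one_eq_charDegree hθc,
        apply_one_eq_charDegree (irr_isCharacter a)] at h1
      have h3 : ((charDegree (lam : P → ℂ) * charDegree (θ : G → ℂ) + charDegree (a : G → ℂ) : ℕ) : ℂ) = 0 := by
        push_cast
        linear_combination h1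
      have h4 : charDegree (lam : P → ℂ) * charDegree (θ : G → ℂ) + charDegree (a : G → ℂ) = 0 := by
        exact_mod_cast h3
      have h5 := charDegree_pos a.2
      omega
  choose Ψ hΨeq using hΨ
  have hreg1 : ¬ p ∣ orderOf (1 : G) := by
    rw [orderOf_one]
    exact hpp.one_lt.ne' ∘ Nat.dvd_one.mp
  have hΨmul : ∀ (lam : IrrCharacter P) (d : P) {r : G}, ¬ p ∣ orderOf r →
      (Ψ lam : G → ℂ) ((d : G) * r) = (lam : P → ℂ) d * (θ : G → ℂ) r := by
    intro lam d r hr
    rw [hΨeq, Dat.psi_mul _ d hr]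
  have hΨP : ∀ (lam : IrrCharacter P) (d : P), (Ψ lam : G → ℂ) (d : G) = (lam : P → ℂ) d * (θ : G → ℂ) 1 := by
    intro lam d
    have h1 := hΨmul lam d hreg1
    simpa using h1
  have hΨ1 : ∀ lam : IrrCharacter P, (Ψ lam : G → ℂ) 1 = (lam : P → ℂ) 1 * (θ : G → ℂ) 1 := by
    intro lam
    have h1 := hΨP lam 1
    simpa using h1
  have hinj : Function.Injective Ψ := by
    intro lam mu h
    apply Subtype.ext
    funext d
    have h1 := hΨP lam d
    rw [h, hΨP mu d] at h1
    exact (mul_right_cancel₀ hθ1 h1).symm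
  -- the principal case
  have hΨone : ∀ lam : IrrCharacter P, (∀ d, (lam : P → ℂ) d = 1) → Ψ lam = θ := by
    intro lam hl
    apply Subtype.ext
    funext g
    rw [hΨeq, psi]
    by_cases hg : g ^ α ∈ P
    · rw [extendByZero_of_mem P _ hg, hl, one_mul]
    · rw [extendByZero_of_notMem P _ hg, zero_mul, Dat.hvan g _ (hα.isPPart g) hg]
  -- the idempotent
  let c : ℂ := (θ : G → ℂ) 1 * (Nat.card P : ℂ) / (Nat.card G : ℂ)
  have hc : MemLocalRing M c := by
    have h1 : c = ((charDegree (θ : G → ℂ) * Nat.card P : ℕ) : ℂ) / (Nat.card G : ℂ) := by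
      simp only [c]
      rw [apply_one_eq_charDegree hθc]
      push_cast
      rfl
    rw [h1]
    apply natCast_div_memLocalRing hM Nat.card_pos.ne'
    rw [Nat.factorization_mul (charDegree_pos θ.2).ne' Nat.card_pos.ne', Finsupp.add_apply]
    exact hval
  let a : G → ℂ := fun g => regFun p G g * (c * conj ((θ : G → ℂ) g))
  have hacl : IsClassFunction G a := by
    intro g k
    simp only [a]
    rw [regFun_isClassFunction g k, irr_isClassFunction θ g k]
  have haS : ∀ g, MemLocalRing M (a g) := fun g =>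
    MemLocalRing.mul (regFun_memLocalRing g) (MemLocalRing.mul hc
      (memLocalRing_of_isIntegral (IsCharacter.isIntegral (IsCharacter.conj hθc) g)))
  let A : Set (IrrCharacter G) := Set.range Ψ
  have hcoef : coef (indic A) = a := by
    funext g
    have h1 : coef (indic A) g = (Nat.card G : ℂ)⁻¹ * ∑ lam : IrrCharacter P,
        ((Ψ lam : G → ℂ) 1 * conj ((Ψ lam : G → ℂ) g)) := by
      rw [coef]
      congr 1
      rw [← finsum_mem_eq_sum_indic, finsum_mem_range hinj, finsum_eq_sum_of_fintype]
    rw [h1]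
    have hG0 : (Nat.card G : ℂ) ≠ 0 := by exact_mod_cast Nat.card_pos.ne'
    obtain ⟨r, hxr, hc', hk, hr⟩ := hα.isPPart g
    by_cases hg : g ^ α ∈ P
    · -- the `P`-part
      have hΨg : ∀ lam : IrrCharacter P, (Ψ lam : G → ℂ) g = (lam : P → ℂ) ⟨g ^ α, hg⟩ * (θ : G → ℂ) r := by
        intro lam
        have h2 := hΨmul lam ⟨g ^ α, hg⟩ hr
        rw [← h2]
        exact congrArg _ hxr.symm
      have hθg : (θ : G → ℂ) g = (θ : G → ℂ) r := by
        rw [← hxr]
        exact apply_mem_charKer_mul hθc (hθker hg) _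
      have h3 : ∑ lam : IrrCharacter P, ((Ψ lam : G → ℂ) 1 * conj ((Ψ lam : G → ℂ) g)) =
          ((θ : G → ℂ) 1 * conj ((θ : G → ℂ) r)) * ∑ lam : IrrCharacter P, (lam : P → ℂ) 1 * (lam : P → ℂ) ⟨g ^ α, hg⟩⁻¹ := by
        rw [Finset.mul_sum]
        refine Finset.sum_congr rfl fun lam _ => ?_
        rw [hΨ1, hΨg, map_mul, irr_apply_inv]
        ring
      rw [h3, sum_irr_degree_mul_apply]
      by_cases hx1 : g ^ α = 1
      · have hgr : g = r := by
          rw [← hxr, hx1, one_mul]
        have h4 : (⟨g ^ α, hg⟩ : P)⁻¹ = 1 := by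
          apply Subtype.ext
          simp [hx1]
        rw [if_pos h4]
        simp only [a, c]
        rw [← hgr]
        have h5 : regFun p G g = 1 := by
          rw [← hgr] at hr
          simp only [regFun, if_pos hr]
        rw [h5]
        field_simp
      · have h4 : ¬ (⟨g ^ α, hg⟩ : P)⁻¹ = 1 := by
          intro h
          apply hx1
          have := congrArg Subtype.val h
          simpa using this
        rw [if_neg h4]
        have h5 : regFun p G g = 0 := by
          have h6 : ¬ ¬ p ∣ orderOf g := by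
            intro h7
            exact hx1 (hα.pow_of_regular h7)
          simp only [regFun, if_neg h6]
        simp only [a, h5]
        simp
    · have h2 : ∀ lam : IrrCharacter P, (Ψ lam : G → ℂ) g = 0 := by
        intro lam
        rw [hΨeq]
        exact Dat.psi_eq_zero _ hg
      have h5 : regFun p G g = 0 := by
        have h6 : ¬ ¬ p ∣ orderOf g := by
          intro h7
          apply hg
          rw [hα.pow_of_regular h7]
          exact P.one_mem
        simp only [regFun, if_neg h6]
      simp only [a, h5, h2]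
      simp
  have hAz : indic A ∈ zS M G := by
    have h1 : indic A = spec a := by
      rw [← hcoef, spec_coef]
    rw [h1]
    exact spec_mem_zS hacl haS
  -- the principal character of `P`
  have hone : ∃ l₁ : IrrCharacter P, ∀ d, (l₁ : P → ℂ) d = 1 := ⟨⟨fun _ => 1, isIrrCharacter_one⟩, fun _ => rfl⟩
  obtain ⟨l₁, hl₁⟩ := hone
  have hθA : θ ∈ A := ⟨l₁, hΨone l₁ hl₁⟩
  have hBA : B ⊆ A := by
    rw [blockOf_eq_of_mem hB hθ]
    exact blockOf_subset_of_indic_mem hAz hθA
  -- the sum of squares
  have hS0 : ∑ r, regFun p G r * ((θ : G → ℂ) r * conj ((θ : G → ℂ) r)) ≠ 0 := by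
    have h3 := Dat.sum_regular
    intro h
    rw [h, mul_zero] at h3
    exact (by exact_mod_cast Nat.card_pos.ne' : (Nat.card G : ℂ) ≠ 0) h3.symm
  have hAB : A ⊆ B := by
    rintro _ ⟨lam, rfl⟩
    by_contra hn
    have hn' : ¬ SameBlock M ((Ψ lam : IrrCharacter G) : G → ℂ) (θ : G → ℂ) := by
      intro h
      apply hn
      rw [blockOf_eq_of_mem hB hθ]
      exact SameBlock.symm' h
    have h1 := sum_regular_mul_eq_zero hM hn'
    rw [finsum_mem_def, finsum_eq_sum_of_fintype] at h1
    have h2 : ∑ r, Set.indicator {x : G | ¬ p ∣ orderOf x} (fun x => (Ψ lam : G → ℂ) x * conj ((θ : G → ℂ) x)) r =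
        (lam : P → ℂ) 1 * ∑ r, regFun p G r * ((θ : G → ℂ) r * conj ((θ : G → ℂ) r)) := by
      rw [Finset.mul_sum]
      refine Finset.sum_congr rfl fun r _ => ?_
      by_cases hr : ¬ p ∣ orderOf r
      · rw [Set.indicator_of_mem (by exact hr)]
        have h3 := hΨmul lam 1 hr
        simp only [OneMemClass.coe_one, one_mul] at h3
        rw [h3]
        simp only [regFun, if_pos hr]
        ring
      · rw [Set.indicator_of_notMem (by exact hr)]
        simp only [regFun, if_neg hr]
        simp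
    rw [h2] at h1
    rcases mul_eq_zero.mp h1 with h3 | h3
    · exact irr_apply_one_ne_zero lam h3
    · exact hS0 h3
  have hBeq : B = A := Set.Subset.antisymm hBA hAB
  exact ⟨θ, α, Ψ, hθ, Dat, hinj, hΨeq, hBeq.symm⟩

end Central

end Cfsg.Agent.Lib.H8Group
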