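import Cfsg.Agent.Lib.H8Group.AbelianCount
import Cfsg.Agent.S4539
import Cfsg.Agent.S4669

/-!
# Nilpotent blocks with abelian defect group: one Brauer character and `|P|` characters
-/

set_option autoImplicit false
set_option linter.unusedSectionVars false
set_option linter.style.haveILetI false

namespace Cfsg.Agent.Lib.H8Group

open Cfsg Cfsg.Agent.Lib.Char Cfsg.Agent.Lib.Blocks

universe u

section Basic

variable {G : Type u} [Group G] [Fintype G] {M : Ideal AlgInt} {p : ℕ} [hp : Fact p.Prime]

theorem one_le_blockRank {B : Set (IrrCharacter G)} (hB : B.Nonempty) : 1 ≤ blockRank p B := by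
  classical
  have hpp : p.Prime := hp.out
  obtain ⟨χ, hχ⟩ := hB
  rw [blockRank, Nat.succ_le_iff, Module.finrank_pos_iff_exists_ne_zero]
  refine ⟨⟨pRegularPart p (χ : G → ℂ), Submodule.subset_span ⟨χ, hχ, rfl⟩⟩, ?_⟩
  intro h
  have h1 := congrArg (fun z : ↥(Submodule.span ℂ ((fun χ : IrrCharacter G => pRegularPart p (χ : G → ℂ)) '' B)) => ((z : G → ℂ) 1)) h
  simp only [ZeroMemClass.coe_zero, Pi.zero_apply] at h1
  rw [pRegularPart_of_not_dvd] at h1
  · exact irr_apply_one_ne_zero χ h1
  · simp only [orderOf_one]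
    exact fun h => hpp.one_lt.ne' (Nat.dvd_one.mp h)

/-- A block of a subgroup equal to the whole group has the same rank as the block it induces. -/
theorem blockRank_of_eq_top (hM : IsPModular p M) {H : Subgroup G} (hH : H = ⊤) {b : Set (IrrCharacter H)}
    {B : Set (IrrCharacter G)} (hb : IsInducedBlock M H b B) : blockRank p b = blockRank p B := by
  classical
  subst hH
  have := isPrime_of_modular hM
  letI : Fintype (⊤ : Subgroup G) := Fintype.ofFinite _
  let ε : (⊤ : Subgroup G) ≃* G := Subgroup.topEquiv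
  have hsub : b ⊆ transBlock ε B := by
    intro ξ hξ
    obtain ⟨χ, hχ⟩ := IsPBlock.nonempty hb.2.1
    -- the central character of `ξ ∘ ε⁻¹`
    set χ' : IrrCharacter G := Cfsg.Agent.Lib.Blocks.irrComp ε.symm ξ with hχ'
    have hval : ∀ g : G, inducedCentralChar (⊤ : Subgroup G) (ξ : (⊤ : Subgroup G) → ℂ) g = centralChar (χ' : G → ℂ) g := by
      intro g
      rw [inducedCentralChar_eq_sum, centralChar, index_centralizer_eq_card]
      have h1 : ∑ h : (⊤ : Subgroup G), cls g h * (ξ : (⊤ : Subgroup G) → ℂ) h = ∑ y : G, cls g y * (χ' : G → ℂ) y :=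
        Fintype.sum_equiv ε.toEquiv _ _ fun h => by
          show _ = cls g (ε h) * (ξ : (⊤ : Subgroup G) → ℂ) (ε.symm (ε h))
          rw [MulEquiv.symm_apply_apply]
          rfl
      rw [h1, sum_cls_mul_of_class g _ (irr_isClassFunction χ')]
      rfl
    show Cfsg.Agent.Lib.Blocks.irrComp ε.symm ξ ∈ B
    have h2 : SameBlock M (χ : G → ℂ) (χ' : G → ℂ) := by
      intro g
      have h3 := hb.2.2 ξ hξ χ hχ g
      rw [hval] at h3
      exact MemLocalIdeal.symm h3
    have h4 : χ' ∈ blockOf M (χ : G → ℂ) := h2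
    rwa [← blockOf_eq_of_mem hb.2.1 hχ] at h4
  have hbB : b = transBlock ε B := by
    obtain ⟨ξ, hξ⟩ := IsPBlock.nonempty hb.1
    rw [blockOf_eq_of_mem hb.1 hξ, blockOf_eq_of_mem (isPBlock_transBlock ε hb.2.1) (hsub hξ)]
  rw [hbB, blockRank_transBlock]

theorem major_bound_of_zpowers (hM : IsPModular p M) {B : Set (IrrCharacter G)} (hB : IsPBlock M B) {D : Subgroup G}
    (hD : IsDefectGroup p M B D) {z : G} (hzD : z ∈ D) (hzc : ∀ d ∈ D, d * z = z * d) :
    ∀ (H : Subgroup G), H = Subgroup.centralizer ({z} : Set G) → ∀ (b : Set (IrrCharacter H)),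
      IsInducedBlock M H b B → IsDefectGroup p M b (D.subgroupOf H) → blockRank p b ≤ 2 →
      Nat.card B ≤ p ^ blockDefect p B := by
  rintro _ rfl b hb hbD hl
  exact Cfsg.Agent.S4539.result p M hM B hB D hD z hzD hzc b hb hbD hl

end Basic

section Main

/-- **Nilpotent blocks with abelian defect group.** -/
theorem nilpotent_abelian_aux {p : ℕ} [hp : Fact p.Prime] {M : Ideal AlgInt} (hM : IsPModular p M) (n : ℕ) :
    ∀ (G : Type u) [Group G] [Fintype G], Nat.card G = n → ∀ (B : Set (IrrCharacter G)) (D : Subgroup G),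
      IsNilpotentBlock p M B → IsDefectGroup p M B D → (∀ x ∈ D, ∀ y ∈ D, x * y = y * x) →
      blockRank p B = 1 ∧ Nat.card B = Nat.card D := by
  classical
  have := isPrime_of_modular hM
  induction n using Nat.strong_induction_on with
  | _ n IH =>
    intro G _ _ hn B D hnil hD habD
    have hB := hnil.1
    obtain ⟨P, e, hmax⟩ := exists_isMaximalBrauerPair (p := p) hM hB
    have hDP := isDefectGroup_of_isMaximalBrauerPair hM hmax
    obtain ⟨y, hy⟩ := IsDefectGroup.exists_conj_eq hM hB hD hDP
    have hcardPD : Nat.card P = Nat.card D := by rw [hy, card_conjS]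
    have hab : ∀ x ∈ P, ∀ z ∈ P, x * z = z * x := by
      intro a ha b hb
      rw [hy, mem_conjS] at ha hb
      have h1 := habD _ ha _ hb
      have h2 : y⁻¹ * (a * b) * y = y⁻¹ * (b * a) * y := by
        calc y⁻¹ * (a * b) * y = (y⁻¹ * a * y) * (y⁻¹ * b * y) := by group
          _ = (y⁻¹ * b * y) * (y⁻¹ * a * y) := h1
          _ = y⁻¹ * (b * a) * y := by group
      have h3 := mul_left_cancel (mul_right_cancel h2)
      exact h3
    have hPe := hmax.1.1
    have hPp : IsPGroup p P := hPe.1
    have hzP : ∀ u ∈ P, Subgroup.zpowers u ≤ P := fun u hu => by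
      rw [Subgroup.zpowers_le]
      exact hu
    have hexf : ∀ u : G, ∃ f : Set (IrrCharacter (Subgroup.centralizer ((Subgroup.zpowers u : Subgroup G) : Set G))),
        u ∈ P → SubpairLE p M (Subgroup.zpowers u) f P e := by
      intro u
      by_cases hu : u ∈ P
      · obtain ⟨f, -, hf⟩ := exists_subpairLE hM hPe _ (hzP u hu)
        exact ⟨f, fun _ => hf⟩
      · exact ⟨∅, fun h => absurd h hu⟩
    choose f hf using hexf
    -- the stabilizer centralizes `P`
    have hcen := (isNilpotentBlock_iff_of_abelian hM hmax hab).mp hnil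
    let U : Finset G := Finset.univ.filter (fun u => u ∈ P)
    have hU : ∀ v ∈ P, ∃! u, u ∈ U ∧ ∃ t ∈ stabOfBlock P e, t * v * t⁻¹ = u := by
      intro v hv
      have hfix : ∀ t ∈ stabOfBlock P e, t * v * t⁻¹ = v := by
        intro t ht
        have h1 := hcen t ht.1 ht.2
        have h2 := Subgroup.mem_centralizer_iff.mp h1 v hv
        rw [← h2]
        group
      refine ⟨v, ⟨Finset.mem_filter.mpr ⟨Finset.mem_univ _, hv⟩, 1, Subgroup.one_mem _, by simp⟩, ?_⟩
      rintro w ⟨-, t, ht, rfl⟩
      exact hfix t ht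
    have hcount := card_block_eq_sum_orbits f hM hmax hab (fun y => Iff.rfl) hf U
      (fun u hu => (Finset.mem_filter.mp hu).2) hU
    have hcardU : U.card = Nat.card P := by
      rw [Nat.card_eq_fintype_card, Fintype.card_subtype]
    have hpair : ∀ u ∈ P, IsBrauerPairOf p M B (Subgroup.zpowers u) (f u) := fun u hu =>
      (isBrauerPairOf_iff_of_chain hM (hf u hu) hB).mp hmax.1
    letI : ∀ u : G, Fintype (Subgroup.centralizer ((Subgroup.zpowers u : Subgroup G) : Set G)) := fun _ => Fintype.ofFinite _
    have hfB : ∀ u ∈ P, IsPBlock M (f u) := fun u hu => isPBlock_of_subpairLE hM hPe (hf u hu)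
    have hPC : ∀ u ∈ P, P ≤ Subgroup.centralizer ((Subgroup.zpowers u : Subgroup G) : Set G) := by
      intro u hu z hz
      rw [centralizer_zpowers_eq, Subgroup.mem_centralizer_singleton_iff]
      exact hab z hz u hu
    have hdefu : ∀ u ∈ P, IsDefectGroup p M (f u) (P.subgroupOf (Subgroup.centralizer ((Subgroup.zpowers u : Subgroup G) : Set G))) := by
      intro u hu
      have h1 := isDefectGroup_of_nilpotent hM hmax hnil (hf u hu)
      rwa [inf_eq_left.mpr (hPC u hu)] at h1
    -- noncentral elements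
    have hnc : ∀ u ∈ P, (∃ g : G, g * u ≠ u * g) → blockRank p (f u) = 1 := by
      intro u hu ⟨g, hg⟩
      have hlt : Nat.card (Subgroup.centralizer ((Subgroup.zpowers u : Subgroup G) : Set G)) < n := by
        rw [← hn]
        refine lt_of_le_of_ne (Subgroup.card_le_card_group _) (fun h => hg ?_)
        have h1 := Subgroup.eq_top_of_card_eq _ h
        rw [centralizer_zpowers_eq] at h1
        have h2 : g ∈ Subgroup.centralizer ({u} : Set G) := by
          rw [h1]
          trivial
        exact Subgroup.mem_centralizer_singleton_iff.mp h2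
      refine (IH _ hlt (Subgroup.centralizer ((Subgroup.zpowers u : Subgroup G) : Set G)) rfl (f u) _
        (isNilpotentBlock_of_pair hM hnil (hpair u hu)) (hdefu u hu) ?_).1
      intro a ha b hb
      apply Subtype.ext
      exact hab _ (Subgroup.mem_subgroupOf.mp ha) _ (Subgroup.mem_subgroupOf.mp hb)
    -- central elements
    have hc : ∀ u ∈ P, (∀ g : G, g * u = u * g) → blockRank p (f u) = blockRank p B := by
      intro u hu hg
      have h1 : Subgroup.centralizer ((Subgroup.zpowers u : Subgroup G) : Set G) = ⊤ := by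
        rw [centralizer_zpowers_eq, eq_top_iff]
        intro z _
        rw [Subgroup.mem_centralizer_singleton_iff]
        exact hg z
      exact blockRank_of_eq_top hM h1 ((isBrauerPairOf_iff hM (hpair u hu).1.1 (hfB u hu)).mp (hpair u hu))
    have hle1 : ∀ u ∈ U, 1 ≤ blockRank p (f u) := fun u hu =>
      one_le_blockRank (IsPBlock.nonempty (hfB u (Finset.mem_filter.mp hu).2))
    have h1U : (1 : G) ∈ U := Finset.mem_filter.mpr ⟨Finset.mem_univ _, Subgroup.one_mem _⟩
    have hone : blockRank p (f 1) = blockRank p B := hc 1 (Subgroup.one_mem _) (by simp)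
    by_cases hall : ∀ u ∈ P, ∀ g : G, g * u = u * g
    · -- the defect group is central
      have hPZ : P ≤ Subgroup.center G := by
        intro u hu
        rw [Subgroup.mem_center_iff]
        exact fun g => hall u hu g
      have hl : blockRank p B = 1 := Cfsg.Agent.S4669.result p M hM B hB P hDP hPZ
      refine ⟨hl, ?_⟩
      rw [hcount, ← hcardPD, ← hcardU, Finset.card_eq_sum_ones]
      refine Finset.sum_congr rfl fun u hu => ?_
      rw [hc u (Finset.mem_filter.mp hu).2 (hall u (Finset.mem_filter.mp hu).2), hl]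
    · push Not at hall
      obtain ⟨u₀, hu₀, g₀, hg₀⟩ := hall
      have hl₀ := hnc u₀ hu₀ ⟨g₀, hg₀⟩
      have hbound := major_bound_of_zpowers hM hB hDP hu₀ (fun d hd => hab d hd u₀ hu₀) _ (centralizer_zpowers_eq u₀) (f u₀)
        ((isBrauerPairOf_iff hM (hpair u₀ hu₀).1.1 (hfB u₀ hu₀)).mp (hpair u₀ hu₀)) (hdefu u₀ hu₀) (by omega)
      rw [← card_defectGroup hM hB hDP, hcount, ← hcardU, Finset.card_eq_sum_ones] at hbound
      have hall1 := (Finset.sum_eq_sum_iff_of_le hle1).mp (le_antisymm (Finset.sum_le_sum hle1) hbound)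
      refine ⟨?_, ?_⟩
      · rw [← hone]
        exact (hall1 1 h1U).symm
      · rw [hcount, ← hcardPD, ← hcardU, Finset.card_eq_sum_ones]
        exact (le_antisymm (Finset.sum_le_sum hle1) hbound).symm

end Main

end Cfsg.Agent.Lib.H8Group
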