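import Cfsg.Agent.Lib.H8Group.NilBlocks

/-!
# Maximal Brauer pairs on abelian defect groups; blocks of centralizers of nilpotent blocks
-/

set_option autoImplicit false
set_option linter.unusedSectionVars false

namespace Cfsg.Agent.Lib.H8Group

open Cfsg Cfsg.Agent.Lib.Char Cfsg.Agent.Lib.Blocks

universe u

section Lift

variable {G : Type u} [Group G] [Fintype G] {M : Ideal AlgInt} {p : ℕ} [hp : Fact p.Prime] {R W N A Q P : Subgroup G}

/-- Chains obtained in a subgroup by conjugation lift to chains in the group. -/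
theorem subpairLE_lift_conj (hCW : Subgroup.centralizer (R : Set G) ≤ W) (hNW : N ≤ W) (hAW : A ≤ W)
    (hRA : R ≤ A) (hWN : W ≤ Subgroup.normalizer (R : Set G)) (cdA : CenData (A.subgroupOf W) A)
    (cdN : CenData (N.subgroupOf W) N) (u : W)
    {a : Set (IrrCharacter (Subgroup.centralizer (A : Set G)))}
    {eN : Set (IrrCharacter (Subgroup.centralizer (N : Set G)))}
    (hu : letI : Fintype W := Fintype.ofFinite _
      letI : Fintype (Subgroup.centralizer (N : Set G)) := Fintype.ofFinite _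
      letI : Fintype (Subgroup.centralizer ((N.subgroupOf W : Subgroup W) : Set W)) := Fintype.ofFinite _
      letI : Fintype (Subgroup.centralizer (A : Set G)) := Fintype.ofFinite _
      letI : Fintype (Subgroup.centralizer ((A.subgroupOf W : Subgroup W) : Set W)) := Fintype.ofFinite _
      SubpairLE p M (conjS u (A.subgroupOf W)) (conjB u rfl (transBlock (cenTrans cdA) a)) (N.subgroupOf W)
      (transBlock (cenTrans cdN) eN)) :
    SubpairLE p M (conjS (u : G) A) (conjB (u : G) rfl a) N eN := by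
  classical
  letI : Fintype W := Fintype.ofFinite _
  letI : Fintype (Subgroup.centralizer (N : Set G)) := Fintype.ofFinite _
  letI : Fintype (Subgroup.centralizer ((N.subgroupOf W : Subgroup W) : Set W)) := Fintype.ofFinite _
  letI : Fintype (Subgroup.centralizer (A : Set G)) := Fintype.ofFinite _
  letI : Fintype (Subgroup.centralizer ((A.subgroupOf W : Subgroup W) : Set W)) := Fintype.ofFinite _
  have hh₁ : (conjS u (A.subgroupOf W)).map (Subgroup.subtype _) = conjS (u : G) A := by
    ext z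
    constructor
    · rintro ⟨w, hw, rfl⟩
      have hw' : w ∈ conjS u (A.subgroupOf W) := hw
      rw [mem_conjS] at hw'
      show (w : G) ∈ conjS (u : G) A
      rw [mem_conjS]
      exact Subgroup.mem_subgroupOf.mp hw'
    · intro hz
      rw [mem_conjS] at hz
      have hzW : z ∈ W := by
        have h1 := hAW hz
        have h2 : z = (u : G) * ((u : G)⁻¹ * z * (u : G)) * (u : G)⁻¹ := by group
        rw [h2]
        exact Subgroup.mul_mem _ (Subgroup.mul_mem _ u.2 h1) (Subgroup.inv_mem _ u.2)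
      refine ⟨⟨z, hzW⟩, ?_, rfl⟩
      show (⟨z, hzW⟩ : W) ∈ conjS u (A.subgroupOf W)
      rw [mem_conjS, Subgroup.mem_subgroupOf]
      exact hz
  have hh₂ : (N.subgroupOf W).map (Subgroup.subtype _) = N := Subgroup.map_subgroupOf_eq_of_le hNW
  have hRle : R ≤ conjS (u : G) A := by
    have h1 : conjS (u : G) R = R := conjS_eq_of_mem_normalizer (hWN u.2)
    rw [← h1]
    exact conjS_mono _ hRA
  have cd₁ : CenData (conjS u (A.subgroupOf W)) (conjS (u : G) A) := by
    rw [← hh₁]
    exact cenData_map hCW (by rw [hh₁]; exact hRle)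
  have hlift := subpairLE_lift hCW hh₁ hh₂ hRle hu cd₁ cdN
  have h1 := conjB_lift u cdA cd₁ rfl a
  have h2 := transBlock_symm_transBlock (cenTrans cdN) eN
  rw [h1] at hlift
  convert hlift using 1
  exact h2.symm

end Lift

section Abelian

variable {G : Type u} [Group G] [Fintype G] {M : Ideal AlgInt} {p : ℕ} [hp : Fact p.Prime] {Q P : Subgroup G}
  {B : Set (IrrCharacter G)} {e : Set (IrrCharacter (Subgroup.centralizer (P : Set G)))}
  {f : Set (IrrCharacter (Subgroup.centralizer (Q : Set G)))}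

theorem subpairLE_of_eq {P' Q' Q'' : Subgroup G} {g : G} (h : conjS g Q = Q') (h' : Q' = Q'')
    {e' : Set (IrrCharacter (Subgroup.centralizer (P' : Set G)))}
    (hle : SubpairLE p M Q' (conjB g h f) P' e') : SubpairLE p M Q'' (conjB g (h.trans h') f) P' e' := by
  subst h'
  exact hle

/-- The stabilizer of `(Q, f)` is generated by the centralizer and the stabilizer of `(P, e)`, for abelian `P`. -/
theorem exists_mul_of_abelian (hM : IsPModular p M) (hmax : IsMaximalBrauerPair p M B P e)
    (hab : ∀ x ∈ P, ∀ y ∈ P, x * y = y * x) (hle : SubpairLE p M Q f P e) {x : G}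
    (hx : x ∈ Subgroup.normalizer (Q : Set G)) (hs : StabilizesBlock (Subgroup.centralizer (Q : Set G)) f x) :
    ∃ u ∈ Subgroup.centralizer (Q : Set G), ∃ h : conjS (u * x) P = P, conjB (u * x) h e = e := by
  classical
  have := isPrime_of_modular hM
  letI : Fintype (Subgroup.centralizer (Q : Set G)) := Fintype.ofFinite _
  have hPe := hmax.1.1
  have hQP := le_of_subpairLE hle
  have hf := isPBlock_of_subpairLE hM hPe hle
  have hPC : P ≤ Subgroup.centralizer (Q : Set G) := by
    intro y hy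
    rw [Subgroup.mem_centralizer_iff]
    intro q hq
    exact hab q (hQP hq) y hy
  have hPN : P ≤ Subgroup.normalizer (Q : Set G) := hPC.trans (Subgroup.centralizer_le_normalizer _)
  have hns := isNormalSubpair_of_subpairLE hM hPe hle Relation.ReflTransGen.refl hQP hPN
  have hcoefW : ∀ w : Subgroup.centralizer (Q : Set G), blockCoeff f w =
      subgroupBlockCoeff (Subgroup.centralizer (Q : Set G)) f (w : G) := fun w => by
    simp only [subgroupBlockCoeff, dif_pos w.2]
  have cdP : CenData (P.subgroupOf (Subgroup.centralizer (Q : Set G))) P := cenData_of_le le_rfl hPC hQP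
  letI : Fintype (Subgroup.centralizer (P : Set G)) := Fintype.ofFinite _
  letI : Fintype (Subgroup.centralizer ((P.subgroupOf (Subgroup.centralizer (Q : Set G)) : Subgroup _) :
    Set (Subgroup.centralizer (Q : Set G)))) := Fintype.ofFinite _
  have hpP := isBrauerPairOf_of_isNormalSubpair cdP hf hcoefW hns
  -- `P` is a defect group of `f`
  have hD : IsDefectGroup p M f (P.subgroupOf (Subgroup.centralizer (Q : Set G))) := by
    obtain ⟨x₁, hx₁, hx₁D⟩ := exists_conj_isDefectGroup_cen hM hmax hf hle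
    obtain ⟨D, hD, hDle⟩ := exists_defect_ge_cen hM hPe hQP hf hle
    rw [inf_eq_left.mpr hPC] at hDle
    have h1 := card_defect_conjB hM x₁ rfl hf hD hx₁D
    rw [card_subgroupOf_of_le inf_le_right] at h1
    have h2 : Nat.card (P ⊓ Subgroup.centralizer ((conjS x₁ Q : Subgroup G) : Set G) : Subgroup G) ≤ Nat.card P :=
      Subgroup.card_le_of_le inf_le_left
    have heq := Subgroup.eq_of_le_of_card_ge hDle (by
      rw [card_subgroupOf_of_le hPC, ← h1]
      exact h2)
    rw [heq]
    exact hD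
  have hmaxW := isMaximalBrauerPair_of_defect hM hpP hD
  -- the conjugate pair
  have hxQ := conjS_eq_of_mem_normalizer hx
  have hcon : conjB x hxQ f = f := conjB_eq_of_stabilizes hM hxQ hf hs
  have hns₁ := isNormalSubpair_conjB x hxQ rfl hns
  rw [hcon] at hns₁
  have hP₁C : conjS x P ≤ Subgroup.centralizer (Q : Set G) := by
    rintro _ ⟨y, hy, rfl⟩
    exact conj_mem_centralizer hx (hPC hy)
  have hQP₁ : Q ≤ conjS x P := hns₁.2.2.1
  have cdP₁ : CenData ((conjS x P).subgroupOf (Subgroup.centralizer (Q : Set G))) (conjS x P) :=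
    cenData_of_le le_rfl hP₁C hQP₁
  letI : Fintype (Subgroup.centralizer ((conjS x P : Subgroup G) : Set G)) := Fintype.ofFinite _
  letI : Fintype (Subgroup.centralizer (((conjS x P).subgroupOf (Subgroup.centralizer (Q : Set G)) : Subgroup _) :
    Set (Subgroup.centralizer (Q : Set G)))) := Fintype.ofFinite _
  have hpP₁ := isBrauerPairOf_of_isNormalSubpair cdP₁ hf hcoefW hns₁
  obtain ⟨u, hu⟩ := exists_conj_subpairLE hM hmaxW hpP₁
  have hWN : Subgroup.centralizer (Q : Set G) ≤ Subgroup.normalizer (Q : Set G) := Subgroup.centralizer_le_normalizer _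
  have hlift := subpairLE_lift_conj le_rfl hPC hP₁C hQP₁ hWN cdP₁ cdP u hu
  have hle₂ := hlift
  have h₃ : conjS ((u : G) * x) P = conjS (u : G) (conjS x P) := (conjS_conjS _ _ _).symm
  rw [conjB_conjB x (u : G) rfl rfl h₃] at hle₂
  have hzP : conjS (u : G) (conjS x P) = P :=
    Subgroup.eq_of_le_of_card_ge (le_of_subpairLE hle₂) (by
      rw [card_conjS, card_conjS])
  have hle₃ := subpairLE_of_eq h₃ hzP hle₂
  refine ⟨u, u.2, h₃.trans hzP, ?_⟩
  exact subpairLE_unique hM hPe P le_rfl _ e hle₃ Relation.ReflTransGen.refl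

/-- **S4682.** -/
theorem stabilizer_of_abelian (hM : IsPModular p M) (hmax : IsMaximalBrauerPair p M B P e)
    (hab : ∀ x ∈ P, ∀ y ∈ P, x * y = y * x) (hf : IsPBlock M f) (hle : SubpairLE p M Q f P e) {TQ TP : Subgroup G}
    (hTQ : ∀ y : G, y ∈ TQ ↔ y ∈ Subgroup.normalizer (Q : Set G) ∧
      StabilizesBlock (Subgroup.centralizer (Q : Set G)) f y)
    (hTP : ∀ y : G, y ∈ TP ↔ y ∈ Subgroup.normalizer (P : Set G) ∧
      StabilizesBlock (Subgroup.centralizer (P : Set G)) e y) :
    (∀ x ∈ TQ, ∃ y ∈ TP, ∃ c ∈ Subgroup.centralizer (Q : Set G), x = y * c) ∧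
      ((Subgroup.centralizer (Q : Set G)).subgroupOf TQ).index =
        ((TP ⊓ Subgroup.centralizer (Q : Set G)).subgroupOf (TP ⊓ Subgroup.normalizer (Q : Set G))).index := by
  classical
  have hPe := hmax.1.1
  have hQP := le_of_subpairLE hle
  have hfirst : ∀ x ∈ TQ, ∃ y ∈ TP, ∃ c ∈ Subgroup.centralizer (Q : Set G), x = y * c := by
    intro x hx
    obtain ⟨hxN, hxs⟩ := (hTQ x).mp hx
    obtain ⟨u, hu, hz, hconj⟩ := exists_mul_of_abelian hM hmax hab hle hxN hxs
    have hzT : u * x ∈ TP := (hTP _).mpr ⟨mem_normalizer_of_conjS_eq hz, stabilizes_of_conjB_eq hz hconj⟩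
    have hzN : u * x ∈ Subgroup.normalizer (Q : Set G) :=
      Subgroup.mul_mem _ (Subgroup.centralizer_le_normalizer _ hu) hxN
    refine ⟨u * x, hzT, (u * x)⁻¹ * u⁻¹ * (u * x)⁻¹⁻¹, ?_, ?_⟩
    · exact conj_mem_centralizer (Subgroup.inv_mem _ hzN) (Subgroup.inv_mem _ hu)
    · group
  refine ⟨hfirst, ?_⟩
  -- the second statement
  have hKT : TP ⊓ Subgroup.normalizer (Q : Set G) ≤ TQ := by
    rintro y ⟨hyP, hyN⟩
    obtain ⟨hyPN, hys⟩ := (hTP y).mp hyP
    have hyPQ := conjS_eq_of_mem_normalizer hyPN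
    have hyQ := conjS_eq_of_mem_normalizer hyN
    have h1 := subpairLE_conjB y hyQ hyPQ hle
    rw [conjB_eq_of_stabilizes hM hyPQ hPe.2 hys] at h1
    have h2 : conjB y hyQ f = f := subpairLE_unique hM hPe Q hQP _ _ h1 hle
    exact (hTQ y).mpr ⟨hyN, stabilizes_of_conjB_eq hyQ h2⟩
  have hCT : Subgroup.centralizer (Q : Set G) ≤ TQ := fun c hc =>
    (hTQ c).mpr ⟨Subgroup.centralizer_le_normalizer _ hc, stabilizes_of_mem_centralizer _ f hc⟩
  have hTN : TQ ≤ Subgroup.normalizer (Q : Set G) := fun y hy => ((hTQ y).mp hy).1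
  haveI hn : ((Subgroup.centralizer (Q : Set G)).subgroupOf TQ).Normal := by
    refine ⟨fun c hc t => ?_⟩
    rw [Subgroup.mem_subgroupOf] at hc ⊢
    exact conj_mem_centralizer (hTN t.2) hc
  let ψ : (TP ⊓ Subgroup.normalizer (Q : Set G) : Subgroup G) →* TQ ⧸ ((Subgroup.centralizer (Q : Set G)).subgroupOf TQ) :=
    (QuotientGroup.mk' _).comp (Subgroup.inclusion hKT)
  have hker : ψ.ker = (TP ⊓ Subgroup.centralizer (Q : Set G)).subgroupOf (TP ⊓ Subgroup.normalizer (Q : Set G)) := by
    ext y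
    rw [MonoidHom.mem_ker, Subgroup.mem_subgroupOf]
    show ((Subgroup.inclusion hKT y : TQ) : TQ ⧸ ((Subgroup.centralizer (Q : Set G)).subgroupOf TQ)) = 1 ↔ _
    rw [QuotientGroup.eq_one_iff, Subgroup.mem_subgroupOf]
    constructor
    · intro h
      exact ⟨y.2.1, h⟩
    · intro h
      exact h.2
  have hsurj : Function.Surjective ψ := by
    intro t
    obtain ⟨t, rfl⟩ := QuotientGroup.mk_surjective t
    obtain ⟨y, hy, c, hc, htc⟩ := hfirst t t.2
    have hyN : y ∈ Subgroup.normalizer (Q : Set G) := by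
      have h1 : y = t * c⁻¹ := by rw [htc]; group
      rw [h1]
      exact Subgroup.mul_mem _ (hTN t.2) (Subgroup.inv_mem _ (Subgroup.centralizer_le_normalizer _ hc))
    refine ⟨⟨y, hy, hyN⟩, ?_⟩
    show ((Subgroup.inclusion hKT ⟨y, hy, hyN⟩ : TQ) : TQ ⧸ ((Subgroup.centralizer (Q : Set G)).subgroupOf TQ)) = _
    rw [QuotientGroup.eq, Subgroup.mem_subgroupOf]
    show y⁻¹ * (t : G) ∈ _
    rw [htc]
    simpa using hc
  rw [← hker, Subgroup.index_ker, MonoidHom.range_eq_top.mpr hsurj, Subgroup.index]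
  exact (Nat.card_congr Subgroup.topEquiv.toEquiv).symm

/-- **S4687.** -/
theorem isNilpotentBlock_iff_of_abelian (hM : IsPModular p M) (hmax : IsMaximalBrauerPair p M B P e)
    (hab : ∀ x ∈ P, ∀ y ∈ P, x * y = y * x) :
    IsNilpotentBlock p M B ↔ ∀ x : G, x ∈ Subgroup.normalizer (P : Set G) →
      StabilizesBlock (Subgroup.centralizer (P : Set G)) e x → x ∈ Subgroup.centralizer (P : Set G) := by
  classical
  have hPe := hmax.1.1
  constructor
  · intro hnil y hy hs
    obtain ⟨F₁, hF₁, hcoef₁⟩ := exists_block_of_stabilizer (T := stabOfBlock P e) hM hPe.1 hPe.2 (fun y => Iff.rfl)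
    obtain ⟨x, hx, hxT⟩ := exists_conj_isDefectGroup_norm hM hmax Relation.ReflTransGen.refl (fun y => Iff.rfl) hF₁ hcoef₁
    obtain ⟨F₂, hF₂, hcoef₂, hD₂⟩ := hxT (stabOfBlock (conjS x P) (conjB x rfl e)) (fun y => Iff.rfl)
    have hRP := le_of_subpairLE hx
    have hinv : x⁻¹ * (x * y * x⁻¹) * x = y := by group
    have hmem : x * y * x⁻¹ ∈ stabOfBlock (conjS x P) (conjB x rfl e) := by
      apply (mem_stab_conj_iff (f := e) x rfl).mp
      rw [hinv]
      exact ⟨hy, hs⟩
    obtain ⟨h, hhP, hh⟩ := exists_inner_of_nilpotent hM hmax hnil hRP hx (fun y => Iff.rfl) hF₂ hcoef₂ hD₂ hmem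
    have hc : x * y * x⁻¹ ∈ Subgroup.centralizer ((conjS x P : Subgroup G) : Set G) := by
      rw [Subgroup.mem_centralizer_iff]
      intro z hz
      have h1 := hh z hz
      have h2 : h * z * h⁻¹ = z := by
        rw [hab h hhP z (hRP hz)]
        group
      rw [h2] at h1
      calc z * (x * y * x⁻¹) = (x * y * x⁻¹ * z * (x * y * x⁻¹)⁻¹) * (x * y * x⁻¹) := by rw [h1]
        _ = x * y * x⁻¹ * z := by group
    have h3 := conj_inv_mem_cen_of_conjS x rfl hc
    rwa [hinv] at h3
  · intro hT
    refine ⟨hmax.1.2.1, fun Q f hQf x hx hs hreg => ?_⟩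
    obtain ⟨y, hy⟩ := exists_conj_subpairLE hM hmax hQf
    have hyinv : y⁻¹ * (y * x * y⁻¹) * y = x := by group
    have hx'N : y * x * y⁻¹ ∈ Subgroup.normalizer ((conjS y Q : Subgroup G) : Set G) :=
      (conj_mem_normalizer_iff y rfl).mpr (by rwa [hyinv])
    have hx's : StabilizesBlock (Subgroup.centralizer ((conjS y Q : Subgroup G) : Set G)) (conjB y rfl f) (y * x * y⁻¹) :=
      stabilizesBlock_conjB y rfl (by rwa [hyinv])
    obtain ⟨u, hu, hz, hconj⟩ := exists_mul_of_abelian hM hmax hab hy hx'N hx's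
    have hzc := hT _ (mem_normalizer_of_conjS_eq hz) (stabilizes_of_conjB_eq hz hconj)
    have hzc' : u * (y * x * y⁻¹) ∈ Subgroup.centralizer ((conjS y Q : Subgroup G) : Set G) :=
      Subgroup.centralizer_le (le_of_subpairLE hy) hzc
    have hc : y * x * y⁻¹ ∈ Subgroup.centralizer ((conjS y Q : Subgroup G) : Set G) := by
      have h1 : y * x * y⁻¹ = u⁻¹ * (u * (y * x * y⁻¹)) := by group
      rw [h1]
      exact Subgroup.mul_mem _ (Subgroup.inv_mem _ hu) hzc'
    have h2 := conj_inv_mem_cen_of_conjS y rfl hc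
    rwa [hyinv] at h2

end Abelian

section NilCen

variable {G : Type u} [Group G] [Fintype G] {M : Ideal AlgInt} {p : ℕ} [hp : Fact p.Prime] {Q P R W : Subgroup G}
  {B : Set (IrrCharacter G)} {e : Set (IrrCharacter (Subgroup.centralizer (P : Set G)))}
  {f : Set (IrrCharacter (Subgroup.centralizer (Q : Set G)))}

/-- Stabilizers in the subgroup are stabilizers in the group. -/
theorem stabilizes_lift {R' : Subgroup W} [Fintype (Subgroup.centralizer (R : Set G))]
    [Fintype (Subgroup.centralizer (R' : Set W))] (hcd : CenData R' R) {x : W}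
    {h' : Set (IrrCharacter (Subgroup.centralizer (R' : Set W)))}
    (hxN : (x : G) ∈ Subgroup.normalizer ((Subgroup.centralizer (R : Set G) : Subgroup G) : Set G))
    (hs : StabilizesBlock (Subgroup.centralizer (R' : Set W)) h' x) :
    StabilizesBlock (Subgroup.centralizer (R : Set G)) (transBlock (cenTrans hcd).symm h') (x : G) := by
  classical
  letI : Fintype W := Fintype.ofFinite _
  refine ⟨hxN, fun χ hχ => ?_⟩
  obtain ⟨χ₂, hχ₂, h2⟩ := hs.2 _ hχ
  refine ⟨Cfsg.Agent.Lib.Blocks.irrComp (cenTrans hcd).symm χ₂, ?_, fun k k' hk => ?_⟩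
  · show Cfsg.Agent.Lib.Blocks.irrComp (cenTrans hcd).symm.symm (Cfsg.Agent.Lib.Blocks.irrComp (cenTrans hcd).symm χ₂) ∈ h'
    rwa [Cfsg.Agent.Lib.Blocks.irrComp_symm_irrComp]
  · simp only [Cfsg.Agent.Lib.Blocks.irrComp_coe, Function.comp_apply]
    have h3 := h2 ((cenTrans hcd).symm k) ((cenTrans hcd).symm k') (by
      apply Subtype.ext
      simp only [cenTrans_symm_coe, Subgroup.coe_mul, InvMemClass.coe_inv]
      exact hk)
    rw [h3]
    simp only [Cfsg.Agent.Lib.Blocks.irrComp_coe, Function.comp_apply]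
    have h4 : (cenTrans hcd).symm.symm ((cenTrans hcd).symm k) = k := (cenTrans hcd).apply_symm_apply k
    rw [h4]

theorem map_subtype_mem_normalizer {R' : Subgroup W} {x : W} (hx : x ∈ Subgroup.normalizer (R' : Set W)) :
    (x : G) ∈ Subgroup.normalizer ((R'.map W.subtype : Subgroup G) : Set G) := by
  rw [Subgroup.mem_normalizer_iff]
  intro z
  constructor
  · rintro ⟨r, hr, rfl⟩
    exact ⟨(x * r * x⁻¹ : W), (Subgroup.mem_normalizer_iff.mp hx r).mp hr, rfl⟩
  · rintro ⟨r, hr, hrz⟩
    have hzW : z ∈ W := by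
      have h1 : z = (x : G)⁻¹ * (r : G) * (x : G) := by
        have h2 : (r : G) = x * z * (x : G)⁻¹ := hrz
        rw [h2]
        group
      rw [h1]
      exact W.mul_mem (W.mul_mem (W.inv_mem x.2) r.2) x.2
    refine ⟨⟨z, hzW⟩, ?_, rfl⟩
    have h1 : (r : W) = x * ⟨z, hzW⟩ * x⁻¹ := Subtype.ext hrz
    rw [h1] at hr
    exact (Subgroup.mem_normalizer_iff.mp hx _).mpr hr

/-- The pairs of a block of `C_G(Q)`: the group `R Q`. -/
theorem cenData_centralizer (R' : Subgroup (Subgroup.centralizer (Q : Set G))) :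
    CenData R' (R'.map (Subgroup.subtype _) ⊔ Q) where
  le := le_sup_left
  cen_le := Subgroup.centralizer_le (show (Q : Set G) ⊆ _ from (le_sup_right : Q ≤ R'.map (Subgroup.subtype _) ⊔ Q))
  cen := by
    intro c hc
    rw [Subgroup.mem_centralizer_iff]
    have h1 : R'.map (Subgroup.subtype _) ⊔ Q ≤ Subgroup.centralizer ({(c : G)} : Set G) := by
      refine sup_le ?_ ?_
      · rintro _ ⟨r, hr, rfl⟩
        rw [Subgroup.mem_centralizer_singleton_iff]
        exact congrArg Subtype.val (Subgroup.mem_centralizer_iff.mp hc r hr)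
      · intro q hq
        rw [Subgroup.mem_centralizer_singleton_iff]
        exact Subgroup.mem_centralizer_iff.mp c.2 q hq
    intro r hr
    exact Subgroup.mem_centralizer_singleton_iff.mp (h1 hr)

/-- **First part of S4688.** -/
theorem isNilpotentBlock_of_pair (hM : IsPModular p M) (hnil : IsNilpotentBlock p M B)
    (hQf : IsBrauerPairOf p M B Q f) : IsNilpotentBlock p M f := by
  classical
  have := isPrime_of_modular hM
  letI : Fintype (Subgroup.centralizer (Q : Set G)) := Fintype.ofFinite _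
  have hB := hQf.2.1
  refine ⟨hQf.1.2, fun R' h' hR' x hx hs hreg => ?_⟩
  have hcd := cenData_centralizer R'
  have hQp := hQf.1.1
  have hRp : IsPGroup p (R'.map (Subgroup.subtype _) ⊔ Q : Subgroup G) :=
    IsPGroup.to_sup_of_normal_right' (hR'.1.1.map _) hQp
      ((Subgroup.map_subtype_le _).trans (Subgroup.centralizer_le_normalizer _))
  have hRsub : R'.map (Subgroup.subtype _) ⊔ Q ≤ Q ⊔ Subgroup.centralizer (Q : Set G) := by
    rw [sup_comm]
    exact sup_le_sup_left (Subgroup.map_subtype_le _) _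
  have hcoefW : ∀ w : Subgroup.centralizer (Q : Set G), blockCoeff f w =
      subgroupBlockCoeff (Subgroup.centralizer (Q : Set G)) f (w : G) := fun w => by
    simp only [subgroupBlockCoeff, dif_pos w.2]
  letI : Fintype (Subgroup.centralizer ((R'.map (Subgroup.subtype _) ⊔ Q : Subgroup G) : Set G)) := Fintype.ofFinite _
  letI : Fintype (Subgroup.centralizer (R' : Set (Subgroup.centralizer (Q : Set G)))) := Fintype.ofFinite _
  have hns := isNormalSubpair_of_isBrauerPairOf hcd hcoefW hQf.1 hRp le_sup_right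
    (hRsub.trans sup_centralizer_le_normalizer) (fun y hy => stabilizesBlock_of_mem_sup (hRsub hy) f) hR'
  have hpair := (isBrauerPairOf_iff_normal hM hns hB).mpr hQf
  have hxQ : (x : G) ∈ Subgroup.normalizer (Q : Set G) := Subgroup.centralizer_le_normalizer _ x.2
  have hxR : (x : G) ∈ Subgroup.normalizer ((R'.map (Subgroup.subtype _) ⊔ Q : Subgroup G) : Set G) := by
    apply mem_normalizer_of_conjS_eq
    show (R'.map (Subgroup.subtype _) ⊔ Q).map (MulAut.conj (x : G)).toMonoidHom = _
    rw [Subgroup.map_sup]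
    have h1 : conjS (x : G) (R'.map (Subgroup.subtype _)) = R'.map (Subgroup.subtype _) :=
      conjS_eq_of_mem_normalizer (map_subtype_mem_normalizer hx)
    have h2 : conjS (x : G) Q = Q := conjS_eq_of_mem_normalizer hxQ
    exact congrArg₂ (· ⊔ ·) h1 h2
  have hs' := stabilizes_lift hcd (normalizer_le_normalizer_centralizer hxR) hs
  have hreg' : IsPRegular p (x : G) := by
    show ¬ p ∣ orderOf (x : G)
    rw [Subgroup.orderOf_coe]
    exact hreg
  have hc := hnil.2 _ _ hpair (x : G) hxR hs' hreg'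
  rw [Subgroup.mem_centralizer_iff]
  intro r hr
  apply Subtype.ext
  exact Subgroup.mem_centralizer_iff.mp hc _ (Subgroup.mem_sup_left ⟨r, hr, rfl⟩)

/-- **Second part of S4688.** -/
theorem isDefectGroup_of_nilpotent (hM : IsPModular p M) (hmax : IsMaximalBrauerPair p M B P e)
    (hnil : IsNilpotentBlock p M B) (hle : SubpairLE p M Q f P e) :
    IsDefectGroup p M f ((P ⊓ Subgroup.centralizer (Q : Set G)).subgroupOf (Subgroup.centralizer (Q : Set G))) := by
  classical
  letI : Fintype (Subgroup.centralizer (Q : Set G)) := Fintype.ofFinite _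
  have hPe := hmax.1.1
  have hQP := le_of_subpairLE hle
  have hf := isPBlock_of_subpairLE hM hPe hle
  obtain ⟨x, hx, hxD⟩ := exists_conj_isDefectGroup_cen hM hmax hf hle
  obtain ⟨D, hD, hDle⟩ := exists_defect_ge_cen hM hPe hQP hf hle
  obtain ⟨u, huP, hu⟩ := exists_inner_of_subpairLE hM hmax hnil _ Q f x rfl hle hx
  have hxu : conjS x Q = conjS u Q := by
    ext z
    constructor
    · rintro ⟨w, hw, rfl⟩
      exact ⟨w, hw, (hu w hw).symm⟩
    · rintro ⟨w, hw, rfl⟩
      exact ⟨w, hw, hu w hw⟩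
  have h1 := card_defect_conjB hM x rfl hf hD hxD
  rw [card_subgroupOf_of_le inf_le_right] at h1
  have h2 : Nat.card (P ⊓ Subgroup.centralizer ((conjS x Q : Subgroup G) : Set G) : Subgroup G) =
      Nat.card (P ⊓ Subgroup.centralizer (Q : Set G) : Subgroup G) := by
    rw [hxu]
    have h3 : conjS u (P ⊓ Subgroup.centralizer (Q : Set G)) =
        P ⊓ Subgroup.centralizer ((conjS u Q : Subgroup G) : Set G) := by
      ext z
      rw [mem_conjS]
      constructor
      · rintro ⟨h4, h5⟩
        refine ⟨?_, ?_⟩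
        · have h6 : z = u * (u⁻¹ * z * u) * u⁻¹ := by group
          rw [h6]
          exact P.mul_mem (P.mul_mem huP h4) (P.inv_mem huP)
        · have h6 := conj_mem_cen_of_conjS u (rfl : conjS u Q = conjS u Q) h5
          have h7 : u * (u⁻¹ * z * u) * u⁻¹ = z := by group
          rwa [h7] at h6
      · rintro ⟨h4, h5⟩
        exact ⟨P.mul_mem (P.mul_mem (P.inv_mem huP) h4) huP, conj_inv_mem_cen_of_conjS u rfl h5⟩
    rw [← h3, card_conjS]
  have heq := Subgroup.eq_of_le_of_card_ge hDle (by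
    rw [card_subgroupOf_of_le inf_le_right, ← h2, h1])
  rw [heq]
  exact hD

end NilCen

end Cfsg.Agent.Lib.H8Group
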