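import Mathlib
import Cfsg.Agent.Lib.H8Group.AllConj
import Cfsg.Agent.Lib.H8Group.AbelianNil
import Cfsg.Agent.Lib.H8Group.FongReynolds
import Cfsg.Agent.Lib.Blocks.SubCount
import Cfsg.Agent.Lib.Blocks.FongGeneral
import Cfsg.Agent.Lib.Blocks.FongHeight
import Cfsg.Agent.Lib.Char.BlockKer2
import Cfsg.Agent.Lib.Char.RelIto

set_option autoImplicit false
set_option linter.unusedSectionVars false

/-!
Blocks with `k(B) = l(B) + 1`.
-/

namespace Cfsg.Agent.Lib.H8Group

open Cfsg Cfsg.Agent.Lib.Char Cfsg.Agent.Lib.Blocks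

universe u

section Formula

variable {G : Type u} [Group G] [Fintype G] {M : Ideal AlgInt} {p : ℕ} [hp : Fact p.Prime]
variable [∀ x : G, Fintype (Subgroup.centralizer ({x} : Set G))]

/-- Induction from the centralizer of the identity. -/
theorem indFun_centOne (χ : G → ℂ) (hχ : IsClassFunction G χ) :
    indFun (Subgroup.centralizer ({(1 : G)} : Set G)) (χ ∘ centOneEquiv G) = χ := by
  classical
  funext g
  have hmem : ∀ y : G, y ∈ Subgroup.centralizer ({(1 : G)} : Set G) := by
    intro y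
    rw [Subgroup.mem_centralizer_singleton_iff]
    simp
  rw [indFun_apply]
  have h1 : ∀ x : G, extendByZero (Subgroup.centralizer ({(1 : G)} : Set G)) (χ ∘ centOneEquiv G) (x⁻¹ * g * x) = χ g := by
    intro x
    rw [extendByZero_of_mem _ _ (hmem _)]
    show χ (x⁻¹ * g * x) = χ g
    have := hχ (x⁻¹ * g * x) x
    rw [← this]
    congr 1
    group
  simp only [h1, Finset.sum_const, Finset.card_univ, nsmul_eq_mul]
  have h2 : Nat.card (Subgroup.centralizer ({(1 : G)} : Set G)) = Nat.card G :=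
    Nat.card_congr (centOneEquiv G).toEquiv
  rw [h2, ← Nat.card_eq_fintype_card]
  have h3 : (Nat.card G : ℂ) ≠ 0 := by exact_mod_cast Nat.card_pos.ne'
  field_simp

theorem isInducedBlock_centOne_iff [M.IsPrime] {b : Set (IrrCharacter (Subgroup.centralizer ({(1 : G)} : Set G)))}
    {B : Set (IrrCharacter G)} (hB : IsPBlock M B) :
    IsInducedBlock M (Subgroup.centralizer ({(1 : G)} : Set G)) b B ↔ b = blockPull (centOneEquiv G) B := by
  classical
  set e := centOneEquiv G with he
  have hcc : ∀ (χ : IrrCharacter G) (g : G),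
      inducedCentralChar (Subgroup.centralizer ({(1 : G)} : Set G)) ((irrComp e χ : IrrCharacter _) : _ → ℂ) g =
        centralChar (χ : G → ℂ) g := by
    intro χ g
    rw [inducedCentralChar_eq_centralChar_indFun]
    show centralChar (indFun _ ((χ : G → ℂ) ∘ e)) g = _
    rw [indFun_centOne _ (IsCharacter.isClassFunction (IsIrrCharacter.isCharacter χ.2))]
  constructor
  · intro h
    obtain ⟨ξ, hξ⟩ := IsPBlock.nonempty h.1
    obtain ⟨χ₀, hχ₀⟩ := IsPBlock.nonempty hB
    set χ' : IrrCharacter G := irrComp e.symm ξ with hχ'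
    have hξχ : irrComp e χ' = ξ := (irrCompEquiv e).right_inv ξ
    have h1 := h.2.2 ξ hξ χ₀ hχ₀
    rw [← hξχ] at h1
    simp only [hcc] at h1
    have hχ'B : χ' ∈ B := by
      obtain ⟨φ, rfl⟩ := hB
      have h2 : SameBlock M (χ' : G → ℂ) (χ₀ : G → ℂ) := h1
      exact SameBlock.trans' hχ₀ (SameBlock.symm' h2)
    have h3 : ξ ∈ blockPull e B := hχ'B
    rw [blockOf_eq_of_mem h.1 hξ, blockOf_eq_of_mem (isPBlock_blockPull e hB) h3]
  · rintro rfl
    obtain ⟨χ₀, hχ₀⟩ := IsPBlock.nonempty hB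
    refine isInducedBlock_of_mem _ (isPBlock_blockPull e hB) hB (ξ := irrComp e χ₀) ((mem_blockPull e).mpr hχ₀) hχ₀ ?_
    intro g
    rw [hcc, sub_self]
    exact memLocalIdeal_zero

/-- The term of the section sum at the identity. -/
theorem finsum_centOne [M.IsPrime] {B : Set (IrrCharacter G)} (hB : IsPBlock M B) :
    ∑ᶠ b ∈ {b : Set (IrrCharacter (Subgroup.centralizer ({(1 : G)} : Set G))) |
      IsInducedBlock M (Subgroup.centralizer ({(1 : G)} : Set G)) b B}, blockRank p b = blockRank p B := by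
  have hset : {b : Set (IrrCharacter (Subgroup.centralizer ({(1 : G)} : Set G))) |
      IsInducedBlock M (Subgroup.centralizer ({(1 : G)} : Set G)) b B} =
      {blockPull (centOneEquiv G) B} := by
    ext b
    simp only [Set.mem_ofPred_eq, Set.mem_singleton_iff]
    exact isInducedBlock_centOne_iff hB
  rw [hset, finsum_mem_singleton, blockRank_blockPull]

/-- The section sum is at least one if a block induces `B`. -/
theorem one_le_finsum_induced [M.IsPrime] (H : Subgroup G) [Fintype H] {B : Set (IrrCharacter G)}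
    (h : ∃ b : Set (IrrCharacter H), IsInducedBlock M H b B) :
    1 ≤ ∑ᶠ b ∈ {b : Set (IrrCharacter H) | IsInducedBlock M H b B}, blockRank p b := by
  classical
  obtain ⟨b, hb⟩ := h
  have hfin : ({b : Set (IrrCharacter H) | IsInducedBlock M H b B}).Finite := Set.toFinite _
  rw [finsum_mem_eq_finite_toFinset_sum _ hfin]
  have h1 : b ∈ hfin.toFinset := by simpa using hb
  exact (one_le_blockRank (IsPBlock.nonempty hb.1)).trans
    (Finset.single_le_sum (f := fun b => blockRank p b) (fun _ _ => Nat.zero_le _) h1)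

/-- Each element of a defect group gives a section. -/
theorem exists_induced_of_mem_defect (hM : IsPModular p M) {B : Set (IrrCharacter G)} (hB : IsPBlock M B)
    {D : Subgroup G} (hD : IsDefectGroup p M B D) {x : G} (hx : x ∈ D) :
    ∃ b : Set (IrrCharacter (Subgroup.centralizer ({x} : Set G))),
      IsInducedBlock M (Subgroup.centralizer ({x} : Set G)) b B := by
  classical
  have := isPrime_of_modular hM
  obtain ⟨e, he⟩ := Cfsg.Agent.Lib.Char.BK.exists_isBrauerPairOf_of_isDefectGroup hM hB hD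
  have hQD : Subgroup.zpowers x ≤ D := (Subgroup.zpowers_le).mpr hx
  obtain ⟨f, hf, hle⟩ := exists_subpairLE hM he.1 (Subgroup.zpowers x) hQD
  have h1 := (isBrauerPairOf_iff_of_chain hM hle hB).mp he
  letI : Fintype (Subgroup.centralizer ((Subgroup.zpowers x : Subgroup G) : Set G)) := Fintype.ofFinite _
  have h2 := (isBrauerPairOf_iff hM h1.1.1 hf).mp h1
  have hcen := centralizer_zpowers_eq x
  have key : ∀ H : Subgroup G, H = Subgroup.centralizer ((Subgroup.zpowers x : Subgroup G) : Set G) → ∀ [Fintype H],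
      ∃ b : Set (IrrCharacter H), IsInducedBlock M H b B := by
    rintro H rfl _
    exact ⟨f, by convert h2⟩
  exact key _ hcen.symm

/-- Brauer's formula with the identity term separated. -/
theorem card_eq_rank_add [DecidableEq G] (hM : IsPModular p M) {B : Set (IrrCharacter G)} (hB : IsPBlock M B)
    (X : Finset G) (hX : ∀ x ∈ X, ∃ k, orderOf x = p ^ k)
    (hXrep : ∀ g : G, (∃ k, orderOf g = p ^ k) → ∃! x, x ∈ X ∧ IsConj g x) (h1X : (1 : G) ∈ X) :
    Nat.card B = blockRank p B + ∑ x ∈ X.erase 1, ∑ᶠ b ∈ {b : Set (IrrCharacter (Subgroup.centralizer ({x} : Set G))) |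
      IsInducedBlock M (Subgroup.centralizer ({x} : Set G)) b B}, blockRank p b := by
  classical
  have := isPrime_of_modular hM
  rw [card_block_eq_sum hM hB X hX hXrep, ← Finset.add_sum_erase X _ h1X, finsum_centOne hB]

theorem exists_reps_one : ∃ X : Finset G, (∀ x ∈ X, ∃ k, orderOf x = p ^ k) ∧
    (∀ g : G, (∃ k, orderOf g = p ^ k) → ∃! x, x ∈ X ∧ IsConj g x) ∧ (1 : G) ∈ X := by
  obtain ⟨X, hX, hXrep⟩ := exists_pElement_reps (G := G) p
  refine ⟨X, hX, hXrep, ?_⟩
  obtain ⟨x, ⟨hx, hc⟩, -⟩ := hXrep 1 ⟨0, by simp⟩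
  rw [isConj_one_right] at hc
  rwa [hc] at hx

/-- Each nontrivial element of a defect group has a representative with a positive term. -/
theorem exists_rep_of_mem_defect [DecidableEq G] (hM : IsPModular p M) {B : Set (IrrCharacter G)} (hB : IsPBlock M B)
    {D : Subgroup G} (hD : IsDefectGroup p M B D) (X : Finset G)
    (hXrep : ∀ g : G, (∃ k, orderOf g = p ^ k) → ∃! x, x ∈ X ∧ IsConj g x) {u : G} (hu : u ∈ D) (hu1 : u ≠ 1) :
    ∃ x ∈ X.erase 1, IsConj u x ∧ 1 ≤ ∑ᶠ b ∈ {b : Set (IrrCharacter (Subgroup.centralizer ({x} : Set G))) |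
      IsInducedBlock M (Subgroup.centralizer ({x} : Set G)) b B}, blockRank p b := by
  classical
  have := isPrime_of_modular hM
  have hDp := IsDefectGroup.isPGroup hD
  obtain ⟨k, hk⟩ := IsPGroup.iff_orderOf.mp hDp ⟨u, hu⟩
  rw [Subgroup.orderOf_mk] at hk
  obtain ⟨x, ⟨hx, hc⟩, -⟩ := hXrep u ⟨k, hk⟩
  have hx1 : x ≠ 1 := by
    rintro rfl
    exact hu1 (isConj_one_right.mp hc.symm)
  refine ⟨x, Finset.mem_erase.mpr ⟨hx1, hx⟩, hc, ?_⟩
  obtain ⟨g, rfl⟩ := isConj_iff.mp hc
  exact one_le_finsum_induced _ (exists_induced_of_mem_defect hM hB (IsDefectGroup.conj hD g) (conj_mem_conjS hu))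

/-- If `k(B) = l(B) + 1` then all nontrivial elements of a defect group are conjugate. -/
theorem conj_of_card_eq (hM : IsPModular p M) {B : Set (IrrCharacter G)} (hB : IsPBlock M B)
    {D : Subgroup G} (hD : IsDefectGroup p M B D) (hk : Nat.card B = blockRank p B + 1) :
    ∀ u ∈ D, ∀ v ∈ D, u ≠ 1 → v ≠ 1 → IsConj u v := by
  classical
  intro u hu v hv hu1 hv1
  obtain ⟨X, hX, hXrep, h1X⟩ := exists_reps_one (G := G) (p := p)
  have hsum := card_eq_rank_add hM hB X hX hXrep h1X
  rw [hk] at hsum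
  have hsum1 := (Nat.add_left_cancel hsum).symm
  obtain ⟨x, hx, hux, hFx⟩ := exists_rep_of_mem_defect hM hB hD X hXrep hu hu1
  obtain ⟨y, hy, hvy, hFy⟩ := exists_rep_of_mem_defect hM hB hD X hXrep hv hv1
  have hxy : x = y := by
    by_contra hne
    have h1 : ({x, y} : Finset G) ⊆ X.erase 1 := by
      intro z hz
      simp only [Finset.mem_insert, Finset.mem_singleton] at hz
      rcases hz with rfl | rfl
      · exact hx
      · exact hy
    have h2 := Finset.sum_le_sum_of_subset (f := fun x => ∑ᶠ b ∈ {b : Set (IrrCharacter (Subgroup.centralizer ({x} : Set G))) |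
      IsInducedBlock M (Subgroup.centralizer ({x} : Set G)) b B}, blockRank p b) h1
    rw [Finset.sum_pair hne, hsum1] at h2
    omega
  subst hxy
  exact hux.trans hvy.symm

/-- If the defect group is nontrivial then `l(B) < k(B)`. -/
theorem rank_succ_le_card (hM : IsPModular p M) {B : Set (IrrCharacter G)} (hB : IsPBlock M B)
    {D : Subgroup G} (hD : IsDefectGroup p M B D) {u : G} (hu : u ∈ D) (hu1 : u ≠ 1) :
    blockRank p B + 1 ≤ Nat.card B := by
  classical
  obtain ⟨X, hX, hXrep, h1X⟩ := exists_reps_one (G := G) (p := p)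
  have hsum := card_eq_rank_add hM hB X hX hXrep h1X
  obtain ⟨x, hx, -, hFx⟩ := exists_rep_of_mem_defect hM hB hD X hXrep hu hu1
  have h2 := Finset.single_le_sum (f := fun x => ∑ᶠ b ∈ {b : Set (IrrCharacter (Subgroup.centralizer ({x} : Set G))) |
      IsInducedBlock M (Subgroup.centralizer ({x} : Set G)) b B}, blockRank p b) (fun _ _ => Nat.zero_le _) hx
  rw [hsum]
  exact Nat.add_le_add_left (hFx.trans h2) _

end Formula

section Principal

variable {G : Type u} [Group G] [Fintype G] {M : Ideal AlgInt} {p : ℕ} [hp : Fact p.Prime]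

/-- If the principal block has rank one, the `p`-regular elements lie in a normal `p'`-subgroup. -/
theorem exists_kernel_of_rank_one (hM : IsPModular p M)
    (h : blockRank p (principalBlock M G) = 1) :
    ∃ K : Subgroup G, K.Normal ∧ ¬ p ∣ Nat.card K ∧ ∀ g : G, ¬ p ∣ orderOf g → g ∈ K := by
  classical
  have := isPrime_of_modular hM
  set v : G → ℂ := pRegularPart p (fun _ : G => (1 : ℂ)) with hv
  set S := Submodule.span ℂ ((fun χ : IrrCharacter G => pRegularPart p (χ : G → ℂ)) '' principalBlock M G) with hS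
  have hvS : v ∈ S := Submodule.subset_span ⟨oneIrr G, one_mem_principalBlock, rfl⟩
  have hv0 : (⟨v, hvS⟩ : S) ≠ 0 := by
    intro h0
    exact pRegularPart_one_ne_zero (congrArg Subtype.val h0)
  have hall := (finrank_eq_one_iff_of_nonzero' (⟨v, hvS⟩ : S) hv0).mp h
  have hreg1 : IsPRegular p (1 : G) := by
    show ¬ p ∣ orderOf (1 : G)
    rw [orderOf_one]
    exact hp.out.one_lt.ne' ∘ Nat.dvd_one.mp
  have hval : ∀ χ ∈ principalBlock M G, ∀ g : G, ¬ p ∣ orderOf g → (χ : G → ℂ) g = (χ : G → ℂ) 1 := by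
    intro χ hχ g hg
    have hmem : pRegularPart p (χ : G → ℂ) ∈ S := Submodule.subset_span ⟨χ, hχ, rfl⟩
    obtain ⟨c, hc⟩ := hall ⟨_, hmem⟩
    have h1 : c • v = pRegularPart p (χ : G → ℂ) := congrArg Subtype.val hc
    have h2 := congrFun h1 1
    have h3 := congrFun h1 g
    have hg' : IsPRegular p g := hg
    simp only [pRegularPart, hv, Pi.smul_apply, smul_eq_mul, if_pos hreg1, if_pos hg', mul_one] at h2 h3
    rw [← h3, h2]
  obtain ⟨K, hKn, hKset, hKp, -, -⟩ := exists_blockKer hM (isPBlock_principalBlock M G)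
    (one_mem_principalBlock (M := M) (G := G))
  refine ⟨K, hKn, hKp, fun g hg => ?_⟩
  have : g ∈ (K : Set G) := by
    rw [hKset]
    intro χ hχ
    exact hval χ hχ g hg
  exact this

/-- Conjugation as an isomorphism of the centralizers of elements. -/
def cenSingletonConj (g v : G) : Subgroup.centralizer ({v} : Set G) ≃* Subgroup.centralizer ({g * v * g⁻¹} : Set G) where
  toFun c := ⟨g * c * g⁻¹, by
    rw [Subgroup.mem_centralizer_singleton_iff]
    have h := Subgroup.mem_centralizer_singleton_iff.mp c.2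
    calc g * (c : G) * g⁻¹ * (g * v * g⁻¹) = g * ((c : G) * v) * g⁻¹ := by group
      _ = g * (v * c) * g⁻¹ := by rw [h]
      _ = _ := by group⟩
  invFun c := ⟨g⁻¹ * c * g, by
    rw [Subgroup.mem_centralizer_singleton_iff]
    have h := Subgroup.mem_centralizer_singleton_iff.mp c.2
    calc g⁻¹ * (c : G) * g * v = g⁻¹ * ((c : G) * (g * v * g⁻¹)) * g := by group
      _ = g⁻¹ * ((g * v * g⁻¹) * (c : G)) * g := by rw [h]
      _ = _ := by group⟩
  left_inv c := by
    apply Subtype.ext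
    simp [mul_assoc]
  right_inv c := by
    apply Subtype.ext
    simp [mul_assoc]
  map_mul' s t := by
    apply Subtype.ext
    simp [mul_assoc]

/-- **The principal block.** -/
theorem elementaryAbelian_principal (hM : IsPModular p M) {D : Subgroup G}
    (hD : IsDefectGroup p M (principalBlock M G) D)
    (hk : Nat.card (principalBlock M G) = blockRank p (principalBlock M G) + 1) :
    IsElementaryAbelian p D := by
  classical
  have := isPrime_of_modular hM
  letI : ∀ x : G, Fintype (Subgroup.centralizer ({x} : Set G)) := fun _ => Fintype.ofFinite _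
  have hB := isPBlock_principalBlock M G
  have hconj := conj_of_card_eq hM hB hD hk
  obtain ⟨S, rfl⟩ := (isDefectGroup_principal_iff hM D).mp hD
  refine isElementaryAbelian_of_conj_of_nil S hconj ?_
  intro v hv hv1
  obtain ⟨X, hX, hXrep, h1X⟩ := exists_reps_one (G := G) (p := p)
  have hsum := card_principal_eq_sum hM X hX hXrep
  rw [hk, ← Finset.add_sum_erase X _ h1X, blockRank_principal_equiv (centOneEquiv G)] at hsum
  have hsum1 := (Nat.add_left_cancel hsum).symm
  obtain ⟨x, hx, hvx, -⟩ := exists_rep_of_mem_defect hM hB hD X hXrep hv hv1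
  have h2 := Finset.single_le_sum
    (f := fun x => blockRank p (principalBlock M (Subgroup.centralizer ({x} : Set G))))
    (fun _ _ => Nat.zero_le _) hx
  rw [hsum1] at h2
  have h3 : blockRank p (principalBlock M (Subgroup.centralizer ({x} : Set G))) = 1 :=
    le_antisymm h2 (one_le_blockRank ⟨oneIrr _, one_mem_principalBlock⟩)
  obtain ⟨g, rfl⟩ := isConj_iff.mp hvx
  have h4 : blockRank p (principalBlock M (Subgroup.centralizer ({v} : Set G))) = 1 := by
    rw [blockRank_principal_equiv (cenSingletonConj g v)]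
    exact h3
  exact exists_kernel_of_rank_one hM h4

end Principal

section Rank

variable {G : Type u} [Group G] [Fintype G] {p : ℕ} (T : Subgroup G) [Fintype T]

/-- Truncation to the `p`-regular elements commutes with induction. -/
theorem pRegularPart_indFun (f : T → ℂ) :
    pRegularPart p (indFun T f) = indFun T (pRegularPart p f) := by
  classical
  funext g
  have hreg : ∀ x : G, IsPRegular p (x⁻¹ * g * x) ↔ IsPRegular p g := by
    intro x
    have h1 : orderOf (x⁻¹ * g * x) = orderOf g := by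
      have := orderOf_injective (MulAut.conj x⁻¹).toMonoidHom (MulAut.conj x⁻¹).injective g
      simpa using this
    show ¬ p ∣ orderOf (x⁻¹ * g * x) ↔ ¬ p ∣ orderOf g
    rw [h1]
  have hext : ∀ y : G, extendByZero T (pRegularPart p f) y =
      if IsPRegular p y then extendByZero T f y else 0 := by
    intro y
    by_cases hy : y ∈ T
    · rw [extendByZero_of_mem _ _ hy, extendByZero_of_mem _ _ hy]
      simp only [pRegularPart]
      have h1 : IsPRegular p (⟨y, hy⟩ : T) ↔ IsPRegular p y := by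
        show ¬ p ∣ orderOf (⟨y, hy⟩ : T) ↔ ¬ p ∣ orderOf y
        rw [Subgroup.orderOf_mk]
      simp only [h1]
    · rw [extendByZero_of_notMem _ _ hy, extendByZero_of_notMem _ _ hy]
      simp
  simp only [pRegularPart, indFun_apply, hext, hreg]
  by_cases hg : IsPRegular p g
  · simp [hg]
  · simp [hg]

/-- The regular rank does not increase under a surjective induction. -/
theorem blockRank_le_of_induced {B : Set (IrrCharacter G)} {B' : Set (IrrCharacter T)}
    (hmem : ∀ χ : IrrCharacter G, χ ∈ B → ∃ ψ ∈ B', (χ : G → ℂ) = indFun T (ψ : T → ℂ)) :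
    blockRank p B ≤ blockRank p B' := by
  classical
  let Λ : (T → ℂ) →ₗ[ℂ] (G → ℂ) :=
    { toFun := indFun T
      map_add' := indFun_add T
      map_smul' := indFun_smul T }
  rw [blockRank, blockRank]
  have h1 : Submodule.span ℂ ((fun χ : IrrCharacter G => pRegularPart p (χ : G → ℂ)) '' B) ≤
      (Submodule.span ℂ ((fun χ : IrrCharacter T => pRegularPart p (χ : T → ℂ)) '' B')).map Λ := by
    rw [Submodule.span_le]
    rintro _ ⟨χ, hχ, rfl⟩
    obtain ⟨ψ, hψ, h2⟩ := hmem χ hχ
    refine ⟨pRegularPart p (ψ : T → ℂ), Submodule.subset_span ⟨ψ, hψ, rfl⟩, ?_⟩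
    show indFun T (pRegularPart p (ψ : T → ℂ)) = pRegularPart p (χ : G → ℂ)
    rw [h2, pRegularPart_indFun]
  exact (Submodule.finrank_mono h1).trans (Submodule.finrank_map_le Λ _)

end Rank

section GT2

variable {G : Type u} [Group G] [Finite G] {p : ℕ} [hp : Fact p.Prime]

/-- In a `p`-solvable group a Sylow subgroup all of whose nontrivial elements are conjugate is
abelian. -/
theorem comm_of_conj_of_pSolvable (hsolv : IsPSolvable p G) (P : Sylow p G)
    (hconj : ∀ u ∈ (P : Subgroup G), ∀ v ∈ (P : Subgroup G), u ≠ 1 → v ≠ 1 → IsConj u v) :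
    ∀ u ∈ (P : Subgroup G), ∀ v ∈ (P : Subgroup G), u * v = v * u := by
  classical
  letI : Fintype G := Fintype.ofFinite G
  have hPp : IsPGroup p (P : Subgroup G) := P.isPGroup'
  by_cases hP : ∀ x ∈ (P : Subgroup G), x = 1
  · intro u hu v hv
    rw [hP u hu, hP v hv]
  push Not at hP
  obtain ⟨x₀, hx₀, hx₀1⟩ := hP
  set N := pPrimeCore p G with hN
  haveI hNn : N.Normal := Cfsg.Agent.Lib.Basic.pPrimeCore_normal p
  have hNp : ¬ p ∣ Nat.card N := by
    have h1 := Cfsg.Agent.Lib.Basic.pPrimeCore_coprime (G := G) p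
    intro h2
    have h3 := Nat.dvd_gcd h2 (dvd_refl p)
    rw [Nat.Coprime.gcd_eq_one h1] at h3
    exact hp.out.one_lt.ne' (Nat.dvd_one.mp h3)
  have hPN : ∀ x ∈ (P : Subgroup G), x ∈ N → x = 1 := by
    intro x hx hxN
    obtain ⟨k, hk⟩ := IsPGroup.iff_orderOf.mp hPp ⟨x, hx⟩
    rw [Subgroup.orderOf_mk] at hk
    have h1 : orderOf x ∣ Nat.card N := by
      have := orderOf_dvd_natCard (⟨x, hxN⟩ : N)
      rwa [Subgroup.orderOf_mk] at this
    have h3 : k = 0 := by
      by_contra h4
      apply hNp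
      rw [hk] at h1
      exact (dvd_pow_self p h4).trans h1
    rw [h3, pow_zero, orderOf_eq_one_iff] at hk
    exact hk
  set L := pPrimePCore p G with hL
  haveI hLn : L.Normal := by
    rw [hL, pPrimePCore]
    exact Subgroup.Normal.comap (Cfsg.Agent.Lib.Basic.pCore_normal p) _
  obtain ⟨k, hk⟩ := relIndex_pPrimeCore (p := p) (G := G)
  have hNL : N ≤ L := pPrimeCore_le_pPrimePCore
  -- a nontrivial element in `P ⊓ L`
  have hnot : ¬ (p : ℕ) ∣ ((P : Subgroup G) ⊓ L).relIndex L := fh_not_dvd_relIndex P L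
  have hw : ∃ w ∈ (P : Subgroup G) ⊓ L, w ≠ 1 := by
    by_contra hcon
    push Not at hcon
    have hbot : (P : Subgroup G) ⊓ L = ⊥ := by
      rw [eq_bot_iff]
      intro w hw
      exact (Subgroup.mem_bot).mpr (hcon w hw)
    rw [hbot, Subgroup.relIndex_bot_left] at hnot
    have hLN : L ≤ N := Cfsg.Agent.Lib.Basic.le_pPrimeCore hLn (by
      exact (Nat.Prime.coprime_iff_not_dvd hp.out).mpr hnot |>.symm)
    have hsolv' : IsPSolvable p (G ⧸ N) :=
      Cfsg.Agent.Lib.Coprime.isPSolvable_map (QuotientGroup.mk' N) (QuotientGroup.mk'_surjective N) hsolv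
    have hbot2 : pPrimeCore p (G ⧸ N) = ⊥ := Cfsg.Agent.Lib.Basic.pPrimeCore_quotient_eq_bot p
    have hC := Cfsg.Agent.Lib.Char.centralizer_pCore_le_of_isPSolvable hsolv' hbot2
    have hcore : pCore p (G ⧸ N) = ⊥ := by
      rw [eq_bot_iff]
      intro y hy
      obtain ⟨g, rfl⟩ := QuotientGroup.mk'_surjective N y
      have hg : g ∈ L := hy
      exact (Subgroup.mem_bot).mpr ((QuotientGroup.eq_one_iff g).mpr (hLN hg))
    have hx₀N : x₀ ∈ N := by
      have h1 : QuotientGroup.mk' N x₀ ∈ Subgroup.centralizer (pCore p (G ⧸ N) : Set (G ⧸ N)) := by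
        rw [Subgroup.mem_centralizer_iff]
        intro y hy
        have hy1 : y = 1 := by
          rw [hcore] at hy
          exact (Subgroup.mem_bot).mp hy
        rw [hy1, one_mul, mul_one]
      have h2 := hC h1
      rw [hcore] at h2
      exact (QuotientGroup.eq_one_iff x₀).mp ((Subgroup.mem_bot).mp h2)
    exact hx₀1 (hPN x₀ hx₀ hx₀N)
  obtain ⟨w, hw, hw1⟩ := hw
  have hPL : (P : Subgroup G) ≤ L := by
    intro y hy
    by_cases hy1 : y = 1
    · rw [hy1]
      exact L.one_mem
    · obtain ⟨c, hc⟩ := isConj_iff.mp (hconj w hw.1 y hy hw1 hy1)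
      rw [← hc]
      exact hLn.conj_mem w hw.2 c
  -- `L = P N`
  have hLT : L ≤ (P : Subgroup G) ⊔ N := by
    set T := (P : Subgroup G) ⊔ N with hT
    have hTL : T ≤ L := sup_le hPL hNL
    have h2 : N.relIndex T * T.relIndex L = N.relIndex L :=
      Subgroup.relIndex_mul_relIndex N T L le_sup_right hTL
    have h1 : ((P : Subgroup G) ⊓ L).relIndex T * T.relIndex L = ((P : Subgroup G) ⊓ L).relIndex L :=
      Subgroup.relIndex_mul_relIndex _ T L (inf_le_left.trans le_sup_left) hTL
    have h3 : T.relIndex L ∣ p ^ k := ⟨N.relIndex T, by rw [← hk, ← h2, mul_comm]⟩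
    obtain ⟨j, -, hj⟩ := (Nat.dvd_prime_pow hp.out).mp h3
    have h4 : j = 0 := by
      by_contra h0
      apply hnot
      rw [← h1, hj]
      exact Dvd.dvd.mul_left (dvd_pow_self p h0) _
    rw [h4, pow_zero] at hj
    exact Subgroup.relIndex_eq_one.mp hj
  -- the central element
  haveI : Nontrivial (P : Subgroup G) := ⟨⟨⟨x₀, hx₀⟩, 1, fun h => hx₀1 (congrArg Subtype.val h)⟩⟩
  haveI := hPp.center_nontrivial
  obtain ⟨z, hz⟩ := exists_ne (1 : Subgroup.center (P : Subgroup G))
  set z₀ : G := ((z : (P : Subgroup G)) : G) with hz₀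
  have hz₀P : z₀ ∈ (P : Subgroup G) := (z : (P : Subgroup G)).2
  have hz₀1 : z₀ ≠ 1 := by
    intro h
    apply hz
    exact Subtype.ext (Subtype.ext h)
  have hz₀c : ∀ u ∈ (P : Subgroup G), u * z₀ = z₀ * u := by
    intro u hu
    have h1 := (Subgroup.mem_center_iff.mp z.2) ⟨u, hu⟩
    exact congrArg Subtype.val h1
  intro y hy x hx
  by_cases hy1 : y = 1
  · rw [hy1, one_mul, mul_one]
  obtain ⟨g, hg⟩ := isConj_iff.mp (hconj z₀ hz₀P y hy hz₀1 hy1)
  have hxL : g⁻¹ * x * g ∈ (P : Subgroup G) ⊔ N := by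
    apply hLT
    have := hLn.conj_mem x (hPL hx) g⁻¹
    simpa using this
  have hxL' : g⁻¹ * x * g ∈ ((((P : Subgroup G) ⊔ N : Subgroup G)) : Set G) := hxL
  rw [Subgroup.mul_normal (P : Subgroup G) N] at hxL'
  obtain ⟨a, ha, n, hn, han⟩ := hxL'
  have hn' : n ∈ N := hn
  have hzn : z₀ * n * z₀⁻¹ * n⁻¹ ∈ N :=
    N.mul_mem (hNn.conj_mem n hn' z₀) (N.inv_mem hn')
  have hazn : a * (z₀ * n * z₀⁻¹ * n⁻¹) * a⁻¹ ∈ N := hNn.conj_mem _ hzn a
  have hform : g⁻¹ * (y * x * y⁻¹ * x⁻¹) * g = a * (z₀ * n * z₀⁻¹ * n⁻¹) * a⁻¹ := by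
    have e1 : g⁻¹ * y * g = z₀ := by
      rw [← hg]
      group
    have e2 : g⁻¹ * x * g = a * n := han.symm
    have e3 : g⁻¹ * (y * x * y⁻¹ * x⁻¹) * g =
        (g⁻¹ * y * g) * (g⁻¹ * x * g) * (g⁻¹ * y * g)⁻¹ * (g⁻¹ * x * g)⁻¹ := by group
    rw [e3, e1, e2]
    have e4 : z₀ * a = a * z₀ := (hz₀c a ha).symm
    calc z₀ * (a * n) * z₀⁻¹ * (a * n)⁻¹ = (z₀ * a) * n * z₀⁻¹ * n⁻¹ * a⁻¹ := by group
      _ = (a * z₀) * n * z₀⁻¹ * n⁻¹ * a⁻¹ := by rw [e4]
      _ = _ := by group
  have hcN : y * x * y⁻¹ * x⁻¹ ∈ N := by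
    have h1 : g⁻¹ * (y * x * y⁻¹ * x⁻¹) * g ∈ N := by
      rw [hform]
      exact hazn
    have h2 := hNn.conj_mem _ h1 g
    simpa [mul_assoc] using h2
  have hcP : y * x * y⁻¹ * x⁻¹ ∈ (P : Subgroup G) :=
    Subgroup.mul_mem _ (Subgroup.mul_mem _ (Subgroup.mul_mem _ hy hx) (Subgroup.inv_mem _ hy)) (Subgroup.inv_mem _ hx)
  have h1 := hPN _ hcP hcN
  rw [mul_inv_eq_one, mul_inv_eq_iff_eq_mul] at h1
  exact h1

end GT2

section Transport

variable {G H : Type u} [Group G] [Group H] {p : ℕ}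

theorem IsElementaryAbelian.map_hom {A : Subgroup H} (hA : IsElementaryAbelian p A) (f : H →* G) :
    IsElementaryAbelian p (A.map f) := by
  obtain ⟨⟨⟨hc⟩⟩, hpow⟩ := hA
  refine ⟨⟨⟨?_⟩⟩, ?_⟩
  · rintro ⟨_, a, ha, rfl⟩ ⟨_, b, hb, rfl⟩
    apply Subtype.ext
    show f a * f b = f b * f a
    rw [← map_mul, ← map_mul]
    have := hc ⟨a, ha⟩ ⟨b, hb⟩
    rw [show a * b = b * a from congrArg Subtype.val this]
  · rintro _ ⟨a, ha, rfl⟩
    rw [← map_pow, hpow a ha, map_one]

end Transport

section PSolvable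

variable {p : ℕ} [hp : Fact p.Prime]

/-- **The `p`-solvable case.** -/
theorem elementaryAbelian_pSolvable_aux (n : ℕ) : ∀ (G : Type u) [Group G] [Fintype G], Nat.card G = n →
    IsPSolvable p G → ∀ M : Ideal AlgInt, IsPModular p M → ∀ B : Set (IrrCharacter G), IsPBlock M B →
    ∀ D : Subgroup G, IsDefectGroup p M B D → Nat.card B = blockRank p B + 1 → IsElementaryAbelian p D := by
  induction n using Nat.strong_induction_on with
  | _ n ih =>
  intro G _ _ hn hsolv M hM B hB D hD hk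
  classical
  have := isPrime_of_modular hM
  letI : ∀ x : G, Fintype (Subgroup.centralizer ({x} : Set G)) := fun _ => Fintype.ofFinite _
  have hDp := IsDefectGroup.isPGroup hD
  have hconj := conj_of_card_eq hM hB hD hk
  by_cases hDt : ∀ x ∈ D, x = 1
  · refine isElementaryAbelian_of_conj_of_comm D hDp hconj ?_
    intro u hu v hv
    rw [hDt u hu, hDt v hv]
  push Not at hDt
  obtain ⟨u, hu, hu1⟩ := hDt
  set N := pPrimeCore p G with hN
  haveI hNn : N.Normal := Cfsg.Agent.Lib.Basic.pPrimeCore_normal p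
  letI : Fintype N := Fintype.ofFinite _
  have hNp : ¬ p ∣ Nat.card N := by
    have h1 := Cfsg.Agent.Lib.Basic.pPrimeCore_coprime (G := G) p
    intro h2
    have h3 := Nat.dvd_gcd h2 (dvd_refl p)
    rw [Nat.Coprime.gcd_eq_one h1] at h3
    exact hp.out.one_lt.ne' (Nat.dvd_one.mp h3)
  obtain ⟨χ₀, hχ₀⟩ := IsPBlock.nonempty hB
  obtain ⟨θ, hθ, hne⟩ := Cfsg.Agent.Lib.Char.exists_constituent (isCharacter_resFun N (IsIrrCharacter.isCharacter χ₀.2))
    (by
      show (χ₀ : G → ℂ) 1 ≠ 0
      exact IsIrrCharacter.apply_one_ne_zero χ₀.2)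
  let θ' : IrrCharacter N := ⟨θ, hθ⟩
  let b : Set (IrrCharacter N) := {θ'}
  have hb : IsPBlock M b := by
    have h1 := blockOf_singleton_of_coprime hM hNp θ'
    show IsPBlock M {θ'}
    rw [← h1]
    exact isPBlock_blockOf θ'
  let T := blockStab N b
  have hNT : N ≤ T := le_blockStab N b
  have hT : ∀ x, x ∈ T ↔ ∀ θ ∈ b, conjIrr N x θ ∈ b := fun x => Iff.rfl
  have hcov : ∃ χ ∈ B, ∃ θ ∈ b, classInner (fun n : N => (χ : G → ℂ) n) (θ : N → ℂ) ≠ 0 :=
    ⟨χ₀, hχ₀, θ', rfl, hne⟩
  by_cases htop : T = ⊤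
  · -- the invariant case
    have hinv : ∀ (g : G) (n : N), (θ' : N → ℂ) ⟨g * n * g⁻¹, hNn.conj_mem n n.2 g⟩ = (θ' : N → ℂ) n := by
      intro g n
      have hg : g⁻¹ ∈ T := by
        rw [htop]
        trivial
      have h1 : conjIrr N g⁻¹ θ' ∈ b := (hT _).mp hg θ' rfl
      have h2 : conjIrr N g⁻¹ θ' = θ' := h1
      have h3 := congrFun (congrArg Subtype.val h2) n
      simp only [conjIrr_coe, conjFun_apply, inv_inv] at h3
      exact h3
    obtain ⟨B₁, hB₁, hmem, -, hSyl⟩ := fong_pSolvable hM hsolv N rfl θ' hinv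
    have hχ₁ : χ₀ ∈ B₁ := (hmem χ₀).mpr hne
    have hBB : B = B₁ := by
      rw [blockOf_eq_of_mem hB hχ₀, blockOf_eq_of_mem hB₁ hχ₁]
    rw [hBB] at hD
    obtain ⟨S, rfl⟩ := hSyl D hD
    exact isElementaryAbelian_of_conj_of_comm _ hDp hconj (comm_of_conj_of_pSolvable hsolv S hconj)
  · -- descent to the inertia group
    letI : Fintype T := Fintype.ofFinite _
    obtain ⟨B', hB', hc', hind⟩ := fr_surj N hNT hb hT hB hcov
    obtain ⟨C, hC, -, hirr, hmem⟩ := fr_main N hNT hb hT hB' hc'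
    have e0 := IsInducedBlock.unique T hC hind
    rw [e0] at hmem
    obtain ⟨D', hD'⟩ := IsPBlock.exists_isDefectGroup hM hB'
    have hDmap := isDefectGroup_induced_of_fr hM hB' hind hirr hmem hD'
    obtain ⟨y, hy⟩ := IsDefectGroup.exists_conj_eq hM hB hDmap hD
    -- a nontrivial element of `D'`
    have hu' : ∃ v ∈ D', v ≠ 1 := by
      rw [hy] at hu
      have h1 := mem_conjS.mp hu
      obtain ⟨v, hv, hv2⟩ := h1
      refine ⟨v, hv, ?_⟩
      rintro rfl
      apply hu1
      have h2 : y⁻¹ * u * y = 1 := by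
        rw [← hv2]
        rfl
      have h3 : u = y * (y⁻¹ * u * y) * y⁻¹ := by group
      rw [h3, h2]
      group
    obtain ⟨v, hv, hv1⟩ := hu'
    letI : ∀ x : T, Fintype (Subgroup.centralizer ({x} : Set T)) := fun _ => Fintype.ofFinite _
    have hle := rank_succ_le_card hM hB' hD' hv hv1
    have hrank : blockRank p B ≤ blockRank p B' := by
      apply blockRank_le_of_induced T
      intro χ hχ
      exact (hmem χ).mp hχ
    have hover : ∀ ψ ∈ B', classInner (resTN N hNT (ψ : T → ℂ)) (θ' : N → ℂ) ≠ 0 := by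
      intro ψ hψ
      obtain ⟨ψ₀, hψ₀, θ₀, hθ₀, h₀⟩ := hc'
      obtain ⟨θ₁, hθ₁, h₁⟩ := Cfsg.Agent.Lib.Char.exists_constituent
        (isCharacter_resTN N hNT (IsIrrCharacter.isCharacter ψ.2))
        (by
          show (ψ : T → ℂ) 1 ≠ 0
          exact IsIrrCharacter.apply_one_ne_zero ψ.2)
      have h2 := mem_of_sameBlock_over N hNT hb hT (sameBlock_of_mem hB' hψ₀ hψ) hθ₀ h₀
        (θ₁ := ⟨θ₁, hθ₁⟩) h₁
      have h3 : (⟨θ₁, hθ₁⟩ : IrrCharacter N) = θ' := h2
      rw [← h3]
      exact h₁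
    have hcard : Nat.card B' ≤ Nat.card B := by
      let f : B' → B := fun ψ => ⟨⟨_, hirr ψ.1 ψ.2⟩, (hmem _).mpr ⟨ψ.1, ψ.2, rfl⟩⟩
      refine Nat.card_le_card_of_injective f ?_
      intro ψ τ h
      have h1 : indFun T ((ψ.1 : IrrCharacter T) : T → ℂ) = indFun T ((τ.1 : IrrCharacter T) : T → ℂ) :=
        congrArg (fun x : B => ((x.1 : IrrCharacter G) : G → ℂ)) h
      exact Subtype.ext (fr_inj_block N hNT hb hT rfl rfl (hover ψ.1 ψ.2) (hover τ.1 τ.2) h1)
    have hk' : Nat.card B' = blockRank p B' + 1 := by omega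
    have hlt : Nat.card T < n := by
      rw [← hn]
      refine lt_of_le_of_ne (Subgroup.card_le_card_group T) ?_
      intro h
      exact htop ((Subgroup.card_eq_iff_eq_top T).mp h)
    have hres := ih _ hlt T rfl (Cfsg.Agent.Lib.Char.isPSolvable_subgroup hsolv T) M hM B' hB' D' hD' hk'
    rw [hy]
    exact IsElementaryAbelian.map_hom (IsElementaryAbelian.map_hom hres T.subtype) _

end PSolvable

section Main

/-- The final statement. -/
theorem elementaryAbelian_of_card_eq {G : Type u} [Group G] [Finite G] (p : ℕ) [Fact p.Prime]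
    (M : Ideal AlgInt) (hM : IsPModular p M) (B : Set (IrrCharacter G)) (hB : IsPBlock M B)
    (D : Subgroup G) (hD : IsDefectGroup p M B D) (hk : Nat.card B = blockRank p B + 1)
    (hB0 : B = principalBlock M G ∨ IsPSolvable p G) : IsElementaryAbelian p D := by
  classical
  letI : Fintype G := Fintype.ofFinite G
  rcases hB0 with rfl | hsolv
  · exact elementaryAbelian_principal hM hD hk
  · exact elementaryAbelian_pSolvable_aux _ G rfl hsolv M hM B hB D hD hk

end Main

end Cfsg.Agent.Lib.H8Group
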