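import Cfsg.Agent.Lib.Blocks.Third
import Cfsg.Agent.Lib.Blocks.Height
import Cfsg.Agent.Lib.Blocks.Section

/-!
# A trace lemma on regular central elements in the radical of a block

If `r` is a central element with local coefficients, supported on the `p`-regular elements, living in
the block `B` and with all central characters in the local ideal, then its coefficient at `1`
is divisible by `p^(a-d)` times an element of the local ideal.
-/

set_option autoImplicit false
set_option linter.unusedSectionVars false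
set_option linter.style.haveILetI false

namespace Cfsg.Agent.Lib.H8Group

open Cfsg Cfsg.Agent.Lib.Char Cfsg.Agent.Lib.Blocks
open scoped ComplexConjugate

universe u

section Pow

variable {G : Type u} [Group G] [Fintype G] {M : Ideal AlgInt} {p : ℕ} [hp : Fact p.Prime]

/-- A central element with all central characters in the local ideal is nilpotent modulo the ideal. -/
theorem exists_coef_pow_memLocalIdeal (hM : IsPModular p M) {c : IrrCharacter G → ℂ}
    (hc : ∀ χ, MemLocalIdeal M (c χ)) :
    ∃ N₀ : ℕ, ∀ N, N₀ ≤ N → ∀ x, MemLocalIdeal M (coef (c ^ N) x) := by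
  classical
  haveI := isPrime_of_modular hM
  have hpp : p.Prime := hp.out
  choose Q r hr hQ using fun χ => exists_pow_eq_p_mul hM (hc χ)
  set A := (Nat.card G).factorization p with hA
  refine ⟨(A + 1) * ∑ χ, Q χ, fun N hN x => ?_⟩
  have hpow : ∀ χ, ∃ t, MemLocalRing M t ∧ (c χ) ^ N = (p : ℂ) ^ (A + 1) * t := by
    intro χ
    have h1 : (A + 1) * Q χ ≤ N := by
      refine le_trans (Nat.mul_le_mul_left _ ?_) hN
      exact Finset.single_le_sum (f := Q) (fun _ _ => Nat.zero_le _) (Finset.mem_univ χ)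
    obtain ⟨k, hk⟩ := Nat.exists_eq_add_of_le h1
    refine ⟨r χ ^ (A + 1) * (c χ) ^ k, MemLocalRing.mul (MemLocalRing.pow (hr χ) _)
      (MemLocalRing.pow (MemLocalIdeal.memLocalRing (hc χ)) k), ?_⟩
    rw [hk, pow_add, mul_comm (A + 1), pow_mul, hQ χ, mul_pow, mul_assoc]
  choose t ht hpt using hpow
  -- the `p'`-part of the order
  have hPm := Nat.ordProj_mul_ordCompl_eq_self (Nat.card G) p
  set m := Nat.card G / p ^ A with hm
  have hcop : ¬ p ∣ m := Nat.not_dvd_ordCompl hpp Nat.card_pos.ne'
  have hcard : (Nat.card G : ℂ) = (p : ℂ) ^ A * (m : ℂ) := by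
    conv_lhs => rw [← hPm]
    push_cast
    ring
  have hp0 : (p : ℂ) ≠ 0 := by exact_mod_cast hpp.ne_zero
  have hm0 : (m : ℂ) ≠ 0 := natCast_ne_zero_of_not_dvd hcop
  have hform : coef (c ^ N) x = (p : ℂ) * ((m : ℂ)⁻¹ *
      ∑ χ : IrrCharacter G, t χ * ((χ : G → ℂ) 1 * conj ((χ : G → ℂ) x))) := by
    simp only [coef, Pi.pow_apply, hpt, hcard]
    rw [Finset.mul_sum, Finset.mul_sum, Finset.mul_sum]
    refine Finset.sum_congr rfl fun χ _ => ?_
    field_simp
    ring
  rw [hform]
  refine MemLocalIdeal.mul_right (p_memLocalIdeal hM) (MemLocalRing.mul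
    (inv_natCast_memLocalRing hM hcop) (MemLocalRing.sum _ fun χ _ => MemLocalRing.mul (ht χ)
      (MemLocalRing.mul (memLocalRing_of_isIntegral (irr_isIntegral χ 1)) ?_)))
  rw [← irr_apply_inv]
  exact memLocalRing_of_isIntegral (irr_isIntegral χ x⁻¹)

/-- The freshman's dream for finite sums in the local ring. -/
theorem sum_pow_prime_pow_congr [M.IsPrime] {ι : Type*} (s : Finset ι) (f : ι → ℂ)
    (hf : ∀ i ∈ s, MemLocalRing M (f i)) (n : ℕ) :
    ∃ r, MemLocalRing M r ∧ (∑ i ∈ s, f i) ^ (p ^ n) = ∑ i ∈ s, f i ^ (p ^ n) + (p : ℂ) * r := by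
  classical
  have hpp : p.Prime := hp.out
  induction s using Finset.induction_on with
  | empty =>
    refine ⟨0, memLocalRing_zero, ?_⟩
    simp only [Finset.sum_empty, mul_zero, add_zero]
    exact zero_pow (pow_pos hpp.pos n).ne'
  | insert a s ha ih =>
    obtain ⟨r, hr, h1⟩ := ih (fun i hi => hf i (Finset.mem_insert_of_mem hi))
    have hsS : MemLocalRing M (∑ i ∈ s, f i) :=
      MemLocalRing.sum _ fun i hi => hf i (Finset.mem_insert_of_mem hi)
    have haS := hf a (Finset.mem_insert_self a s)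
    let x : locRing M := ⟨f a, haS⟩
    let y : locRing M := ⟨∑ i ∈ s, f i, hsS⟩
    obtain ⟨q, hq⟩ := exists_add_pow_prime_pow_eq hpp x y n
    have h2 := congrArg Subtype.val hq
    simp only [Subring.coe_add, Subring.coe_pow, Subring.coe_mul, Subring.coe_natCast, x, y] at h2
    refine ⟨r + f a * (∑ i ∈ s, f i) * q, MemLocalRing.add hr
      (MemLocalRing.mul (MemLocalRing.mul haS hsS) q.2), ?_⟩
    rw [Finset.sum_insert ha, Finset.sum_insert ha, h2, h1]
    ring

/-- Sum over words of length `L`, with product `x`. -/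
noncomputable def wordSum (y : G → ℂ) (L : ℕ) (x : G) : ℂ :=
  open scoped Classical in
  ∑ W : Fin L → G, (∏ i, y (W i)) * (if wProd W = x then 1 else 0)

theorem wordSum_zero (y : G → ℂ) (x : G) :
    open scoped Classical in wordSum y 0 x = if x = 1 then 1 else 0 := by
  classical
  simp [wordSum, wProd, eq_comm]

theorem wordSum_succ (y : G → ℂ) (L : ℕ) (x : G) :
    wordSum y (L + 1) x = ∑ t, wordSum y L t * y (t⁻¹ * x) := by
  classical
  simp only [wordSum]
  rw [← (Fin.snocEquiv (fun _ : Fin (L + 1) => G)).sum_comp, Fintype.sum_prod_type]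
  have h1 : ∀ (v : G) (W' : Fin L → G),
      (∏ i, y ((Fin.snocEquiv (fun _ : Fin (L + 1) => G)) (v, W') i)) *
        (if wProd ((Fin.snocEquiv (fun _ : Fin (L + 1) => G)) (v, W')) = x then 1 else 0) =
      y v * ((∏ i, y (W' i)) * (if wProd W' * v = x then 1 else 0)) := by
    intro v W'
    have h2 : ∀ i : Fin L, (Fin.snocEquiv (fun _ : Fin (L + 1) => G)) (v, W') i.castSucc = W' i := by
      intro i
      simp [Fin.snocEquiv]
    have h3 : (Fin.snocEquiv (fun _ : Fin (L + 1) => G)) (v, W') (Fin.last L) = v := by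
      simp [Fin.snocEquiv]
    rw [Fin.prod_univ_castSucc, wProd]
    simp only [h2, h3]
    ring
  simp only [h1]
  have hL : ∑ v : G, ∑ W' : Fin L → G, y v * ((∏ i, y (W' i)) * (if wProd W' * v = x then 1 else 0)) =
      ∑ W' : Fin L → G, (∏ i, y (W' i)) * y ((wProd W')⁻¹ * x) := by
    rw [Finset.sum_comm]
    refine Finset.sum_congr rfl fun W' _ => ?_
    rw [Finset.sum_eq_single ((wProd W')⁻¹ * x)]
    · simp only [mul_inv_cancel_left, if_true, mul_one]
      ring
    · intro b _ hb
      have : wProd W' * b ≠ x := by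
        intro h
        apply hb
        rw [← h]
        group
      simp [this]
    · simp
  have hR : ∑ t : G, (∑ W : Fin L → G, (∏ i, y (W i)) * (if wProd W = t then 1 else 0)) * y (t⁻¹ * x) =
      ∑ W' : Fin L → G, (∏ i, y (W' i)) * y ((wProd W')⁻¹ * x) := by
    simp only [Finset.sum_mul]
    rw [Finset.sum_comm]
    refine Finset.sum_congr rfl fun W' _ => ?_
    rw [Finset.sum_eq_single (wProd W')]
    · simp
    · intro b _ hb
      rw [if_neg (Ne.symm hb)]
      simp
    · simp
  rw [hL, hR]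

/-- The word sums of a translate of a central element. -/
theorem wordSum_translate (d : IrrCharacter G → ℂ) (g : G) (L : ℕ) (x : G) :
    wordSum (fun u => coef d (g⁻¹ * u)) L x = coef (d ^ L) (x * (g ^ L)⁻¹) := by
  classical
  induction L generalizing x with
  | zero =>
    rw [wordSum_zero, pow_zero, coef_one]
    simp
  | succ L ih =>
    rw [wordSum_succ, pow_succ, coef_mul, conv]
    rw [← Equiv.sum_comp (Equiv.mulRight (g ^ L)) (fun t => wordSum (fun u => coef d (g⁻¹ * u)) L t *
      coef d (g⁻¹ * (t⁻¹ * x)))]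
    refine Finset.sum_congr rfl fun v _ => ?_
    simp only [Equiv.coe_mulRight]
    rw [ih, mul_inv_cancel_right]
    congr 1
    have hcl : IsClassFunction G (coef d) := coef_isClassFunction d
    have h2 : g⁻¹ * ((v * g ^ L)⁻¹ * x) = (g ^ (L + 1))⁻¹ * (v⁻¹ * x) := by
      rw [pow_succ']
      group
    rw [h2]
    have h3 : v⁻¹ * (x * (g ^ (L + 1))⁻¹) = (g ^ (L + 1)) * ((g ^ (L + 1))⁻¹ * (v⁻¹ * x)) * (g ^ (L + 1))⁻¹ := by
      group
    rw [h3]
    exact (hcl _ _).symm

/-- Weights on periodic sequences. -/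
noncomputable def wtP (y : G → ℂ) {L : ℕ} (u : TwSeq (1 : G) L) : ℂ :=
  open scoped Classical in
  (∏ i ∈ Finset.range L, y (u.1 i)) * (if twProd u.1 L = 1 then 1 else 0)

theorem twSeq_one_add {L : ℕ} (u : TwSeq (1 : G) L) (i : ℤ) : u.1 (i + L) = u.1 i := by
  have := u.2 i
  simpa using this

theorem wtP_shift (y : G → ℂ) {L : ℕ} (hL : 0 < L) (u : TwSeq (1 : G) L) :
    wtP y (twShiftFun 1 u) = wtP y u := by
  classical
  obtain ⟨L', rfl⟩ : ∃ L', L = L' + 1 := ⟨L - 1, by omega⟩
  rw [wtP, wtP]
  congr 1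
  · rw [Finset.prod_range_succ, Finset.prod_range_succ']
    have h1 : y ((twShiftFun 1 u).1 (L' : ℕ)) = y (u.1 0) := by
      have h2 := twSeq_one_add u 0
      simp only [zero_add] at h2
      simp only [twShiftFun_apply]
      have h3 : ((L' : ℕ) : ℤ) + 1 = ((L' + 1 : ℕ) : ℤ) := by push_cast; ring
      rw [h3, h2]
    rw [h1]
    have h4 : ∀ k ∈ Finset.range L', y ((twShiftFun 1 u).1 (k : ℕ)) = y (u.1 ((k + 1 : ℕ) : ℤ)) := by
      intro k _
      simp only [twShiftFun_apply]
      push_cast
      rfl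
    rw [Finset.prod_congr rfl h4]
    simp only [Nat.cast_zero]
  · have h5 := TwSeq.shift_prod hL u
    simp only [mul_one] at h5
    rw [h5]
    have : (u.1 0)⁻¹ * twProd u.1 (L' + 1) * u.1 0 = 1 ↔ twProd u.1 (L' + 1) = 1 := by
      constructor
      · intro h
        have h6 : twProd u.1 (L' + 1) = u.1 0 * ((u.1 0)⁻¹ * twProd u.1 (L' + 1) * u.1 0) * (u.1 0)⁻¹ := by
          group
        rw [h6, h]
        group
      · intro h
        rw [h]
        group
    simp only [this]

/-- The periodic sequence with constant value. -/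
def constSeq (L : ℕ) (g : G) : TwSeq (1 : G) L := ⟨fun _ => g, fun _ => by simp⟩

theorem twProd_const (g : G) (s : ℕ) : twProd (fun _ : ℤ => g) s = g ^ s := by
  induction s with
  | zero => simp
  | succ s ih => rw [twProd_succ, ih, pow_succ]

theorem wtP_const (y : G → ℂ) (L : ℕ) (g : G) :
    open scoped Classical in
    wtP y (constSeq L g) = y g ^ L * (if g ^ L = 1 then 1 else 0) := by
  classical
  rw [wtP]
  simp only [constSeq, twProd_const, Finset.prod_const, Finset.card_range]

theorem sum_wtP (y : G → ℂ) {L : ℕ} (hL : 0 < L) [Fintype (TwSeq (1 : G) L)] :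
    ∑ u : TwSeq (1 : G) L, wtP y u = wordSum y L 1 := by
  classical
  rw [wordSum, ← (twSeqEquiv (1 : G) L hL).sum_comp]
  refine Finset.sum_congr rfl fun u _ => ?_
  rw [wtP, Finset.prod_range, twProd_eq_wProd u.1 (twSeqEquiv (1 : G) L hL u) (fun i => rfl)]
  rfl

/-- The Frobenius congruence for the trace of a power. -/
theorem wordSum_one_congr (hM : IsPModular p M) (y : G → ℂ) (hy : ∀ x, MemLocalRing M (y x)) (n : ℕ) :
    open scoped Classical in
    ∃ r, MemLocalRing M r ∧
      wordSum y (p ^ n) 1 = ∑ g : G, y g ^ (p ^ n) * (if g ^ (p ^ n) = 1 then 1 else 0) + (p : ℂ) * r := by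
  classical
  haveI := isPrime_of_modular hM
  have hpp : p.Prime := hp.out
  set L := p ^ n with hLdef
  have hL : 0 < L := pow_pos hpp.pos n
  haveI := finite_twSeq (1 : G) L hL
  letI := Fintype.ofFinite (TwSeq (1 : G) L)
  have hwtS : ∀ u : TwSeq (1 : G) L, MemLocalRing M (wtP y u) := by
    intro u
    refine MemLocalRing.mul (MemLocalRing.prod _ fun _ _ => hy _) ?_
    split_ifs
    · exact memLocalRing_one
    · exact memLocalRing_zero
  let isC : TwSeq (1 : G) L → Prop := fun u => ∀ i, u.1 i = u.1 0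
  let F : TwSeq (1 : G) L → locRing M := fun u => if isC u then 0 else ⟨wtP y u, hwtS u⟩
  have hC : ∀ u, isC (twShiftFun 1 u) ↔ isC u := by
    intro u
    constructor
    · intro h
      have h1 : ∀ i : ℤ, u.1 (i + 1) = u.1 1 := by
        intro i
        have := h i
        simpa [twShiftFun_apply] using this
      intro i
      have h2 := h1 (i - 1)
      have h3 := h1 (-1)
      simp only [sub_add_cancel, neg_add_cancel] at h2 h3
      rw [h2, h3]
    · intro h i
      simp only [twShiftFun_apply]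
      rw [h (i + 1), h (0 + 1)]
  obtain ⟨r, hr⟩ := orbit_sum_eq_smul (twShift (1 : G) L) F (by
    apply twShift_induction
    intro u
    simp only [F]
    by_cases hu : isC u
    · rw [if_pos hu, if_pos ((hC u).2 hu)]
    · rw [if_neg hu, if_neg (fun h => hu ((hC u).1 h))]
      exact Subtype.ext (wtP_shift y hL u)) p (by
    intro u hu
    by_contra hcon
    have hnc : ¬ isC u := by
      intro h
      apply hu
      simp only [F, if_pos h]
    apply hnc
    -- the orbit size is a period
    set d := Nat.card (permOrbit (twShift (1 : G) L) u) with hd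
    have hper1 : ∀ i, u.1 (i + (d : ℕ)) = u.1 i := by
      letI := MulAction.compHom (TwSeq (1 : G) L) (twShift (1 : G) L)
      have h1 : d = (MulAction.stabilizer (Multiplicative ℤ) u).index := by
        rw [hd, permOrbit_eq_orbit, Nat.card_coe_set_eq, MulAction.index_stabilizer]
      have h2 := (MulAction.stabilizer (Multiplicative ℤ) u).pow_index_mem (Multiplicative.ofAdd (1 : ℤ))
      rw [← h1] at h2
      have h3 : (twShift (1 : G) L ((Multiplicative.ofAdd (1 : ℤ)) ^ d)) u = u := h2
      have h5 : (Multiplicative.ofAdd (1 : ℤ)) ^ d = Multiplicative.ofAdd (d : ℤ) := by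
        rw [← ofAdd_nsmul]
        simp
      rw [h5, twShift_apply, toAdd_ofAdd] at h3
      intro i
      exact congrArg (fun v : TwSeq (1 : G) L => v.1 i) h3
    have hper2 : ∀ i, u.1 (i + (L : ℕ)) = u.1 i := twSeq_one_add u
    have hper3 := periodic_gcd hper1 hper2
    have hgcd : Nat.gcd d L = 1 := by
      rw [hLdef]
      exact Nat.Coprime.pow_right n (((Nat.Prime.coprime_iff_not_dvd hpp).mpr hcon).symm)
    rw [hgcd] at hper3
    have hstep : ∀ i : ℤ, u.1 (i + 1) = u.1 i := by
      intro i
      have := hper3 i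
      simpa using this
    intro i
    induction i using Int.induction_on with
    | zero => rfl
    | succ k ih =>
      rw [hstep]
      exact ih
    | pred k ih =>
      rw [← ih]
      have := hstep (-(k : ℤ) - 1)
      rw [sub_add_cancel] at this
      exact this.symm)
  have hsplit : ∑ u : TwSeq (1 : G) L, wtP y u = ∑ u ∈ Finset.univ.filter isC, wtP y u + (p : ℂ) * (r : ℂ) := by
    have h1 := congrArg Subtype.val hr
    simp only [AddSubmonoidClass.coe_finsetSum, nsmul_eq_mul, Subring.coe_mul, Subring.coe_natCast] at h1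
    rw [← h1, ← Finset.sum_filter_add_sum_filter_not Finset.univ isC]
    congr 1
    rw [Finset.sum_filter]
    refine Finset.sum_congr rfl fun u _ => ?_
    by_cases hu : isC u <;> simp [F, hu]
  have hconst : ∑ u ∈ Finset.univ.filter isC, wtP y u =
      ∑ g : G, y g ^ L * (if g ^ L = 1 then 1 else 0) := by
    symm
    refine Finset.sum_bij (fun g _ => constSeq L g) ?_ ?_ ?_ ?_
    · intro g _
      simp only [Finset.mem_filter, Finset.mem_univ, true_and]
      intro i
      rfl
    · intro a _ b _ hab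
      exact congrArg (fun v : TwSeq (1 : G) L => v.1 0) hab
    · intro u hu
      simp only [Finset.mem_filter, Finset.mem_univ, true_and] at hu
      refine ⟨u.1 0, Finset.mem_univ _, ?_⟩
      apply TwSeq.ext'
      intro i
      exact (hu i).symm
    · intro g _
      exact (wtP_const y L g).symm
  refine ⟨r, r.2, ?_⟩
  rw [← sum_wtP y hL, hsplit, hconst]

/-- Indicator of `p`-elements. -/
noncomputable def pElt (p : ℕ) (G : Type u) [Group G] : G → ℂ :=
  open scoped Classical in fun x => if ∃ k : ℕ, x ^ (p ^ k) = 1 then 1 else 0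

theorem pElt_isClassFunction : IsClassFunction G (pElt p G) := by
  classical
  intro x y
  simp only [pElt]
  refine if_congr ?_ rfl rfl
  constructor
  · rintro ⟨k, hk⟩
    refine ⟨k, ?_⟩
    have h1 : (y * x * y⁻¹) ^ (p ^ k) = 1 := hk
    rw [conj_pow] at h1
    have h2 : x ^ (p ^ k) = y⁻¹ * (y * x ^ (p ^ k) * y⁻¹) * y := by group
    rw [h2, h1]
    group
  · rintro ⟨k, hk⟩
    refine ⟨k, ?_⟩
    rw [conj_pow, hk]
    group

theorem pElt_inv (x : G) : pElt p G x⁻¹ = pElt p G x := by
  classical
  simp only [pElt, inv_pow, inv_eq_one]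

/-- The coefficient at `g⁻¹` through multiplication by the class sum. -/
theorem coef_mul_centralChar_one (d : IrrCharacter G → ℂ) (g : G) :
    coef (d * fun χ : IrrCharacter G => centralChar (χ : G → ℂ) g) 1 =
      ((Subgroup.centralizer ({g} : Set G)).index : ℂ) * coef d g⁻¹ := by
  classical
  have h1 : (fun χ : IrrCharacter G => centralChar (χ : G → ℂ) g) = spec (cls g) := by
    funext χ
    rw [spec_cls]
  rw [h1, coef_mul, coef_spec _ (cls_isClassFunction g), conv]
  rw [← Equiv.sum_comp (Equiv.inv G)]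
  simp only [Equiv.inv_apply, inv_inv, mul_one]
  have h2 : ∀ x : G, coef d x⁻¹ * cls g x = coef d g⁻¹ * cls g x := by
    intro x
    by_cases hx : IsConj g x
    · have h3 : IsConj x⁻¹ g⁻¹ := by
        rw [isConj_iff] at hx ⊢
        obtain ⟨c, hc⟩ := hx
        exact ⟨c⁻¹, by rw [← hc]; group⟩
      rw [IsClassFunction.congr_isConj (coef_isClassFunction d) h3]
    · have h4 : cls g x = 0 := if_neg hx
      rw [h4, mul_zero, mul_zero]
  simp only [h2]
  rw [← Finset.mul_sum, sum_cls, index_centralizer_eq_card, mul_comm]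

/-- **Trace lemma.**  Regular central elements in the radical of the block have small trace. -/
theorem coef_one_div_index_memLocalIdeal (hM : IsPModular p M) {B : Set (IrrCharacter G)}
    [M.IsPrime] (hB : IsPBlock M B) {g : G} (hg : ∀ χ ∈ B, ¬ MemLocalIdeal M (centralChar (χ : G → ℂ) g))
    {c : IrrCharacter G → ℂ} (hc : c ∈ zS M G) (hcB : ∀ ψ, ψ ∉ B → c ψ = 0)
    (hJ : ∀ χ ∈ B, MemLocalIdeal M (c χ)) (hreg : ∀ x : G, p ∣ orderOf x → coef c x = 0) :
    MemLocalIdeal M (coef c 1 / ((Subgroup.centralizer ({g} : Set G)).index : ℂ)) := by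
  classical
  have hpp : p.Prime := hp.out
  set ω : IrrCharacter G → ℂ := fun χ => centralChar (χ : G → ℂ) g with hω
  have hωS : ω ∈ zS M G := centralChar_mem_zS g
  obtain ⟨s, hs, hωs⟩ := exists_mul_eq_indic hB hωS hg
  set d := s * c with hd
  have hdS : d ∈ zS M G := Subring.mul_mem _ hs hc
  have hdJ : ∀ χ, MemLocalIdeal M (d χ) := by
    intro χ
    by_cases hχ : χ ∈ B
    · exact MemLocalIdeal.mul_left (zS_apply_mem hs χ) (hJ χ hχ)
    · simp only [hd, Pi.mul_apply, hcB χ hχ, mul_zero]
      exact memLocalIdeal_zero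
  have hidx0 : ((Subgroup.centralizer ({g} : Set G)).index : ℂ) ≠ 0 := by
    exact_mod_cast Subgroup.index_ne_zero_of_finite
  set R := coef d with hR
  let y : G → ℂ := fun u => R (g⁻¹ * u)
  have hyS : ∀ u, MemLocalRing M (y u) := fun u => (mem_zS.mp hdS) _
  -- the identity
  have hcc : c * indic B = c := by
    funext χ
    by_cases hχ : χ ∈ B
    · simp [indic_apply_of_mem hχ]
    · simp [hcB χ hχ]
  have hsum : ∑ u : G, y u * pElt p G u = coef c 1 / ((Subgroup.centralizer ({g} : Set G)).index : ℂ) := by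
    set Λ := pElt p G with hΛ
    have hΛc : IsClassFunction G Λ := pElt_isClassFunction
    set ℓ := spec Λ with hℓ
    have h1 : coef (d * ℓ) = conv R Λ := by
      rw [coef_mul, hℓ, coef_spec _ hΛc]
    have h2 : ((Subgroup.centralizer ({g} : Set G)).index : ℂ) * coef (d * ℓ) g⁻¹ = coef (c * ℓ) 1 := by
      rw [← coef_mul_centralChar_one]
      congr 1
      funext χ
      have h3 := congrFun hωs χ
      have h4 := congrFun hcc χ
      simp only [Pi.mul_apply] at h3 h4 ⊢
      simp only [hd, Pi.mul_apply]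
      calc s χ * c χ * ℓ χ * centralChar (χ : G → ℂ) g
          = (centralChar (χ : G → ℂ) g * s χ) * c χ * ℓ χ := by ring
        _ = c χ * indic B χ * ℓ χ := by rw [h3]; ring
        _ = c χ * ℓ χ := by rw [h4]
    have h5 : coef (c * ℓ) 1 = coef c 1 := by
      rw [coef_mul, hℓ, coef_spec _ hΛc, conv]
      rw [Finset.sum_eq_single 1]
      · simp only [inv_one, mul_one, hΛ, pElt]
        rw [if_pos ⟨0, by simp⟩, mul_one]
      · intro x _ hx
        by_cases hxp : p ∣ orderOf x
        · rw [hreg x hxp, zero_mul]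
        · have h6 : Λ (x⁻¹ * 1) = 0 := by
            rw [mul_one, hΛ, pElt_inv]
            simp only [pElt]
            rw [if_neg]
            rintro ⟨k, hk⟩
            have h7 : orderOf x ∣ p ^ k := orderOf_dvd_of_pow_eq_one hk
            obtain ⟨j, -, hj⟩ := (Nat.dvd_prime_pow hpp).mp h7
            rcases Nat.eq_zero_or_pos j with rfl | hj0
            · exact hx (orderOf_eq_one_iff.mp (by simpa using hj))
            · exact hxp (hj ▸ dvd_pow_self p hj0.ne')
          rw [h6, mul_zero]
      · simp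
    have h6 : ∑ u : G, y u * Λ u = coef (d * ℓ) g⁻¹ := by
      rw [h1, conv]
      rw [← Equiv.sum_comp (Equiv.mulLeft g⁻¹) (fun x => R x * Λ (x⁻¹ * g⁻¹))]
      refine Finset.sum_congr rfl fun u _ => ?_
      simp only [Equiv.coe_mulLeft, y]
      congr 1
      have h7 : (g⁻¹ * u)⁻¹ * g⁻¹ = u⁻¹ := by group
      rw [h7, hΛ, pElt_inv]
    rw [h6, eq_div_iff hidx0, mul_comm, h2, h5]
  rw [← hsum]
  -- large powers
  obtain ⟨N₀, hN₀⟩ := exists_coef_pow_memLocalIdeal hM hdJ
  set n := max N₀ (Nat.card G) with hn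
  have hnL : n ≤ p ^ n := (Nat.lt_pow_self hpp.one_lt).le
  have h1 : MemLocalIdeal M (wordSum y (p ^ n) 1) := by
    rw [wordSum_translate d g]
    exact hN₀ _ ((le_max_left _ _).trans hnL) _
  obtain ⟨r₁, hr₁, h2⟩ := wordSum_one_congr hM y hyS n
  have hpE : ∀ u : G, (if u ^ (p ^ n) = 1 then (1 : ℂ) else 0) = pElt p G u := by
    intro u
    simp only [pElt]
    refine if_congr ⟨fun h => ⟨n, h⟩, ?_⟩ rfl rfl
    rintro ⟨k, hk⟩
    have h7 : orderOf u ∣ p ^ k := orderOf_dvd_of_pow_eq_one hk
    obtain ⟨j, -, hj⟩ := (Nat.dvd_prime_pow hpp).mp h7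
    rw [← orderOf_dvd_iff_pow_eq_one, hj]
    apply pow_dvd_pow
    have h8 : p ^ j ≤ Nat.card G := by
      rw [← hj]
      exact Nat.le_of_dvd Nat.card_pos (orderOf_dvd_natCard u)
    have h9 : j < p ^ j := Nat.lt_pow_self hpp.one_lt
    omega
  have hfrob := sum_pow_prime_pow_congr (M := M) (p := p) (Finset.univ)
    (fun u : G => y u * pElt p G u) (fun u _ => MemLocalRing.mul (hyS u) (by
      simp only [pElt]
      split_ifs
      · exact memLocalRing_one
      · exact memLocalRing_zero)) n
  obtain ⟨r₂, hr₂, h3⟩ := hfrob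
  have hterm : ∀ u : G, (y u * pElt p G u) ^ (p ^ n) = y u ^ (p ^ n) * (if u ^ (p ^ n) = 1 then 1 else 0) := by
    intro u
    rw [mul_pow, hpE u]
    simp only [pElt]
    split_ifs
    · simp
    · rw [zero_pow (pow_pos hpp.pos n).ne']
  simp only [hterm] at h3
  have hsS : MemLocalRing M (∑ u : G, y u * pElt p G u) := by
    refine MemLocalRing.sum _ fun u _ => MemLocalRing.mul (hyS u) ?_
    simp only [pElt]
    split_ifs
    · exact memLocalRing_one
    · exact memLocalRing_zero
  refine MemLocalIdeal.of_pow hsS (n := p ^ n) ?_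
  rw [h3]
  have h4 : ∑ g : G, y g ^ (p ^ n) * (if g ^ (p ^ n) = 1 then (1 : ℂ) else 0) + (p : ℂ) * r₂ =
      wordSum y (p ^ n) 1 + (p : ℂ) * (r₂ - r₁) := by
    rw [h2]
    ring
  rw [h4]
  exact MemLocalIdeal.add h1 (MemLocalIdeal.mul_right (p_memLocalIdeal hM) (MemLocalRing.sub hr₂ hr₁))

end Pow

end Cfsg.Agent.Lib.H8Group
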