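import Cfsg.Agent.Lib.H8Group.StabGroup

/-!
# The fusion system of a block is saturated
-/

set_option autoImplicit false
set_option linter.unusedSectionVars false

namespace Cfsg.Agent.Lib.H8Group

open Cfsg Cfsg.Agent.Lib.Char Cfsg.Agent.Lib.Blocks

universe u

section Aut

variable {G : Type u} [Group G] [Fintype G] {M : Ideal AlgInt} {p : ℕ} [hp : Fact p.Prime] {Q R P T W : Subgroup G}
  {B : Set (IrrCharacter G)} {e : Set (IrrCharacter (Subgroup.centralizer (P : Set G)))} {F : FusionSystem P}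
  {f : Set (IrrCharacter (Subgroup.centralizer (R : Set G)))}

theorem conjS_eq_of_forall (α : MulAut R) {g : G} (hg : ∀ x : R, ((α x : R) : G) = g * (x : G) * g⁻¹) :
    conjS g R = R := by
  ext z
  constructor
  · rintro ⟨u, hu, rfl⟩
    have h1 := hg ⟨u, hu⟩
    show g * u * g⁻¹ ∈ R
    rw [← h1]
    exact (α ⟨u, hu⟩).2
  · intro hz
    have h1 := hg (α.symm ⟨z, hz⟩)
    rw [MulEquiv.apply_symm_apply] at h1
    exact ⟨_, (α.symm ⟨z, hz⟩).2, h1.symm⟩

theorem autGroup_eq_range (hM : IsPModular p M) (hF : IsBlockFusionSystemOn p M B P e F) (hRP : R ≤ P)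
    (hf : IsPBlock M f) (hle : SubpairLE p M R f P e)
    (hT : ∀ y : G, y ∈ T ↔ y ∈ Subgroup.normalizer (R : Set G) ∧
      StabilizesBlock (Subgroup.centralizer (R : Set G)) f y) (hTN : T ≤ Subgroup.normalizer (R : Set G)) :
    F.autGroup R = (actOn R hTN).range := by
  have hPe := hF.1.1.1
  have hset : {α : MulAut R | R.subtype.comp α.toMonoidHom ∈ F.Hom R} = ((actOn R hTN).range : Set (MulAut R)) := by
    ext α
    constructor
    · intro hα
      obtain ⟨g, hg, hle₂⟩ := (mem_hom_iff hM hF hRP hle _).mp hα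
      have hgR : conjS g R = R := conjS_eq_of_forall α hg
      have hle' := (subpairLE_conjB_iff hgR).mp hle₂
      have hff : conjB g hgR f = f := subpairLE_unique hM hPe R hRP _ _ hle' hle
      have hgT : g ∈ T := (hT g).mpr ⟨mem_normalizer_of_conjS_eq hgR, stabilizes_of_conjB_eq hgR hff⟩
      refine ⟨⟨g, hgT⟩, ?_⟩
      ext x
      exact (hg x).symm
    · rintro ⟨t, rfl⟩
      have hts := (hT t).mp t.2
      have htR : conjS (t : G) R = R := conjS_eq_of_mem_normalizer hts.1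
      have hconj : conjB (t : G) htR f = f := conjB_eq_of_stabilizes hM htR hf hts.2
      refine (mem_hom_iff hM hF hRP hle _).mpr ⟨t, fun u => rfl, (subpairLE_conjB_iff htR).mpr ?_⟩
      rw [hconj]
      exact hle
  rw [FusionSystem.autGroup, hset, Subgroup.closure_eq]

theorem autInducedBy_eq_map (hNT : P ⊓ Subgroup.normalizer (R : Set G) ≤ T) (hTN : T ≤ Subgroup.normalizer (R : Set G)) :
    autInducedBy P R = ((P ⊓ Subgroup.normalizer (R : Set G)).subgroupOf T).map (actOn R hTN) := by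
  have hset : {α : MulAut R | ∃ g ∈ P, ∀ x : R, ((α x : R) : G) = g * (x : G) * g⁻¹} =
      (((P ⊓ Subgroup.normalizer (R : Set G)).subgroupOf T).map (actOn R hTN) : Set (MulAut R)) := by
    ext α
    constructor
    · rintro ⟨g, hgP, hg⟩
      have hgR := conjS_eq_of_forall α hg
      have hgN := mem_normalizer_of_conjS_eq hgR
      refine ⟨⟨g, hNT ⟨hgP, hgN⟩⟩, Subgroup.mem_subgroupOf.mpr ⟨hgP, hgN⟩, ?_⟩
      ext x
      exact (hg x).symm
    · rintro ⟨t, ht, rfl⟩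
      exact ⟨t, (Subgroup.mem_subgroupOf.mp ht).1, fun _ => rfl⟩
  rw [autInducedBy, hset, Subgroup.closure_eq]

/-- A defect group of a block of a subgroup is conjugate into a defect group of the block with the same
idempotent. -/
theorem exists_conj_of_defect_sub (hM : IsPModular p M) (hWT : W ≤ T) {β : G → ℂ}
    {F_T : Set (IrrCharacter T)} {F_W : Set (IrrCharacter W)} (hF_T : IsPBlock M F_T)
    (hcT : ∀ t : T, blockCoeff F_T t = β t) (hcW : ∀ w : W, blockCoeff F_W w = β w)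
    {D_T : Subgroup T} (hD : IsDefectGroup p M F_T D_T) {D_W : Subgroup W} (hD_W : IsDefectGroup p M F_W D_W) :
    ∃ z : T, D_W.map (Subgroup.inclusion hWT) ≤ conjS z D_T := by
  classical
  have := isPrime_of_modular hM
  letI : Fintype T := Fintype.ofFinite _
  letI : Fintype W := Fintype.ofFinite _
  obtain ⟨t₁, ht₁, hS₁⟩ := isDefectGroup_iff.mp hD_W
  have ht₁' : ¬ MemLocalIdeal M (blockCoeff F_T (Subgroup.inclusion hWT t₁)) := by
    rw [hcT]
    have h1 := ht₁.2.1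
    rw [hcW] at h1
    exact h1
  have hmapp : IsPGroup p (D_W.map (Subgroup.inclusion hWT)) := hS₁.isPGroup.map _
  have hmapc : D_W.map (Subgroup.inclusion hWT) ≤
      Subgroup.centralizer ({Subgroup.inclusion hWT t₁} : Set T) := by
    rintro _ ⟨d, hd, rfl⟩
    rw [Subgroup.mem_centralizer_singleton_iff]
    have h1 := Subgroup.mem_centralizer_singleton_iff.mp (hS₁.le hd)
    apply Subtype.ext
    exact congrArg (fun z : W => (z : G)) h1
  exact IsDefectGroup.le_conj_of_coeff hM hF_T hD ht₁' hmapp hmapc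

/-- **The full automization.** -/
theorem isFullyAutomized_of_defect (hM : IsPModular p M) (hF : IsBlockFusionSystemOn p M B P e F) (hRP : R ≤ P)
    (hf : IsPBlock M f) (hle : SubpairLE p M R f P e)
    (hT : ∀ y : G, y ∈ T ↔ y ∈ Subgroup.normalizer (R : Set G) ∧
      StabilizesBlock (Subgroup.centralizer (R : Set G)) f y)
    {F_T : Set (IrrCharacter T)} (hF_T : IsPBlock M F_T)
    (hcoef : ∀ t : T, blockCoeff F_T t = subgroupBlockCoeff (Subgroup.centralizer (R : Set G)) f (t : G))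
    (hD : IsDefectGroup p M F_T ((P ⊓ Subgroup.normalizer (R : Set G)).subgroupOf T)) :
    F.IsFullyAutomized p R := by
  classical
  have := isPrime_of_modular hM
  letI : Fintype (Subgroup.centralizer (R : Set G)) := Fintype.ofFinite _
  have hPe := hF.1.1.1
  have hRp : IsPGroup p R := hPe.1.to_le hRP
  have hTN : T ≤ Subgroup.normalizer (R : Set G) := fun y hy => ((hT y).mp hy).1
  have hNT := inf_normalizer_le_stabilizer hM hPe hRP hle hT
  have hCT : Subgroup.centralizer (R : Set G) ≤ T := fun c hc =>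
    (hT c).mpr ⟨Subgroup.centralizer_le_normalizer _ hc, stabilizes_of_mem_centralizer _ f hc⟩
  have hAut := autGroup_eq_range hM hF hRP hf hle hT hTN
  have hInd := autInducedBy_eq_map hNT hTN
  have hpN : IsPGroup p ((P ⊓ Subgroup.normalizer (R : Set G)).subgroupOf T) :=
    isPGroup_subgroupOf (hPe.1.to_le inf_le_left) _
  have hIndp : IsPGroup p (autInducedBy P R) := by
    rw [hInd]
    exact hpN.map _
  have hIndA : autInducedBy P R ≤ F.autGroup R := by
    rw [hInd, hAut]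
    exact Subgroup.map_le_range _ _
  refine ⟨hRP, ⟨⟨(autInducedBy P R).subgroupOf (F.autGroup R), isPGroup_subgroupOf hIndp _, ?_⟩, rfl⟩⟩
  intro Y hY hle'
  -- the image in `MulAut R`
  set Y₀ : Subgroup (MulAut R) := Y.map (F.autGroup R).subtype with hY₀
  have hY₀p : IsPGroup p Y₀ := hY.map _
  have hY₀A : Y₀ ≤ (actOn R hTN).range := by
    rw [← hAut]
    exact Subgroup.map_subtype_le _
  have hInd₀ : autInducedBy P R ≤ Y₀ := by
    intro α hα
    exact ⟨⟨α, hIndA hα⟩, hle' (Subgroup.mem_subgroupOf.mpr hα), rfl⟩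
  -- the subgroup `W`
  set W' : Subgroup T := Y₀.comap (actOn R hTN) with hW'
  set W₀ : Subgroup G := W'.map T.subtype with hW₀
  have hW₀T : W₀ ≤ T := Subgroup.map_subtype_le _
  have hW₀N : W₀ ≤ Subgroup.normalizer (R : Set G) := hW₀T.trans hTN
  have hCW : Subgroup.centralizer (R : Set G) ≤ W₀ := by
    intro c hc
    refine ⟨⟨c, hCT hc⟩, ?_, rfl⟩
    have h1 : (⟨c, hCT hc⟩ : T) ∈ (actOn R hTN).ker := (mem_ker_actOn hTN _).mpr hc
    show actOn R hTN ⟨c, hCT hc⟩ ∈ Y₀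
    rw [MonoidHom.mem_ker.mp h1]
    exact Subgroup.one_mem _
  have hNW : P ⊓ Subgroup.normalizer (R : Set G) ≤ W₀ := by
    intro n hn
    refine ⟨⟨n, hNT hn⟩, ?_, rfl⟩
    show actOn R hTN ⟨n, hNT hn⟩ ∈ Y₀
    apply hInd₀
    rw [hInd]
    exact ⟨⟨n, hNT hn⟩, Subgroup.mem_subgroupOf.mpr hn, rfl⟩
  have hRW : R ≤ W₀ := (le_inf hRP Subgroup.le_normalizer).trans hNW
  letI : Fintype W₀ := Fintype.ofFinite _
  have hst : ∀ t ∈ W₀, StabilizesBlock (Subgroup.centralizer (R : Set G)) f t := fun t ht => ((hT t).mp (hW₀T ht)).2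
  obtain ⟨F_W, hF_W, hcoefW⟩ := exists_block_stabilizer hM hRp hRW hCW hW₀N hf hst
  -- the homomorphism on `W`
  have hker : (actOn R hW₀N).ker = (Subgroup.centralizer (R : Set G)).subgroupOf W₀ := by
    ext t
    rw [mem_ker_actOn, Subgroup.mem_subgroupOf]
  have hrange : (actOn R hW₀N).range = Y₀ := by
    ext α
    constructor
    · rintro ⟨⟨t, t', ht', rfl⟩, rfl⟩
      exact ht'
    · intro hα
      obtain ⟨t, rfl⟩ := hY₀A hα
      exact ⟨⟨t, t, hα, rfl⟩, rfl⟩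
  obtain ⟨k, hk⟩ := IsPGroup.iff_card.mp hY₀p
  have hidx : ((Subgroup.centralizer (R : Set G)).subgroupOf W₀).index = p ^ k := by
    rw [← hker, Subgroup.index_ker, hrange, hk]
  obtain ⟨D_W, hD_W⟩ := IsPBlock.exists_isDefectGroup hM hF_W
  obtain ⟨h₁, -⟩ := sup_defect_eq_top_of_index hM hRp hRW hCW hW₀N hf hst hF_W hcoefW hidx hD_W
  have hmap : Y₀ = D_W.map (actOn R hW₀N) := by
    have h0 : ((actOn R hW₀N).ker).map (actOn R hW₀N) = ⊥ := (Subgroup.map_eq_bot_iff _).mpr le_rfl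
    rw [← hrange, MonoidHom.range_eq_map, ← h₁, Subgroup.map_sup, ← hker, h0, bot_sup_eq]
  obtain ⟨z, hz⟩ := exists_conj_of_defect_sub hM hW₀T hF_T hcoef hcoefW hD hD_W
  have hcomp : (actOn R hTN).comp (Subgroup.inclusion hW₀T) = actOn R hW₀N := by
    ext t x
    rfl
  have hle₂ : Y₀ ≤ conjS ((actOn R hTN) z) (autInducedBy P R) := by
    rw [hmap, ← hcomp, ← Subgroup.map_map, hInd]
    refine (Subgroup.map_mono hz).trans ?_
    rintro _ ⟨_, ⟨t, ht, rfl⟩, rfl⟩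
    exact ⟨_, ⟨t, ht, rfl⟩, by simp [MulAut.conj_apply]⟩
  have hcard : Nat.card Y₀ ≤ Nat.card (autInducedBy P R) := by
    have h1 := Subgroup.card_le_of_le hle₂
    rwa [card_conjS] at h1
  have heq := Subgroup.eq_of_le_of_card_ge hInd₀ hcard
  ext y
  rw [Subgroup.mem_subgroupOf, heq]
  constructor
  · intro hy
    exact ⟨y, hy, rfl⟩
  · rintro ⟨y', hy', hyy⟩
    have : y' = y := Subtype.ext hyy
    rwa [← this]

/-- **Receptivity.** -/
theorem isReceptive_of_defect (hM : IsPModular p M) (hF : IsBlockFusionSystemOn p M B P e F) (hRP : R ≤ P)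
    (hle : SubpairLE p M R f P e)
    (hT : ∀ y : G, y ∈ T ↔ y ∈ Subgroup.normalizer (R : Set G) ∧
      StabilizesBlock (Subgroup.centralizer (R : Set G)) f y)
    {F_T : Set (IrrCharacter T)} (hF_T : IsPBlock M F_T)
    (hcoef : ∀ t : T, blockCoeff F_T t = subgroupBlockCoeff (Subgroup.centralizer (R : Set G)) f (t : G))
    (hD : IsDefectGroup p M F_T ((P ⊓ Subgroup.normalizer (R : Set G)).subgroupOf T)) :
    F.IsReceptive R := by
  classical
  have hmax := hF.1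
  have hPe := hmax.1.1
  refine ⟨hRP, fun Q φ hφ hrange => ?_⟩
  obtain ⟨hQP, g, hg, hgQ, fQ, hleQ, hleQ'⟩ := (hF.2 Q φ).mp hφ
  have hgR : conjS g Q = R := by
    rw [← hrange]
    ext z
    constructor
    · rintro ⟨u, hu, rfl⟩
      exact ⟨⟨u, hu⟩, (hg ⟨u, hu⟩).trans rfl⟩
    · rintro ⟨u, rfl⟩
      exact ⟨u, u.2, (hg u).symm⟩
  have hle'' : SubpairLE p M R (conjB g hgR fQ) P e := (subpairLE_conjB_iff hgR).mp hleQ'
  have hgf : conjB g hgR fQ = f := subpairLE_unique hM hPe R hRP _ _ hle'' hle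
  have hXprop : ∀ t ∈ FusionSystem.extender P Q φ, t ∈ P ∧ t ∈ Subgroup.normalizer (Q : Set G) ∧
      ∃ h ∈ P, ∀ x ∈ Q, g * (t * x * t⁻¹) * g⁻¹ = h * (g * x * g⁻¹) * h⁻¹ := by
    intro t ht
    induction ht using Subgroup.closure_induction with
    | mem t ht =>
      obtain ⟨htP, htN, h, hhP, hh⟩ := ht
      refine ⟨htP, htN, h, hhP, fun x hx => ?_⟩
      have hx' : t * x * t⁻¹ ∈ Q := (Subgroup.mem_normalizer_iff.mp htN x).mp hx
      have h1 := hh ⟨x, hx⟩ hx'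
      rw [hg, hg] at h1
      exact h1
    | one =>
      refine ⟨Subgroup.one_mem _, Subgroup.one_mem _, 1, Subgroup.one_mem _, fun x _ => ?_⟩
      simp
    | mul a b _ _ ha hb =>
      obtain ⟨haP, haN, h₁, hh₁P, hh₁⟩ := ha
      obtain ⟨hbP, hbN, h₂, hh₂P, hh₂⟩ := hb
      refine ⟨Subgroup.mul_mem _ haP hbP, Subgroup.mul_mem _ haN hbN, h₁ * h₂, Subgroup.mul_mem _ hh₁P hh₂P, fun x hx => ?_⟩
      have hx' : b * x * b⁻¹ ∈ Q := (Subgroup.mem_normalizer_iff.mp hbN x).mp hx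
      have h1 := hh₁ _ hx'
      have h2 := hh₂ x hx
      calc g * (a * b * x * (a * b)⁻¹) * g⁻¹ = g * (a * (b * x * b⁻¹) * a⁻¹) * g⁻¹ := by group
        _ = h₁ * (g * (b * x * b⁻¹) * g⁻¹) * h₁⁻¹ := h1
        _ = h₁ * (h₂ * (g * x * g⁻¹) * h₂⁻¹) * h₁⁻¹ := by rw [h2]
        _ = h₁ * h₂ * (g * x * g⁻¹) * (h₁ * h₂)⁻¹ := by group
    | inv a _ ha =>
      obtain ⟨haP, haN, h₁, hh₁P, hh₁⟩ := ha
      refine ⟨Subgroup.inv_mem _ haP, Subgroup.inv_mem _ haN, h₁⁻¹, Subgroup.inv_mem _ hh₁P, fun x hx => ?_⟩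
      have hx' : a⁻¹ * x * a⁻¹⁻¹ ∈ Q := (Subgroup.mem_normalizer_iff.mp (Subgroup.inv_mem _ haN) x).mp hx
      have h1 := hh₁ _ hx'
      have h2 : a * (a⁻¹ * x * a⁻¹⁻¹) * a⁻¹ = x := by group
      rw [h2] at h1
      rw [h1]
      group
  have hQX : Q ≤ FusionSystem.extender P Q φ := by
    intro q hq
    refine Subgroup.subset_closure ⟨hQP hq, Subgroup.le_normalizer hq, φ ⟨q, hq⟩, ?_, fun x hx => ?_⟩
    · exact (F.le_of_mem hφ).2 _
    · rw [hg, hg, hg]
      show g * (q * x * q⁻¹) * g⁻¹ = _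
      group
  have hXP : FusionSystem.extender P Q φ ≤ P := fun t ht => (hXprop t ht).1
  have hXN : FusionSystem.extender P Q φ ≤ Subgroup.normalizer (Q : Set G) := fun t ht => (hXprop t ht).2.1
  obtain ⟨fX, -, hleX⟩ := exists_subpairLE hM hPe _ hXP
  have hXh : ∀ t ∈ FusionSystem.extender P Q φ, ∃ h ∈ P, ∀ x ∈ R,
      (g * t * g⁻¹) * x * (g * t * g⁻¹)⁻¹ = h * x * h⁻¹ := by
    intro t ht
    obtain ⟨-, -, h, hhP, hh⟩ := hXprop t ht
    refine ⟨h, hhP, fun x hx => ?_⟩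
    rw [← hgR] at hx
    obtain ⟨x₀, hx₀, rfl⟩ := hx
    have h1 := hh x₀ hx₀
    show g * t * g⁻¹ * (g * x₀ * g⁻¹) * (g * t * g⁻¹)⁻¹ = h * (g * x₀ * g⁻¹) * h⁻¹
    rw [← h1]
    group
  obtain ⟨c, hc, hchain⟩ := extension_of_defect hM hmax hle hT hF_T hcoef hD hleQ hgR hgf hQX hXP hXN hXh hleX
  refine ⟨conjHom _ (c * g), (hF.2 _ _).mpr ⟨hXP, c * g, fun _ => rfl, le_of_subpairLE hchain, fX, hleX, hchain⟩,
    fun x hP hN => ?_⟩
  rw [hg]
  show c * g * x * (c * g)⁻¹ = g * x * g⁻¹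
  have hxR : g * x * g⁻¹ ∈ R := by
    rw [← hgR]
    exact conj_mem_conjS hP
  have h1 := Subgroup.mem_centralizer_iff.mp hc _ hxR
  calc c * g * x * (c * g)⁻¹ = c * (g * x * g⁻¹) * c⁻¹ := by group
    _ = g * x * g⁻¹ := by rw [← h1]; group

/-- The fusion system of a block, as a term. -/
noncomputable def blockFusion (hM : IsPModular p M) (hmax : IsMaximalBrauerPair p M B P e) : FusionSystem P where
  Hom Q := {φ | Q ≤ P ∧ ∃ g : G, (∀ u : Q, φ u = g * (u : G) * g⁻¹) ∧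
        Q.map (MulAut.conj g).toMonoidHom ≤ P ∧
        ∃ f : Set (IrrCharacter (Subgroup.centralizer (Q : Set G))),
          SubpairLE p M Q f P e ∧
            SubpairLE p M (Q.map (MulAut.conj g).toMonoidHom) (conjBlock Q g f) P e}
  le_of_mem := by
    rintro Q φ ⟨hQ, g, hg, hgQ, -⟩
    exact ⟨hQ, fun x => by
      rw [hg]
      exact hgQ ⟨x, x.2, rfl⟩⟩
  injective_of_mem := by
    rintro Q φ ⟨-, g, hg, -⟩ a b hab
    rw [hg, hg] at hab
    exact Subtype.ext (mul_left_cancel (mul_right_cancel hab))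
  conj_mem := by
    intro Q g hQ hgP
    obtain ⟨f, -, hle⟩ := exists_subpairLE hM hmax.1.1 Q hQ
    have h1 := subpairLE_conjB g rfl (conjS_self_of_mem hgP) hle
    rw [conjB_self_of_mem hgP] at h1
    exact ⟨hQ, g, fun _ => rfl, le_of_subpairLE h1, f, hle, h1⟩
  comp_mem := by
    rintro Q₁ Q₂ φ ψ ⟨hQ₁, g, hg, hgQ, f₁, hf₁, hf₁'⟩ ⟨hQ₂, k, hk, hkQ, f₂, hf₂, hf₂'⟩ h
    have hPe := hmax.1.1
    have hgQ₁ : conjS g Q₁ ≤ Q₂ := by
      rintro _ ⟨u, hu, rfl⟩
      have h1 := h ⟨u, hu⟩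
      rw [hg] at h1
      exact h1
    have hf₂b := isPBlock_of_subpairLE hM hPe hf₂
    obtain ⟨f₃, -, hle₃⟩ := exists_subpairLE hM (⟨hPe.1.to_le hQ₂, hf₂b⟩ : IsBrauerPair p M Q₂ f₂) (conjS g Q₁) hgQ₁
    have h3 : f₃ = conjB g rfl f₁ := subpairLE_unique hM hPe _ hgQ f₃ _ (Relation.ReflTransGen.trans hle₃ hf₂) hf₁'
    rw [h3] at hle₃
    have hle₄ := subpairLE_conjB k (conjS_conjS k g Q₁) rfl hle₃
    rw [conjB_conjB g k rfl (conjS_conjS k g Q₁) rfl] at hle₄
    have hle₅ := Relation.ReflTransGen.trans hle₄ hf₂'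
    refine ⟨hQ₁, k * g, fun u => ?_, le_of_subpairLE hle₅, f₁, hf₁, hle₅⟩
    show ψ (φ.codRestrict Q₂ h u) = _
    rw [hk]
    show k * φ u * k⁻¹ = _
    rw [hg]
    group
  inv_mem := by
    rintro Q φ ⟨hQ, g, hg, hgQ, f, hf, hf'⟩
    have hr : conjS g Q = φ.range := by
      ext z
      constructor
      · rintro ⟨u, hu, rfl⟩
        exact ⟨⟨u, hu⟩, (hg ⟨u, hu⟩).trans rfl⟩
      · rintro ⟨u, rfl⟩
        exact ⟨u, u.2, (hg u).symm⟩
    have hle₁ : SubpairLE p M φ.range (conjB g hr f) P e := (subpairLE_conjB_iff hr).mp hf'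
    have hle₂ : SubpairLE p M (conjS g⁻¹ φ.range) (conjB g⁻¹ rfl (conjB g hr f)) P e := by
      refine (subpairLE_conjB_iff (conjS_inv_of_conjS g hr)).mpr ?_
      rw [conjB_conjB_inv]
      exact hf
    refine ⟨conjHom φ.range g⁻¹, ⟨hr ▸ hgQ, g⁻¹, fun _ => rfl, le_of_subpairLE hle₂, conjB g hr f, hle₁, hle₂⟩,
      fun x => ?_⟩
    show g⁻¹ * φ x * g⁻¹⁻¹ = x
    rw [hg]
    group

/-- **S4677.** The fusion system of a block exists and is saturated. -/
theorem exists_saturated_blockFusion (hM : IsPModular p M) (hmax : IsMaximalBrauerPair p M B P e) :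
    ∃ F : FusionSystem P, IsBlockFusionSystemOn p M B P e F ∧ F.IsSaturated p := by
  classical
  have hF : IsBlockFusionSystemOn p M B P e (blockFusion hM hmax) := ⟨hmax, fun Q φ => Iff.rfl⟩
  refine ⟨blockFusion hM hmax, hF, fun Q hQ => ?_⟩
  have hPe := hmax.1.1
  obtain ⟨f₀, hf₀, hle⟩ := exists_subpairLE hM hPe Q hQ
  obtain ⟨F₁, hF₁, hcoef₁⟩ := exists_block_of_stabilizer (T := stabOfBlock Q f₀) hM (hPe.1.to_le hQ) hf₀ (fun y => Iff.rfl)
  obtain ⟨x, hx, hxT⟩ := exists_conj_isDefectGroup_norm hM hmax hle (fun y => Iff.rfl) hF₁ hcoef₁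
  obtain ⟨F₂, hF₂, hcoef₂, hD₂⟩ := hxT (stabOfBlock (conjS x Q) (conjB x rfl f₀)) (fun y => Iff.rfl)
  have hxP := le_of_subpairLE hx
  refine ⟨conjS x Q, (isConj_iff_of_subpair hM hF hQ hle).mpr ⟨x, rfl, hx⟩,
    isFullyAutomized_of_defect hM hF hxP (isPBlock_of_subpairLE hM hPe hx) hx (fun y => Iff.rfl) hF₂ hcoef₂ hD₂,
    isReceptive_of_defect hM hF hxP hx (fun y => Iff.rfl) hF₂ hcoef₂ hD₂⟩

end Aut

end Cfsg.Agent.Lib.H8Group
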