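import Cfsg.Agent.Lib.H8Group.HarrisKnorr

/-!
# The Brauer map, abstractly

A `p`-group `Γ` acts on a finite group `C` with fixed point group `D`.  Truncation to `D` is
multiplicative on `Γ`-invariant functions modulo the local ideal.  The Alperin–Broué uniqueness of
the block of `C` below a block of `D` follows.
-/

set_option autoImplicit false
set_option linter.unusedSectionVars false

namespace Cfsg.Agent.Lib.H8Group

open Cfsg Cfsg.Agent.Lib.Char Cfsg.Agent.Lib.Blocks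

universe u v

section Abstract

variable {C D : Type u} [Group C] [Fintype C] [Group D] [Fintype D] {Γ : Type v} [Group Γ]
  {M : Ideal AlgInt} {p : ℕ} [hp : Fact p.Prime]

/-- `D` is the group of fixed points of `Γ` acting on `C`. -/
structure BrData (ρ : Γ →* MulAut C) (ι : D →* C) : Prop where
  inj : Function.Injective ι
  fix : ∀ x : C, (∀ γ, ρ γ x = x) ↔ ∃ y, ι y = x

/-- Invariant functions. -/
def InvF (ρ : Γ →* MulAut C) (a : C → ℂ) : Prop := ∀ γ x, a (ρ γ x) = a x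

variable {ρ : Γ →* MulAut C} {ι : D →* C}

theorem BrData.fixed (h : BrData ρ ι) (γ : Γ) (y : D) : ρ γ (ι y) = ι y :=
  (h.fix _).mpr ⟨y, rfl⟩ γ

theorem conv_brauer (hM : IsPModular p M) (hΓ : IsPGroup p Γ) (h : BrData ρ ι) {a b : C → ℂ}
    (ha : InvF ρ a) (hb : InvF ρ b) (haL : ∀ x, MemLocalRing M (a x)) (hbL : ∀ x, MemLocalRing M (b x))
    (t : D) : MemLocalIdeal M (conv a b (ι t) - conv (a ∘ ι) (b ∘ ι) t) := by
  classical
  have := isPrime_of_modular hM
  let F : C → ResF M := fun x => resC M (a x * b (x⁻¹ * ι t))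
  let φ : Γ →* Equiv.Perm C := (MulAut.toPerm C).comp ρ
  have hφ : ∀ γ x, φ γ x = ρ γ x := fun _ _ => rfl
  have hF : ∀ γ x, F (φ γ x) = F x := by
    intro γ x
    simp only [F, hφ]
    congr 1
    rw [ha γ x]
    congr 1
    have h1 : (ρ γ x)⁻¹ * ι t = ρ γ (x⁻¹ * ι t) := by
      rw [map_mul, map_inv, h.fixed]
    rw [h1, hb]
  obtain ⟨r, hr⟩ := exists_sum_sub_fixed hΓ φ F hF
  have hp0 : p • r = 0 := by
    rw [nsmul_eq_mul, natCast_resF_eq_zero hM, zero_mul]
  rw [hp0, add_zero] at hr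
  have h2 : ∑ x, F x = ∑ y : D, F (ι y) := by
    rw [hr]
    symm
    apply Finset.sum_bij (fun y _ => ι y)
    · intro y _
      simp only [Finset.mem_filter, Finset.mem_univ, true_and]
      exact fun γ => h.fixed γ y
    · intro y₁ _ y₂ _ e
      exact h.inj e
    · intro x hx
      simp only [Finset.mem_filter, Finset.mem_univ, true_and] at hx
      obtain ⟨y, rfl⟩ := (h.fix x).mp hx
      exact ⟨y, Finset.mem_univ _, rfl⟩
    · intro y _
      rfl
  have hL1 : ∀ x, MemLocalRing M (a x * b (x⁻¹ * ι t)) := fun x => MemLocalRing.mul (haL _) (hbL _)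
  have hL2 : ∀ y, MemLocalRing M ((a ∘ ι) y * (b ∘ ι) (y⁻¹ * t)) := fun y => MemLocalRing.mul (haL _) (hbL _)
  apply memLocalIdeal_sub_of_resC_eq (MemLocalRing.sum _ fun x _ => hL1 x) (MemLocalRing.sum _ fun x _ => hL2 x)
  rw [resC_sum _ _ (fun x _ => hL1 x), resC_sum _ _ (fun x _ => hL2 x)]
  refine h2.trans (Finset.sum_congr rfl fun y _ => ?_)
  show resC M (a (ι y) * b ((ι y)⁻¹ * ι t)) = resC M (a (ι y) * b (ι (y⁻¹ * t)))
  rw [map_mul, map_inv]

omit [Fintype C] [Fintype D] in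
theorem isClassFunction_comp {a : C → ℂ} (ha : IsClassFunction C a) (ι : D →* C) :
    IsClassFunction D (a ∘ ι) := by
  intro x k
  simp only [Function.comp_apply, map_mul, map_inv]
  exact ha _ _

/-- The value at `ξ` of the Brauer image of `c`. -/
noncomputable def brV (ι : D →* C) (c : IrrCharacter C → ℂ) (ξ : IrrCharacter D) : ℂ :=
  spec (coef c ∘ ι) ξ

theorem brV_mem_zS [M.IsPrime] (ι : D →* C) {c : IrrCharacter C → ℂ} (hc : c ∈ zS M C) :
    brV ι c ∈ zS M D :=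
  spec_mem_zS (isClassFunction_comp (coef_isClassFunction c) ι) (fun x => hc (ι x))

theorem brV_memLocalRing [M.IsPrime] (ι : D →* C) {c : IrrCharacter C → ℂ} (hc : c ∈ zS M C) (ξ : IrrCharacter D) :
    MemLocalRing M (brV ι c ξ) :=
  zS_apply_mem (brV_mem_zS ι hc) ξ

theorem brV_congr [M.IsPrime] (ι : D →* C) {c : IrrCharacter C → ℂ} (hc : c ∈ zS M C) {e : Set (IrrCharacter D)}
    (he : IsPBlock M e) {ξ ξ' : IrrCharacter D} (hξ : ξ ∈ e) (hξ' : ξ' ∈ e) :
    MemLocalIdeal M (brV ι c ξ - brV ι c ξ') :=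
  zS_apply_congr he (brV_mem_zS ι hc) hξ hξ'

theorem brV_add (ι : D →* C) (c d : IrrCharacter C → ℂ) (ξ : IrrCharacter D) :
    brV ι (c + d) ξ = brV ι c ξ + brV ι d ξ := by
  simp only [brV, coef_add]
  rw [show (coef c + coef d) ∘ ι = coef c ∘ ι + coef d ∘ ι from rfl, spec_add]
  rfl

theorem brV_sub (ι : D →* C) (c d : IrrCharacter C → ℂ) (ξ : IrrCharacter D) :
    brV ι (c - d) ξ = brV ι c ξ - brV ι d ξ := by
  simp only [brV, coef_sub]
  rw [show (coef c - coef d) ∘ ι = coef c ∘ ι - coef d ∘ ι from rfl, spec_sub]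
  rfl

theorem brV_zero (ι : D →* C) (ξ : IrrCharacter D) : brV ι (0 : IrrCharacter C → ℂ) ξ = 0 := by
  have h := brV_sub ι (0 : IrrCharacter C → ℂ) 0 ξ
  simpa using h

theorem brV_one (hι : Function.Injective ι) (ξ : IrrCharacter D) : brV ι (1 : IrrCharacter C → ℂ) ξ = 1 := by
  classical
  have h1 : coef (1 : IrrCharacter C → ℂ) ∘ ι = coef (1 : IrrCharacter D → ℂ) := by
    funext y
    simp only [Function.comp_apply]
    rw [coef_one, coef_one]
    have h2 : ι y = 1 ↔ y = 1 := by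
      constructor
      · intro h3
        apply hι
        rw [h3, map_one]
      · intro h3
        rw [h3, map_one]
    simp only [h2]
  rw [brV, h1, spec_coef]
  rfl

theorem brV_sum {ι' : Type*} (ι : D →* C) (s : Finset ι') (c : ι' → IrrCharacter C → ℂ) (ξ : IrrCharacter D) :
    brV ι (∑ i ∈ s, c i) ξ = ∑ i ∈ s, brV ι (c i) ξ := by
  classical
  induction s using Finset.induction_on with
  | empty => simpa using brV_zero ι ξ
  | insert a s ha ih => rw [Finset.sum_insert ha, Finset.sum_insert ha, brV_add, ih]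

/-- **The Brauer map is multiplicative.** -/
theorem brV_mul [M.IsPrime] (hM : IsPModular p M) (hΓ : IsPGroup p Γ) (h : BrData ρ ι) {c d : IrrCharacter C → ℂ}
    (hc : c ∈ zS M C) (hd : d ∈ zS M C)
    (hcI : InvF ρ (coef c)) (hdI : InvF ρ (coef d)) (ξ : IrrCharacter D) :
    MemLocalIdeal M (brV ι (c * d) ξ - brV ι c ξ * brV ι d ξ) := by
  classical
  have h1 := spec_conv (coef c ∘ ι) (coef d ∘ ι) (isClassFunction_comp (coef_isClassFunction c) ι)
  have h2 : brV ι c ξ * brV ι d ξ = spec (conv (coef c ∘ ι) (coef d ∘ ι)) ξ := by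
    rw [h1]
    rfl
  rw [h2, brV, coef_mul]
  have h3 := spec_sub (conv (coef c) (coef d) ∘ ι) (conv (coef c ∘ ι) (coef d ∘ ι))
  have h4 := congrFun h3 ξ
  rw [Pi.sub_apply] at h4
  rw [← h4]
  apply spec_memLocalIdeal
  · exact IsClassFunction.sub
      (isClassFunction_comp (conv_isClassFunction (coef_isClassFunction c) (coef_isClassFunction d)) ι)
      (conv_isClassFunction (isClassFunction_comp (coef_isClassFunction c) ι)
        (isClassFunction_comp (coef_isClassFunction d) ι))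
  · intro t
    exact conv_brauer hM hΓ h hcI hdI hc hd t

/-- A block stable under the action. -/
def IsStable (ρ : Γ →* MulAut C) (f : Set (IrrCharacter C)) : Prop := ∀ γ, transBlock (ρ γ) f = f

theorem invF_of_isStable {f : Set (IrrCharacter C)} (hf : IsStable ρ f) : InvF ρ (coef (indic f)) := by
  intro γ x
  rw [← coef_indic_transBlock, hf γ]

theorem transBlock_mul (a b : Γ) (f : Set (IrrCharacter C)) :
    transBlock (ρ (a * b)) f = transBlock (ρ b) (transBlock (ρ a) f) := by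
  ext ψ
  show Cfsg.Agent.Lib.Blocks.irrComp (ρ (a * b)).symm ψ ∈ f ↔
    Cfsg.Agent.Lib.Blocks.irrComp (ρ a).symm (Cfsg.Agent.Lib.Blocks.irrComp (ρ b).symm ψ) ∈ f
  have h1 : Cfsg.Agent.Lib.Blocks.irrComp (ρ (a * b)).symm ψ =
      Cfsg.Agent.Lib.Blocks.irrComp (ρ a).symm (Cfsg.Agent.Lib.Blocks.irrComp (ρ b).symm ψ) := by
    apply Subtype.ext
    funext x
    simp only [Cfsg.Agent.Lib.Blocks.irrComp_coe, Function.comp_apply, map_mul]
    rfl
  rw [h1]

theorem transBlock_one_hom (f : Set (IrrCharacter C)) : transBlock (ρ 1) f = f := by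
  ext ψ
  show Cfsg.Agent.Lib.Blocks.irrComp (ρ 1).symm ψ ∈ f ↔ ψ ∈ f
  have h1 : Cfsg.Agent.Lib.Blocks.irrComp (ρ 1).symm ψ = ψ := by
    apply Subtype.ext
    funext x
    simp only [Cfsg.Agent.Lib.Blocks.irrComp_coe, Function.comp_apply, map_one]
    rfl
  rw [h1]

/-- The action on the blocks. -/
noncomputable def blockAct (ρ : Γ →* MulAut C) (M : Ideal AlgInt) [M.IsPrime] :
    Γ →* Equiv.Perm (blocksFinset M C) :=
  MonoidHom.mk' (fun γ =>
    { toFun := fun f => ⟨transBlock (ρ γ⁻¹) f.1, mem_blocksFinset.mpr (isPBlock_transBlock _ (mem_blocksFinset.mp f.2))⟩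
      invFun := fun f => ⟨transBlock (ρ γ) f.1, mem_blocksFinset.mpr (isPBlock_transBlock _ (mem_blocksFinset.mp f.2))⟩
      left_inv := fun f => by
        apply Subtype.ext
        show transBlock (ρ γ) (transBlock (ρ γ⁻¹) f.1) = f.1
        rw [← transBlock_mul, inv_mul_cancel, transBlock_one_hom]
      right_inv := fun f => by
        apply Subtype.ext
        show transBlock (ρ γ⁻¹) (transBlock (ρ γ) f.1) = f.1
        rw [← transBlock_mul, mul_inv_cancel, transBlock_one_hom] }) (by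
    intro a b
    refine Equiv.ext fun f => Subtype.ext ?_
    show transBlock (ρ (a * b)⁻¹) f.1 = transBlock (ρ a⁻¹) (transBlock (ρ b⁻¹) f.1)
    rw [mul_inv_rev, transBlock_mul])

theorem blockAct_coe [M.IsPrime] (γ : Γ) (f : blocksFinset M C) :
    ((blockAct ρ M γ f : blocksFinset M C) : Set (IrrCharacter C)) = transBlock (ρ γ⁻¹) f.1 := rfl

theorem brV_transBlock (h : BrData ρ ι) (γ : Γ) (f : Set (IrrCharacter C)) (ξ : IrrCharacter D) :
    brV ι (indic (transBlock (ρ γ) f)) ξ = brV ι (indic f) ξ := by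
  simp only [brV]
  congr 1
  funext y
  simp only [Function.comp_apply]
  rw [coef_indic_transBlock, h.fixed]

theorem indic_mul_indic_eq_zero [M.IsPrime] {f f' : Set (IrrCharacter C)} (hf : IsPBlock M f) (hf' : IsPBlock M f')
    (hne : f ≠ f') : indic f * indic f' = 0 := by
  funext χ
  by_cases h1 : χ ∈ f
  · by_cases h2 : χ ∈ f'
    · exfalso
      apply hne
      rw [blockOf_eq_of_mem hf h1, ← blockOf_eq_of_mem hf' h2]
    · simp [h2]
  · simp [h1]

/-- **Alperin–Broué, the normal case.** -/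
theorem existsUnique_stable_block (hM : IsPModular p M) (hΓ : IsPGroup p Γ) (h : BrData ρ ι) (ξ : IrrCharacter D) :
    ∃! f : Set (IrrCharacter C), IsPBlock M f ∧ IsStable ρ f ∧ MemLocalIdeal M (brV ι (indic f) ξ - 1) := by
  classical
  have := isPrime_of_modular hM
  let F : blocksFinset M C → ResF M := fun f => resC M (brV ι (indic f.1) ξ)
  have hloc : ∀ f : blocksFinset M C, MemLocalRing M (brV ι (indic f.1) ξ) := fun f =>
    brV_memLocalRing ι (indic_mem_zS (mem_blocksFinset.mp f.2)) ξ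
  have hF : ∀ γ f, F (blockAct ρ M γ f) = F f := by
    intro γ f
    simp only [F]
    rw [blockAct_coe, brV_transBlock h]
  obtain ⟨r, hr⟩ := exists_sum_sub_fixed hΓ (blockAct ρ M) F hF
  have hp0 : p • r = 0 := by
    rw [nsmul_eq_mul, natCast_resF_eq_zero hM, zero_mul]
  rw [hp0, add_zero] at hr
  have hsum : ∑ f, F f = resC M 1 := by
    have h1 := brV_one (C := C) h.inj ξ
    rw [← sum_indic_blocks M C, brV_sum, ← Finset.sum_coe_sort] at h1
    rw [← h1, resC_sum _ _ (fun f _ => hloc f)]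
  have hone : resC M (1 : ℂ) ≠ 0 := by
    rw [Ne, resC_eq_zero_iff memLocalRing_one]
    exact not_memLocalIdeal_one
  have hstable : ∀ f : blocksFinset M C, (∀ γ, blockAct ρ M γ f = f) → IsStable ρ f.1 := by
    intro f hf γ
    have h1 := congrArg Subtype.val (hf γ⁻¹)
    rw [blockAct_coe, inv_inv] at h1
    exact h1
  have hex : ∃ f : blocksFinset M C, (∀ γ, blockAct ρ M γ f = f) ∧ F f ≠ 0 := by
    by_contra hcon
    push Not at hcon
    apply hone
    rw [← hsum, hr]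
    apply Finset.sum_eq_zero
    intro f hf
    simp only [Finset.mem_filter, Finset.mem_univ, true_and] at hf
    exact hcon f hf
  have hidem : ∀ f : Set (IrrCharacter C), IsPBlock M f → IsStable ρ f →
      MemLocalIdeal M (brV ι (indic f) ξ - brV ι (indic f) ξ * brV ι (indic f) ξ) := by
    intro f hf hfs
    have h1 := brV_mul hM hΓ h (indic_mem_zS hf) (indic_mem_zS hf) (invF_of_isStable hfs) (invF_of_isStable hfs) ξ
    rwa [indic_mul_self] at h1
  obtain ⟨f, hf, hf0⟩ := hex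
  have hfb := mem_blocksFinset.mp f.2
  have hfs := hstable f hf
  have hf1 : MemLocalIdeal M (brV ι (indic f.1) ξ - 1) := by
    have h1 := hidem _ hfb hfs
    have h2 : brV ι (indic f.1) ξ - brV ι (indic f.1) ξ * brV ι (indic f.1) ξ =
        brV ι (indic f.1) ξ * (1 - brV ι (indic f.1) ξ) := by ring
    rw [h2] at h1
    rcases MemLocalIdeal.of_mul (hloc f) (MemLocalRing.sub memLocalRing_one (hloc f)) h1 with h3 | h3
    · exact absurd ((resC_eq_zero_iff (hloc f)).mpr h3) hf0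
    · have h4 := MemLocalIdeal.neg h3
      rwa [neg_sub] at h4
  refine ⟨f.1, ⟨hfb, hfs, hf1⟩, ?_⟩
  rintro f' ⟨hf'b, hf's, hf'1⟩
  by_contra hne
  have h1 := brV_mul hM hΓ h (indic_mem_zS hf'b) (indic_mem_zS hfb) (invF_of_isStable hf's) (invF_of_isStable hfs) ξ
  rw [indic_mul_indic_eq_zero hf'b hfb hne, brV_zero, zero_sub] at h1
  have h2 := MemLocalIdeal.neg h1
  rw [neg_neg] at h2
  -- `x y ∈ I`, `x ≡ 1`, `y ≡ 1`
  have h3 := MemLocalIdeal.mul_right hf'1 (hloc f)
  have h4 := MemLocalIdeal.sub h2 h3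
  have h5 := MemLocalIdeal.sub h4 hf1
  have h6 : brV ι (indic f') ξ * brV ι (indic f.1) ξ - (brV ι (indic f') ξ - 1) * brV ι (indic f.1) ξ -
      (brV ι (indic f.1) ξ - 1) = 1 := by ring
  rw [h6] at h5
  exact not_memLocalIdeal_one h5

/-- The same for a block of `D`. -/
theorem existsUnique_stable_block' (hM : IsPModular p M) (hΓ : IsPGroup p Γ) (h : BrData ρ ι)
    {e : Set (IrrCharacter D)} (he : IsPBlock M e) :
    ∃! f : Set (IrrCharacter C), IsPBlock M f ∧ IsStable ρ f ∧ ∀ ξ ∈ e, MemLocalIdeal M (brV ι (indic f) ξ - 1) := by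
  have := isPrime_of_modular hM
  obtain ⟨ξ₀, hξ₀⟩ := IsPBlock.nonempty he
  obtain ⟨f, ⟨hf, hfs, hf1⟩, hu⟩ := existsUnique_stable_block hM hΓ h ξ₀
  refine ⟨f, ⟨hf, hfs, fun ξ hξ => ?_⟩, ?_⟩
  · exact MemLocalIdeal.trans (brV_congr ι (indic_mem_zS hf) he hξ hξ₀) hf1
  · rintro f' ⟨hf', hf's, hf'1⟩
    exact hu f' ⟨hf', hf's, hf'1 ξ₀ hξ₀⟩

end Abstract

section Transfer

variable {C D₁ D₂ : Type u} [Group C] [Fintype C] [Group D₁] [Fintype D₁] [Group D₂] [Fintype D₂]
  {Γ₁ : Type v} [Group Γ₁] {Γ₂ : Type v} [Group Γ₂]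
  {M : Ideal AlgInt} {p : ℕ} [hp : Fact p.Prime]
  {ρ₁ : Γ₁ →* MulAut C} {ρ₂ : Γ₂ →* MulAut C} {σ : Γ₂ →* MulAut D₁} {ι₁ : D₁ →* C} {ι₂ : D₂ →* D₁}

/-- The Brauer map at the smaller group, then the larger one. -/
theorem transfer_up (hM : IsPModular p M) (hΓ₁ : IsPGroup p Γ₁) (hΓ₂ : IsPGroup p Γ₂)
    (h₁ : BrData ρ₁ ι₁) (h₂ : BrData σ ι₂) (heq : ∀ u y, ι₁ (σ u y) = ρ₂ u (ι₁ y))
    {f : Set (IrrCharacter C)} (hf : IsPBlock M f) (hfs₁ : IsStable ρ₁ f) (hfs₂ : IsStable ρ₂ f)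
    {h : Set (IrrCharacter D₁)} (hh : IsPBlock M h) (hhs : IsStable σ h) {ξ' : IrrCharacter D₂}
    (hξ' : MemLocalIdeal M (brV ι₂ (indic h) ξ' - 1))
    (hf1 : ∀ ξ ∈ h, MemLocalIdeal M (brV ι₁ (indic f) ξ - 1)) :
    MemLocalIdeal M (brV (ι₁.comp ι₂) (indic f) ξ' - 1) := by
  classical
  have := isPrime_of_modular hM
  have hfS := indic_mem_zS hf
  have hiS := indic_mem_zS hh
  have hc₁S := brV_mem_zS (M := M) ι₁ hfS
  have hc₁coef : coef (brV ι₁ (indic f)) = coef (indic f) ∘ ι₁ :=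
    coef_spec _ (isClassFunction_comp (coef_isClassFunction _) ι₁)
  have hinv₁ := invF_of_isStable hfs₁
  have hid : CoefIdeal M (brV ι₁ (indic f) * brV ι₁ (indic f) - brV ι₁ (indic f)) := by
    intro t
    rw [coef_sub, coef_mul, hc₁coef, Pi.sub_apply]
    have h1 := conv_brauer hM hΓ₁ h₁ hinv₁ hinv₁ hfS hfS t
    rw [← coef_mul, indic_mul_self] at h1
    exact MemLocalIdeal.symm h1
  have hdS : brV ι₁ (indic f) * indic h - indic h ∈ zS M D₁ :=
    Subring.sub_mem _ (Subring.mul_mem _ hc₁S hiS) hiS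
  have hvals : ∀ χ, MemLocalIdeal M ((brV ι₁ (indic f) * indic h - indic h) χ) := by
    intro χ
    simp only [Pi.sub_apply, Pi.mul_apply]
    by_cases hχ : χ ∈ h
    · rw [indic_apply_of_mem hχ, mul_one]
      exact hf1 χ hχ
    · rw [indic_apply_of_notMem hχ]
      simpa using memLocalIdeal_zero
  have hcube : CoefIdeal M ((brV ι₁ (indic f) * indic h - indic h) ^ 3 - (brV ι₁ (indic f) * indic h - indic h)) := by
    have hi := indic_mul_self h
    have h1 : (brV ι₁ (indic f) * indic h - indic h) ^ 3 - (brV ι₁ (indic f) * indic h - indic h) =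
        (brV ι₁ (indic f) * brV ι₁ (indic f) - brV ι₁ (indic f)) * (indic h * (brV ι₁ (indic f) - 2)) := by
      linear_combination ((indic h + 1) * (brV ι₁ (indic f) - 1) ^ 3) * hi
    rw [h1]
    refine CoefIdeal.mul_right hid (Subring.mul_mem _ hiS (Subring.sub_mem _ hc₁S ?_))
    exact_mod_cast natCast_mem (zS M D₁) 2
  have hd := coefIdeal_of_cube hM hdS hcube hvals
  have hinvc : InvF σ (coef (brV ι₁ (indic f))) := by
    intro u y
    rw [hc₁coef]
    simp only [Function.comp_apply]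
    rw [heq, invF_of_isStable hfs₂]
  have hm := brV_mul hM hΓ₂ h₂ hc₁S hiS hinvc (invF_of_isStable hhs) ξ'
  have h3 : MemLocalIdeal M (brV ι₂ (brV ι₁ (indic f) * indic h - indic h) ξ') := by
    apply spec_memLocalIdeal (isClassFunction_comp (coef_isClassFunction _) ι₂)
    intro t
    exact hd _
  rw [brV_sub] at h3
  have h4 : brV ι₂ (brV ι₁ (indic f)) ξ' = brV (ι₁.comp ι₂) (indic f) ξ' := by
    rw [brV, hc₁coef]
    rfl
  rw [h4] at hm
  have hx := brV_memLocalRing (M := M) ι₂ hiS ξ'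
  have hy := brV_memLocalRing (M := M) (ι₁.comp ι₂) hfS ξ'
  -- `x y ≡ x'`, `x' ≡ x`, `x ≡ 1`
  have h5 := MemLocalIdeal.mul_left hy hξ'
  have h8 := MemLocalIdeal.add (MemLocalIdeal.sub (MemLocalIdeal.sub h3 hm) h5) hξ'
  convert h8 using 1
  ring

theorem transBlock_mul_aut (a b : MulAut C) (f : Set (IrrCharacter C)) :
    transBlock (a * b) f = transBlock b (transBlock a f) := by
  ext ψ
  show Cfsg.Agent.Lib.Blocks.irrComp (a * b).symm ψ ∈ f ↔
    Cfsg.Agent.Lib.Blocks.irrComp a.symm (Cfsg.Agent.Lib.Blocks.irrComp b.symm ψ) ∈ f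
  have h1 : Cfsg.Agent.Lib.Blocks.irrComp (a * b).symm ψ =
      Cfsg.Agent.Lib.Blocks.irrComp a.symm (Cfsg.Agent.Lib.Blocks.irrComp b.symm ψ) := by
    apply Subtype.ext
    funext x
    simp only [Cfsg.Agent.Lib.Blocks.irrComp_coe, Function.comp_apply]
    rfl
  rw [h1]

/-- Going back from the larger group to the smaller one. -/
theorem transfer_down (hM : IsPModular p M) (hΓ₁ : IsPGroup p Γ₁) (hΓ₂ : IsPGroup p Γ₂)
    (h₁ : BrData ρ₁ ι₁) (h₂ : BrData σ ι₂) (h₁₂ : BrData ρ₂ (ι₁.comp ι₂)) (heq : ∀ u y, ι₁ (σ u y) = ρ₂ u (ι₁ y))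
    (hnorm : ∀ (u : Γ₂) (γ : Γ₁), ∃ γ' : Γ₁, ρ₂ u * ρ₁ γ = ρ₁ γ' * ρ₂ u)
    {f : Set (IrrCharacter C)} (hf : IsPBlock M f) (hfs₂ : IsStable ρ₂ f)
    {h : Set (IrrCharacter D₁)} (hh : IsPBlock M h) (hhs : IsStable σ h) {ξ' : IrrCharacter D₂}
    (hξ' : MemLocalIdeal M (brV ι₂ (indic h) ξ' - 1))
    (hf2 : MemLocalIdeal M (brV (ι₁.comp ι₂) (indic f) ξ' - 1)) :
    IsStable ρ₁ f ∧ ∀ ξ ∈ h, MemLocalIdeal M (brV ι₁ (indic f) ξ - 1) := by
  classical
  have := isPrime_of_modular hM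
  obtain ⟨f₁, ⟨hf₁, hf₁s, hf₁1⟩, hu⟩ := existsUnique_stable_block' hM hΓ₁ h₁ hh
  have hstab : IsStable ρ₂ f₁ := by
    intro u
    refine hu _ ⟨isPBlock_transBlock _ hf₁, ?_, ?_⟩
    · intro γ
      obtain ⟨γ', hγ'⟩ := hnorm u γ
      rw [← transBlock_mul_aut, hγ', transBlock_mul_aut, hf₁s γ']
    · intro ξ hξ
      have h1 : brV ι₁ (indic (transBlock (ρ₂ u) f₁)) ξ = brV ι₁ (indic f₁)
          (Cfsg.Agent.Lib.Blocks.irrComp (σ u).symm ξ) := by
        simp only [brV]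
        rw [← spec_irrComp (σ u).symm]
        congr 1
        funext y
        simp only [Function.comp_apply]
        rw [coef_indic_transBlock, ← heq, MulEquiv.apply_symm_apply]
      rw [h1]
      apply hf₁1
      have h3 := hhs u
      rw [← h3] at hξ
      exact hξ
  have hup := transfer_up hM hΓ₁ hΓ₂ h₁ h₂ heq hf₁ hf₁s hstab hh hhs hξ' hf₁1
  obtain ⟨f₂, -, hu₂⟩ := existsUnique_stable_block hM hΓ₂ h₁₂ ξ'
  have e1 := hu₂ f ⟨hf, hfs₂, hf2⟩
  have e2 := hu₂ f₁ ⟨hf₁, hstab, hup⟩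
  rw [e1, ← e2]
  exact ⟨hf₁s, hf₁1⟩

end Transfer

end Cfsg.Agent.Lib.H8Group
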