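import Cfsg.Agent.Lib.H8Group.BrauerMap
import Cfsg.Prelude.Def_BrauerPairs

/-!
# Brauer pairs: inclusion (Alperin–Broué)
-/

set_option autoImplicit false
set_option linter.unusedSectionVars false

namespace Cfsg.Agent.Lib.H8Group

open Cfsg Cfsg.Agent.Lib.Char Cfsg.Agent.Lib.Blocks

universe u

section Concrete

variable {G : Type u} [Group G] {M : Ideal AlgInt} {p : ℕ} {Q P : Subgroup G}

theorem conj_mem_centralizer_of_normalizer {x c : G} (hx : x ∈ Subgroup.normalizer (Q : Set G))
    (hc : c ∈ Subgroup.centralizer (Q : Set G)) : x * c * x⁻¹ ∈ Subgroup.centralizer (Q : Set G) := by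
  rw [Subgroup.mem_centralizer_iff] at hc ⊢
  intro q hq
  have h1 : x⁻¹ * q * x⁻¹⁻¹ ∈ Q := (Subgroup.mem_normalizer_iff.mp (Subgroup.inv_mem _ hx) q).mp hq
  have h2 : x⁻¹ * q * x⁻¹⁻¹ = x⁻¹ * q * x := by simp
  rw [h2] at h1
  have h3 := hc _ h1
  have h4 : q * (x * c * x⁻¹) = x * ((x⁻¹ * q * x) * c) * x⁻¹ := by group
  have h5 : (x * c * x⁻¹) * q = x * (c * (x⁻¹ * q * x)) * x⁻¹ := by group
  rw [h4, h5, h3]

theorem normalizer_le_normalizer_centralizer :
    Subgroup.normalizer (Q : Set G) ≤ Subgroup.normalizer (Subgroup.centralizer (Q : Set G) : Set G) := by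
  intro x hx
  rw [Subgroup.mem_normalizer_iff]
  intro c
  constructor
  · exact conj_mem_centralizer_of_normalizer hx
  · intro h
    have h1 := conj_mem_centralizer_of_normalizer (Subgroup.inv_mem _ hx) h
    have h2 : x⁻¹ * (x * c * x⁻¹) * x⁻¹⁻¹ = c := by group
    rwa [h2] at h1

/-- Conjugation by an element of the normalizer on the centralizer. -/
def cenConj (Q : Subgroup G) (x : Subgroup.normalizer (Q : Set G)) :
    MulAut (Subgroup.centralizer (Q : Set G)) where
  toFun c := ⟨(x : G) * (c : G) * (x : G)⁻¹, conj_mem_centralizer_of_normalizer x.2 c.2⟩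
  invFun c := ⟨(x : G)⁻¹ * (c : G) * (x : G), by
    have h := conj_mem_centralizer_of_normalizer (Subgroup.inv_mem _ x.2) c.2
    simpa using h⟩
  left_inv c := by
    apply Subtype.ext
    simp [mul_assoc]
  right_inv c := by
    apply Subtype.ext
    simp [mul_assoc]
  map_mul' s t := by
    apply Subtype.ext
    simp [mul_assoc]

@[simp] theorem cenConj_coe (x : Subgroup.normalizer (Q : Set G)) (c : Subgroup.centralizer (Q : Set G)) :
    ((cenConj Q x c : Subgroup.centralizer (Q : Set G)) : G) = (x : G) * (c : G) * (x : G)⁻¹ := rfl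

/-- The action of a subgroup of the normalizer on the centralizer. -/
def cenAct (Q P : Subgroup G) (hPN : P ≤ Subgroup.normalizer (Q : Set G)) :
    P →* MulAut (Subgroup.centralizer (Q : Set G)) :=
  MonoidHom.mk' (fun u => cenConj Q ⟨u, hPN u.2⟩) (by
    intro a b
    ext c
    simp [MulAut.mul_apply, cenConj_coe, mul_assoc])

@[simp] theorem cenAct_coe (hPN : P ≤ Subgroup.normalizer (Q : Set G)) (u : P)
    (c : Subgroup.centralizer (Q : Set G)) :
    ((cenAct Q P hPN u c : Subgroup.centralizer (Q : Set G)) : G) = (u : G) * (c : G) * (u : G)⁻¹ := rfl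

/-- The action of a subgroup on the group by conjugation. -/
def gAct (P : Subgroup G) : P →* MulAut G := MulAut.conj.comp P.subtype

@[simp] theorem gAct_apply (u : P) (x : G) : gAct P u x = (u : G) * x * (u : G)⁻¹ := rfl

/-- The inclusion of centralizers. -/
def cenIncl (hQP : Q ≤ P) : Subgroup.centralizer (P : Set G) →* Subgroup.centralizer (Q : Set G) :=
  Subgroup.inclusion (Subgroup.centralizer_le hQP)

@[simp] theorem cenIncl_coe (hQP : Q ≤ P) (c : Subgroup.centralizer (P : Set G)) :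
    ((cenIncl hQP c : Subgroup.centralizer (Q : Set G)) : G) = (c : G) := rfl

theorem brData_g (P : Subgroup G) : BrData (D := Subgroup.centralizer (P : Set G)) (gAct P) (Subgroup.subtype _) := by
  refine ⟨Subgroup.subtype_injective _, fun x => ?_⟩
  constructor
  · intro h
    refine ⟨⟨x, ?_⟩, rfl⟩
    rw [Subgroup.mem_centralizer_iff]
    intro u hu
    have h1 := h ⟨u, hu⟩
    rw [gAct_apply] at h1
    exact mul_inv_eq_iff_eq_mul.mp h1
  · rintro ⟨y, rfl⟩ u
    have h1 := Subgroup.mem_centralizer_iff.mp y.2 u u.2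
    rw [gAct_apply]
    show (u : G) * y * (u : G)⁻¹ = y
    rw [h1]
    group

theorem brData_c (hQP : Q ≤ P) (hPN : P ≤ Subgroup.normalizer (Q : Set G)) :
    BrData (cenAct Q P hPN) (cenIncl hQP) := by
  refine ⟨fun a b h => Subtype.ext (congrArg (fun z : Subgroup.centralizer (Q : Set G) => (z : G)) h), fun x => ?_⟩
  constructor
  · intro h
    refine ⟨⟨x, ?_⟩, rfl⟩
    rw [Subgroup.mem_centralizer_iff]
    intro u hu
    have h1 := congrArg (fun z : Subgroup.centralizer (Q : Set G) => (z : G)) (h ⟨u, hu⟩)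
    simp only [cenAct_coe] at h1
    exact mul_inv_eq_iff_eq_mul.mp h1
  · rintro ⟨y, rfl⟩ u
    apply Subtype.ext
    have h1 := Subgroup.mem_centralizer_iff.mp y.2 u u.2
    rw [cenAct_coe, cenIncl_coe, h1]
    group

variable [Fintype G]

theorem isStable_g [Fintype (Subgroup.centralizer (P : Set G))] (B : Set (IrrCharacter G)) : IsStable (gAct P) B := by
  intro u
  ext ψ
  show Cfsg.Agent.Lib.Blocks.irrComp (gAct P u).symm ψ ∈ B ↔ ψ ∈ B
  have h1 : Cfsg.Agent.Lib.Blocks.irrComp (gAct P u).symm ψ = ψ := by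
    apply Subtype.ext
    funext x
    simp only [Cfsg.Agent.Lib.Blocks.irrComp_coe, Function.comp_apply]
    show (ψ : G → ℂ) ((MulAut.conj (u : G)).symm x) = _
    rw [MulAut.conj_symm_apply]
    have := irr_isClassFunction ψ x (u : G)⁻¹
    simpa using this
  rw [h1]

variable [hP' : Fintype (Subgroup.centralizer (P : Set G))]

theorem brauerOmega_eq_brV_g (B : Set (IrrCharacter G)) (ξ : IrrCharacter (Subgroup.centralizer (P : Set G))) :
    brauerOmega P (blockCoeff B) (ξ : Subgroup.centralizer (P : Set G) → ℂ) =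
      brV (Subgroup.subtype (Subgroup.centralizer (P : Set G))) (indic B) ξ := by
  rw [brauerOmega, finsum_eq_sum_of_fintype, brV, spec, Finset.sum_div]
  refine Finset.sum_congr rfl fun x _ => ?_
  rw [blockCoeff_eq_coef]
  rfl

variable [hQ' : Fintype (Subgroup.centralizer (Q : Set G))]

theorem brauerOmega_eq_brV_c (hQP : Q ≤ P) (f : Set (IrrCharacter (Subgroup.centralizer (Q : Set G))))
    (ξ : IrrCharacter (Subgroup.centralizer (P : Set G))) :
    brauerOmega P (subgroupBlockCoeff (Subgroup.centralizer (Q : Set G)) f) (ξ : Subgroup.centralizer (P : Set G) → ℂ) =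
      brV (cenIncl hQP) (indic f) ξ := by
  classical
  rw [brauerOmega, finsum_eq_sum_of_fintype, brV, spec, Finset.sum_div]
  refine Finset.sum_congr rfl fun x _ => ?_
  have hx : (x : G) ∈ Subgroup.centralizer (Q : Set G) := Subgroup.centralizer_le hQP x.2
  simp only [subgroupBlockCoeff, dif_pos hx]
  rw [blockCoeff_eq_coef]
  rfl

theorem isStable_iff_stabilizes (hPN : P ≤ Subgroup.normalizer (Q : Set G))
    (f : Set (IrrCharacter (Subgroup.centralizer (Q : Set G)))) :
    IsStable (cenAct Q P hPN) f ↔ ∀ x ∈ P, StabilizesBlock (Subgroup.centralizer (Q : Set G)) f x := by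
  have hact : ∀ (u : P) (ψ : IrrCharacter (Subgroup.centralizer (Q : Set G))),
      (Cfsg.Agent.Lib.Blocks.irrComp (cenAct Q P hPN u)⁻¹ ψ : IrrCharacter (Subgroup.centralizer (Q : Set G))) =
        Cfsg.Agent.Lib.Blocks.irrComp (cenAct Q P hPN u⁻¹) ψ := by
    intro u ψ
    rw [map_inv]
  constructor
  · intro h x hx
    refine ⟨normalizer_le_normalizer_centralizer (hPN hx), fun χ hχ => ?_⟩
    let u : P := ⟨x, hx⟩
    refine ⟨Cfsg.Agent.Lib.Blocks.irrComp (cenAct Q P hPN u⁻¹) χ, ?_, ?_⟩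
    · have h1 := h u⁻¹
      rw [← h1]
      show Cfsg.Agent.Lib.Blocks.irrComp (cenAct Q P hPN u⁻¹).symm
        (Cfsg.Agent.Lib.Blocks.irrComp (cenAct Q P hPN u⁻¹) χ) ∈ f
      rwa [Cfsg.Agent.Lib.Blocks.irrComp_symm_irrComp]
    · intro k k' hk
      simp only [Cfsg.Agent.Lib.Blocks.irrComp_coe, Function.comp_apply]
      have h2 : cenAct Q P hPN u⁻¹ k' = k := by
        apply Subtype.ext
        rw [cenAct_coe, hk]
        simp [u, mul_assoc]
      rw [h2]
  · intro h u
    have hkey : ∀ (v : P) (ψ : IrrCharacter (Subgroup.centralizer (Q : Set G))), ψ ∈ f →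
        Cfsg.Agent.Lib.Blocks.irrComp (cenAct Q P hPN v⁻¹) ψ ∈ f := by
      intro v ψ hψ
      obtain ⟨-, h2⟩ := h v v.2
      obtain ⟨χ', hχ', h3⟩ := h2 ψ hψ
      have h4 : Cfsg.Agent.Lib.Blocks.irrComp (cenAct Q P hPN v⁻¹) ψ = χ' := by
        apply Subtype.ext
        funext c
        simp only [Cfsg.Agent.Lib.Blocks.irrComp_coe, Function.comp_apply]
        symm
        apply h3
        rw [cenAct_coe]
        simp [mul_assoc]
      rw [h4]
      exact hχ'
    ext ψ
    show Cfsg.Agent.Lib.Blocks.irrComp (cenAct Q P hPN u).symm ψ ∈ f ↔ ψ ∈ f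
    have h5 : (cenAct Q P hPN u).symm = cenAct Q P hPN u⁻¹ := by
      rw [map_inv]
      rfl
    rw [h5]
    constructor
    · intro hψ
      have h6 := hkey u⁻¹ _ hψ
      rw [inv_inv] at h6
      have h7 : Cfsg.Agent.Lib.Blocks.irrComp (cenAct Q P hPN u)
          (Cfsg.Agent.Lib.Blocks.irrComp (cenAct Q P hPN u⁻¹) ψ) = ψ := by
        apply Subtype.ext
        funext c
        simp only [Cfsg.Agent.Lib.Blocks.irrComp_coe, Function.comp_apply]
        have h8 : cenAct Q P hPN u⁻¹ (cenAct Q P hPN u c) = c := by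
          rw [← MulAut.mul_apply, ← map_mul, inv_mul_cancel, map_one]
          rfl
        rw [h8]
      rwa [h7] at h6
    · exact hkey u ψ

end Concrete

section Pairs

variable {G : Type u} [Group G] [Fintype G] {M : Ideal AlgInt} {p : ℕ} [hp : Fact p.Prime] {Q P : Subgroup G}

/-- **Alperin–Broué**: the unique normal subpair. -/
theorem existsUnique_isNormalSubpair (hM : IsPModular p M)
    {e : Set (IrrCharacter (Subgroup.centralizer (P : Set G)))} (hPe : IsBrauerPair p M P e)
    (hQP : Q ≤ P) (hPN : P ≤ Subgroup.normalizer (Q : Set G)) :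
    ∃! f : Set (IrrCharacter (Subgroup.centralizer (Q : Set G))), IsNormalSubpair p M Q f P e := by
  classical
  letI : Fintype (Subgroup.centralizer (P : Set G)) := Fintype.ofFinite _
  letI : Fintype (Subgroup.centralizer (Q : Set G)) := Fintype.ofFinite _
  obtain ⟨f, ⟨hf, hs, h1⟩, hu⟩ := existsUnique_stable_block' hM hPe.1 (brData_c hQP hPN) hPe.2
  refine ⟨f, ⟨⟨hPe.1.to_le hQP, hf⟩, hPe, hQP, hPN, (isStable_iff_stabilizes hPN f).mp hs,
    fun ξ hξ => ?_⟩, ?_⟩
  · rw [brauerOmega_eq_brV_c hQP]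
    exact h1 ξ hξ
  · rintro f' ⟨⟨-, hf'⟩, -, -, -, hs', h'⟩
    refine hu f' ⟨hf', (isStable_iff_stabilizes hPN f').mpr hs', fun ξ hξ => ?_⟩
    rw [← brauerOmega_eq_brV_c hQP]
    exact h' ξ hξ

theorem normal_conj_mem {u γ : G} (hu : u ∈ Subgroup.normalizer (Q : Set G)) (hγ : γ ∈ Q) : u * γ * u⁻¹ ∈ Q :=
  (Subgroup.mem_normalizer_iff.mp hu γ).mp hγ

/-- The normal step for the blocks of `G`. -/
theorem isBrauerPairOf_iff_normal (hM : IsPModular p M)
    {e : Set (IrrCharacter (Subgroup.centralizer (P : Set G)))}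
    {f : Set (IrrCharacter (Subgroup.centralizer (Q : Set G)))} (h : IsNormalSubpair p M Q f P e)
    {B : Set (IrrCharacter G)} (hB : IsPBlock M B) :
    IsBrauerPairOf p M B P e ↔ IsBrauerPairOf p M B Q f := by
  classical
  have := isPrime_of_modular hM
  letI : Fintype (Subgroup.centralizer (P : Set G)) := Fintype.ofFinite _
  letI : Fintype (Subgroup.centralizer (Q : Set G)) := Fintype.ofFinite _
  obtain ⟨hQf, hPe, hQP, hPN, hst, hv⟩ := h
  have hs := (isStable_iff_stabilizes hPN f).mpr hst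
  have hheq : ∀ (u : P) (y : Subgroup.centralizer (Q : Set G)),
      (Subgroup.subtype (Subgroup.centralizer (Q : Set G))) (cenAct Q P hPN u y) =
        gAct P u (Subgroup.subtype (Subgroup.centralizer (Q : Set G)) y) := fun _ _ => rfl
  have hv' : ∀ ξ ∈ e, MemLocalIdeal M (brV (cenIncl hQP) (indic f) ξ - 1) := by
    intro ξ hξ
    rw [← brauerOmega_eq_brV_c hQP]
    exact hv ξ hξ
  constructor
  · intro h1
    refine ⟨hQf, hB, fun ξ hξ => ?_⟩
    rw [brauerOmega_eq_brV_g]
    obtain ⟨ξ', hξ'⟩ := IsPBlock.nonempty hPe.2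
    have hnorm : ∀ (u : P) (γ : Q), ∃ γ' : Q, gAct P u * gAct Q γ = gAct Q γ' * gAct P u := by
      intro u γ
      refine ⟨⟨(u : G) * γ * (u : G)⁻¹, normal_conj_mem (hPN u.2) γ.2⟩, ?_⟩
      ext x
      simp only [MulAut.mul_apply, gAct_apply]
      group
    have h2 := h1.2.2 ξ' hξ'
    rw [brauerOmega_eq_brV_g] at h2
    have h3 := transfer_down (C := G) (ρ₁ := gAct Q) (ρ₂ := gAct P) (σ := cenAct Q P hPN)
      (ι₁ := Subgroup.subtype (Subgroup.centralizer (Q : Set G))) (ι₂ := cenIncl hQP) hM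
      (hPe.1.to_le hQP) hPe.1 (brData_g Q) (brData_c hQP hPN) (brData_g P) hheq hnorm hB (isStable_g B) hQf.2 hs
      (hv' ξ' hξ') h2
    exact h3.2 ξ hξ
  · intro h1
    refine ⟨hPe, hB, fun ξ hξ => ?_⟩
    rw [brauerOmega_eq_brV_g]
    have hf1 : ∀ ξ ∈ f, MemLocalIdeal M (brV (Subgroup.subtype (Subgroup.centralizer (Q : Set G))) (indic B) ξ - 1) := by
      intro ξ hξ
      rw [← brauerOmega_eq_brV_g]
      exact h1.2.2 ξ hξ
    exact transfer_up (C := G) (ρ₁ := gAct Q) (ρ₂ := gAct P) (σ := cenAct Q P hPN)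
      (ι₁ := Subgroup.subtype (Subgroup.centralizer (Q : Set G))) (ι₂ := cenIncl hQP) hM
      (hPe.1.to_le hQP) hPe.1 (brData_g Q) (brData_c hQP hPN) hheq hB (isStable_g B) (isStable_g B) hQf.2 hs
      (hv' ξ hξ) hf1

/-- The chain version. -/
theorem isBrauerPairOf_iff_of_chain (hM : IsPModular p M) {a b : BrauerPairIdx G}
    (h : Relation.ReflTransGen (NormalSubpairRel p M) a b) {B : Set (IrrCharacter G)} (hB : IsPBlock M B) :
    IsBrauerPairOf p M B b.1 b.2 ↔ IsBrauerPairOf p M B a.1 a.2 := by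
  induction h with
  | refl => exact Iff.rfl
  | tail _ hstep ih => exact (isBrauerPairOf_iff_normal hM hstep hB).trans ih

/-- Downward transfer of a normal subpair along a normal inclusion. -/
theorem isNormalSubpair_down (hM : IsPModular p M) {T T' R : Subgroup G}
    {h : Set (IrrCharacter (Subgroup.centralizer (T : Set G)))}
    {h' : Set (IrrCharacter (Subgroup.centralizer (T' : Set G)))}
    {f : Set (IrrCharacter (Subgroup.centralizer (R : Set G)))}
    (hstep : IsNormalSubpair p M T h T' h') (hRT : R ≤ T) (hf : IsNormalSubpair p M R f T' h') :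
    IsNormalSubpair p M R f T h := by
  classical
  have := isPrime_of_modular hM
  letI : Fintype (Subgroup.centralizer (T : Set G)) := Fintype.ofFinite _
  letI : Fintype (Subgroup.centralizer (T' : Set G)) := Fintype.ofFinite _
  letI : Fintype (Subgroup.centralizer (R : Set G)) := Fintype.ofFinite _
  obtain ⟨hTh, hT'h', hTT', hT'N, hst, hv⟩ := hstep
  obtain ⟨hRf, -, hRT', hT'NR, hst', hv'⟩ := hf
  have hTNR : T ≤ Subgroup.normalizer (R : Set G) := hTT'.trans hT'NR
  have hs := (isStable_iff_stabilizes hT'N h).mpr hst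
  have hs' := (isStable_iff_stabilizes hT'NR f).mpr hst'
  have hheq : ∀ (u : T') (y : Subgroup.centralizer (T : Set G)),
      cenIncl hRT (cenAct T T' hT'N u y) = cenAct R T' hT'NR u (cenIncl hRT y) := fun _ _ => rfl
  have hnorm : ∀ (u : T') (γ : T), ∃ γ' : T, cenAct R T' hT'NR u * cenAct R T hTNR γ =
      cenAct R T hTNR γ' * cenAct R T' hT'NR u := by
    intro u γ
    refine ⟨⟨(u : G) * γ * (u : G)⁻¹, normal_conj_mem (hT'N u.2) γ.2⟩, ?_⟩
    ext x
    simp only [MulAut.mul_apply, cenAct_coe]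
    group
  obtain ⟨ξ', hξ'⟩ := IsPBlock.nonempty hT'h'.2
  have h2 := hv' ξ' hξ'
  rw [brauerOmega_eq_brV_c hRT'] at h2
  have h1 := hv ξ' hξ'
  rw [brauerOmega_eq_brV_c hTT'] at h1
  have h3 := transfer_down (C := Subgroup.centralizer (R : Set G)) (ρ₁ := cenAct R T hTNR) (ρ₂ := cenAct R T' hT'NR)
    (σ := cenAct T T' hT'N) (ι₁ := cenIncl hRT) (ι₂ := cenIncl hTT') hM
    (hT'h'.1.to_le hTT') hT'h'.1 (brData_c hRT hTNR) (brData_c hTT' hT'N) (brData_c hRT' hT'NR) hheq hnorm hRf.2 hs'
    hTh.2 hs h1 h2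
  refine ⟨hRf, hTh, hRT, hTNR, (isStable_iff_stabilizes hTNR f).mp h3.1, fun ξ hξ => ?_⟩
  rw [brauerOmega_eq_brV_c hRT]
  exact h3.2 ξ hξ

/-- The subgroups increase along a chain. -/
theorem le_of_chain {a b : BrauerPairIdx G} (h : Relation.ReflTransGen (NormalSubpairRel p M) a b) : a.1 ≤ b.1 := by
  induction h with
  | refl => exact le_rfl
  | tail _ hstep ih => exact ih.trans hstep.2.2.1

theorem le_of_subpairLE {e : Set (IrrCharacter (Subgroup.centralizer (P : Set G)))}
    {f : Set (IrrCharacter (Subgroup.centralizer (Q : Set G)))} (h : SubpairLE p M Q f P e) : Q ≤ P :=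
  le_of_chain h

/-- A normal subpair with the same group is trivial. -/
theorem eq_of_isNormalSubpair_same (hM : IsPModular p M)
    {f f₁ : Set (IrrCharacter (Subgroup.centralizer (Q : Set G)))} (h : IsNormalSubpair p M Q f Q f₁) : f = f₁ := by
  classical
  have := isPrime_of_modular hM
  letI : Fintype (Subgroup.centralizer (Q : Set G)) := Fintype.ofFinite _
  obtain ⟨hf, hf₁, -, -, -, hv⟩ := h
  obtain ⟨ξ, hξ⟩ := IsPBlock.nonempty hf₁.2
  have h1 := hv ξ hξ
  rw [brauerOmega_eq_brV_c le_rfl] at h1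
  have h2 : brV (cenIncl (le_refl Q)) (indic f) ξ = indic f ξ := by
    have h3 : coef (indic f) ∘ cenIncl (le_refl Q) = coef (indic f) := rfl
    rw [brV, h3, spec_coef]
  rw [h2] at h1
  have hξf : ξ ∈ f := by
    by_contra hn
    rw [indic_apply_of_notMem hn, zero_sub] at h1
    have h4 := MemLocalIdeal.neg h1
    rw [neg_neg] at h4
    exact not_memLocalIdeal_one h4
  rw [blockOf_eq_of_mem hf.2 hξf, ← blockOf_eq_of_mem hf₁.2 hξ]

/-- A chain over a fixed subgroup is trivial. -/
theorem eq_of_chain_of_fst_eq (hM : IsPModular p M) {a b : BrauerPairIdx G}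
    (h : Relation.ReflTransGen (NormalSubpairRel p M) a b) (hab : a.1 = b.1) : a = b := by
  induction h using Relation.ReflTransGen.head_induction_on with
  | refl => rfl
  | head hstep hrest ih =>
    rename_i a c
    have h1 : a.1 ≤ c.1 := hstep.2.2.1
    have h2 : c.1 ≤ b.1 := le_of_chain hrest
    have h3 : a.1 = c.1 := le_antisymm h1 (hab ▸ h2)
    have h4 := ih (h3 ▸ hab |> fun h => by rw [← h3]; exact hab)
    subst h4
    obtain ⟨Qa, fa⟩ := a
    obtain ⟨Qc, fc⟩ := c
    simp only at h3 hstep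
    subst h3
    have h5 : fa = fc := eq_of_isNormalSubpair_same hM hstep
    rw [h5]

/-- The first nontrivial step of a chain. -/
theorem exists_step_of_chain (hM : IsPModular p M) {a b : BrauerPairIdx G}
    (h : Relation.ReflTransGen (NormalSubpairRel p M) a b) (hab : a.1 ≠ b.1) :
    ∃ c, NormalSubpairRel p M a c ∧ a.1 < c.1 ∧ Relation.ReflTransGen (NormalSubpairRel p M) c b := by
  induction h using Relation.ReflTransGen.head_induction_on with
  | refl => exact absurd rfl hab
  | head hstep hrest ih =>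
    rename_i a c
    by_cases h3 : a.1 = c.1
    · obtain ⟨c', h4, h5, h6⟩ := ih (by rwa [← h3])
      have h7 : a = c := by
        obtain ⟨Qa, fa⟩ := a
        obtain ⟨Qc, fc⟩ := c
        simp only at h3 hstep
        subst h3
        have h5 : fa = fc := eq_of_isNormalSubpair_same hM hstep
        rw [h5]
      rw [h7]
      exact ⟨c', h4, h5, h6⟩
    · exact ⟨c, hstep, lt_of_le_of_ne hstep.2.2.1 h3, hrest⟩

/-- The normalizer grows in a `p`-group. -/
theorem lt_inf_normalizer (hP : IsPGroup p P) (hQP : Q ≤ P) (hne : Q ≠ P) :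
    Q < P ⊓ Subgroup.normalizer (Q : Set G) := by
  classical
  haveI : Group.IsNilpotent P := hP.isNilpotent
  have hlt : Q.subgroupOf P < ⊤ := by
    refine lt_top_iff_ne_top.mpr fun h => hne ?_
    refine le_antisymm hQP fun x hx => ?_
    have h1 : (⟨x, hx⟩ : P) ∈ Q.subgroupOf P := by
      rw [h]
      exact Subgroup.mem_top _
    exact Subgroup.mem_subgroupOf.mp h1
  have h2 := Group.normalizerCondition_of_isNilpotent (G := P) (Q.subgroupOf P) hlt
  obtain ⟨x, hx, hx'⟩ := SetLike.exists_of_lt h2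
  refine lt_of_le_of_ne (le_inf hQP Subgroup.le_normalizer) fun h3 => hx' ?_
  apply Subgroup.mem_subgroupOf.mpr
  rw [h3]
  exact ⟨x.2, mem_normalizer_of_subgroupOf P hQP x hx⟩

/-- Existence of the subpair. -/
theorem exists_subpairLE (hM : IsPModular p M) {e : Set (IrrCharacter (Subgroup.centralizer (P : Set G)))}
    (hPe : IsBrauerPair p M P e) (Q : Subgroup G) (hQP : Q ≤ P) :
    ∃ f : Set (IrrCharacter (Subgroup.centralizer (Q : Set G))), IsPBlock M f ∧ SubpairLE p M Q f P e := by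
  induction Q using WellFoundedGT.induction with
  | ind Q ih =>
    by_cases hQ : Q = P
    · subst hQ
      exact ⟨e, hPe.2, Relation.ReflTransGen.refl⟩
    · have hlt := lt_inf_normalizer hPe.1 hQP hQ
      obtain ⟨g, hg, hgle⟩ := ih _ hlt inf_le_left
      have hRg : IsBrauerPair p M (P ⊓ Subgroup.normalizer (Q : Set G)) g := ⟨hPe.1.to_le inf_le_left, hg⟩
      obtain ⟨f, hf, -⟩ := existsUnique_isNormalSubpair hM hRg hlt.le inf_le_right
      exact ⟨f, hf.1.2, Relation.ReflTransGen.head (show NormalSubpairRel p M ⟨Q, f⟩ ⟨_, g⟩ from hf) hgle⟩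

/-- Downward transfer along chains. -/
theorem isNormalSubpair_of_chain (hM : IsPModular p M) {R : Subgroup G}
    {f : Set (IrrCharacter (Subgroup.centralizer (R : Set G)))} {a b : BrauerPairIdx G}
    (h : Relation.ReflTransGen (NormalSubpairRel p M) a b) (hf : IsNormalSubpair p M R f b.1 b.2) (hRa : R ≤ a.1) :
    IsNormalSubpair p M R f a.1 a.2 := by
  induction h using Relation.ReflTransGen.head_induction_on with
  | refl => exact hf
  | head hstep hrest ih =>
    rename_i a c
    exact isNormalSubpair_down hM hstep hRa (ih (hRa.trans hstep.2.2.1))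

/-- **Alperin–Broué**: uniqueness. -/
theorem subpairLE_unique (hM : IsPModular p M) {e : Set (IrrCharacter (Subgroup.centralizer (P : Set G)))}
    (hPe : IsBrauerPair p M P e) (Q : Subgroup G) (hQP : Q ≤ P)
    (f f' : Set (IrrCharacter (Subgroup.centralizer (Q : Set G))))
    (hf : SubpairLE p M Q f P e) (hf' : SubpairLE p M Q f' P e) : f = f' := by
  induction Q using WellFoundedGT.induction with
  | ind Q ih =>
    by_cases hQ : Q = P
    · subst hQ
      have h1 := eq_of_chain_of_fst_eq hM hf rfl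
      have h2 := eq_of_chain_of_fst_eq hM hf' rfl
      have h3 : f = e := eq_of_heq (Sigma.mk.inj h1).2
      have h4 : f' = e := eq_of_heq (Sigma.mk.inj h2).2
      rw [h3, h4]
    · have hlt := lt_inf_normalizer hPe.1 hQP hQ
      obtain ⟨g, hg, hgle⟩ := exists_subpairLE hM hPe _ (inf_le_left : P ⊓ Subgroup.normalizer (Q : Set G) ≤ P)
      have hRg : IsBrauerPair p M (P ⊓ Subgroup.normalizer (Q : Set G)) g := ⟨hPe.1.to_le inf_le_left, hg⟩
      obtain ⟨fs, hfs, hu⟩ := existsUnique_isNormalSubpair hM hRg hlt.le inf_le_right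
      have key : ∀ f₀ : Set (IrrCharacter (Subgroup.centralizer (Q : Set G))), SubpairLE p M Q f₀ P e → f₀ = fs := by
        intro f₀ hf₀
        obtain ⟨⟨Q₁, f₁⟩, hstep, hlt₁, hle₁⟩ := exists_step_of_chain hM hf₀ hQ
        have hstep' : IsNormalSubpair p M Q f₀ Q₁ f₁ := hstep
        have hle₁' : SubpairLE p M Q₁ f₁ P e := hle₁
        have hlt₁' : Q < Q₁ := hlt₁
        have hQ₁P : Q₁ ≤ P := le_of_subpairLE hle₁'
        have hQ₁R : Q₁ ≤ P ⊓ Subgroup.normalizer (Q : Set G) := le_inf hQ₁P hstep'.2.2.2.1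
        obtain ⟨g₁, hg₁, hg₁le⟩ := exists_subpairLE hM hRg Q₁ hQ₁R
        have e1 : g₁ = f₁ := ih Q₁ hlt₁' hQ₁P g₁ f₁ (Relation.ReflTransGen.trans hg₁le hgle) hle₁'
        subst e1
        have h5 : IsNormalSubpair p M Q fs Q₁ g₁ := isNormalSubpair_of_chain hM hg₁le hfs hlt₁'.le
        obtain ⟨f₂, -, hu₂⟩ := existsUnique_isNormalSubpair hM hstep'.2.1 hlt₁'.le hstep'.2.2.2.1
        rw [hu₂ f₀ hstep', hu₂ fs h5]
      rw [key f hf, key f' hf']

end Pairs

end Cfsg.Agent.Lib.H8Group
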