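import Cfsg.Agent.Lib.H8Group.MaxPairs

/-!
# Conjugacy of maximal Brauer pairs
-/

set_option autoImplicit false
set_option linter.unusedSectionVars false

namespace Cfsg.Agent.Lib.H8Group

open Cfsg Cfsg.Agent.Lib.Char Cfsg.Agent.Lib.Blocks

universe u

section ConjMax

variable {G : Type u} [Group G] [Fintype G] {M : Ideal AlgInt} {p : ℕ} [hp : Fact p.Prime] {Q Q' Q'' P : Subgroup G}

theorem conjB_conjB (x y : G) (h₁ : conjS x Q = Q') (h₂ : conjS y Q' = Q'') (h₃ : conjS (y * x) Q = Q'')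
    (f : Set (IrrCharacter (Subgroup.centralizer (Q : Set G)))) :
    conjB y h₂ (conjB x h₁ f) = conjB (y * x) h₃ f := by
  classical
  letI : Fintype (Subgroup.centralizer (Q : Set G)) := Fintype.ofFinite _
  letI : Fintype (Subgroup.centralizer (Q' : Set G)) := Fintype.ofFinite _
  letI : Fintype (Subgroup.centralizer (Q'' : Set G)) := Fintype.ofFinite _
  ext ξ
  rw [mem_conjB, mem_conjB, mem_conjB]
  have h : Cfsg.Agent.Lib.Blocks.irrComp (cenIso x h₁) (Cfsg.Agent.Lib.Blocks.irrComp (cenIso y h₂) ξ) =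
      Cfsg.Agent.Lib.Blocks.irrComp (cenIso (y * x) h₃) ξ := by
    apply Subtype.ext
    funext c
    simp only [Cfsg.Agent.Lib.Blocks.irrComp_coe, Function.comp_apply]
    have h0 : cenIso y h₂ (cenIso x h₁ c) = cenIso (y * x) h₃ c := by
      apply Subtype.ext
      simp [mul_assoc]
    rw [h0]
  rw [h]

/-- A normalizing element fixes the subgroup under conjugation. -/
theorem conjS_eq_of_mem_normalizer {z : G} (hz : z ∈ Subgroup.normalizer (P : Set G)) : conjS z P = P := by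
  ext q
  rw [mem_conjS]
  have h2 := Subgroup.mem_normalizer_iff.mp (Subgroup.inv_mem _ hz) q
  have h3 : z⁻¹ * q * z⁻¹⁻¹ = z⁻¹ * q * z := by simp
  rw [h3] at h2
  exact h2.symm

/-- Every Brauer pair of `B` lies below a maximal pair of `B`. -/
theorem exists_maximal_above {B : Set (IrrCharacter G)} (Q : Subgroup G)
    (f : Set (IrrCharacter (Subgroup.centralizer (Q : Set G)))) (hQf : IsBrauerPairOf p M B Q f) :
    ∃ (R : Subgroup G) (g : Set (IrrCharacter (Subgroup.centralizer (R : Set G)))),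
      SubpairLE p M Q f R g ∧ IsMaximalBrauerPair p M B R g := by
  induction Q using WellFoundedGT.induction with
  | ind Q ih =>
    by_cases hmax : IsMaximalBrauerPair p M B Q f
    · exact ⟨Q, f, Relation.ReflTransGen.refl, hmax⟩
    · have h1 : ¬ ∀ (R : Subgroup G) (g : Set (IrrCharacter (Subgroup.centralizer (R : Set G)))),
          IsBrauerPairOf p M B R g → SubpairLE p M Q f R g → R = Q := fun h => hmax ⟨hQf, h⟩
      push Not at h1
      obtain ⟨R, g, hRg, hle, hne⟩ := h1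
      have hlt : Q < R := lt_of_le_of_ne (le_of_subpairLE hle) (Ne.symm hne)
      obtain ⟨R', g', hle', hmax'⟩ := ih R hlt g hRg
      exact ⟨R', g', Relation.ReflTransGen.trans hle hle', hmax'⟩

/-- Two maximal pairs of `B` on the same subgroup are conjugate. -/
theorem exists_conj_of_maximal (hM : IsPModular p M) {B : Set (IrrCharacter G)}
    {e₁ e₂ : Set (IrrCharacter (Subgroup.centralizer (P : Set G)))}
    (h₁ : IsMaximalBrauerPair p M B P e₁) (h₂ : IsMaximalBrauerPair p M B P e₂) :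
    ∃ (z : G) (hz : conjS z P = P), conjB z hz e₁ = e₂ := by
  classical
  have := isPrime_of_modular hM
  letI : Fintype (Subgroup.normalizer (P : Set G)) := Fintype.ofFinite _
  letI : Fintype (Subgroup.centralizer (P : Set G)) := Fintype.ofFinite _
  letI : Fintype ((Subgroup.centralizer (P : Set G)).subgroupOf (Subgroup.normalizer (P : Set G))) := Fintype.ofFinite _
  haveI := normal_centralizer_subgroupOf P
  obtain ⟨⟨hPp, he₁⟩, hB, hv₁⟩ := h₁.1
  have he₂ := h₂.1.1.2
  obtain ⟨ξ₁, hξ₁⟩ := IsPBlock.nonempty he₁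
  obtain ⟨ξ₂, hξ₂⟩ := IsPBlock.nonempty he₂
  obtain ⟨ψ₁, hψ₁⟩ := exists_over_irr ((Subgroup.centralizer (P : Set G)).subgroupOf (Subgroup.normalizer (P : Set G)))
    (Cfsg.Agent.Lib.Blocks.irrComp (cenSub P) ξ₁)
  obtain ⟨ψ₂, hψ₂⟩ := exists_over_irr ((Subgroup.centralizer (P : Set G)).subgroupOf (Subgroup.normalizer (P : Set G)))
    (Cfsg.Agent.Lib.Blocks.irrComp (cenSub P) ξ₂)
  obtain ⟨hD₁, hind₁⟩ := exists_cover_of_maximal hM h₁ hξ₁ hψ₁
  obtain ⟨hD₂, hind₂⟩ := exists_cover_of_maximal hM h₂ hξ₂ hψ₂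
  have hBD := isDefectGroup_of_isMaximalBrauerPair hM h₁
  have hbb : blockOf M (ψ₁ : Subgroup.normalizer (P : Set G) → ℂ) = blockOf M (ψ₂ : Subgroup.normalizer (P : Set G) → ℂ) :=
    (first_main_ii hM hPp hB hBD).unique ⟨isPBlock_blockOf ψ₁, hD₁, hind₁⟩ ⟨isPBlock_blockOf ψ₂, hD₂, hind₂⟩
  have he₂'' := isPBlock_transBlock (cenSub P) he₂
  have hψ₁₂ : ψ₁ ∈ blockOf M (ψ₂ : Subgroup.normalizer (P : Set G) → ℂ) := by
    rw [← hbb]
    exact self_mem_blockOf ψ₁
  obtain ⟨z, hz⟩ := covering_constituents _ (isPBlock_blockOf (M := M) ψ₂) he₂'' (self_mem_blockOf ψ₂) hψ₁₂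
    (irrComp_mem_transBlock (cenSub P) hξ₂) hψ₂ hψ₁
  have hzP := conjS_eq_of_mem_normalizer z.2
  refine ⟨z, hzP, ?_⟩
  have h2 := irrComp_symm_mem_conjB (z : G) hzP hξ₁
  have h3 : Cfsg.Agent.Lib.Blocks.irrComp (cenIso (z : G) hzP).symm ξ₁ ∈ e₂ := by
    have h4 : Cfsg.Agent.Lib.Blocks.irrComp (cenSub P).symm
        (conjIrr _ z (Cfsg.Agent.Lib.Blocks.irrComp (cenSub P) ξ₁)) ∈ e₂ := hz
    have h5 : Cfsg.Agent.Lib.Blocks.irrComp (cenSub P).symm
        (conjIrr _ z (Cfsg.Agent.Lib.Blocks.irrComp (cenSub P) ξ₁)) =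
        Cfsg.Agent.Lib.Blocks.irrComp (cenIso (z : G) hzP).symm ξ₁ := by
      apply Subtype.ext
      funext c
      rfl
    rwa [h5] at h4
  rw [blockOf_eq_of_mem (isPBlock_conjB (z : G) hzP he₁) h2, ← blockOf_eq_of_mem he₂ h3]

/-- **S4660.** Every Brauer pair of `B` has a conjugate below a given maximal pair. -/
theorem exists_conj_subpairLE (hM : IsPModular p M) {B : Set (IrrCharacter G)}
    {e : Set (IrrCharacter (Subgroup.centralizer (P : Set G)))}
    {f : Set (IrrCharacter (Subgroup.centralizer (Q : Set G)))}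
    (hmax : IsMaximalBrauerPair p M B P e) (hQf : IsBrauerPairOf p M B Q f) :
    ∃ x : G, SubpairLE p M (conjS x Q) (conjB x rfl f) P e := by
  obtain ⟨R, g, hle, hRmax⟩ := exists_maximal_above Q f hQf
  have hB := hmax.1.2.1
  have hD₁ := isDefectGroup_of_isMaximalBrauerPair hM hmax
  have hD₂ := isDefectGroup_of_isMaximalBrauerPair hM hRmax
  obtain ⟨y, hy⟩ := IsDefectGroup.exists_conj_eq hM hB hD₂ hD₁
  have hy' : conjS y R = P := hy.symm
  have hmax' := isMaximalBrauerPair_conjB y hy' hRmax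
  have hle' := subpairLE_conjB y rfl hy' hle
  obtain ⟨z, hz, hconj⟩ := exists_conj_of_maximal hM hmax' hmax
  have hQ2 : conjS z (conjS y Q) = conjS (z * y) Q := conjS_conjS z y Q
  have hle'' := subpairLE_conjB z hQ2 hz hle'
  rw [hconj, conjB_conjB y z rfl hQ2 rfl] at hle''
  exact ⟨z * y, hle''⟩

end ConjMax

end Cfsg.Agent.Lib.H8Group
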