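import Cfsg.Agent.Lib.H8Group.BrauerPairs

/-!
# Conjugation of Brauer pairs
-/

set_option autoImplicit false
set_option linter.unusedSectionVars false

namespace Cfsg.Agent.Lib.H8Group

open Cfsg Cfsg.Agent.Lib.Char Cfsg.Agent.Lib.Blocks

universe u

section ConjPairs

variable {G : Type u} [Group G] {M : Ideal AlgInt} {p : ℕ} {Q Q' P P' : Subgroup G}

theorem conj_mem_cen_of_conjS (x : G) (h : conjS x Q = Q') {c : G} (hc : c ∈ Subgroup.centralizer (Q : Set G)) :
    x * c * x⁻¹ ∈ Subgroup.centralizer (Q' : Set G) := by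
  subst h
  rw [Subgroup.mem_centralizer_iff] at hc ⊢
  intro q hq
  have h1 : x⁻¹ * q * x ∈ Q := mem_conjS.mp hq
  have h3 := hc _ h1
  have h4 : q * (x * c * x⁻¹) = x * ((x⁻¹ * q * x) * c) * x⁻¹ := by group
  have h5 : (x * c * x⁻¹) * q = x * (c * (x⁻¹ * q * x)) * x⁻¹ := by group
  rw [h4, h5, h3]

theorem conj_inv_mem_cen_of_conjS (x : G) (h : conjS x Q = Q') {c : G} (hc : c ∈ Subgroup.centralizer (Q' : Set G)) :
    x⁻¹ * c * x ∈ Subgroup.centralizer (Q : Set G) := by
  subst h
  rw [Subgroup.mem_centralizer_iff] at hc ⊢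
  intro q hq
  have h1 : x * q * x⁻¹ ∈ conjS x Q := conj_mem_conjS hq
  have h3 := hc _ h1
  have h4 : q * (x⁻¹ * c * x) = x⁻¹ * ((x * q * x⁻¹) * c) * x := by group
  have h5 : (x⁻¹ * c * x) * q = x⁻¹ * (c * (x * q * x⁻¹)) * x := by group
  rw [h4, h5, h3]

/-- Conjugation as an isomorphism of centralizers. -/
def cenIso (x : G) (h : conjS x Q = Q') :
    Subgroup.centralizer (Q : Set G) ≃* Subgroup.centralizer (Q' : Set G) where
  toFun c := ⟨x * c * x⁻¹, conj_mem_cen_of_conjS x h c.2⟩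
  invFun c := ⟨x⁻¹ * c * x, conj_inv_mem_cen_of_conjS x h c.2⟩
  left_inv c := by
    apply Subtype.ext
    simp [mul_assoc]
  right_inv c := by
    apply Subtype.ext
    simp [mul_assoc]
  map_mul' s t := by
    apply Subtype.ext
    simp [mul_assoc]

@[simp] theorem cenIso_coe (x : G) (h : conjS x Q = Q') (c : Subgroup.centralizer (Q : Set G)) :
    ((cenIso x h c : Subgroup.centralizer (Q' : Set G)) : G) = x * c * x⁻¹ := rfl

@[simp] theorem cenIso_symm_coe (x : G) (h : conjS x Q = Q') (c : Subgroup.centralizer (Q' : Set G)) :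
    (((cenIso x h).symm c : Subgroup.centralizer (Q : Set G)) : G) = x⁻¹ * c * x := rfl

/-- The conjugate of a set of characters of a centralizer. -/
def conjB (x : G) (h : conjS x Q = Q') (f : Set (IrrCharacter (Subgroup.centralizer (Q : Set G)))) :
    Set (IrrCharacter (Subgroup.centralizer (Q' : Set G))) :=
  {ξ' | ∃ ξ ∈ f, ∀ (c : Subgroup.centralizer (Q : Set G)) (c' : Subgroup.centralizer (Q' : Set G)),
    (c' : G) = x * (c : G) * x⁻¹ → (ξ' : _ → ℂ) c' = (ξ : Subgroup.centralizer (Q : Set G) → ℂ) c}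

theorem conjB_rfl (x : G) (f : Set (IrrCharacter (Subgroup.centralizer (Q : Set G)))) :
    conjB x rfl f = conjBlock Q x f := rfl

variable [Fintype G]

section WithFintype

variable [Fintype (Subgroup.centralizer (Q : Set G))] [Fintype (Subgroup.centralizer (Q' : Set G))]

theorem mem_conjB (x : G) (h : conjS x Q = Q') (f : Set (IrrCharacter (Subgroup.centralizer (Q : Set G))))
    (ξ' : IrrCharacter (Subgroup.centralizer (Q' : Set G))) :
    ξ' ∈ conjB x h f ↔ Cfsg.Agent.Lib.Blocks.irrComp (cenIso x h) ξ' ∈ f := by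
  constructor
  · rintro ⟨ξ, hξ, h1⟩
    have h2 : Cfsg.Agent.Lib.Blocks.irrComp (cenIso x h) ξ' = ξ := by
      apply Subtype.ext
      funext c
      exact h1 c _ rfl
    rwa [h2]
  · intro h1
    refine ⟨_, h1, fun c c' hc => ?_⟩
    have h2 : c' = cenIso x h c := Subtype.ext hc
    rw [h2]
    rfl

theorem conjB_eq_transBlock (x : G) (h : conjS x Q = Q') (f : Set (IrrCharacter (Subgroup.centralizer (Q : Set G)))) :
    conjB x h f = transBlock (cenIso x h).symm f := by
  ext ξ'
  rw [mem_conjB]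
  rfl

theorem irrComp_symm_mem_conjB (x : G) (h : conjS x Q = Q') {f : Set (IrrCharacter (Subgroup.centralizer (Q : Set G)))}
    {ξ : IrrCharacter (Subgroup.centralizer (Q : Set G))} (hξ : ξ ∈ f) :
    Cfsg.Agent.Lib.Blocks.irrComp (cenIso x h).symm ξ ∈ conjB x h f := by
  rw [mem_conjB, Cfsg.Agent.Lib.Blocks.irrComp_irrComp_symm]
  exact hξ

theorem isPBlock_conjB (x : G) (h : conjS x Q = Q') {f : Set (IrrCharacter (Subgroup.centralizer (Q : Set G)))}
    (hf : IsPBlock M f) : IsPBlock M (conjB x h f) := by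
  rw [conjB_eq_transBlock]
  exact isPBlock_transBlock _ hf

theorem blockCoeff_conjB (x : G) (h : conjS x Q = Q') (f : Set (IrrCharacter (Subgroup.centralizer (Q : Set G))))
    (c : Subgroup.centralizer (Q : Set G)) :
    blockCoeff (conjB x h f) (cenIso x h c) = blockCoeff f c := by
  rw [conjB_eq_transBlock, blockCoeff_transBlock, MulEquiv.symm_apply_apply]

theorem subgroupBlockCoeff_conjB (x : G) (h : conjS x Q = Q')
    (f : Set (IrrCharacter (Subgroup.centralizer (Q : Set G)))) (g : G) :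
    subgroupBlockCoeff (Subgroup.centralizer (Q' : Set G)) (conjB x h f) (x * g * x⁻¹) =
      subgroupBlockCoeff (Subgroup.centralizer (Q : Set G)) f g := by
  classical
  by_cases hg : g ∈ Subgroup.centralizer (Q : Set G)
  · have hg' := conj_mem_cen_of_conjS x h hg
    simp only [subgroupBlockCoeff, dif_pos hg, dif_pos hg']
    exact blockCoeff_conjB x h f ⟨g, hg⟩
  · have hg' : x * g * x⁻¹ ∉ Subgroup.centralizer (Q' : Set G) := by
      intro h1
      apply hg
      have h2 := conj_inv_mem_cen_of_conjS x h h1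
      simpa [mul_assoc] using h2
    simp only [subgroupBlockCoeff, dif_neg hg, dif_neg hg']

end WithFintype

omit [Fintype G] in
theorem brauerOmega_conj (x : G) (h : conjS x P = P') {β β' : G → ℂ} (hβ : ∀ g, β' (x * g * x⁻¹) = β g)
    (ξ' : Subgroup.centralizer (P' : Set G) → ℂ) (ξ : Subgroup.centralizer (P : Set G) → ℂ)
    (hξ : ∀ c, ξ c = ξ' (cenIso x h c)) : brauerOmega P' β' ξ' = brauerOmega P β ξ := by
  rw [brauerOmega, brauerOmega, ← finsum_comp_equiv (cenIso x h).toEquiv]
  refine finsum_congr fun c => ?_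
  have h1 : (cenIso x h) 1 = 1 := map_one _
  simp only [MulEquiv.toEquiv_eq_coe, EquivLike.coe_coe]
  rw [hξ c, hξ 1, h1]
  congr 2
  exact hβ _

theorem isBrauerPair_conjB (x : G) (h : conjS x Q = Q') {f : Set (IrrCharacter (Subgroup.centralizer (Q : Set G)))}
    (hf : IsBrauerPair p M Q f) : IsBrauerPair p M Q' (conjB x h f) := by
  classical
  letI : Fintype (Subgroup.centralizer (Q : Set G)) := Fintype.ofFinite _
  letI : Fintype (Subgroup.centralizer (Q' : Set G)) := Fintype.ofFinite _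
  refine ⟨?_, isPBlock_conjB x h hf.2⟩
  rw [← h]
  exact isPGroup_conjS hf.1

theorem isBrauerPairOf_conjB (x : G) (h : conjS x Q = Q') {B : Set (IrrCharacter G)}
    {f : Set (IrrCharacter (Subgroup.centralizer (Q : Set G)))}
    (hf : IsBrauerPairOf p M B Q f) : IsBrauerPairOf p M B Q' (conjB x h f) := by
  classical
  letI : Fintype (Subgroup.centralizer (Q : Set G)) := Fintype.ofFinite _
  letI : Fintype (Subgroup.centralizer (Q' : Set G)) := Fintype.ofFinite _
  refine ⟨isBrauerPair_conjB x h hf.1, hf.2.1, fun ξ' hξ' => ?_⟩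
  have h1 := hf.2.2 _ ((mem_conjB x h f ξ').mp hξ')
  rw [brauerOmega_conj x h (β := blockCoeff B) (β' := blockCoeff B) (fun g => ?_) (ξ' : _ → ℂ)
    ((Cfsg.Agent.Lib.Blocks.irrComp (cenIso x h) ξ' : IrrCharacter _) : _ → ℂ) (fun c => rfl)]
  · exact h1
  · rw [blockCoeff_eq_coef, blockCoeff_eq_coef]
    exact coef_isClassFunction _ g x

theorem isNormalSubpair_conjB (x : G) (hQ : conjS x Q = Q') (hP : conjS x P = P')
    {f : Set (IrrCharacter (Subgroup.centralizer (Q : Set G)))}
    {e : Set (IrrCharacter (Subgroup.centralizer (P : Set G)))} (h : IsNormalSubpair p M Q f P e) :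
    IsNormalSubpair p M Q' (conjB x hQ f) P' (conjB x hP e) := by
  classical
  letI : Fintype (Subgroup.centralizer (Q : Set G)) := Fintype.ofFinite _
  letI : Fintype (Subgroup.centralizer (Q' : Set G)) := Fintype.ofFinite _
  letI : Fintype (Subgroup.centralizer (P : Set G)) := Fintype.ofFinite _
  letI : Fintype (Subgroup.centralizer (P' : Set G)) := Fintype.ofFinite _
  obtain ⟨hf, he, hQP, hPN, hst, hv⟩ := h
  have hQ'P' : Q' ≤ P' := by
    rw [← hQ, ← hP]
    exact conjS_mono x hQP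
  have hP'N : P' ≤ Subgroup.normalizer (Q' : Set G) := by
    intro y hy
    rw [← hP] at hy
    rw [Subgroup.mem_normalizer_iff]
    intro g
    have h1 := hPN (mem_conjS.mp hy)
    rw [Subgroup.mem_normalizer_iff] at h1
    have h2 := h1 (x⁻¹ * g * x)
    rw [← hQ, mem_conjS, h2, mem_conjS]
    have h3 : x⁻¹ * (y * g * y⁻¹) * x = x⁻¹ * y * x * (x⁻¹ * g * x) * (x⁻¹ * y * x)⁻¹ := by group
    rw [h3]
  refine ⟨isBrauerPair_conjB x hQ hf, isBrauerPair_conjB x hP he, hQ'P', hP'N, fun y' hy' => ?_, fun ξ' hξ' => ?_⟩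
  · refine ⟨normalizer_le_normalizer_centralizer (hP'N hy'), fun χ' hχ' => ?_⟩
    have hy : x⁻¹ * y' * x ∈ P := by
      rw [← hP] at hy'
      exact mem_conjS.mp hy'
    obtain ⟨-, h1⟩ := hst _ hy
    obtain ⟨χ₂, hχ₂, h2⟩ := h1 _ ((mem_conjB x hQ f χ').mp hχ')
    refine ⟨Cfsg.Agent.Lib.Blocks.irrComp (cenIso x hQ).symm χ₂, irrComp_symm_mem_conjB x hQ hχ₂, fun k k' hk => ?_⟩
    simp only [Cfsg.Agent.Lib.Blocks.irrComp_coe, Function.comp_apply]
    have h3 := h2 ((cenIso x hQ).symm k) ((cenIso x hQ).symm k') (by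
      simp only [cenIso_symm_coe]
      rw [hk]
      group)
    rw [h3]
    simp only [Cfsg.Agent.Lib.Blocks.irrComp_coe, Function.comp_apply, MulEquiv.apply_symm_apply]
  · have h1 := hv _ ((mem_conjB x hP e ξ').mp hξ')
    rw [brauerOmega_conj x hP (β := subgroupBlockCoeff (Subgroup.centralizer (Q : Set G)) f)
      (β' := subgroupBlockCoeff (Subgroup.centralizer (Q' : Set G)) (conjB x hQ f))
      (subgroupBlockCoeff_conjB x hQ f) (ξ' : _ → ℂ)
      ((Cfsg.Agent.Lib.Blocks.irrComp (cenIso x hP) ξ' : IrrCharacter _) : _ → ℂ) (fun c => rfl)]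
    exact h1

theorem subpairLE_conjB (x : G) (hQ : conjS x Q = Q') (hP : conjS x P = P')
    {f : Set (IrrCharacter (Subgroup.centralizer (Q : Set G)))}
    {e : Set (IrrCharacter (Subgroup.centralizer (P : Set G)))} (h : SubpairLE p M Q f P e) :
    SubpairLE p M Q' (conjB x hQ f) P' (conjB x hP e) := by
  subst hQ hP
  have h1 : ∀ {a b : BrauerPairIdx G}, NormalSubpairRel p M a b →
      NormalSubpairRel p M ⟨conjS x a.1, conjB x rfl a.2⟩ ⟨conjS x b.1, conjB x rfl b.2⟩ :=
    fun hab => isNormalSubpair_conjB x rfl rfl hab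
  have gen : ∀ {a b : BrauerPairIdx G}, Relation.ReflTransGen (NormalSubpairRel p M) a b →
      Relation.ReflTransGen (NormalSubpairRel p M) ⟨conjS x a.1, conjB x rfl a.2⟩ ⟨conjS x b.1, conjB x rfl b.2⟩ := by
    intro a b hab
    induction hab with
    | refl => exact Relation.ReflTransGen.refl
    | tail _ hs ih => exact ih.tail (h1 hs)
  exact gen h

theorem conjS_inv_of_conjS (x : G) (h : conjS x Q = Q') : conjS x⁻¹ Q' = Q := by
  rw [← h, conjS_conjS, inv_mul_cancel, conjS_one]

theorem conjB_conjB_inv (x : G) (h : conjS x Q = Q') (f : Set (IrrCharacter (Subgroup.centralizer (Q : Set G)))) :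
    conjB x⁻¹ (conjS_inv_of_conjS x h) (conjB x h f) = f := by
  classical
  letI : Fintype (Subgroup.centralizer (Q : Set G)) := Fintype.ofFinite _
  letI : Fintype (Subgroup.centralizer (Q' : Set G)) := Fintype.ofFinite _
  ext ξ
  rw [mem_conjB, mem_conjB]
  have h1 : Cfsg.Agent.Lib.Blocks.irrComp (cenIso x h)
      (Cfsg.Agent.Lib.Blocks.irrComp (cenIso x⁻¹ (conjS_inv_of_conjS x h)) ξ) = ξ := by
    apply Subtype.ext
    funext c
    simp only [Cfsg.Agent.Lib.Blocks.irrComp_coe, Function.comp_apply]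
    have h2 : cenIso x⁻¹ (conjS_inv_of_conjS x h) (cenIso x h c) = c := by
      apply Subtype.ext
      simp [mul_assoc]
    rw [h2]
  rw [h1]

/-- Maximality is preserved by conjugation. -/
theorem isMaximalBrauerPair_conjB (x : G) (hP : conjS x P = P') {B : Set (IrrCharacter G)}
    {e : Set (IrrCharacter (Subgroup.centralizer (P : Set G)))} (h : IsMaximalBrauerPair p M B P e) :
    IsMaximalBrauerPair p M B P' (conjB x hP e) := by
  refine ⟨isBrauerPairOf_conjB x hP h.1, fun R g hRg hle => ?_⟩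
  have h1 := subpairLE_conjB x⁻¹ (conjS_inv_of_conjS x hP) rfl hle
  rw [conjB_conjB_inv] at h1
  have h2 := h.2 _ _ (isBrauerPairOf_conjB x⁻¹ rfl hRg) h1
  rw [← hP, ← h2, conjS_conjS, mul_inv_cancel, conjS_one]

end ConjPairs

end Cfsg.Agent.Lib.H8Group
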