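import Cfsg.Agent.Lib.H8Group.DefectPairs
import Cfsg.Agent.Lib.H8Group.ConjMax
import Cfsg.Agent.Lib.Blocks.CoverApps
import Cfsg.Agent.Lib.Blocks.Third

/-!
# Deficiency classes: blocks of large defect of centralizers of `p`-elements
-/

set_option autoImplicit false
set_option linter.unusedSectionVars false

namespace Cfsg.Agent.Lib.H8Group

open Cfsg Cfsg.Agent.Lib.Char Cfsg.Agent.Lib.Blocks

universe u

section Exists

variable {G : Type u} [Group G] [Fintype G] {M : Ideal AlgInt} {p : ℕ} [hp : Fact p.Prime]

/-- Every block has a maximal Brauer pair. -/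
theorem exists_isMaximalBrauerPair (hM : IsPModular p M) {B : Set (IrrCharacter G)} (hB : IsPBlock M B) :
    ∃ (P : Subgroup G) (e : Set (IrrCharacter (Subgroup.centralizer (P : Set G)))),
      IsMaximalBrauerPair p M B P e := by
  classical
  have := isPrime_of_modular hM
  letI : Fintype (Subgroup.centralizer ((⊥ : Subgroup G) : Set G)) := Fintype.ofFinite _
  haveI hN : (Subgroup.centralizer ((⊥ : Subgroup G) : Set G)).Normal := by
    have : Subgroup.centralizer ((⊥ : Subgroup G) : Set G) = ⊤ := by
      ext x
      simp [Subgroup.mem_centralizer_iff]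
    rw [this]
    infer_instance
  obtain ⟨χ, hχ⟩ := IsPBlock.nonempty hB
  obtain ⟨ξ, hξ⟩ := exists_constituent (Subgroup.centralizer ((⊥ : Subgroup G) : Set G)) χ
  have hbot : IsPGroup p (⊥ : Subgroup G) := IsPGroup.of_bot
  have hind : IsInducedBlock M (Subgroup.centralizer ((⊥ : Subgroup G) : Set G))
      (blockOf M (ξ : _ → ℂ)) B :=
    isInducedBlock_of_covering (N := Subgroup.centralizer ((⊥ : Subgroup G) : Set G)) hM (Q := ⊥) hbot le_rfl
      (isPBlock_blockOf ξ) hB ⟨χ, hχ, ξ, self_mem_blockOf ξ, hξ⟩
  have hpair : IsBrauerPairOf p M B ⊥ (blockOf M (ξ : _ → ℂ)) :=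
    (isBrauerPairOf_iff hM hbot (isPBlock_blockOf ξ)).mpr hind
  obtain ⟨R, g, -, hmax⟩ := exists_maximal_above _ _ hpair
  exact ⟨R, g, hmax⟩

end Exists

section Main

variable {G : Type u} [Group G] [Finite G] {M : Ideal AlgInt} {p : ℕ} [hp : Fact p.Prime]

/-- Deficiency classes pass to centralizers of `p`-elements. -/
theorem defClass_centralizer (hM : IsPModular p M) (r : ℕ)
    (h : ∀ B' : Set (IrrCharacter G), IsPBlock M B' → B' ≠ principalBlock M G → blockDefect p B' < r)
    (y : G) (hy : ∃ k : ℕ, orderOf y = p ^ k) :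
    ∀ B' : Set (IrrCharacter (Subgroup.centralizer ({y} : Set G))), IsPBlock M B' →
      B' ≠ principalBlock M (Subgroup.centralizer ({y} : Set G)) → blockDefect p B' < r := by
  classical
  letI := Fintype.ofFinite G
  letI : Fintype (Subgroup.centralizer ({y} : Set G)) := Fintype.ofFinite _
  have := isPrime_of_modular hM
  intro b hb hne
  obtain ⟨k, hk⟩ := hy
  set H := Subgroup.centralizer ({y} : Set G) with hH
  have hyH : y ∈ H := Subgroup.mem_centralizer_iff.mpr (by
    intro g hg
    rw [Set.mem_singleton_iff] at hg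
    rw [hg])
  have hZp : IsPGroup p (Subgroup.zpowers y) := by
    rw [IsPGroup.iff_card, Nat.card_zpowers]
    exact ⟨k, hk⟩
  have hZH : Subgroup.zpowers y ≤ H := by
    rw [Subgroup.zpowers_le]
    exact hyH
  have hCH : Subgroup.centralizer ((Subgroup.zpowers y : Subgroup G) : Set G) ≤ H := by
    intro c hc
    rw [Subgroup.mem_centralizer_iff] at hc ⊢
    intro g hg
    rw [Set.mem_singleton_iff] at hg
    rw [hg]
    exact hc y (Subgroup.mem_zpowers y)
  have hHN : H ≤ Subgroup.normalizer ((Subgroup.zpowers y : Subgroup G) : Set G) := by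
    intro c hc
    rw [Subgroup.mem_normalizer_iff]
    intro t
    have hcy : c * y = y * c := by
      have := Subgroup.mem_centralizer_iff.mp hc y rfl
      exact this.symm
    have hcy' : Commute c y := hcy
    constructor
    · rintro ⟨n, rfl⟩
      refine ⟨n, ?_⟩
      have : Commute c ((y ^ n)) := hcy'.zpow_right n
      show y ^ n = c * (y ^ n) * c⁻¹
      rw [this.eq, mul_assoc, mul_inv_cancel, mul_one]
    · rintro ⟨n, hn⟩
      refine ⟨n, ?_⟩
      have hn' : y ^ n = c * t * c⁻¹ := hn
      have : Commute c ((y ^ n)) := hcy'.zpow_right n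
      have h2 : t = c⁻¹ * (y ^ n) * c := by
        rw [hn']
        group
      show y ^ n = t
      rw [h2, mul_assoc, ← this.eq, inv_mul_cancel_left]
  obtain ⟨B, hind⟩ := exists_isInducedBlock H hM hZp hZH hCH hHN hb
  have hBne : B ≠ principalBlock M G := by
    rintro rfl
    exact hne ((isInducedBlock_principal_iff hM H ⟨_, hind⟩).mp hind)
  have hlt := h B hind.2.1 hBne
  obtain ⟨D, hD⟩ := IsPBlock.exists_isDefectGroup hM hb
  obtain ⟨E, hE, hle⟩ := IsInducedBlock.exists_defect_le H hM hind hD
  have h1 := Subgroup.card_le_of_le hle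
  rw [Subgroup.card_map_of_injective H.subtype_injective, card_defectGroup hM hb hD,
    card_defectGroup hM hind.2.1 hE] at h1
  have h2 := (Nat.pow_le_pow_iff_right hM.1.one_lt).mp h1
  omega

/-- A block of large defect of `G` yields a block of large defect of the centralizer of an element of
order `p`. -/
theorem defClass_of_centralizers (hM : IsPModular p M) (r : ℕ) (hr : 0 < r)
    (h : ∀ y : G, orderOf y = p → ∀ B' : Set (IrrCharacter (Subgroup.centralizer ({y} : Set G))), IsPBlock M B' →
      B' ≠ principalBlock M (Subgroup.centralizer ({y} : Set G)) → blockDefect p B' < r) :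
    ∀ B' : Set (IrrCharacter G), IsPBlock M B' → B' ≠ principalBlock M G → blockDefect p B' < r := by
  classical
  letI := Fintype.ofFinite G
  have := isPrime_of_modular hM
  intro B hB hne
  by_contra hge
  have hge' : r ≤ blockDefect p B := not_lt.mp hge
  obtain ⟨P, e, hmax⟩ := exists_isMaximalBrauerPair hM hB
  have hPD := isDefectGroup_of_isMaximalBrauerPair hM hmax
  have hcard := card_defectGroup hM hB hPD
  have hPp : IsPGroup p P := hmax.1.1.1
  haveI hPn : Nontrivial P := by
    rw [← Finite.one_lt_card_iff_nontrivial, hcard]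
    exact Nat.one_lt_pow (by omega) hM.1.one_lt
  haveI : Nontrivial (Subgroup.center P) := hPp.center_nontrivial
  haveI : Fact p.Prime := hp
  have hdvd : p ∣ Nat.card (Subgroup.center P) := by
    have hcp : IsPGroup p (Subgroup.center P) := hPp.to_subgroup _
    obtain ⟨k, hk⟩ := IsPGroup.iff_card.mp hcp
    have h1 := Finite.one_lt_card_iff_nontrivial.mpr (inferInstance : Nontrivial (Subgroup.center P))
    rw [hk] at h1 ⊢
    refine dvd_pow_self p ?_
    rintro rfl
    simp at h1
  obtain ⟨z, hz⟩ := exists_prime_orderOf_dvd_card' p hdvd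
  set y : G := ((z : P) : G) with hy
  have hyord : orderOf y = p := by
    rw [hy]
    rw [Subgroup.orderOf_coe, Subgroup.orderOf_coe]
    exact hz
  have hyP : y ∈ P := (z : P).2
  have hyc : ∀ t ∈ P, t * y = y * t := by
    intro t ht
    have h1 := (Subgroup.mem_center_iff.mp z.2) ⟨t, ht⟩
    exact congrArg Subtype.val h1
  have hZP : Subgroup.zpowers y ≤ P := by
    rw [Subgroup.zpowers_le]
    exact hyP
  have hPe := hmax.1.1
  obtain ⟨f, hf, hle⟩ := exists_subpairLE hM hPe (Subgroup.zpowers y) hZP
  have hQf : IsBrauerPairOf p M B (Subgroup.zpowers y) f := (isBrauerPairOf_iff_of_chain hM hle hB).mp hmax.1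
  letI : Fintype (Subgroup.centralizer ((Subgroup.zpowers y : Subgroup G) : Set G)) := Fintype.ofFinite _
  have hind : IsInducedBlock M (Subgroup.centralizer ((Subgroup.zpowers y : Subgroup G) : Set G)) f B :=
    (isBrauerPairOf_iff hM hQf.1.1 hf).mp hQf
  have key : ∀ C : Subgroup G, C = Subgroup.centralizer ((Subgroup.zpowers y : Subgroup G) : Set G) →
      ∃ f' : Set (IrrCharacter C), IsPBlock M f' ∧ f' ≠ principalBlock M C ∧ r ≤ blockDefect p f' := by
    intro C hC
    subst hC
    refine ⟨f, hf, ?_, ?_⟩
    · intro hf0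
      have h1 : IsInducedBlock M (Subgroup.centralizer ((Subgroup.zpowers y : Subgroup G) : Set G)) f (principalBlock M G) :=
        (isInducedBlock_principal_iff hM _ ⟨_, hind⟩).mpr hf0
      exact hne (IsInducedBlock.unique _ hind h1)
    · obtain ⟨D', hD', hleD⟩ := exists_defect_ge_cen hM hPe hZP hf hle
      have h1 := Subgroup.card_le_of_le hleD
      have hPC : P ≤ Subgroup.centralizer ((Subgroup.zpowers y : Subgroup G) : Set G) := by
        intro t ht
        rw [Subgroup.mem_centralizer_iff]
        intro u hu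
        obtain ⟨n, rfl⟩ := Subgroup.mem_zpowers_iff.mp hu
        have hcomm : Commute t y := hyc t ht
        exact (hcomm.zpow_right n).symm.eq
      have h2 : Nat.card ((P ⊓ Subgroup.centralizer ((Subgroup.zpowers y : Subgroup G) : Set G)).subgroupOf
          (Subgroup.centralizer ((Subgroup.zpowers y : Subgroup G) : Set G))) = Nat.card P := by
        rw [inf_eq_left.mpr hPC]
        exact Nat.card_congr (Subgroup.subgroupOfEquivOfLe hPC).toEquiv
      rw [h2, hcard, card_defectGroup hM hf hD'] at h1
      have h3 := (Nat.pow_le_pow_iff_right hM.1.one_lt).mp h1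
      omega
  have hCeq : Subgroup.centralizer ({y} : Set G) = Subgroup.centralizer ((Subgroup.zpowers y : Subgroup G) : Set G) := by
    ext c
    rw [Subgroup.mem_centralizer_iff, Subgroup.mem_centralizer_iff]
    constructor
    · intro hc u hu
      obtain ⟨n, rfl⟩ := Subgroup.mem_zpowers_iff.mp hu
      have hcomm : Commute y c := hc y rfl
      exact (hcomm.zpow_left n).eq
    · intro hc u hu
      rw [Set.mem_singleton_iff] at hu
      rw [hu]
      exact hc y (Subgroup.mem_zpowers y)
  obtain ⟨f', hf', hne', hr'⟩ := key _ hCeq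
  have := h y hyord f' hf' hne'
  omega

end Main

end Cfsg.Agent.Lib.H8Group
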