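import Cfsg.Agent.Lib.H8Group.ConjMax

/-!
# Defect groups of the blocks of the centralizers in a maximal Brauer pair
-/

set_option autoImplicit false
set_option linter.unusedSectionVars false

namespace Cfsg.Agent.Lib.H8Group

open Cfsg Cfsg.Agent.Lib.Char Cfsg.Agent.Lib.Blocks

universe u

section DefectPairs

variable {G : Type u} [Group G] [Fintype G] {M : Ideal AlgInt} {p : ℕ} [hp : Fact p.Prime] {Q P R : Subgroup G}

/-- A normal subpair detects a coefficient on the larger centralizer. -/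
theorem exists_coeff_of_isNormalSubpair (hM : IsPModular p M)
    {f : Set (IrrCharacter (Subgroup.centralizer (Q : Set G)))}
    {g : Set (IrrCharacter (Subgroup.centralizer (R : Set G)))} (h : IsNormalSubpair p M Q f R g) :
    ∃ y ∈ Subgroup.centralizer (R : Set G), ¬ MemLocalIdeal M (subgroupBlockCoeff (Subgroup.centralizer (Q : Set G)) f y) := by
  classical
  have := isPrime_of_modular hM
  letI : Fintype (Subgroup.centralizer (Q : Set G)) := Fintype.ofFinite _
  letI : Fintype (Subgroup.centralizer (R : Set G)) := Fintype.ofFinite _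
  obtain ⟨⟨hQp, hf⟩, ⟨hRp, hg⟩, hQR, hRN, hst, hv⟩ := h
  by_contra hcon
  push Not at hcon
  obtain ⟨ξ, hξ⟩ := IsPBlock.nonempty hg
  have h1 := hv ξ hξ
  rw [brauerOmega_eq_brV_c hQR] at h1
  have h2 : MemLocalIdeal M (brV (cenIncl hQR) (indic f) ξ) := by
    refine spec_memLocalIdeal (isClassFunction_comp (coef_isClassFunction _) (cenIncl hQR)) (fun y => ?_) ξ
    have h3 := hcon y y.2
    simp only [subgroupBlockCoeff] at h3
    rw [dif_pos (Subgroup.centralizer_le hQR y.2), blockCoeff_eq_coef] at h3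
    exact h3
  have h3 := MemLocalIdeal.sub h2 h1
  rw [sub_sub_cancel] at h3
  exact not_memLocalIdeal_one h3

/-- Conjugation by an element which acts on `K` like an element of `K` stabilizes every set of irreducible characters. -/
theorem stabilizesBlock_of_inner {K : Subgroup G} {x : G} (hx : x ∈ Subgroup.normalizer (K : Set G)) (c : K)
    (hc : ∀ z : K, x * (z : G) * x⁻¹ = (c : G) * (z : G) * (c : G)⁻¹) (e : Set (IrrCharacter K)) :
    StabilizesBlock K e x := by
  refine ⟨hx, fun χ hχ => ⟨χ, hχ, fun k k' hk => ?_⟩⟩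
  have h1 : k' = c * k * c⁻¹ := by
    apply Subtype.ext
    rw [hk, hc]
    simp
  rw [h1]
  exact IsCharacter.isClassFunction (IsIrrCharacter.isCharacter χ.2) k c

/-- The elements of `Q ⊔ C_G(Q)` act on `C_G(Q)` like elements of `C_G(Q)`. -/
theorem exists_inner_of_mem_sup {x : G} (hx : x ∈ Q ⊔ Subgroup.centralizer (Q : Set G)) :
    ∃ c ∈ Subgroup.centralizer (Q : Set G), ∀ z ∈ Subgroup.centralizer (Q : Set G), x * z * x⁻¹ = c * z * c⁻¹ := by
  rw [Subgroup.sup_eq_closure] at hx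
  induction hx using Subgroup.closure_induction with
  | mem x hx =>
    rcases hx with hx | hx
    · refine ⟨1, Subgroup.one_mem _, fun z hz => ?_⟩
      have h1 := Subgroup.mem_centralizer_iff.mp hz x hx
      rw [h1]
      simp
    · exact ⟨x, hx, fun z _ => rfl⟩
  | one => exact ⟨1, Subgroup.one_mem _, fun z _ => rfl⟩
  | mul x y _ _ hx hy =>
    obtain ⟨c₁, hc₁, h₁⟩ := hx
    obtain ⟨c₂, hc₂, h₂⟩ := hy
    refine ⟨c₁ * c₂, Subgroup.mul_mem _ hc₁ hc₂, fun z hz => ?_⟩
    have h3 := h₂ z hz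
    have h4 := h₁ (c₂ * z * c₂⁻¹) (Subgroup.mul_mem _ (Subgroup.mul_mem _ hc₂ hz) (Subgroup.inv_mem _ hc₂))
    calc x * y * z * (x * y)⁻¹ = x * (y * z * y⁻¹) * x⁻¹ := by group
      _ = c₁ * (c₂ * z * c₂⁻¹) * c₁⁻¹ := by rw [h3, h4]
      _ = c₁ * c₂ * z * (c₁ * c₂)⁻¹ := by group
  | inv x _ hx =>
    obtain ⟨c, hc, h₁⟩ := hx
    refine ⟨c⁻¹, Subgroup.inv_mem _ hc, fun z hz => ?_⟩
    have h4 := h₁ (c⁻¹ * z * c) (Subgroup.mul_mem _ (Subgroup.mul_mem _ (Subgroup.inv_mem _ hc) hz) hc)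
    have h5 : c * (c⁻¹ * z * c) * c⁻¹ = z := by group
    rw [h5] at h4
    calc x⁻¹ * z * x⁻¹⁻¹ = x⁻¹ * (x * (c⁻¹ * z * c) * x⁻¹) * x := by rw [h4]; group
      _ = c⁻¹ * z * c⁻¹⁻¹ := by group

theorem sup_centralizer_le_normalizer : Q ⊔ Subgroup.centralizer (Q : Set G) ≤ Subgroup.normalizer (Q : Set G) :=
  sup_le Subgroup.le_normalizer (Subgroup.centralizer_le_normalizer _)

/-- Every block of `C_G(Q)` is stable under `Q ⊔ C_G(Q)`. -/
theorem stabilizesBlock_of_mem_sup {x : G} (hx : x ∈ Q ⊔ Subgroup.centralizer (Q : Set G))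
    (f : Set (IrrCharacter (Subgroup.centralizer (Q : Set G)))) :
    StabilizesBlock (Subgroup.centralizer (Q : Set G)) f x := by
  obtain ⟨c, hc, h⟩ := exists_inner_of_mem_sup hx
  exact stabilizesBlock_of_inner (normalizer_le_normalizer_centralizer (sup_centralizer_le_normalizer hx)) ⟨c, hc⟩
    (fun z => h z z.2) f

/-- **First half of S4661**: `C_P(Q)` is contained in a defect group of `f`. -/
theorem exists_defect_ge_cen (hM : IsPModular p M) {e : Set (IrrCharacter (Subgroup.centralizer (P : Set G)))}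
    (hPe : IsBrauerPair p M P e) (hQP : Q ≤ P) {f : Set (IrrCharacter (Subgroup.centralizer (Q : Set G)))}
    (hf : IsPBlock M f) (hle : SubpairLE p M Q f P e) :
    ∃ D : Subgroup (Subgroup.centralizer (Q : Set G)), IsDefectGroup p M f D ∧
      (P ⊓ Subgroup.centralizer (Q : Set G)).subgroupOf (Subgroup.centralizer (Q : Set G)) ≤ D := by
  classical
  letI : Fintype (Subgroup.centralizer (Q : Set G)) := Fintype.ofFinite _
  -- the group `R = Q C_P(Q)`
  have hRP : Q ⊔ (P ⊓ Subgroup.centralizer (Q : Set G)) ≤ P := sup_le hQP inf_le_left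
  have hQR : Q ≤ Q ⊔ (P ⊓ Subgroup.centralizer (Q : Set G)) := le_sup_left
  have hRN : Q ⊔ (P ⊓ Subgroup.centralizer (Q : Set G)) ≤ Subgroup.normalizer (Q : Set G) :=
    sup_le Subgroup.le_normalizer (inf_le_right.trans (Subgroup.centralizer_le_normalizer _))
  obtain ⟨g, hg, hRle⟩ := exists_subpairLE hM hPe _ hRP
  have hRpair : IsBrauerPair p M (Q ⊔ (P ⊓ Subgroup.centralizer (Q : Set G))) g := ⟨hPe.1.to_le hRP, hg⟩
  obtain ⟨f₂, hf₂, -⟩ := existsUnique_isNormalSubpair hM hRpair hQR hRN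
  have hff : f₂ = f := subpairLE_unique hM hPe Q hQP f₂ f
    (Relation.ReflTransGen.trans (Relation.ReflTransGen.single (show NormalSubpairRel p M ⟨Q, f₂⟩ ⟨_, g⟩ from hf₂)) hRle) hle
  rw [hff] at hf₂
  obtain ⟨y, hy, hyc⟩ := exists_coeff_of_isNormalSubpair hM hf₂
  have hyQ : y ∈ Subgroup.centralizer (Q : Set G) := Subgroup.centralizer_le hQR hy
  simp only [subgroupBlockCoeff, dif_pos hyQ] at hyc
  obtain ⟨D₀, hD₀⟩ := IsPBlock.exists_isDefectGroup hM hf
  have hp' : IsPGroup p ((P ⊓ Subgroup.centralizer (Q : Set G)).subgroupOf (Subgroup.centralizer (Q : Set G))) :=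
    isPGroup_subgroupOf (hPe.1.to_le inf_le_left) _
  have hcen : (P ⊓ Subgroup.centralizer (Q : Set G)).subgroupOf (Subgroup.centralizer (Q : Set G)) ≤
      Subgroup.centralizer ({(⟨y, hyQ⟩ : Subgroup.centralizer (Q : Set G))} : Set (Subgroup.centralizer (Q : Set G))) := by
    intro t ht
    rw [Subgroup.mem_centralizer_singleton_iff]
    apply Subtype.ext
    rw [Subgroup.mem_subgroupOf] at ht
    have h1 : (t : G) ∈ Q ⊔ (P ⊓ Subgroup.centralizer (Q : Set G)) := Subgroup.mem_sup_right ht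
    exact Subgroup.mem_centralizer_iff.mp hy _ h1
  obtain ⟨z, hz⟩ := IsDefectGroup.le_conj_of_coeff hM hf hD₀ hyc hp' hcen
  exact ⟨conjS z D₀, IsDefectGroup.conj hD₀ z, hz⟩

/-- **Second half of S4661.** -/
theorem exists_conj_isDefectGroup_cen (hM : IsPModular p M) {B : Set (IrrCharacter G)}
    {e : Set (IrrCharacter (Subgroup.centralizer (P : Set G)))}
    (hmax : IsMaximalBrauerPair p M B P e) {f : Set (IrrCharacter (Subgroup.centralizer (Q : Set G)))}
    (hf : IsPBlock M f) (hle : SubpairLE p M Q f P e) :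
    ∃ x : G, SubpairLE p M (conjS x Q) (conjB x rfl f) P e ∧
      IsDefectGroup p M (conjB x rfl f) ((P ⊓ Subgroup.centralizer ((conjS x Q : Subgroup G) : Set G)).subgroupOf
        (Subgroup.centralizer ((conjS x Q : Subgroup G) : Set G))) := by
  classical
  have := isPrime_of_modular hM
  letI : Fintype (Subgroup.centralizer (Q : Set G)) := Fintype.ofFinite _
  have hB := hmax.1.2.1
  have hPe := hmax.1.1
  have hQf : IsBrauerPairOf p M B Q f := (isBrauerPairOf_iff_of_chain hM hle hB).mp hmax.1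
  have hQp := hQf.1.1
  obtain ⟨D, hD⟩ := IsPBlock.exists_isDefectGroup hM hf
  obtain ⟨t, ht, hS⟩ := isDefectGroup_iff.mp hD
  set D' : Subgroup G := D.map (Subgroup.subtype _) with hD'
  have hD'p : IsPGroup p D' := hS.isPGroup.map _
  have hD'C : D' ≤ Subgroup.centralizer (Q : Set G) := Subgroup.map_subtype_le _
  have hRp : IsPGroup p (Q ⊔ D' : Subgroup G) :=
    IsPGroup.to_sup_of_normal_left' hQp hD'p (hD'C.trans (Subgroup.centralizer_le_normalizer _))
  have hRsub : Q ⊔ D' ≤ Q ⊔ Subgroup.centralizer (Q : Set G) := sup_le_sup_left hD'C _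
  have hRN : Q ⊔ D' ≤ Subgroup.normalizer (Q : Set G) := hRsub.trans sup_centralizer_le_normalizer
  have htD' : Q ⊔ D' ≤ Subgroup.centralizer ({(t : G)} : Set G) := by
    refine sup_le ?_ ?_
    · intro q hq
      rw [Subgroup.mem_centralizer_singleton_iff]
      exact (Subgroup.mem_centralizer_iff.mp t.2 q hq)
    · rintro _ ⟨d, hd, rfl⟩
      rw [Subgroup.mem_centralizer_singleton_iff]
      have h1 := Subgroup.mem_centralizer_singleton_iff.mp (hS.le hd)
      exact congrArg Subtype.val h1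
  have htR : (t : G) ∈ Subgroup.centralizer (((Q ⊔ D' : Subgroup G)) : Set G) := by
    rw [Subgroup.mem_centralizer_iff]
    intro r hr
    exact Subgroup.mem_centralizer_singleton_iff.mp (htD' hr)
  have hcoef : ¬ MemLocalIdeal M (subgroupBlockCoeff (Subgroup.centralizer (Q : Set G)) f (t : G)) := by
    simp only [subgroupBlockCoeff, dif_pos t.2]
    exact ht.2.1
  obtain ⟨g₁, hns⟩ := exists_isNormalSubpair_of_coeff hM hRp le_sup_left hRN hf
    (fun x hx => stabilizesBlock_of_mem_sup (hRsub hx) f) htR hcoef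
  have hR₁ : IsBrauerPairOf p M B (Q ⊔ D') g₁ := (isBrauerPairOf_iff_normal hM hns hB).mpr hQf
  obtain ⟨x, hx⟩ := exists_conj_subpairLE hM hmax hR₁
  have hns' := isNormalSubpair_conjB x rfl rfl hns
  have hle₂ : SubpairLE p M (conjS x Q) (conjB x rfl f) P e :=
    Relation.ReflTransGen.trans (Relation.ReflTransGen.single (show NormalSubpairRel p M ⟨_, _⟩ ⟨_, _⟩ from hns')) hx
  have hxP : conjS x (Q ⊔ D') ≤ P := le_of_subpairLE hx
  have hQ'P : conjS x Q ≤ P := le_of_subpairLE hle₂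
  letI : Fintype (Subgroup.centralizer ((conjS x Q : Subgroup G) : Set G)) := Fintype.ofFinite _
  obtain ⟨D₂, hD₂, hD₂le⟩ := exists_defect_ge_cen hM hPe hQ'P (isPBlock_conjB x rfl hf) hle₂
  refine ⟨x, hle₂, ?_⟩
  have hD₃ := isDefectGroup_transBlock (cenIso x rfl).symm hD
  rw [← conjB_eq_transBlock] at hD₃
  obtain ⟨w, hw⟩ := IsDefectGroup.exists_conj_eq hM (isPBlock_conjB x rfl hf) hD₃ hD₂
  have hcard : Nat.card D₂ = Nat.card (D.comap (cenIso x rfl).symm.toMonoidHom) := by
    rw [hw]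
    exact card_conjS _ _
  have hle₃ : D.comap (cenIso x rfl).symm.toMonoidHom ≤
      (P ⊓ Subgroup.centralizer ((conjS x Q : Subgroup G) : Set G)).subgroupOf
        (Subgroup.centralizer ((conjS x Q : Subgroup G) : Set G)) := by
    intro u hu
    rw [Subgroup.mem_subgroupOf]
    refine ⟨hxP ?_, u.2⟩
    rw [mem_conjS]
    exact Subgroup.mem_sup_right ⟨_, hu, rfl⟩
  have hfinal := Subgroup.eq_of_le_of_card_ge hD₂le (by
    rw [hcard]
    exact Subgroup.card_le_of_le hle₃)
  rw [hfinal]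
  exact hD₂

end DefectPairs

end Cfsg.Agent.Lib.H8Group
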