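import Cfsg.Agent.Lib.H8Group.SubPairs

/-!
# The extension theorem for Brauer pairs
-/

set_option autoImplicit false
set_option linter.unusedSectionVars false

namespace Cfsg.Agent.Lib.H8Group

open Cfsg Cfsg.Agent.Lib.Char Cfsg.Agent.Lib.Blocks

universe u

section Ext

variable {G : Type u} [Group G] [Fintype G] {M : Ideal AlgInt} {p : ℕ} [hp : Fact p.Prime] {Q R P X T W Dg : Subgroup G}

/-- The defect group of a block of the big group which lies in a subgroup supporting the idempotent. -/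
theorem isDefectGroup_subgroup_of_le (hM : IsPModular p M) (hWT : W ≤ T) (hDW : Dg ≤ W) {β : G → ℂ}
    {F_T : Set (IrrCharacter T)} {F_W : Set (IrrCharacter W)} (hF_T : IsPBlock M F_T) (hF_W : IsPBlock M F_W)
    (hcT : ∀ t : T, blockCoeff F_T t = β t) (hcW : ∀ w : W, blockCoeff F_W w = β w) (hβ : ∀ g, g ∉ W → β g = 0)
    (hD : IsDefectGroup p M F_T (Dg.subgroupOf T)) : IsDefectGroup p M F_W (Dg.subgroupOf W) := by
  classical
  have := isPrime_of_modular hM
  letI : Fintype T := Fintype.ofFinite _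
  letI : Fintype W := Fintype.ofFinite _
  obtain ⟨D_W, hD_W⟩ := IsPBlock.exists_isDefectGroup hM hF_W
  obtain ⟨t₁, ht₁, hS₁⟩ := isDefectGroup_iff.mp hD_W
  obtain ⟨t₀, ht₀, hS₀⟩ := isDefectGroup_iff.mp hD
  have hDp : IsPGroup p Dg := by
    have h1 := hS₀.isPGroup
    exact h1.of_equiv (Subgroup.subgroupOfEquivOfLe (hDW.trans hWT))
  -- first inclusion
  have ht₁' : ¬ MemLocalIdeal M (blockCoeff F_T (Subgroup.inclusion hWT t₁)) := by
    rw [hcT]
    have h1 := ht₁.2.1
    rw [hcW] at h1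
    exact h1
  have hmapp : IsPGroup p (D_W.map (Subgroup.inclusion hWT)) := hS₁.isPGroup.map _
  have hmapc : D_W.map (Subgroup.inclusion hWT) ≤
      Subgroup.centralizer ({Subgroup.inclusion hWT t₁} : Set T) := by
    rintro _ ⟨d, hd, rfl⟩
    rw [Subgroup.mem_centralizer_singleton_iff]
    have h1 := Subgroup.mem_centralizer_singleton_iff.mp (hS₁.le hd)
    apply Subtype.ext
    exact congrArg (fun z : W => (z : G)) h1
  obtain ⟨z, hz⟩ := IsDefectGroup.le_conj_of_coeff hM hF_T hD ht₁' hmapp hmapc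
  have hcard₁ : Nat.card D_W ≤ Nat.card Dg := by
    have h1 : Nat.card (D_W.map (Subgroup.inclusion hWT)) = Nat.card D_W :=
      Subgroup.card_map_of_injective (Subgroup.inclusion_injective hWT)
    have h2 := Subgroup.card_le_of_le hz
    rw [card_conjS, card_subgroupOf_of_le (hDW.trans hWT), h1] at h2
    exact h2
  -- second inclusion
  have ht₀W : (t₀ : G) ∈ W := by
    by_contra hn
    apply ht₀.2.1
    rw [hcT, hβ _ hn]
    exact memLocalIdeal_zero
  have ht₀' : ¬ MemLocalIdeal M (blockCoeff F_W (⟨t₀, ht₀W⟩ : W)) := by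
    rw [hcW]
    have h1 := ht₀.2.1
    rw [hcT] at h1
    exact h1
  have hcen : Dg.subgroupOf W ≤ Subgroup.centralizer ({(⟨t₀, ht₀W⟩ : W)} : Set W) := by
    intro d hd
    rw [Subgroup.mem_subgroupOf] at hd
    rw [Subgroup.mem_centralizer_singleton_iff]
    have hd' : (⟨d, hWT d.2⟩ : T) ∈ Dg.subgroupOf T := Subgroup.mem_subgroupOf.mpr hd
    have h1 := Subgroup.mem_centralizer_singleton_iff.mp (hS₀.le hd')
    apply Subtype.ext
    exact congrArg (fun z : T => (z : G)) h1
  obtain ⟨z₂, hz₂⟩ := IsDefectGroup.le_conj_of_coeff hM hF_W hD_W ht₀' (isPGroup_subgroupOf hDp W) hcen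
  have heq := Subgroup.eq_of_le_of_card_ge hz₂ (by
    rw [card_conjS, card_subgroupOf_of_le hDW]
    exact hcard₁)
  rw [heq]
  exact IsDefectGroup.conj hD_W z₂

theorem mem_normalizer_of_conjS_eq {h : G} (hh : conjS h R = R) : h ∈ Subgroup.normalizer (R : Set G) := by
  rw [Subgroup.mem_normalizer_iff]
  intro z
  constructor
  · intro hz
    have h1 : h * z * h⁻¹ ∈ conjS h R := conj_mem_conjS hz
    rw [hh] at h1
    exact h1
  · intro hz
    have hz' : h * z * h⁻¹ ∈ R := hz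
    rw [← hh, mem_conjS] at hz'
    have h1 : h⁻¹ * (h * z * h⁻¹) * h = z := by group
    rwa [h1] at hz'

theorem exists_inv_mul_mem_of_mem_sup {N : Subgroup G} (hN : N ≤ Subgroup.normalizer (R : Set G)) {u : G}
    (hu : u ∈ Subgroup.centralizer (R : Set G) ⊔ N) : ∃ n ∈ N, n⁻¹ * u ∈ Subgroup.centralizer (R : Set G) := by
  rw [Subgroup.sup_eq_closure] at hu
  induction hu using Subgroup.closure_induction with
  | mem x hx =>
    rcases hx with hx | hx
    · exact ⟨1, Subgroup.one_mem _, by simpa using hx⟩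
    · exact ⟨x, hx, by simp [Subgroup.one_mem]⟩
  | one => exact ⟨1, Subgroup.one_mem _, by simp [Subgroup.one_mem]⟩
  | mul x y _ _ hx hy =>
    obtain ⟨n₁, hn₁, hc₁⟩ := hx
    obtain ⟨n₂, hn₂, hc₂⟩ := hy
    refine ⟨n₁ * n₂, Subgroup.mul_mem _ hn₁ hn₂, ?_⟩
    have h1 : (n₁ * n₂)⁻¹ * (x * y) = n₂⁻¹ * (n₁⁻¹ * x) * n₂⁻¹⁻¹ * (n₂⁻¹ * y) := by group
    rw [h1]
    exact Subgroup.mul_mem _ (conj_mem_centralizer (Subgroup.inv_mem _ (hN hn₂)) hc₁) hc₂
  | inv x _ hx =>
    obtain ⟨n, hn, hc⟩ := hx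
    refine ⟨n⁻¹, Subgroup.inv_mem _ hn, ?_⟩
    have h1 : n⁻¹⁻¹ * x⁻¹ = n * (n⁻¹ * x)⁻¹ * n⁻¹ := by group
    rw [h1]
    exact conj_mem_centralizer (hN hn) (Subgroup.inv_mem _ hc)

theorem isPBlock_of_subpairLE (hM : IsPModular p M) {e : Set (IrrCharacter (Subgroup.centralizer (P : Set G)))}
    (hPe : IsBrauerPair p M P e) {f : Set (IrrCharacter (Subgroup.centralizer (Q : Set G)))}
    (h : SubpairLE p M Q f P e) : IsPBlock M f := by
  have hQP := le_of_subpairLE h
  obtain ⟨f', hf', hle'⟩ := exists_subpairLE hM hPe Q hQP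
  rw [subpairLE_unique hM hPe Q hQP f f' h hle']
  exact hf'

/-- The normal inclusion below a chain. -/
theorem isNormalSubpair_of_subpairLE (hM : IsPModular p M) {e : Set (IrrCharacter (Subgroup.centralizer (P : Set G)))}
    (hPe : IsBrauerPair p M P e) {f : Set (IrrCharacter (Subgroup.centralizer (Q : Set G)))}
    (hle : SubpairLE p M Q f P e) {g : Set (IrrCharacter (Subgroup.centralizer (R : Set G)))}
    (hleR : SubpairLE p M R g P e) (hQR : Q ≤ R) (hRN : R ≤ Subgroup.normalizer (Q : Set G)) :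
    IsNormalSubpair p M Q f R g := by
  have hRP := le_of_subpairLE hleR
  have hQP := le_of_subpairLE hle
  have hg := isPBlock_of_subpairLE hM hPe hleR
  obtain ⟨f₂, hf₂, -⟩ := existsUnique_isNormalSubpair hM (⟨hPe.1.to_le hRP, hg⟩ : IsBrauerPair p M R g) hQR hRN
  have h1 : f₂ = f := subpairLE_unique hM hPe Q hQP f₂ f
    (Relation.ReflTransGen.trans (Relation.ReflTransGen.single (show NormalSubpairRel p M ⟨Q, f₂⟩ ⟨_, g⟩ from hf₂)) hleR) hle
  rwa [h1] at hf₂

/-- Conjugating a pair over `(R, fR)` into a pair on a defect group, inside a subgroup `W` of the stabilizer. -/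
theorem exists_conj_in_subgroup (hM : IsPModular p M) {N A : Subgroup G} (hRp : IsPGroup p R)
    {fR : Set (IrrCharacter (Subgroup.centralizer (R : Set G)))} (hfR : IsPBlock M fR)
    (hT : ∀ y : G, y ∈ T ↔ y ∈ Subgroup.normalizer (R : Set G) ∧
      StabilizesBlock (Subgroup.centralizer (R : Set G)) fR y)
    {F_T : Set (IrrCharacter T)} (hF_T : IsPBlock M F_T)
    (hcoef : ∀ t : T, blockCoeff F_T t = subgroupBlockCoeff (Subgroup.centralizer (R : Set G)) fR (t : G))
    (hD : IsDefectGroup p M F_T (N.subgroupOf T)) (hCW : Subgroup.centralizer (R : Set G) ≤ W) (hNW : N ≤ W) (hWT : W ≤ T)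
    (hAW : A ≤ W) (hWN : W ≤ Subgroup.normalizer (R : Set G))
    {eN : Set (IrrCharacter (Subgroup.centralizer (N : Set G)))} (hf₃ : IsNormalSubpair p M R fR N eN)
    {a : Set (IrrCharacter (Subgroup.centralizer (A : Set G)))} (hns₂ : IsNormalSubpair p M R fR A a) :
    ∃ u : W, SubpairLE p M (conjS (u : G) A) (conjB (u : G) rfl a) N eN := by
  classical
  have := isPrime_of_modular hM
  letI : Fintype (Subgroup.centralizer (R : Set G)) := Fintype.ofFinite _
  letI : Fintype W := Fintype.ofFinite _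
  have hRN : R ≤ N := hf₃.2.2.1
  have hRA : R ≤ A := hns₂.2.2.1
  obtain ⟨F_W, hF_W, hcoefW⟩ := exists_block_stabilizer hM hRp (hRN.trans hNW) hCW hWN hfR
    (fun t ht => ((hT t).mp (hWT ht)).2)
  have hN'' := isDefectGroup_subgroup_of_le hM hWT hNW hF_T hF_W hcoef hcoefW (fun y hy => by
    have hy' : y ∉ Subgroup.centralizer (R : Set G) := fun h => hy (hCW h)
    simp only [subgroupBlockCoeff, dif_neg hy']) hD
  have cdN : CenData (N.subgroupOf W) N := cenData_of_le hCW hNW hRN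
  have cdA : CenData (A.subgroupOf W) A := cenData_of_le hCW hAW hRA
  letI : Fintype (Subgroup.centralizer (N : Set G)) := Fintype.ofFinite _
  letI : Fintype (Subgroup.centralizer ((N.subgroupOf W : Subgroup W) : Set W)) := Fintype.ofFinite _
  letI : Fintype (Subgroup.centralizer (A : Set G)) := Fintype.ofFinite _
  letI : Fintype (Subgroup.centralizer ((A.subgroupOf W : Subgroup W) : Set W)) := Fintype.ofFinite _
  have hpN := isBrauerPairOf_of_isNormalSubpair cdN hF_W hcoefW hf₃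
  have hpA := isBrauerPairOf_of_isNormalSubpair cdA hF_W hcoefW hns₂
  have hmaxW := isMaximalBrauerPair_of_defect hM hpN hN''
  obtain ⟨u, hu⟩ := exists_conj_subpairLE hM hmaxW hpA
  refine ⟨u, ?_⟩
  have hh₁ : (conjS u (A.subgroupOf W)).map (Subgroup.subtype _) = conjS (u : G) A := by
    ext z
    constructor
    · rintro ⟨w, hw, rfl⟩
      have hw' : w ∈ conjS u (A.subgroupOf W) := hw
      rw [mem_conjS] at hw'
      show (w : G) ∈ conjS (u : G) A
      rw [mem_conjS]
      exact Subgroup.mem_subgroupOf.mp hw'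
    · intro hz
      rw [mem_conjS] at hz
      have hzW : z ∈ W := by
        have h1 := hAW hz
        have h2 : z = (u : G) * ((u : G)⁻¹ * z * (u : G)) * (u : G)⁻¹ := by group
        rw [h2]
        exact Subgroup.mul_mem _ (Subgroup.mul_mem _ u.2 h1) (Subgroup.inv_mem _ u.2)
      refine ⟨⟨z, hzW⟩, ?_, rfl⟩
      show (⟨z, hzW⟩ : W) ∈ conjS u (A.subgroupOf W)
      rw [mem_conjS, Subgroup.mem_subgroupOf]
      exact hz
  have hh₂ : (N.subgroupOf W).map (Subgroup.subtype _) = N := Subgroup.map_subgroupOf_eq_of_le hNW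
  have hRle : R ≤ conjS (u : G) A := by
    have h1 : conjS (u : G) R = R := conjS_eq_of_mem_normalizer (hWN u.2)
    rw [← h1]
    exact conjS_mono _ hRA
  have cd₁ : CenData (conjS u (A.subgroupOf W)) (conjS (u : G) A) := by
    rw [← hh₁]
    exact cenData_map hCW (by rw [hh₁]; exact hRle)
  have hlift := subpairLE_lift hCW hh₁ hh₂ hRle hu cd₁ cdN
  have h1 := conjB_lift u cdA cd₁ rfl a
  have h2 := transBlock_symm_transBlock (cenTrans cdN) eN
  rw [h1, h2] at hlift
  exact hlift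

/-- **The extension theorem.** -/
theorem extension_of_defect (hM : IsPModular p M) {B : Set (IrrCharacter G)}
    {e : Set (IrrCharacter (Subgroup.centralizer (P : Set G)))} (hmax : IsMaximalBrauerPair p M B P e)
    {fR : Set (IrrCharacter (Subgroup.centralizer (R : Set G)))} (hleR : SubpairLE p M R fR P e)
    (hT : ∀ y : G, y ∈ T ↔ y ∈ Subgroup.normalizer (R : Set G) ∧
      StabilizesBlock (Subgroup.centralizer (R : Set G)) fR y)
    {F_T : Set (IrrCharacter T)} (hF_T : IsPBlock M F_T)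
    (hcoef : ∀ t : T, blockCoeff F_T t = subgroupBlockCoeff (Subgroup.centralizer (R : Set G)) fR (t : G))
    (hD : IsDefectGroup p M F_T ((P ⊓ Subgroup.normalizer (R : Set G)).subgroupOf T))
    {fQ : Set (IrrCharacter (Subgroup.centralizer (Q : Set G)))} (hleQ : SubpairLE p M Q fQ P e)
    {g : G} (hgQ : conjS g Q = R) (hgf : conjB g hgQ fQ = fR) (hQX : Q ≤ X) (hXP : X ≤ P)
    (hXN : X ≤ Subgroup.normalizer (Q : Set G))
    (hXh : ∀ t ∈ X, ∃ h ∈ P, ∀ x ∈ R, (g * t * g⁻¹) * x * (g * t * g⁻¹)⁻¹ = h * x * h⁻¹)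
    {fX : Set (IrrCharacter (Subgroup.centralizer (X : Set G)))} (hleX : SubpairLE p M X fX P e) :
    ∃ c ∈ Subgroup.centralizer (R : Set G), SubpairLE p M (conjS (c * g) X) (conjB (c * g) rfl fX) P e := by
  classical
  have := isPrime_of_modular hM
  letI : Fintype (Subgroup.centralizer (R : Set G)) := Fintype.ofFinite _
  have hPe := hmax.1.1
  have hB := hmax.1.2.1
  have hRP : R ≤ P := le_of_subpairLE hleR
  have hRp : IsPGroup p R := hPe.1.to_le hRP
  have hfR := isPBlock_of_subpairLE hM hPe hleR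
  have hns₁ := isNormalSubpair_of_subpairLE hM hPe hleQ hleX hQX hXN
  have hns₂ := isNormalSubpair_conjB g hgQ rfl hns₁
  rw [hgf] at hns₂
  have hRA : R ≤ conjS g X := hns₂.2.2.1
  have hAN : conjS g X ≤ Subgroup.normalizer (R : Set G) := hns₂.2.2.2.1
  -- the group `W`
  have hRN : R ≤ P ⊓ Subgroup.normalizer (R : Set G) := le_inf hRP Subgroup.le_normalizer
  have hNN : P ⊓ Subgroup.normalizer (R : Set G) ≤ Subgroup.normalizer (R : Set G) := inf_le_right
  have hCW : Subgroup.centralizer (R : Set G) ≤ Subgroup.centralizer (R : Set G) ⊔ (P ⊓ Subgroup.normalizer (R : Set G)) :=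
    le_sup_left
  have hNW : P ⊓ Subgroup.normalizer (R : Set G) ≤ Subgroup.centralizer (R : Set G) ⊔ (P ⊓ Subgroup.normalizer (R : Set G)) :=
    le_sup_right
  have hNT : P ⊓ Subgroup.normalizer (R : Set G) ≤ T := inf_normalizer_le_stabilizer hM hPe hRP hleR hT
  have hCT : Subgroup.centralizer (R : Set G) ≤ T := fun c hc =>
    (hT c).mpr ⟨Subgroup.centralizer_le_normalizer _ hc, stabilizes_of_mem_centralizer _ fR hc⟩
  have hWT : Subgroup.centralizer (R : Set G) ⊔ (P ⊓ Subgroup.normalizer (R : Set G)) ≤ T := sup_le hCT hNT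
  have hTN : T ≤ Subgroup.normalizer (R : Set G) := fun y hy => ((hT y).mp hy).1
  have hAW : conjS g X ≤ Subgroup.centralizer (R : Set G) ⊔ (P ⊓ Subgroup.normalizer (R : Set G)) := by
    rintro _ ⟨t, ht, rfl⟩
    obtain ⟨h, hhP, hh⟩ := hXh t ht
    have hy : g * t * g⁻¹ ∈ conjS g X := conj_mem_conjS ht
    have hyR := conjS_eq_of_mem_normalizer (hAN hy)
    have hhR' : conjS h R = conjS (g * t * g⁻¹) R := by
      ext z
      constructor
      · rintro ⟨x, hx, rfl⟩
        exact ⟨x, hx, by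
          show g * t * g⁻¹ * x * (g * t * g⁻¹)⁻¹ = h * x * h⁻¹
          exact hh x hx⟩
      · rintro ⟨x, hx, rfl⟩
        exact ⟨x, hx, by
          show h * x * h⁻¹ = g * t * g⁻¹ * x * (g * t * g⁻¹)⁻¹
          exact (hh x hx).symm⟩
    have hhR : conjS h R = R := hhR'.trans hyR
    have hhN : h ∈ P ⊓ Subgroup.normalizer (R : Set G) := ⟨hhP, mem_normalizer_of_conjS_eq hhR⟩
    have hc : h⁻¹ * (g * t * g⁻¹) ∈ Subgroup.centralizer (R : Set G) := by
      rw [Subgroup.mem_centralizer_iff]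
      intro x hx
      have h1 := hh x hx
      have h2 : g * t * g⁻¹ * x = h * x * h⁻¹ * (g * t * g⁻¹) := by
        rw [← h1]
        group
      calc x * (h⁻¹ * (g * t * g⁻¹)) = h⁻¹ * (h * x * h⁻¹ * (g * t * g⁻¹)) := by group
        _ = h⁻¹ * (g * t * g⁻¹ * x) := by rw [← h2]
        _ = h⁻¹ * (g * t * g⁻¹) * x := by group
    have h3 : (MulAut.conj g).toMonoidHom t = h * (h⁻¹ * (g * t * g⁻¹)) := by
      show g * t * g⁻¹ = _
      group
    rw [h3]
    exact Subgroup.mul_mem _ (hNW hhN) (hCW hc)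
  -- the pairs
  obtain ⟨eN, heN, hleN⟩ := exists_subpairLE hM hPe (P ⊓ Subgroup.normalizer (R : Set G)) inf_le_left
  have hf₃ := isNormalSubpair_of_subpairLE hM hPe hleR hleN hRN hNN
  obtain ⟨u, hlift⟩ := exists_conj_in_subgroup hM hRp hfR hT hF_T hcoef hD hCW hNW hWT hAW (hWT.trans hTN) hf₃ hns₂
  have hle₄ := Relation.ReflTransGen.trans hlift hleN
  obtain ⟨n, hn, hc⟩ := exists_inv_mul_mem_of_mem_sup hNN u.2
  have hPn : conjS n⁻¹ P = P := conjS_self_of_mem (Subgroup.inv_mem _ hn.1)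
  have hQ₃ : conjS n⁻¹ (conjS (u : G) (conjS g X)) = conjS (n⁻¹ * u) (conjS g X) := conjS_conjS _ _ _
  have hQ₄ : conjS (n⁻¹ * u) (conjS g X) = conjS (n⁻¹ * u * g) X := conjS_conjS _ _ _
  have hQ₅ := hQ₃.trans hQ₄
  have h3 := subpairLE_conjB n⁻¹ hQ₅ hPn hle₄
  rw [conjB_self_of_mem (Subgroup.inv_mem _ hn.1), conjB_conjB (u : G) n⁻¹ rfl hQ₅ hQ₄, conjB_conjB g (n⁻¹ * u) rfl hQ₄ rfl] at h3
  exact ⟨n⁻¹ * u, hc, h3⟩

end Ext

end Cfsg.Agent.Lib.H8Group
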