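import Cfsg.Agent.Lib.H8Group.Subsection
import Mathlib.RingTheory.RootsOfUnity.Complex

/-!
# A lower bound for sums over Galois conjugates of a positive integer form

The integer form `Q` is positive and bounded below off the kernel of a linear form modulo `p`.  The
average over the units `j` modulo `p ^ N` of the form at `a_i v_i ^ j`, for `p ^ N`-th roots of unity
`v_i`, has the same lower bound.
-/

set_option autoImplicit false
set_option linter.unusedSectionVars false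
set_option linter.style.haveILetI false

namespace Cfsg.Agent.Lib.H8Group

open scoped ComplexConjugate

section Slot

variable {L : Type*} [AddCommGroup L] {p : ℕ} [hp : Fact p.Prime]

/-- The `p`-slot lemma. -/
theorem slot_lb (bil : L →+ L →+ ℤ) (hsym : ∀ n n', bil n n' = bil n' n) (F : L →+ ℤ) {m : ℤ} (hm : 0 ≤ m)
    (hpos : ∀ n, 0 ≤ bil n n) (hlb : ∀ n, ¬ (p : ℤ) ∣ F n → m ≤ bil n n)
    {S : Type*} [Fintype S] (hS : Fintype.card S = p) (A : S → L) :
    0 ≤ (p : ℤ) * ∑ s, bil (A s) (A s) - bil (∑ s, A s) (∑ s, A s) ∧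
    (¬ (p : ℤ) ∣ F (∑ s, A s) →
      ((p : ℤ) - 1) * m ≤ (p : ℤ) * ∑ s, bil (A s) (A s) - bil (∑ s, A s) (∑ s, A s)) := by
  classical
  have hpp : p.Prime := hp.out
  set G := (p : ℤ) * ∑ s, bil (A s) (A s) - bil (∑ s, A s) (∑ s, A s) with hG
  have hexp : ∀ s s', bil (A s - A s') (A s - A s') =
      bil (A s) (A s) + bil (A s') (A s') - 2 * bil (A s) (A s') := by
    intro s s'
    simp only [map_sub, AddMonoidHom.sub_apply]
    rw [hsym (A s') (A s)]
    ring
  have hbs : bil (∑ s, A s) (∑ s, A s) = ∑ s, ∑ s', bil (A s) (A s') := by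
    rw [map_sum]
    simp only [map_sum, AddMonoidHom.finsetSum_apply]
    rw [Finset.sum_comm]
  have hpol : 2 * G = ∑ s, ∑ s', bil (A s - A s') (A s - A s') := by
    rw [hG, hbs]
    simp only [hexp, Finset.sum_sub_distrib, Finset.sum_add_distrib, Finset.sum_const, Finset.card_univ, hS,
      nsmul_eq_mul, ← Finset.mul_sum]
    ring
  have hnn : ∀ s s', 0 ≤ bil (A s - A s') (A s - A s') := fun s s' => hpos _
  constructor
  · have h1 : 0 ≤ 2 * G := by
      rw [hpol]
      exact Finset.sum_nonneg fun s _ => Finset.sum_nonneg fun s' _ => hnn s s'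
    omega
  · intro hF
    haveI : Nonempty S := by
      rw [← Fintype.card_pos_iff, hS]
      exact hpp.pos
    obtain ⟨s₀⟩ := (inferInstance : Nonempty S)
    set C : Finset S := Finset.univ.filter (fun s => (p : ℤ) ∣ F (A s) - F (A s₀)) with hC
    have hmemC : ∀ s, s ∈ C ↔ (p : ℤ) ∣ F (A s) - F (A s₀) := fun s => by simp [hC]
    have hs₀C : s₀ ∈ C := by
      rw [hmemC]
      simp
    have hcompl : ∃ s₁, s₁ ∉ C := by
      by_contra hcon
      push Not at hcon
      apply hF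
      rw [map_sum]
      have h1 : ∑ s, F (A s) = ∑ s, (F (A s) - F (A s₀)) + (p : ℤ) * F (A s₀) := by
        rw [Finset.sum_sub_distrib, Finset.sum_const, Finset.card_univ, hS, nsmul_eq_mul]
        ring
      rw [h1]
      exact dvd_add (Finset.dvd_sum fun s _ => (hmemC s).mp (hcon s)) (dvd_mul_right _ _)
    obtain ⟨s₁, hs₁⟩ := hcompl
    -- cardinalities
    set n : ℤ := (C.card : ℤ) with hn
    have hn1 : 1 ≤ n := by
      have := Finset.card_pos.mpr ⟨s₀, hs₀C⟩
      omega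
    have hCc : (Cᶜ.card : ℤ) = (p : ℤ) - n := by
      have h2 := Finset.card_add_card_compl C
      rw [Fintype.card_eq_nat_card, Nat.card_eq_fintype_card, hS] at h2
      omega
    have hc1 : 1 ≤ (p : ℤ) - n := by
      have : 0 < Cᶜ.card := Finset.card_pos.mpr ⟨s₁, by simpa using hs₁⟩
      omega
    -- the off-diagonal terms
    have hoff : ∀ s ∈ C, ∀ s' ∈ Cᶜ, m ≤ bil (A s - A s') (A s - A s') ∧ m ≤ bil (A s' - A s) (A s' - A s) := by
      intro s hs s' hs'
      have hs'' : ¬ (p : ℤ) ∣ F (A s') - F (A s₀) := by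
        rw [← hmemC]
        simpa using hs'
      have hsd := (hmemC s).mp hs
      have h1 : ¬ (p : ℤ) ∣ F (A s - A s') := by
        rw [map_sub]
        intro h2
        apply hs''
        have h3 := dvd_sub hsd h2
        have h4 : F (A s') - F (A s₀) = F (A s) - F (A s₀) - (F (A s) - F (A s')) := by ring
        rw [h4]
        exact h3
      have h2 : ¬ (p : ℤ) ∣ F (A s' - A s) := by
        rw [map_sub]
        intro h3
        apply hs''
        have h4 := dvd_add hsd h3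
        have h5 : F (A s') - F (A s₀) = F (A s) - F (A s₀) + (F (A s') - F (A s)) := by ring
        rw [h5]
        exact h4
      exact ⟨hlb _ h1, hlb _ h2⟩
    have hsum1 : n * ((p : ℤ) - n) * m ≤ ∑ s ∈ C, ∑ s' ∈ Cᶜ, bil (A s - A s') (A s - A s') := by
      calc n * ((p : ℤ) - n) * m = ∑ s ∈ C, ∑ s' ∈ Cᶜ, m := by
            simp only [Finset.sum_const, nsmul_eq_mul]
            rw [hCc]
            ring
        _ ≤ _ := Finset.sum_le_sum fun s hs => Finset.sum_le_sum fun s' hs' => (hoff s hs s' hs').1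
    have hsum2 : n * ((p : ℤ) - n) * m ≤ ∑ s ∈ Cᶜ, ∑ s' ∈ C, bil (A s - A s') (A s - A s') := by
      calc n * ((p : ℤ) - n) * m = ∑ s ∈ Cᶜ, ∑ s' ∈ C, m := by
            simp only [Finset.sum_const, nsmul_eq_mul]
            rw [hCc]
            ring
        _ ≤ _ := Finset.sum_le_sum fun s hs => Finset.sum_le_sum fun s' hs' => (hoff s' hs' s hs).2
    have hsplit : ∑ s ∈ C, ∑ s' ∈ Cᶜ, bil (A s - A s') (A s - A s') +
        ∑ s ∈ Cᶜ, ∑ s' ∈ C, bil (A s - A s') (A s - A s') ≤ 2 * G := by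
      rw [hpol, ← Finset.sum_add_sum_compl C]
      refine add_le_add (Finset.sum_le_sum fun s _ => ?_) (Finset.sum_le_sum fun s _ => ?_)
      · rw [← Finset.sum_add_sum_compl C]
        have : 0 ≤ ∑ s' ∈ C, bil (A s - A s') (A s - A s') := Finset.sum_nonneg fun s' _ => hnn s s'
        linarith
      · rw [← Finset.sum_add_sum_compl C]
        have : 0 ≤ ∑ s' ∈ Cᶜ, bil (A s - A s') (A s - A s') := Finset.sum_nonneg fun s' _ => hnn s s'
        linarith
    have hkey : (p : ℤ) - 1 ≤ n * ((p : ℤ) - n) := by nlinarith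
    have h5 : ((p : ℤ) - 1) * m ≤ n * ((p : ℤ) - n) * m := mul_le_mul_of_nonneg_right hkey hm
    linarith

end Slot

section Comb

variable {ι : Type*} [Fintype ι]

/-- The bilinear form of an integer matrix. -/
def qbil (Q : ι → ι → ℤ) : (ι → ℤ) →+ (ι → ℤ) →+ ℤ :=
  AddMonoidHom.mk' (fun n => AddMonoidHom.mk' (fun n' => ∑ i, ∑ i', n i * n' i' * Q i i') (by
    intro a b
    simp only [Pi.add_apply, mul_add, add_mul, Finset.sum_add_distrib])) (by
    intro a b
    ext n'
    simp [add_mul, Finset.sum_add_distrib])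

@[simp] theorem qbil_apply (Q : ι → ι → ℤ) (n n' : ι → ℤ) : qbil Q n n' = ∑ i, ∑ i', n i * n' i' * Q i i' := rfl

theorem qbil_symm {Q : ι → ι → ℤ} (h : ∀ i i', Q i i' = Q i' i) (n n' : ι → ℤ) : qbil Q n n' = qbil Q n' n := by
  simp only [qbil_apply]
  rw [Finset.sum_comm]
  refine Finset.sum_congr rfl fun i _ => Finset.sum_congr rfl fun i' _ => ?_
  rw [h i' i]
  ring

/-- The restriction of a vector to a fibre. -/
def fibreVec {C : Type*} [DecidableEq C] (c : ι → C) (a : ι → ℤ) (c₀ : C) : ι → ℤ :=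
  fun i => if c i = c₀ then a i else 0

theorem sum_qbil_fibre {C : Type*} [Fintype C] [DecidableEq C] (Q : ι → ι → ℤ) (c : ι → C) (a : ι → ℤ) :
    ∑ c₀, qbil Q (fibreVec c a c₀) (fibreVec c a c₀) =
      ∑ i, ∑ i', if c i = c i' then a i * a i' * Q i i' else 0 := by
  classical
  simp only [qbil_apply, fibreVec]
  rw [Finset.sum_comm]
  refine Finset.sum_congr rfl fun i _ => ?_
  rw [Finset.sum_comm]
  refine Finset.sum_congr rfl fun i' _ => ?_
  by_cases h : c i = c i'
  · rw [if_pos h, Finset.sum_eq_single (c i')]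
    · simp [h]
    · intro b _ hb
      simp [Ne.symm hb]
    · simp
  · rw [if_neg h]
    refine Finset.sum_eq_zero fun c₀ _ => ?_
    by_cases h1 : c i = c₀
    · have h2 : c i' ≠ c₀ := fun h3 => h (h1.trans h3.symm)
      simp [h2]
    · simp [h1]

variable {p : ℕ} [hp : Fact p.Prime]

/-- The combinatorial form of the lower bound. -/
theorem comb_lb {R S : Type*} [Fintype R] [DecidableEq R] [Fintype S] [DecidableEq S]
    (hS : Fintype.card S = p) {Q : ι → ι → ℤ} (hQ : ∀ i i', Q i i' = Q i' i) (f : ι → ℤ) {m : ℤ} (hm : 0 ≤ m)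
    (hpos : ∀ n, 0 ≤ qbil Q n n) (hlb : ∀ n : ι → ℤ, ¬ (p : ℤ) ∣ ∑ i, n i * f i → m ≤ qbil Q n n)
    (r : ι → R) (s : ι → S) (a : ι → ℤ) :
    0 ≤ ∑ i, ∑ i', a i * a i' * Q i i' * ((p : ℤ) * (if r i = r i' ∧ s i = s i' then 1 else 0) - (if r i = r i' then 1 else 0)) ∧
    (¬ (p : ℤ) ∣ ∑ i, a i * f i → ((p : ℤ) - 1) * m ≤
      ∑ i, ∑ i', a i * a i' * Q i i' * ((p : ℤ) * (if r i = r i' ∧ s i = s i' then 1 else 0) - (if r i = r i' then 1 else 0))) := by
  classical
  -- the linear form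
  let F : (ι → ℤ) →+ ℤ := AddMonoidHom.mk' (fun n => ∑ i, n i * f i) (by
    intro x y
    simp only [Pi.add_apply, add_mul, Finset.sum_add_distrib])
  have hFa : ∀ n, F n = ∑ i, n i * f i := fun _ => rfl
  let A : R → S → ι → ℤ := fun r₀ s₀ => fibreVec (fun i => (r i, s i)) a (r₀, s₀)
  have hA : ∀ r₀, ∑ s₀, A r₀ s₀ = fibreVec r a r₀ := by
    intro r₀
    funext i
    simp only [Finset.sum_apply, A, fibreVec, Prod.mk.injEq]
    by_cases h : r i = r₀
    · simp [h]
    · simp [h]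
  have hX : ∑ i, ∑ i', a i * a i' * Q i i' * ((p : ℤ) * (if r i = r i' ∧ s i = s i' then 1 else 0) - (if r i = r i' then 1 else 0)) =
      ∑ r₀, ((p : ℤ) * ∑ s₀, qbil Q (A r₀ s₀) (A r₀ s₀) - qbil Q (∑ s₀, A r₀ s₀) (∑ s₀, A r₀ s₀)) := by
    rw [Finset.sum_sub_distrib, ← Finset.mul_sum]
    simp only [hA]
    rw [sum_qbil_fibre Q r a]
    have h1 := sum_qbil_fibre Q (fun i => (r i, s i)) a
    rw [Fintype.sum_prod_type] at h1
    have h2 : ∑ r₀, ∑ s₀, qbil Q (A r₀ s₀) (A r₀ s₀) =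
        ∑ i, ∑ i', if (r i, s i) = (r i', s i') then a i * a i' * Q i i' else 0 := h1
    rw [h2, Finset.mul_sum, ← Finset.sum_sub_distrib]
    refine Finset.sum_congr rfl fun i _ => ?_
    rw [Finset.mul_sum, ← Finset.sum_sub_distrib]
    refine Finset.sum_congr rfl fun i' _ => ?_
    simp only [Prod.mk.injEq]
    by_cases h3 : r i = r i' <;> by_cases h4 : s i = s i' <;> simp [h3, h4] <;> ring
  rw [hX]
  have hslot := fun r₀ => slot_lb (p := p) (qbil Q) (qbil_symm hQ) F hm hpos hlb hS (A r₀)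
  refine ⟨Finset.sum_nonneg fun r₀ _ => (hslot r₀).1, fun hF => ?_⟩
  have hsum : ∑ i, a i * f i = ∑ r₀, F (∑ s₀, A r₀ s₀) := by
    simp only [hA, hFa, fibreVec]
    rw [Finset.sum_comm]
    refine Finset.sum_congr rfl fun i _ => ?_
    rw [Finset.sum_eq_single (r i)]
    · simp
    · intro b _ hb
      simp [Ne.symm hb]
    · simp
  have hex : ∃ r₀, ¬ (p : ℤ) ∣ F (∑ s₀, A r₀ s₀) := by
    by_contra hcon
    push Not at hcon
    apply hF
    rw [hsum]
    exact Finset.dvd_sum fun r₀ _ => hcon r₀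
  obtain ⟨r₀, hr₀⟩ := hex
  calc ((p : ℤ) - 1) * m ≤ (p : ℤ) * ∑ s₀, qbil Q (A r₀ s₀) (A r₀ s₀) - qbil Q (∑ s₀, A r₀ s₀) (∑ s₀, A r₀ s₀) :=
        (hslot r₀).2 hr₀
    _ ≤ _ := Finset.single_le_sum (f := fun r₀ => (p : ℤ) * ∑ s₀, qbil Q (A r₀ s₀) (A r₀ s₀) - qbil Q (∑ s₀, A r₀ s₀) (∑ s₀, A r₀ s₀))
        (fun r₁ _ => (hslot r₁).1) (Finset.mem_univ r₀)

end Comb

section Units

variable {p : ℕ} [hp : Fact p.Prime]

/-- The units modulo `p ^ N`. -/
def unitsJ (p N : ℕ) : Finset ℕ := (Finset.range (p ^ N)).filter (fun j => ¬ p ∣ j)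

theorem geom_root_sum {w : ℂ} {K : ℕ} (hw : w ^ K = 1) :
    ∑ k ∈ Finset.range K, w ^ k = if w = 1 then (K : ℂ) else 0 := by
  by_cases h : w = 1
  · simp [h]
  · rw [if_neg h]
    have h1 := mul_neg_geom_sum w K
    rw [hw, sub_self] at h1
    exact (mul_eq_zero.mp h1).resolve_left (sub_ne_zero.mpr (Ne.symm h))

theorem sum_units_pow {z : ℂ} {N : ℕ} (hN : 1 ≤ N) (hz : z ^ p ^ N = 1) :
    ∑ j ∈ unitsJ p N, z ^ j = (if z = 1 then ((p ^ N : ℕ) : ℂ) else 0) -
      (if z ^ p = 1 then ((p ^ (N - 1) : ℕ) : ℂ) else 0) := by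
  classical
  have hpp : p.Prime := hp.out
  have h1 := Finset.sum_filter_add_sum_filter_not (Finset.range (p ^ N)) (fun j => p ∣ j) (fun j => z ^ j)
  have hpN : p ^ N = p * p ^ (N - 1) := by
    rw [← pow_succ']
    congr 1
    omega
  have h2 : ∑ j ∈ (Finset.range (p ^ N)).filter (fun j => p ∣ j), z ^ j =
      ∑ k ∈ Finset.range (p ^ (N - 1)), (z ^ p) ^ k := by
    symm
    apply Finset.sum_bij (fun k _ => p * k)
    · intro k hk
      simp only [Finset.mem_filter, Finset.mem_range, dvd_mul_right, and_true] at hk ⊢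
      rw [hpN]
      exact Nat.mul_lt_mul_of_pos_left hk hpp.pos
    · intro a _ b _ h
      exact Nat.eq_of_mul_eq_mul_left hpp.pos h
    · intro j hj
      simp only [Finset.mem_filter, Finset.mem_range] at hj
      obtain ⟨hj1, k, rfl⟩ := hj
      refine ⟨k, ?_, rfl⟩
      simp only [Finset.mem_range]
      rw [hpN] at hj1
      exact Nat.lt_of_mul_lt_mul_left hj1
    · intro k _
      rw [pow_mul]
  have h3 : (z ^ p) ^ p ^ (N - 1) = 1 := by
    rw [← pow_mul, ← hpN, hz]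
  rw [h2, geom_root_sum h3, geom_root_sum hz] at h1
  rw [unitsJ]
  rw [← h1]
  push_cast
  ring

theorem card_unitsJ {N : ℕ} (hN : 1 ≤ N) : (unitsJ p N).card = p ^ (N - 1) * (p - 1) := by
  classical
  have hpp : p.Prime := hp.out
  have h1 := Nat.totient_prime_pow hpp (n := N) (by omega)
  rw [← h1, Nat.totient_eq_card_coprime, unitsJ]
  congr 1
  ext j
  simp only [Finset.mem_filter, Finset.mem_range, and_congr_right_iff]
  intro _
  rw [Nat.coprime_pow_left_iff (by omega), Nat.Prime.coprime_iff_not_dvd hpp]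

theorem unitsJ_pos (N : ℕ) (hN : 1 ≤ N) : 0 < (unitsJ p N).card := by
  have hpp : p.Prime := hp.out
  rw [card_unitsJ hN]
  exact Nat.mul_pos (pow_pos hpp.pos _) (Nat.sub_pos_of_lt hpp.one_lt)

/-- The form at a complex vector. -/
noncomputable def hq {ι : Type*} [Fintype ι] (Q : ι → ι → ℤ) (D : ι → ℂ) : ℂ :=
  ∑ i, ∑ i', D i * conj (D i') * (Q i i' : ℂ)

theorem norm_root_one {v : ℂ} {K : ℕ} (hK : K ≠ 0) (hv : v ^ K = 1) : v * conj v = 1 := by
  have h1 : ‖v‖ = 1 := Complex.norm_eq_one_of_pow_eq_one hv hK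
  rw [Complex.mul_conj, Complex.normSq_eq_norm_sq, h1]
  simp

/-- **The Fourier lower bound.** -/
theorem fourier_lb {ι : Type*} [Fintype ι] {N : ℕ} (hN : 1 ≤ N) {Q : ι → ι → ℤ} (hQ : ∀ i i', Q i i' = Q i' i)
    (f : ι → ℤ) {m : ℤ} (hm : 0 ≤ m) (hpos : ∀ n, 0 ≤ qbil Q n n)
    (hlb : ∀ n : ι → ℤ, ¬ (p : ℤ) ∣ ∑ i, n i * f i → m ≤ qbil Q n n) (a : ι → ℤ) {v : ι → ℂ}
    (hv : ∀ i, v i ^ p ^ N = 1) :
    ∃ S : ℤ, (S : ℂ) = ∑ j ∈ unitsJ p N, hq Q (fun i => (a i : ℂ) * v i ^ j) ∧ 0 ≤ S ∧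
      (¬ (p : ℤ) ∣ ∑ i, a i * f i → ((unitsJ p N).card : ℤ) * m ≤ S) := by
  classical
  have hpp : p.Prime := hp.out
  have hK : p ^ N ≠ 0 := pow_ne_zero _ hpp.ne_zero
  -- the exponents
  obtain ⟨ζ, hζ⟩ : ∃ ζ : ℂ, IsPrimitiveRoot ζ (p ^ N) :=
    ⟨_, Complex.isPrimitiveRoot_exp (p ^ N) hK⟩
  have hexp : ∀ i, ∃ e, e < p ^ N ∧ ζ ^ e = v i := fun i => hζ.eq_pow_of_pow_eq_one (hv i)
  choose e he hev using hexp
  have hpN : p ^ N = p ^ (N - 1) * p := by
    rw [← pow_succ]
    congr 1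
    omega
  have hP1 : 0 < p ^ (N - 1) := pow_pos hpp.pos _
  let r : ι → Fin (p ^ (N - 1)) := fun i => ⟨e i % p ^ (N - 1), Nat.mod_lt _ hP1⟩
  let s : ι → Fin p := fun i => ⟨e i / p ^ (N - 1), by
    rw [Nat.div_lt_iff_lt_mul hP1, mul_comm, ← hpN]
    exact he i⟩
  have h1 : ∀ i i', v i = v i' ↔ r i = r i' ∧ s i = s i' := by
    intro i i'
    constructor
    · intro h
      have h3 : e i = e i' := hζ.pow_inj (he i) (he i') (by rw [hev, hev, h])
      refine ⟨Fin.ext ?_, Fin.ext ?_⟩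
      · show e i % p ^ (N - 1) = e i' % p ^ (N - 1)
        rw [h3]
      · show e i / p ^ (N - 1) = e i' / p ^ (N - 1)
        rw [h3]
    · rintro ⟨h3, h4⟩
      have h3' : e i % p ^ (N - 1) = e i' % p ^ (N - 1) := congrArg Fin.val h3
      have h4' : e i / p ^ (N - 1) = e i' / p ^ (N - 1) := congrArg Fin.val h4
      have h5 : e i = e i' := by
        rw [← Nat.div_add_mod (e i) (p ^ (N - 1)), ← Nat.div_add_mod (e i') (p ^ (N - 1)), h3', h4']
      rw [← hev i, ← hev i', h5]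
  have h2 : ∀ i i', v i ^ p = v i' ^ p ↔ r i = r i' := by
    intro i i'
    rw [← hev i, ← hev i', ← pow_mul, ← pow_mul]
    have hord : orderOf ζ = p ^ N := hζ.eq_orderOf.symm
    have hfin : IsOfFinOrder ζ := isOfFinOrder_iff_pow_eq_one.mpr ⟨p ^ N, pow_pos hpp.pos _, hζ.pow_eq_one⟩
    rw [hfin.pow_eq_pow_iff_modEq, hord, hpN, Nat.ModEq, Fin.ext_iff]
    show _ ↔ e i % p ^ (N - 1) = e i' % p ^ (N - 1)
    rw [mul_comm (e i), mul_comm (e i'), mul_comm (p ^ (N - 1)) p, Nat.mul_mod_mul_left, Nat.mul_mod_mul_left]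
    constructor
    · intro h
      exact Nat.eq_of_mul_eq_mul_left hpp.pos h
    · intro h
      rw [h]
  have hS : Fintype.card (Fin p) = p := Fintype.card_fin p
  obtain ⟨h3, h4⟩ := comb_lb (p := p) hS hQ f hm hpos hlb r s a
  refine ⟨(p ^ (N - 1) : ℕ) * ∑ i, ∑ i', a i * a i' * Q i i' * ((p : ℤ) * (if r i = r i' ∧ s i = s i' then 1 else 0) - (if r i = r i' then 1 else 0)), ?_, ?_, ?_⟩
  · have hswap : ∑ j ∈ unitsJ p N, hq Q (fun i => (a i : ℂ) * v i ^ j) =
        ∑ i, ∑ i', ∑ j ∈ unitsJ p N, ((a i : ℂ) * v i ^ j) * conj ((a i' : ℂ) * v i' ^ j) * (Q i i' : ℂ) := by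
      simp only [hq]
      rw [Finset.sum_comm]
      refine Finset.sum_congr rfl fun i _ => ?_
      rw [Finset.sum_comm]
    rw [hswap]
    push_cast
    rw [Finset.mul_sum]
    refine Finset.sum_congr rfl fun i _ => ?_
    rw [Finset.mul_sum]
    refine Finset.sum_congr rfl fun i' _ => ?_
    have hvi := norm_root_one hK (hv i')
    have h5 : ∀ j, ((a i : ℂ) * v i ^ j) * conj ((a i' : ℂ) * v i' ^ j) * (Q i i' : ℂ) =
        (a i : ℂ) * (a i' : ℂ) * (Q i i' : ℂ) * (v i * conj (v i')) ^ j := by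
      intro j
      simp only [map_mul, map_pow, map_intCast, mul_pow]
      ring
    simp only [h5]
    rw [← Finset.mul_sum]
    have hz : (v i * conj (v i')) ^ p ^ N = 1 := by
      rw [mul_pow, ← map_pow, hv, hv, map_one, mul_one]
    rw [sum_units_pow hN hz]
    have h6 : v i * conj (v i') = 1 ↔ r i = r i' ∧ s i = s i' := by
      rw [← h1]
      constructor
      · intro h7
        have h8 : v i = v i * (v i' * conj (v i')) := by rw [hvi, mul_one]
        rw [h8]
        calc v i * (v i' * conj (v i')) = (v i * conj (v i')) * v i' := by ring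
          _ = v i' := by rw [h7, one_mul]
      · intro h7
        rw [h7, hvi]
    have h7 : (v i * conj (v i')) ^ p = 1 ↔ r i = r i' := by
      rw [← h2]
      have hw : v i' ^ p * conj (v i' ^ p) = 1 := by
        rw [map_pow, ← mul_pow, hvi, one_pow]
      rw [mul_pow, ← map_pow]
      constructor
      · intro h8
        have h9 : v i ^ p = v i ^ p * (v i' ^ p * conj (v i' ^ p)) := by rw [hw, mul_one]
        rw [h9]
        calc v i ^ p * (v i' ^ p * conj (v i' ^ p)) = (v i ^ p * conj (v i' ^ p)) * v i' ^ p := by ring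
          _ = v i' ^ p := by rw [h8, one_mul]
      · intro h8
        rw [h8, hw]
    have hpow : ((p ^ N : ℕ) : ℂ) = ((p ^ (N - 1) : ℕ) : ℂ) * (p : ℂ) := by
      rw [hpN]
      push_cast
      ring
    simp only [h6, h7, hpow]
    by_cases h8 : r i = r i' ∧ s i = s i'
    · simp only [if_pos h8, if_pos h8.1]
      push_cast
      ring
    · by_cases h9 : r i = r i'
      · simp only [if_neg h8, if_pos h9]
        push_cast
        ring
      · simp only [if_neg h8, if_neg h9]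
        push_cast
        ring
  · exact mul_nonneg (by positivity) h3
  · intro hF
    rw [card_unitsJ hN]
    have h5 := h4 hF
    have hP : (0 : ℤ) ≤ ((p ^ (N - 1) : ℕ) : ℤ) := by positivity
    have h6 := mul_le_mul_of_nonneg_left h5 hP
    have hp1 : ((p - 1 : ℕ) : ℤ) = (p : ℤ) - 1 := by
      have := hpp.one_lt
      omega
    push_cast at h6 ⊢
    rw [hp1]
    linarith

end Units

end Cfsg.Agent.Lib.H8Group
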