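import Cfsg.Agent.Lib.H8Group.FongReynolds
import Cfsg.Agent.Lib.Blocks.Extended
import Cfsg.Agent.Lib.Blocks.BrauerCorr

/-!
# Blocks over a block with a central `p`-subgroup: the Fong--Reynolds reduction and Fong's theorem
-/

set_option autoImplicit false
set_option linter.unusedSectionVars false

namespace Cfsg.Agent.Lib.H8Group

open Cfsg Cfsg.Agent.Lib.Char Cfsg.Agent.Lib.Blocks
open scoped ComplexConjugate

universe u

section Transport

variable {H G : Type u} [Group H] [Group G] [Fintype H] [Fintype G] (e : H ≃* G)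

theorem charDegree_irrComp (χ : IrrCharacter G) : charDegree ((irrComp e χ : IrrCharacter H) : H → ℂ) = charDegree (χ : G → ℂ) := by
  simp only [charDegree, irrComp_coe, Function.comp_apply, map_one]

theorem blockDefect_blockPull (p : ℕ) (B : Set (IrrCharacter G)) : blockDefect p (blockPull e B) = blockDefect p B := by
  rw [blockDefect, blockDefect, Nat.card_congr e.toEquiv]
  congr 2
  ext k
  constructor
  · rintro ⟨ξ, hξ, rfl⟩
    refine ⟨irrComp e.symm ξ, hξ, ?_⟩
    simp only [charDegree_irrComp]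
  · rintro ⟨χ, hχ, rfl⟩
    refine ⟨irrComp e χ, (mem_blockPull e).mpr hχ, ?_⟩
    simp only [charDegree_irrComp]

end Transport

section Central

variable {G : Type u} [Group G] [Fintype G] {M : Ideal AlgInt} {p : ℕ} [hp : Fact p.Prime]
  (N : Subgroup G) [hN : N.Normal] [Fintype N] {T : Subgroup G} [Fintype T] (hNT : N ≤ T)
  {b : Set (IrrCharacter N)}

theorem blockPull_invariant
    (hT : ∀ x, x ∈ T ↔ ∀ θ ∈ b, conjIrr N x θ ∈ b) [Fintype (N.subgroupOf T)] (t : T)
    (θ : IrrCharacter (N.subgroupOf T)) (hθ : θ ∈ blockPull (Subgroup.subgroupOfEquivOfLe hNT) b) :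
    conjIrr (N.subgroupOf T) t θ ∈ blockPull (Subgroup.subgroupOfEquivOfLe hNT) b := by
  have h2 : irrComp (Subgroup.subgroupOfEquivOfLe hNT).symm (conjIrr (N.subgroupOf T) t θ) =
      conjIrr N (t : G) (irrComp (Subgroup.subgroupOfEquivOfLe hNT).symm θ) := by
    apply Subtype.ext
    funext n
    simp only [irrComp_coe, conjIrr_coe, Function.comp_apply, Cfsg.Agent.Lib.Char.conjFun_apply]
    congr 1
  show irrComp (Subgroup.subgroupOfEquivOfLe hNT).symm (conjIrr (N.subgroupOf T) t θ) ∈ b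
  rw [h2]
  exact (hT t).mp t.2 _ hθ

include hNT in
/-- **Defects of blocks above a block with a self-centralizing normal `p`-subgroup.** -/
theorem blockDefect_of_central_cover (hM : IsPModular p M) {Q : Subgroup G} [Q.Normal] (hQ : IsPGroup p Q)
    (hQN : Q ≤ N) (hCN : Subgroup.centralizer (Q : Set G) ≤ N) (hb : IsPBlock M b)
    (hT : ∀ x, x ∈ T ↔ ∀ θ ∈ b, conjIrr N x θ ∈ b) {B : Set (IrrCharacter G)} (hB : IsPBlock M B)
    (hcov : ∃ χ ∈ B, ∃ θ ∈ b, classInner (fun n : N => (χ : G → ℂ) n) (θ : N → ℂ) ≠ 0) :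
    blockDefect p B = blockDefect p b + (N.subgroupOf T).index.factorization p := by
  classical
  have := isPrime_of_modular hM
  obtain ⟨F, hF, hFc, hFind⟩ := fr_surj N hNT hb hT hB hcov
  obtain ⟨C, hC, -, hirr, hmem⟩ := fr_main N hNT hb hT hF hFc
  have e0 := IsInducedBlock.unique T hC hFind
  rw [e0] at hmem
  have hd := blockDefect_induced p hM.1 (IsPBlock.nonempty hF) hirr hmem
  rw [hd]
  letI : Fintype (N.subgroupOf T) := Fintype.ofFinite _
  haveI : (N.subgroupOf T).Normal := Subgroup.normal_subgroupOf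
  have hb₂ := isPBlock_blockPull (Subgroup.subgroupOfEquivOfLe hNT) hb
  have hinv := blockPull_invariant N hNT hT
  have hinner : ∀ (φ : IrrCharacter T) (θ : IrrCharacter N),
      classInner (fun n : N.subgroupOf T => (φ : T → ℂ) n)
        ((irrComp (Subgroup.subgroupOfEquivOfLe hNT) θ : IrrCharacter (N.subgroupOf T)) : N.subgroupOf T → ℂ) =
        classInner (resTN N hNT (φ : T → ℂ)) (θ : N → ℂ) := by
    intro φ θ
    exact classInner_comp_mulEquiv (Subgroup.subgroupOfEquivOfLe hNT) (resTN N hNT (φ : T → ℂ)) (θ : N → ℂ)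
  have hcov₂ : ∃ χ ∈ F, ∃ θ ∈ blockPull (Subgroup.subgroupOfEquivOfLe hNT) b,
      classInner (fun n : N.subgroupOf T => (χ : T → ℂ) n) (θ : N.subgroupOf T → ℂ) ≠ 0 := by
    obtain ⟨ψ, hψ, θ, hθ, h⟩ := hFc
    refine ⟨ψ, hψ, irrComp (Subgroup.subgroupOfEquivOfLe hNT) θ, (mem_blockPull _).mpr hθ, ?_⟩
    rw [hinner]
    exact h
  have hQ₁ : IsPGroup p (Q.subgroupOf T) := isPGroup_subgroupOf hQ T
  have hCN₁ : Subgroup.centralizer ((Q.subgroupOf T : Subgroup T) : Set T) ≤ N.subgroupOf T := by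
    intro t ht
    apply Subgroup.mem_subgroupOf.mpr
    apply hCN
    rw [Subgroup.mem_centralizer_iff]
    intro q hq
    have hq' : q ∈ T := hNT (hQN hq)
    have := Subgroup.mem_centralizer_iff.mp ht ⟨q, hq'⟩ (Subgroup.mem_subgroupOf.mpr hq)
    exact congrArg Subtype.val this
  have hmax : ∀ F' : Set (IrrCharacter T), IsPBlock M F' →
      (∃ χ ∈ F', ∃ θ ∈ blockPull (Subgroup.subgroupOfEquivOfLe hNT) b,
        classInner (fun n : N.subgroupOf T => (χ : T → ℂ) n) (θ : N.subgroupOf T → ℂ) ≠ 0) →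
      blockDefect p F' ≤ blockDefect p F := by
    intro F' hF' hc'
    have h1 := isInducedBlock_of_covering (N.subgroupOf T) hM hQ₁ hCN₁ hb₂ hF' hc'
    have h2 := isInducedBlock_of_covering (N.subgroupOf T) hM hQ₁ hCN₁ hb₂ hF hcov₂
    rw [IsInducedBlock.unique (N.subgroupOf T) h1 h2]
  obtain ⟨D, hD⟩ := IsPBlock.exists_isDefectGroup hM hF
  obtain ⟨-, -, h3⟩ := fong (N.subgroupOf T) hM hb₂ hinv hF hcov₂ hmax hD
  rw [h3, blockDefect_blockPull]

end Central

section Extended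

variable {G : Type u} [Group G] [Fintype G] {M : Ideal AlgInt} {p : ℕ} [hp : Fact p.Prime]
  {P : Subgroup G}

local notation "𝐍" => Subgroup.normalizer (P : Set G)
local notation "𝐋" => P ⊔ Subgroup.centralizer (P : Set G)

/-- **The defect of the block induced from `P C(P)`.** -/
theorem isDefectGroup_induced_iff (hM : IsPModular p M) (hP : IsPGroup p P) [Fintype (𝐋 : Subgroup G)]
    {b : Set (IrrCharacter (𝐋 : Subgroup G))} (hb : IsPBlock M b)
    (hbP : IsDefectGroup p M b (P.subgroupOf (𝐋))) {B : Set (IrrCharacter G)} (hind : IsInducedBlock M (𝐋) b B)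
    (T : Subgroup G)
    (hT : ∀ g : G, g ∈ T ↔ (g ∈ 𝐍 ∧ ∀ θ ∈ b, ∀ θ' : IrrCharacter (𝐋 : Subgroup G),
      (∀ h h' : (𝐋 : Subgroup G), (h' : G) = g * h * g⁻¹ →
        (θ' : (𝐋 : Subgroup G) → ℂ) h' = (θ : (𝐋 : Subgroup G) → ℂ) h) → θ' ∈ b)) :
    IsDefectGroup p M B P ↔ ¬ p ∣ (𝐋).relIndex T := by
  classical
  have := isPrime_of_modular hM
  have hpp : p.Prime := hp.out
  letI : Fintype 𝐍 := Fintype.ofFinite _
  letI : Fintype ((𝐋).subgroupOf 𝐍) := Fintype.ofFinite _
  letI : Fintype (T.subgroupOf 𝐍) := Fintype.ofFinite _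
  have hTN : T ≤ 𝐍 := fun g hg => ((hT g).mp hg).1
  have hLN : 𝐋 ≤ 𝐍 := sup_centralizer_le_normalizer P
  have hPN : P ≤ 𝐍 := Subgroup.le_normalizer
  have hPL : P ≤ 𝐋 := le_sup_left
  have hLT : 𝐋 ≤ T := by
    intro x hx
    refine (hT x).mpr ⟨hLN hx, fun θ hθ θ' h' => ?_⟩
    have h1 : θ' = θ := by
      apply Subtype.ext
      funext y
      have hy : x⁻¹ * (y : G) * x ∈ 𝐋 := (𝐋).mul_mem ((𝐋).mul_mem ((𝐋).inv_mem hx) y.2) hx
      have h2 := h' ⟨_, hy⟩ y (by simp [mul_assoc])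
      rw [h2]
      have h3 := irr_isClassFunction θ y ⟨x⁻¹, (𝐋).inv_mem hx⟩
      rw [← h3]
      exact congrArg _ (Subtype.ext (by simp))
    rw [h1]
    exact hθ
  have hN₀T₀ : (𝐋).subgroupOf 𝐍 ≤ T.subgroupOf 𝐍 := fun x hx =>
    Subgroup.mem_subgroupOf.mpr (hLT (Subgroup.mem_subgroupOf.mp hx))
  obtain ⟨b₁, hb₀b₁, hb₁B⟩ := exists_normalizer_block hM hP hind
  set e : (𝐋).subgroupOf 𝐍 ≃* (𝐋 : Subgroup G) := Subgroup.subgroupOfEquivOfLe hLN with he
  have hb₀ := hb₀b₁.1
  -- the stabilizer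
  have hT₀ : ∀ x : 𝐍, x ∈ T.subgroupOf 𝐍 ↔ ∀ θ ∈ transBlock e b, conjIrr ((𝐋).subgroupOf 𝐍) x θ ∈ transBlock e b := by
    intro x
    rw [Subgroup.mem_subgroupOf]
    constructor
    · intro hx θ₀ hθ₀
      refine ((hT x).mp hx).2 (Cfsg.Agent.Lib.Blocks.irrComp e.symm θ₀) hθ₀ _ fun h h' hh' => ?_
      simp only [Cfsg.Agent.Lib.Blocks.irrComp_coe, Function.comp_apply, conjIrr_coe,
        Cfsg.Agent.Lib.Char.conjFun_apply]
      refine congrArg _ (Subtype.ext (Subtype.ext ?_))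
      show (x : G)⁻¹ * (h' : G) * x = h
      rw [hh']
      group
    · intro hx
      refine (hT x).mpr ⟨x.2, fun θ hθ θ' h' => ?_⟩
      have h0 : Cfsg.Agent.Lib.Blocks.irrComp e θ ∈ transBlock e b := irrComp_mem_transBlock e hθ
      have h1 : (Cfsg.Agent.Lib.Blocks.irrComp e.symm (conjIrr ((𝐋).subgroupOf 𝐍) x (Cfsg.Agent.Lib.Blocks.irrComp e θ))) = θ' := by
        apply Subtype.ext
        funext y
        have hy : (x : G)⁻¹ * (y : G) * x ∈ 𝐋 := by
          have := conj_mem_sup_centralizer P ((𝐍).inv_mem x.2) y.2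
          simpa using this
        rw [h' ⟨_, hy⟩ y (by simp [mul_assoc])]
        simp only [Cfsg.Agent.Lib.Blocks.irrComp_coe, Function.comp_apply, conjIrr_coe,
          Cfsg.Agent.Lib.Char.conjFun_apply]
        exact congrArg _ (Subtype.ext rfl)
      rw [← h1]
      exact hx _ h0
  -- covering
  obtain ⟨ξ₀, hξ₀⟩ := IsPBlock.nonempty hb₀
  obtain ⟨χ₀, hχ₀, hcon₀⟩ := IsInducedBlock.exists_constituent _ hM hb₀b₁ hξ₀
  haveI hPnorm : (P.subgroupOf 𝐍).Normal := Subgroup.normal_in_normalizer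
  have hcard := blockDefect_of_central_cover ((𝐋).subgroupOf 𝐍) hN₀T₀ hM (Q := P.subgroupOf 𝐍)
    (isPGroup_subgroupOf hP 𝐍)
    (fun x hx => Subgroup.mem_subgroupOf.mpr (hPL (Subgroup.mem_subgroupOf.mp hx)))
    (by
      intro x hx
      apply Subgroup.mem_subgroupOf.mpr
      apply (le_sup_right : Subgroup.centralizer (P : Set G) ≤ 𝐋)
      exact (mem_centralizer_subgroupOf P hPN x).mp hx)
    hb₀ hT₀ hb₁B.1 ⟨χ₀, hχ₀, ξ₀, hξ₀, hcon₀⟩
  -- the defect of `b₀`
  have hcardb₀ : Nat.card P = p ^ blockDefect p (transBlock e b) := by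
    have h1 := isDefectGroup_transBlock e hbP
    have h2 := card_defectGroup hM hb₀ h1
    rw [← h2]
    have h3 : Nat.card ((P.subgroupOf (𝐋)).comap e.toMonoidHom) = Nat.card (P.subgroupOf (𝐋)) :=
      Nat.card_congr
        { toFun := fun x => ⟨e x, x.2⟩
          invFun := fun y => ⟨e.symm y, by
            show e (e.symm y) ∈ P.subgroupOf (𝐋)
            rw [MulEquiv.apply_symm_apply]
            exact y.2⟩
          left_inv := fun x => Subtype.ext (by simp)
          right_inv := fun y => Subtype.ext (by simp) }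
    rw [h3, card_subgroupOf_eq P hPL]
  -- the index
  have hidx : (((𝐋).subgroupOf 𝐍).subgroupOf (T.subgroupOf 𝐍)).index = (𝐋).relIndex T := by
    have h1 := Subgroup.index_mul_card (((𝐋).subgroupOf 𝐍).subgroupOf (T.subgroupOf 𝐍))
    have h2 := Subgroup.index_mul_card ((𝐋).subgroupOf T)
    rw [card_subgroupOf_eq _ hN₀T₀, card_subgroupOf_eq _ hLN, card_subgroupOf_eq _ hTN] at h1
    rw [card_subgroupOf_eq _ hLT] at h2
    have h3 : 0 < Nat.card (𝐋 : Subgroup G) := Nat.card_pos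
    exact Nat.eq_of_mul_eq_mul_right h3 (h1.trans h2.symm)
  rw [hidx] at hcard
  have hne : (𝐋).relIndex T ≠ 0 := by
    rw [Subgroup.relIndex]
    exact Subgroup.index_ne_zero_of_finite
  constructor
  · intro hBP
    have h1 := isDefectGroup_of_induced hM hP hBP hb₁B
    have h2 := card_defectGroup hM hb₁B.1 h1
    rw [card_subgroupOf_eq P hPN, hcardb₀] at h2
    have h3 := Nat.pow_right_injective hpp.two_le h2
    rw [hcard] at h3
    have h4 : ((𝐋).relIndex T).factorization p = 0 := by omega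
    intro hdvd
    have := (hpp.dvd_iff_one_le_factorization hne).mp hdvd
    omega
  · intro hnd
    have h0 : ((𝐋).relIndex T).factorization p = 0 := Nat.factorization_eq_zero_of_not_dvd hnd
    rw [h0, add_zero] at hcard
    obtain ⟨E', hE'⟩ := IsPBlock.exists_isDefectGroup hM hb₁B.1
    have h1 := IsDefectGroup.pCore_le hM hb₁B.1 hE'
    have h2 : P.subgroupOf 𝐍 ≤ pCore p 𝐍 :=
      Cfsg.Agent.Lib.Basic.le_pCore hPnorm (isPGroup_subgroupOf hP 𝐍)
    have h3 := card_defectGroup hM hb₁B.1 hE'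
    have h4 : P.subgroupOf 𝐍 = E' := by
      refine Subgroup.eq_of_le_of_card_ge (h2.trans h1) ?_
      rw [h3, hcard, ← hcardb₀, card_subgroupOf_eq P hPN]
    have h5 : IsDefectGroup p M b₁ (P.subgroupOf 𝐍) := by
      rw [h4]
      exact hE'
    obtain ⟨B₁, -, hB₁D, hB₁⟩ := first_main_i hM hP hb₁B.1 h5
    rw [IsInducedBlock.unique 𝐍 hb₁B hB₁]
    exact hB₁D

end Extended

end Cfsg.Agent.Lib.H8Group
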