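import Cfsg.Agent.Lib.H8Group.Subsection
import Cfsg.Agent.Lib.Blocks.Fong
import Cfsg.Agent.Lib.OddLocal.PGroup
import Cfsg.Prelude.Def_BlockLocal

/-!
# Blocks over a normal subgroup containing `C_G(P)`, for a normal `p`-subgroup `P`
-/

set_option autoImplicit false
set_option linter.unusedSectionVars false
set_option linter.style.haveILetI false

namespace Cfsg.Agent.Lib.H8Group

open Cfsg Cfsg.Agent.Lib.Char Cfsg.Agent.Lib.Blocks
open scoped ComplexConjugate

universe u

section Cov

variable {G : Type u} [Group G] [Fintype G] (N : Subgroup G) [hN : N.Normal] [Fintype N]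
  {p : ℕ} [hp : Fact p.Prime] {M : Ideal AlgInt}

/-- All class sums off `N` have central characters in the local ideal. -/
def OffIdeal (M : Ideal AlgInt) (N : Subgroup G) : Prop :=
  ∀ g : G, g ∉ N → ∀ χ : IrrCharacter G, MemLocalIdeal M (centralChar (χ : G → ℂ) g)

/-- The value of a block idempotent on a character is read on its constituents. -/
theorem indic_sub_spec_res [M.IsPrime] (hoff : OffIdeal M N) {B : Set (IrrCharacter G)} (hB : IsPBlock M B)
    {χ : IrrCharacter G} {θ : IrrCharacter N}
    (h : classInner (fun n : N => (χ : G → ℂ) n) (θ : N → ℂ) ≠ 0) :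
    MemLocalIdeal M (indic B χ - spec (Cfsg.Agent.Lib.Char.resFun N (coef (indic B))) θ) := by
  classical
  set a := coef (indic B) with ha
  have hacl : IsClassFunction G a := coef_isClassFunction _
  have haS : ∀ x, MemLocalRing M (a x) := fun x => indic_mem_zS hB x
  set r := Cfsg.Agent.Lib.Char.resFun N a with hr
  have hinv : ∀ g : G, Cfsg.Agent.Lib.Char.conjFun N g r = r := conjFun_res_of_class N hacl
  have hrr := extendByZero_isClassFunction N hinv
  have hrrS : ∀ x, MemLocalRing M (extendByZero N r x) := extendByZero_memLocalRing N (fun x => haS _)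
  have h1 : indic B χ = spec a χ := by
    rw [ha, spec_coef]
  have h2 : spec r θ = spec (extendByZero N r) χ := (spec_extendByZero N hinv h).symm
  rw [h1, h2, spec_eq_sum_classes a hacl χ, spec_eq_sum_classes _ hrr χ, ← Finset.sum_sub_distrib]
  refine MemLocalIdeal.sum _ fun K _ => ?_
  rw [← sub_mul]
  by_cases hK : clsRep K ∈ N
  · rw [extendByZero_of_mem N _ hK]
    have : a (clsRep K) - r ⟨clsRep K, hK⟩ = 0 := sub_self _
    rw [this, zero_mul]
    exact memLocalIdeal_zero
  · exact MemLocalIdeal.mul_left (MemLocalRing.sub (haS _) (hrrS _)) (hoff _ hK χ)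

/-- Over a normal subgroup with `OffIdeal`, a block is the set of the characters over an orbit. -/
theorem block_eq_covSet (hoff : OffIdeal M N) [M.IsPrime] {B : Set (IrrCharacter G)} (hB : IsPBlock M B)
    {b : Set (IrrCharacter N)} (hb : IsPBlock M b) {χ₀ : IrrCharacter G} (hχ₀ : χ₀ ∈ B) {θ₀ : IrrCharacter N}
    (hθ₀ : θ₀ ∈ b) (hcon : classInner (fun n : N => (χ₀ : G → ℂ) n) (θ₀ : N → ℂ) ≠ 0) :
    B = covSet N (gSat (G := G) N b) := by
  classical
  have hbc : ∀ θ ∈ b, blockOf M (θ : N → ℂ) ⊆ b := by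
    intro θ hθ
    rw [← blockOf_eq_of_mem hb hθ]
  have hUinv : ∀ (g : G) θ, θ ∈ gSat (G := G) N b → conjIrr N g θ ∈ gSat (G := G) N b :=
    fun g θ h => gSat_invariant N h g
  have hUcl := gSat_closed (G := G) N hbc
  have hzU : indic (gSat (G := G) N b) ∈ zS M N := indic_mem_zS_of_closed hUcl
  have hsz : spec (Cfsg.Agent.Lib.Char.resFun N (coef (indic B))) ∈ zS M N :=
    spec_mem_zS (resFun_isClassFunction N (coef_isClassFunction _)) (fun x => indic_mem_zS hB _)
  have h0 := indic_sub_spec_res N hoff hB hcon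
  rw [indic_apply_of_mem hχ₀] at h0
  ext χ
  constructor
  · -- the covering set is closed under blocks
    intro hχ
    have hcl : IsClassFunction G (covFun N (gSat (G := G) N b)) := covFun_isClassFunction N hUinv
    have hloc : ∀ x, MemLocalRing M (covFun N (gSat (G := G) N b) x) :=
      extendByZero_memLocalRing N (fun x => hzU x)
    have hzX : indic (covSet (G := G) N (gSat (G := G) N b)) ∈ zS M G := by
      rw [← spec_covFun N hUinv]
      exact spec_mem_zS hcl hloc
    have h1 := zS_apply_congr hB hzX hχ₀ hχ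
    have hχ₀X : χ₀ ∈ covSet (G := G) N (gSat (G := G) N b) := ⟨θ₀, self_subset_gSat N b hθ₀, hcon⟩
    rw [indic_apply_of_mem hχ₀X] at h1
    by_contra hne
    rw [indic_apply_of_notMem hne, sub_zero] at h1
    exact not_memLocalIdeal_one h1
  · rintro ⟨θ, ⟨g, hg⟩, hθ⟩
    have h1 : classInner (fun n : N => (χ : G → ℂ) n) ((conjIrr N g θ : IrrCharacter N) : N → ℂ) ≠ 0 := by
      rwa [classInner_conjIrr]
    have h2 := indic_sub_spec_res N hoff hB h1
    have h3 := zS_apply_congr hb hsz hg hθ₀
    have h4 : MemLocalIdeal M (indic B χ - 1) := by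
      have := MemLocalIdeal.sub (MemLocalIdeal.add h2 h3) h0
      convert this using 1
      ring
    by_contra hne
    rw [indic_apply_of_notMem hne] at h4
    apply not_memLocalIdeal_one (M := M)
    have := MemLocalIdeal.neg h4
    simpa using this

/-- The idempotent of such a block. -/
theorem coef_block_eq_covFun (hoff : OffIdeal M N) [M.IsPrime] {B : Set (IrrCharacter G)} (hB : IsPBlock M B)
    {b : Set (IrrCharacter N)} (hb : IsPBlock M b) {χ₀ : IrrCharacter G} (hχ₀ : χ₀ ∈ B) {θ₀ : IrrCharacter N}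
    (hθ₀ : θ₀ ∈ b) (hcon : classInner (fun n : N => (χ₀ : G → ℂ) n) (θ₀ : N → ℂ) ≠ 0) :
    coef (indic B) = covFun N (gSat (G := G) N b) := by
  rw [block_eq_covSet N hoff hB hb hχ₀ hθ₀ hcon]
  exact coef_indic_covSet N (fun g θ h => gSat_invariant N h g)

/-- The vanishing of the idempotent off `N`. -/
theorem blockCoeff_eq_zero_of_off (hoff : OffIdeal M N) [M.IsPrime] {B : Set (IrrCharacter G)}
    (hB : IsPBlock M B) {g : G} (hg : g ∉ N) : blockCoeff B g = 0 := by
  classical
  obtain ⟨χ₀, hχ₀⟩ := IsPBlock.nonempty hB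
  obtain ⟨θ₀, hθ₀⟩ := exists_constituent N χ₀
  rw [blockCoeff_eq_coef, coef_block_eq_covFun N hoff hB (isPBlock_blockOf θ₀) hχ₀ (self_mem_blockOf θ₀) hθ₀]
  exact extendByZero_of_notMem N _ hg

end Cov

section Normal

variable {G : Type u} [Group G] [Fintype G] {p : ℕ} [hp : Fact p.Prime] {M : Ideal AlgInt}

/-- A normal `p`-subgroup: the centralizer has the property `OffIdeal`. -/
theorem offIdeal_centralizer (hM : IsPModular p M) (P : Subgroup G) [hPn : P.Normal] (hP : IsPGroup p P) :
    OffIdeal M (Subgroup.centralizer (P : Set G)) := by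
  intro g hg χ
  refine centralChar_memLocalIdeal_of_normal hM P hP g ?_ χ
  intro x hx hxC
  apply hg
  obtain ⟨c, hc⟩ := isConj_iff.mp hx.symm
  have h1 : (Subgroup.centralizer (P : Set G)).Normal := inferInstance
  have := h1.conj_mem _ hxC c
  rwa [hc] at this

/-- **The idempotents of the blocks are supported on `C_G(P)`.** -/
theorem blockCoeff_eq_zero_of_not_mem_centralizer (hM : IsPModular p M) (P : Subgroup G) [hPn : P.Normal]
    (hP : IsPGroup p P) {B : Set (IrrCharacter G)} (hB : IsPBlock M B) {g : G}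
    (hg : g ∉ Subgroup.centralizer (P : Set G)) : blockCoeff B g = 0 := by
  classical
  have := isPrime_of_modular hM
  letI : Fintype (Subgroup.centralizer (P : Set G)) := Fintype.ofFinite _
  haveI : (Subgroup.centralizer (P : Set G)).Normal := inferInstance
  exact blockCoeff_eq_zero_of_off _ (offIdeal_centralizer hM P hP) hB hg

end Normal


section Chain

variable {G : Type u} [Group G] [Finite G] {p : ℕ} [hp : Fact p.Prime]

/-- Thompson's `A × B` lemma for one element of order prime to `p`. -/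
theorem commute_of_axb {W B : Subgroup G} (hW : IsPGroup p W) (hB : IsPGroup p B) (hBW : B ≤ W) {n : G}
    (hn : ¬ p ∣ orderOf n) (hnW : n ∈ Subgroup.normalizer (W : Set G))
    (h : ∀ x ∈ W, (x ∈ B ∨ ∀ b ∈ B, b * x = x * b) → n * x = x * n) : ∀ x ∈ W, n * x = x * n := by
  have hpp : p.Prime := hp.out
  have hcop : (Nat.card (Subgroup.zpowers n)).Coprime p := by
    rw [Nat.card_zpowers]
    exact ((Nat.Prime.coprime_iff_not_dvd hpp).mpr hn).symm
  have hBN : B ≤ Subgroup.normalizer (W : Set G) := by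
    intro b hb
    exact Subgroup.le_normalizer (hBW hb)
  have h1 := Cfsg.Agent.Lib.OddLocal.thompson_AxB p W (Subgroup.zpowers n) B hW hB hcop
    (by rw [Subgroup.zpowers_le]; exact hnW) hBN (by
      intro a ha b hb
      obtain ⟨i, rfl⟩ := Subgroup.mem_zpowers_iff.mp ha
      have hc : Commute n b := h b (hBW hb) (Or.inl hb)
      exact (hc.zpow_left i).eq) (by
      intro a ha x hx hcx
      obtain ⟨i, rfl⟩ := Subgroup.mem_zpowers_iff.mp ha
      have hc : Commute n x := h x hx (Or.inr hcx)
      exact (hc.zpow_left i).eq)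
  intro x hx
  have h2 := Subgroup.mem_centralizer_iff.mp (h1 (Subgroup.mem_zpowers n)) x hx
  exact h2.symm

/-- The chain version. -/
theorem commute_of_chain {m : ℕ} (Q : Fin (m + 1) → Subgroup G) (hQ : Monotone Q) (hQp : ∀ i, IsPGroup p (Q i))
    {n : G} (hn : ¬ p ∣ orderOf n) (hnN : ∀ i, n ∈ Subgroup.normalizer (Q i : Set G)) :
    ∀ (k : ℕ) (hk : k < m + 1) (W : Subgroup G), IsPGroup p W → Q ⟨k, hk⟩ ≤ W →
      n ∈ Subgroup.normalizer (W : Set G) →
      (∀ x ∈ W, (∀ i : Fin (m + 1), i.1 ≤ k → x ∈ Subgroup.normalizer (Q i : Set G)) → n * x = x * n) →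
      ∀ x ∈ W, n * x = x * n := by
  intro k
  induction k with
  | zero =>
    intro hk W hW hQW hnW h
    refine commute_of_axb hW (hQp _) hQW hn hnW ?_
    intro x hx hor
    refine h x hx fun i hi => ?_
    have hi0 : i = ⟨0, hk⟩ := Fin.ext (by simpa using hi)
    subst hi0
    rcases hor with h1 | h1
    · exact Subgroup.le_normalizer h1
    · rw [Subgroup.mem_normalizer_iff]
      intro y
      constructor
      · intro hy
        have : x * y * x⁻¹ = y := by
          rw [← h1 y hy]
          group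
        show x * y * x⁻¹ ∈ _
        rwa [this]
      · intro hy
        have hy' : x * y * x⁻¹ ∈ Q ⟨0, hk⟩ := hy
        have h2 := h1 _ hy'
        have h3 : y = x * y * x⁻¹ := by
          have h4 : x * y = x * (x * y * x⁻¹) := by
            rw [← h2]
            group
          exact mul_left_cancel h4
        rwa [h3]
  | succ k ih =>
    intro hk W hW hQW hnW h
    have hk' : k < m + 1 := by omega
    set R := Q ⟨k + 1, hk⟩ with hR
    -- the normalizer of the member of the chain in `W`
    have hW' : IsPGroup p (W ⊓ Subgroup.normalizer (R : Set G) : Subgroup G) :=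
      hW.to_le inf_le_left
    have hQ1 : Q ⟨k, hk'⟩ ≤ R := hQ (by simp [Fin.le_def])
    have hRW' : R ≤ W ⊓ Subgroup.normalizer (R : Set G) :=
      le_inf hQW Subgroup.le_normalizer
    have hnW' : n ∈ Subgroup.normalizer ((W ⊓ Subgroup.normalizer (R : Set G) : Subgroup G) : Set G) := by
      have h2 : n ∈ Subgroup.normalizer ((Subgroup.normalizer (R : Set G) : Subgroup G) : Set G) :=
        Subgroup.le_normalizer (hnN _)
      rw [Subgroup.mem_normalizer_iff] at hnW h2 ⊢
      intro y
      simp only [Subgroup.mem_inf]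
      rw [hnW y, h2 y]
    have h3 := ih hk' (W ⊓ Subgroup.normalizer (R : Set G)) hW' (hQ1.trans hRW') hnW' (by
      intro x hx hi
      refine h x hx.1 fun i hile => ?_
      by_cases hik : i.1 ≤ k
      · exact hi i hik
      · have : i = ⟨k + 1, hk⟩ := Fin.ext (by simp; omega)
        subst this
        exact hx.2)
    refine commute_of_axb hW (hQp _) hQW hn hnW ?_
    intro x hx hor
    refine h3 x ⟨hx, ?_⟩
    rcases hor with h1 | h1
    · exact Subgroup.le_normalizer h1
    · show x ∈ Subgroup.normalizer (R : Set G)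
      rw [Subgroup.mem_normalizer_iff]
      intro y
      constructor
      · intro hy
        have : x * y * x⁻¹ = y := by
          rw [← h1 y hy]
          group
        show x * y * x⁻¹ ∈ R
        rwa [this]
      · intro hy
        have hy' : x * y * x⁻¹ ∈ R := hy
        have h2 := h1 _ hy'
        have h3 : y = x * y * x⁻¹ := by
          have h4 : x * y = x * (x * y * x⁻¹) := by
            rw [← h2]
            group
          exact mul_left_cancel h4
        rwa [h3]

end Chain

section Stab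

variable {G : Type u} [Group G] [Fintype G] (N : Subgroup G) [hN : N.Normal] [Fintype N]
  {p : ℕ} [hp : Fact p.Prime] {M : Ideal AlgInt}

/-- Stabilizers act through `conjIrr`. -/
theorem conjIrr_mem_of_stabilizes {c : Set (IrrCharacter N)} {x : G} (h : StabilizesBlock N c x)
    {θ : IrrCharacter N} (hθ : θ ∈ c) : conjIrr N x θ ∈ c := by
  obtain ⟨χ', hχ', hconj⟩ := h.2 θ hθ
  have : conjIrr N x θ = χ' := by
    apply Subtype.ext
    funext n
    simp only [conjIrr_coe, Cfsg.Agent.Lib.Char.conjFun_apply]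
    symm
    apply hconj
    group
  rwa [this]

/-- `subgroupBlockCoeff` is the extension by zero. -/
theorem subgroupBlockCoeff_eq_covFun (c : Set (IrrCharacter N)) (g : G) :
    subgroupBlockCoeff N c g = covFun N c g := by
  classical
  by_cases hg : g ∈ N
  · rw [subgroupBlockCoeff, dif_pos hg, covFun, extendByZero_of_mem N _ hg, blockCoeff_eq_coef]
  · rw [subgroupBlockCoeff, dif_neg hg, covFun, extendByZero_of_notMem N _ hg]

/-- A central element is determined by its coefficients. -/
theorem block_eq_of_coef_eq {B B' : Set (IrrCharacter G)} (h : coef (indic B) = coef (indic B')) : B = B' := by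
  classical
  have h1 : indic B = indic B' := by
    rw [← spec_coef (indic B), ← spec_coef (indic B'), h]
  ext χ
  have h2 := congrFun h1 χ
  by_cases hχ : χ ∈ B <;> by_cases hχ' : χ ∈ B'
  · exact ⟨fun _ => hχ', fun _ => hχ⟩
  · rw [indic_apply_of_mem hχ, indic_apply_of_notMem hχ'] at h2
    exact absurd h2 one_ne_zero
  · rw [indic_apply_of_notMem hχ, indic_apply_of_mem hχ'] at h2
    exact absurd h2 zero_ne_one
  · exact ⟨fun h => absurd h hχ, fun h => absurd h hχ'⟩

/-- The set of characters over an invariant block, for a normal subgroup of `p`-power index. -/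
theorem blockOf_eq_covSet_of_index (hM : IsPModular p M) {k : ℕ} (hidx : N.index = p ^ k)
    {c : Set (IrrCharacter N)} (hc : IsPBlock M c) (hinv : ∀ (g : G) θ, θ ∈ c → conjIrr N g θ ∈ c)
    {χ₀ : IrrCharacter G} {θ₀ : IrrCharacter N} (hθ₀ : θ₀ ∈ c)
    (hcon : classInner (fun n : N => (χ₀ : G → ℂ) n) (θ₀ : N → ℂ) ≠ 0) :
    blockOf M (χ₀ : G → ℂ) = covSet N c := by
  classical
  have := isPrime_of_modular hM
  have hχ₀X : χ₀ ∈ covSet (G := G) N c := ⟨θ₀, hθ₀, hcon⟩
  obtain ⟨B, -, huniq⟩ := existsUnique_covering (G := G) N hM hidx hc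
  have hB₀ := isPBlock_blockOf (M := M) χ₀
  have h0 := huniq _ ⟨hB₀, χ₀, self_mem_blockOf χ₀, θ₀, hθ₀, hcon⟩
  ext χ
  constructor
  · intro hχ
    have h1 := zS_apply_congr hB₀ (indic_covSet_mem_zS N hc hinv) (self_mem_blockOf χ₀) hχ
    rw [indic_apply_of_mem hχ₀X] at h1
    by_contra hne
    rw [indic_apply_of_notMem hne, sub_zero] at h1
    exact not_memLocalIdeal_one h1
  · rintro ⟨θ, hθ, hcon'⟩
    have h1 := huniq _ ⟨isPBlock_blockOf (M := M) χ, χ, self_mem_blockOf χ, θ, hθ, hcon'⟩
    rw [h0, ← h1]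
    exact self_mem_blockOf χ

/-- **Invariant blocks of a normal subgroup of `p`-power index.** -/
theorem exists_block_of_index (hM : IsPModular p M) {k : ℕ} (hidx : N.index = p ^ k)
    {c : Set (IrrCharacter N)} (hc : IsPBlock M c) (hinv : ∀ (g : G) θ, θ ∈ c → conjIrr N g θ ∈ c) :
    ∃ B : Set (IrrCharacter G), IsPBlock M B ∧ ∀ g, blockCoeff B g = subgroupBlockCoeff N c g := by
  classical
  have := isPrime_of_modular hM
  obtain ⟨θ₀, hθ₀⟩ := IsPBlock.nonempty hc
  obtain ⟨χ₀, hcon⟩ := exists_over_irr (G := G) N θ₀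
  refine ⟨blockOf M (χ₀ : G → ℂ), isPBlock_blockOf χ₀, fun g => ?_⟩
  rw [blockOf_eq_covSet_of_index N hM hidx hc hinv hθ₀ hcon, blockCoeff_eq_coef, coef_indic_covSet N hinv,
    subgroupBlockCoeff_eq_covFun]

/-- The defect groups of the block above an invariant block, for a normal subgroup of `p`-power index. -/
theorem defect_of_block_of_index (hM : IsPModular p M) {k : ℕ} (hidx : N.index = p ^ k)
    {c : Set (IrrCharacter N)} (hc : IsPBlock M c) (hinv : ∀ (g : G) θ, θ ∈ c → conjIrr N g θ ∈ c)
    {B : Set (IrrCharacter G)} (hB : IsPBlock M B) (hcoef : ∀ g, blockCoeff B g = subgroupBlockCoeff N c g)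
    {P : Subgroup G} (hP : IsDefectGroup p M B P) :
    N ⊔ P = ⊤ ∧ IsDefectGroup p M c ((P ⊓ N).subgroupOf N) := by
  classical
  have := isPrime_of_modular hM
  have hpp : p.Prime := hp.out
  have hBX : B = covSet N c := by
    apply block_eq_of_coef_eq
    rw [coef_indic_covSet N hinv]
    funext g
    rw [← blockCoeff_eq_coef, hcoef, subgroupBlockCoeff_eq_covFun]
  obtain ⟨θ₀, hθ₀⟩ := IsPBlock.nonempty hc
  obtain ⟨χ₀, hcon⟩ := exists_over_irr (G := G) N θ₀
  have hB₀ : blockOf M (χ₀ : G → ℂ) = B := by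
    rw [hBX]
    exact blockOf_eq_covSet_of_index N hM hidx hc hinv hθ₀ hcon
  have hχ₀B : χ₀ ∈ B := hB₀ ▸ self_mem_blockOf χ₀
  obtain ⟨-, huniq⟩ := existsUnique_covering (G := G) N hM hidx hc
  obtain ⟨h1, h2, -⟩ := fong N hM hc hinv hB ⟨χ₀, hχ₀B, θ₀, hθ₀, hcon⟩ (by
    intro B' hB' hcov
    obtain ⟨χ', hχ', θ', hθ', hcon'⟩ := hcov
    have h3 : blockOf M (χ' : G → ℂ) = B := by
      rw [hBX]
      exact blockOf_eq_covSet_of_index N hM hidx hc hinv hθ' hcon'
    have h4 : B' = B := by
      rw [blockOf_eq_of_mem hB' hχ', h3]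
    rw [h4]) hP
  refine ⟨?_, h2⟩
  have h3 : (P ⊔ N).index ∣ N.index := Subgroup.index_dvd_of_le le_sup_right
  rw [hidx] at h3
  obtain ⟨j, -, hj⟩ := (Nat.dvd_prime_pow hpp).mp h3
  have hj0 : j = 0 := by
    by_contra hne
    apply h1
    rw [hj]
    exact dvd_pow_self p hne
  rw [hj0, pow_zero, Subgroup.index_eq_one] at hj
  rw [sup_comm]
  exact hj

end Stab

end Cfsg.Agent.Lib.H8Group
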