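import Cfsg.Agent.Lib.H8Group.NormPairs
import Cfsg.Agent.Lib.H8Group.NormalBlocks
import Cfsg.Prelude.Def_BlockFusion

/-!
# The fusion system of a block
-/

set_option autoImplicit false
set_option linter.unusedSectionVars false

namespace Cfsg.Agent.Lib.H8Group

open Cfsg Cfsg.Agent.Lib.Char Cfsg.Agent.Lib.Blocks

universe u

section Card

variable {G : Type u} [Group G] [Fintype G] {M : Ideal AlgInt} {p : ℕ} [hp : Fact p.Prime] {Q Q' P : Subgroup G}

theorem card_comap_equiv {A C : Type*} [Group A] [Group C] (e : A ≃* C) (D : Subgroup C) :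
    Nat.card (D.comap e.toMonoidHom) = Nat.card D := by
  refine Nat.card_congr ⟨fun x => ⟨e x, x.2⟩, fun x => ⟨e.symm x, ?_⟩, fun x => ?_, fun x => ?_⟩
  · show e (e.symm x) ∈ D
    rw [e.apply_symm_apply]
    exact x.2
  · apply Subtype.ext
    simp
  · apply Subtype.ext
    simp

theorem card_subgroupOf_of_le {A : Type*} [Group A] {K H : Subgroup A} (h : K ≤ H) :
    Nat.card (K.subgroupOf H) = Nat.card K :=
  Nat.card_congr (Subgroup.subgroupOfEquivOfLe h).toEquiv

/-- Two defect groups of a block related by an isomorphism have the same order. -/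
theorem card_defect_transBlock (hM : IsPModular p M) {A C : Type u} [Group A] [Fintype A] [Group C] [Fintype C]
    (ε : A ≃* C) {b : Set (IrrCharacter C)} (hb : IsPBlock M b) {D : Subgroup C} (hD : IsDefectGroup p M b D)
    {D₂ : Subgroup A} (hD₂ : IsDefectGroup p M (transBlock ε b) D₂) : Nat.card D₂ = Nat.card D := by
  have hD₃ := isDefectGroup_transBlock ε hD
  obtain ⟨w, hw⟩ := IsDefectGroup.exists_conj_eq hM (isPBlock_transBlock ε hb) hD₃ hD₂
  rw [hw, card_conjS, card_comap_equiv]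

theorem card_defect_conjB (hM : IsPModular p M) (x : G) (h : conjS x Q = Q')
    {f : Set (IrrCharacter (Subgroup.centralizer (Q : Set G)))} (hf : IsPBlock M f)
    {D : Subgroup (Subgroup.centralizer (Q : Set G))} (hD : IsDefectGroup p M f D)
    {D₂ : Subgroup (Subgroup.centralizer (Q' : Set G))} (hD₂ : IsDefectGroup p M (conjB x h f) D₂) :
    Nat.card D₂ = Nat.card D := by
  classical
  letI : Fintype (Subgroup.centralizer (Q : Set G)) := Fintype.ofFinite _
  letI : Fintype (Subgroup.centralizer (Q' : Set G)) := Fintype.ofFinite _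
  rw [conjB_eq_transBlock] at hD₂
  exact card_defect_transBlock hM _ hf hD hD₂

theorem card_defect_eq (hM : IsPModular p M) {A : Type u} [Group A] [Fintype A] {b : Set (IrrCharacter A)}
    (hb : IsPBlock M b) {D D₂ : Subgroup A} (hD : IsDefectGroup p M b D) (hD₂ : IsDefectGroup p M b D₂) :
    Nat.card D₂ = Nat.card D := by
  obtain ⟨w, hw⟩ := IsDefectGroup.exists_conj_eq hM hb hD hD₂
  rw [hw, card_conjS]

theorem mem_stab_conj_iff (x : G) (hQ : conjS x Q = Q') {f : Set (IrrCharacter (Subgroup.centralizer (Q : Set G)))} {y : G} :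
    (x⁻¹ * y * x ∈ Subgroup.normalizer (Q : Set G) ∧
      StabilizesBlock (Subgroup.centralizer (Q : Set G)) f (x⁻¹ * y * x)) ↔
    (y ∈ Subgroup.normalizer (Q' : Set G) ∧
      StabilizesBlock (Subgroup.centralizer (Q' : Set G)) (conjB x hQ f) y) := by
  rw [conj_mem_normalizer_iff x hQ]
  constructor
  · rintro ⟨h1, h2⟩
    exact ⟨h1, stabilizesBlock_conjB x hQ h2⟩
  · rintro ⟨h1, h2⟩
    refine ⟨h1, ?_⟩
    have h3 := stabilizesBlock_conjB (Q := Q') (Q' := Q) x⁻¹ (conjS_inv_of_conjS x hQ) (f := conjB x hQ f)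
      (y := x⁻¹ * y * x) (by
        have : x⁻¹⁻¹ * (x⁻¹ * y * x) * x⁻¹ = y := by group
        rwa [this])
    rwa [conjB_conjB_inv] at h3

/-- The block of the conjugate stabilizer. -/
theorem blockCoeff_conj_stab {T T' : Subgroup G} [Fintype T] [Fintype T'] (x : G) (hQ : conjS x Q = Q') (hTT' : conjS x T = T')
    {f : Set (IrrCharacter (Subgroup.centralizer (Q : Set G)))} {F : Set (IrrCharacter T)}
    (hcoef : ∀ t : T, blockCoeff F t = subgroupBlockCoeff (Subgroup.centralizer (Q : Set G)) f (t : G)) (t' : T') :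
    blockCoeff (transBlock (subConjIso x hTT').symm F) t' =
      subgroupBlockCoeff (Subgroup.centralizer (Q' : Set G)) (conjB x hQ f) (t' : G) := by
  classical
  letI : Fintype (Subgroup.centralizer (Q : Set G)) := Fintype.ofFinite _
  letI : Fintype (Subgroup.centralizer (Q' : Set G)) := Fintype.ofFinite _
  rw [blockCoeff_transBlock, hcoef, ← subgroupBlockCoeff_conjB x hQ f]
  congr 1
  simp [mul_assoc]

/-- A block is determined by its coefficients. -/
theorem block_eq_of_blockCoeff_eq {A : Type u} [Group A] [Fintype A] {b b' : Set (IrrCharacter A)}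
    (h : ∀ t, blockCoeff b t = blockCoeff b' t) : b = b' := by
  classical
  apply block_eq_of_coef_eq
  funext t
  rw [← blockCoeff_eq_coef, ← blockCoeff_eq_coef, h]

end Card

section Fus

variable {G : Type u} [Group G] [Fintype G] {M : Ideal AlgInt} {p : ℕ} [hp : Fact p.Prime] {Q Q' P : Subgroup G}
  {B : Set (IrrCharacter G)} {e : Set (IrrCharacter (Subgroup.centralizer (P : Set G)))} {F : FusionSystem P}
  {f : Set (IrrCharacter (Subgroup.centralizer (Q : Set G)))}

theorem mem_hom_iff (hM : IsPModular p M) (hF : IsBlockFusionSystemOn p M B P e F) (hQP : Q ≤ P)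
    (hle : SubpairLE p M Q f P e) (φ : Q →* G) :
    φ ∈ F.Hom Q ↔ ∃ g : G, (∀ u : Q, φ u = g * (u : G) * g⁻¹) ∧ SubpairLE p M (conjS g Q) (conjB g rfl f) P e := by
  rw [hF.2 Q φ]
  constructor
  · rintro ⟨-, g, hg, hgQ, f₁, hf₁, hf₂⟩
    have h1 : f₁ = f := subpairLE_unique hM hF.1.1.1 Q hQP f₁ f hf₁ hle
    rw [h1] at hf₂
    exact ⟨g, hg, hf₂⟩
  · rintro ⟨g, hg, hle₂⟩
    exact ⟨hQP, g, hg, le_of_subpairLE hle₂, f, hle, hle₂⟩

theorem conjHom_range (Q : Subgroup G) (g : G) : (conjHom Q g).range = conjS g Q := by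
  ext y
  constructor
  · rintro ⟨u, rfl⟩
    exact ⟨u, u.2, rfl⟩
  · rintro ⟨u, hu, rfl⟩
    exact ⟨⟨u, hu⟩, rfl⟩

theorem isConj_iff_of_subpair (hM : IsPModular p M) (hF : IsBlockFusionSystemOn p M B P e F) (hQP : Q ≤ P)
    (hle : SubpairLE p M Q f P e) :
    F.IsConj Q Q' ↔ ∃ g : G, conjS g Q = Q' ∧ SubpairLE p M (conjS g Q) (conjB g rfl f) P e := by
  constructor
  · rintro ⟨φ, hφ, hr⟩
    obtain ⟨g, hg, hle₂⟩ := (mem_hom_iff hM hF hQP hle φ).mp hφ
    refine ⟨g, ?_, hle₂⟩
    rw [← hr]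
    ext y
    constructor
    · rintro ⟨u, hu, rfl⟩
      exact ⟨⟨u, hu⟩, (hg ⟨u, hu⟩).trans rfl⟩
    · rintro ⟨u, rfl⟩
      exact ⟨u, u.2, (hg u).symm⟩
  · rintro ⟨g, hgQ, hle₂⟩
    refine ⟨conjHom Q g, (mem_hom_iff hM hF hQP hle _).mpr ⟨g, fun u => rfl, hle₂⟩, ?_⟩
    rw [conjHom_range, hgQ]

/-- The normalizer in `P` of `Q` stabilizes the block below `(P, e)`. -/
theorem inf_normalizer_le_stabilizer (hM : IsPModular p M) (hPe : IsBrauerPair p M P e) (hQP : Q ≤ P)
    (hle : SubpairLE p M Q f P e) {T : Subgroup G}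
    (hT : ∀ y : G, y ∈ T ↔ y ∈ Subgroup.normalizer (Q : Set G) ∧
      StabilizesBlock (Subgroup.centralizer (Q : Set G)) f y) :
    P ⊓ Subgroup.normalizer (Q : Set G) ≤ T := by
  have hQR : Q ≤ P ⊓ Subgroup.normalizer (Q : Set G) := le_inf hQP Subgroup.le_normalizer
  obtain ⟨g, hg, hRle⟩ := exists_subpairLE hM hPe _ (inf_le_left : P ⊓ Subgroup.normalizer (Q : Set G) ≤ P)
  have hRpair : IsBrauerPair p M (P ⊓ Subgroup.normalizer (Q : Set G)) g := ⟨hPe.1.to_le inf_le_left, hg⟩
  obtain ⟨f₂, hf₂, -⟩ := existsUnique_isNormalSubpair hM hRpair hQR inf_le_right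
  have hff : f₂ = f := subpairLE_unique hM hPe Q hQP f₂ f
    (Relation.ReflTransGen.trans (Relation.ReflTransGen.single (show NormalSubpairRel p M ⟨Q, f₂⟩ ⟨_, g⟩ from hf₂)) hRle) hle
  rw [hff] at hf₂
  exact fun x hx => (hT x).mpr ⟨hx.2, hf₂.2.2.2.2.1 x hx⟩

/-- **S4678.** -/
theorem isFullyCentralized_iff (hM : IsPModular p M) (hF : IsBlockFusionSystemOn p M B P e F) (hQP : Q ≤ P)
    (hf : IsPBlock M f) (hle : SubpairLE p M Q f P e) :
    F.IsFullyCentralized Q ↔ IsDefectGroup p M f ((P ⊓ Subgroup.centralizer (Q : Set G)).subgroupOf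
      (Subgroup.centralizer (Q : Set G))) := by
  classical
  letI : Fintype (Subgroup.centralizer (Q : Set G)) := Fintype.ofFinite _
  have hmax := hF.1
  have hPe := hmax.1.1
  constructor
  · rintro ⟨-, hfc⟩
    obtain ⟨x, hx, hxD⟩ := exists_conj_isDefectGroup_cen hM hmax hf hle
    have h1 := hfc (conjS x Q) ((isConj_iff_of_subpair hM hF hQP hle).mpr ⟨x, rfl, hx⟩)
    obtain ⟨D, hD, hDle⟩ := exists_defect_ge_cen hM hPe hQP hf hle
    have h2 := card_defect_conjB hM x rfl hf hD hxD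
    rw [card_subgroupOf_of_le inf_le_right] at h2
    have h3 : P ⊓ Subgroup.centralizer (Q : Set G) = FusionSystem.centralizerIn P Q := rfl
    have hfinal := Subgroup.eq_of_le_of_card_ge hDle (by
      rw [card_subgroupOf_of_le inf_le_right, ← h2]
      exact h1)
    rw [hfinal]
    exact hD
  · intro hD
    refine ⟨hQP, fun Q' hc => ?_⟩
    obtain ⟨g, rfl, hle₂⟩ := (isConj_iff_of_subpair hM hF hQP hle).mp hc
    obtain ⟨D₂, hD₂, hD₂le⟩ := exists_defect_ge_cen hM hPe (le_of_subpairLE hle₂) (isPBlock_conjB g rfl hf) hle₂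
    have h2 := card_defect_conjB hM g rfl hf hD hD₂
    rw [card_subgroupOf_of_le inf_le_right] at h2
    have h3 := Subgroup.card_le_of_le hD₂le
    rw [card_subgroupOf_of_le inf_le_right] at h3
    exact h3.trans h2.le

/-- **S4679.** -/
theorem isFullyNormalized_iff (hM : IsPModular p M) (hF : IsBlockFusionSystemOn p M B P e F) (hQP : Q ≤ P)
    (hf : IsPBlock M f) (hle : SubpairLE p M Q f P e) {T : Subgroup G}
    (hT : ∀ y : G, y ∈ T ↔ y ∈ Subgroup.normalizer (Q : Set G) ∧
      StabilizesBlock (Subgroup.centralizer (Q : Set G)) f y) :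
    F.IsFullyNormalized Q ↔ ∃ F' : Set (IrrCharacter T), IsPBlock M F' ∧
      (∀ t : T, blockCoeff F' t = subgroupBlockCoeff (Subgroup.centralizer (Q : Set G)) f (t : G)) ∧
      IsDefectGroup p M F' ((P ⊓ Subgroup.normalizer (Q : Set G)).subgroupOf T) := by
  classical
  letI : Fintype (Subgroup.centralizer (Q : Set G)) := Fintype.ofFinite _
  letI : Fintype T := Fintype.ofFinite _
  have hmax := hF.1
  have hPe := hmax.1.1
  have hRT := inf_normalizer_le_stabilizer hM hPe hQP hle hT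
  constructor
  · rintro ⟨-, hfn⟩
    obtain ⟨F', hF', hcoef⟩ := exists_block_of_stabilizer hM (hPe.1.to_le hQP) hf hT
    refine ⟨F', hF', hcoef, ?_⟩
    obtain ⟨D, hD, hDle⟩ := exists_defect_ge_norm hM hPe hQP hle hT hF' hcoef
    obtain ⟨x, hx, hxT⟩ := exists_conj_isDefectGroup_norm hM hmax hle hT hF' hcoef
    have hT' : ∀ y : G, y ∈ conjS x T ↔ y ∈ Subgroup.normalizer ((conjS x Q : Subgroup G) : Set G) ∧
        StabilizesBlock (Subgroup.centralizer ((conjS x Q : Subgroup G) : Set G)) (conjB x rfl f) y := by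
      intro y
      rw [mem_conjS, hT]
      exact mem_stab_conj_iff x rfl
    obtain ⟨F'', hF'', hcoef'', hD''⟩ := hxT _ hT'
    letI : Fintype (conjS x T) := Fintype.ofFinite _
    have hFF : F'' = transBlock (subConjIso x (rfl : conjS x T = conjS x T)).symm F' :=
      block_eq_of_blockCoeff_eq fun t => by
        rw [hcoef'', blockCoeff_conj_stab x rfl rfl hcoef]
    rw [hFF] at hD''
    have h2 := card_defect_transBlock hM _ hF' hD hD''
    have h1 := hfn (conjS x Q) ((isConj_iff_of_subpair hM hF hQP hle).mpr ⟨x, rfl, hx⟩)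
    have hTN' := inf_normalizer_le_stabilizer hM hPe (le_of_subpairLE hx) hx hT'
    rw [card_subgroupOf_of_le hTN'] at h2
    have hfinal := Subgroup.eq_of_le_of_card_ge hDle (by
      rw [card_subgroupOf_of_le hRT, ← h2]
      exact h1)
    rw [hfinal]
    exact hD
  · rintro ⟨F', hF', hcoef, hD⟩
    refine ⟨hQP, fun Q' hc => ?_⟩
    obtain ⟨g, rfl, hle₂⟩ := (isConj_iff_of_subpair hM hF hQP hle).mp hc
    have hT' : ∀ y : G, y ∈ conjS g T ↔ y ∈ Subgroup.normalizer ((conjS g Q : Subgroup G) : Set G) ∧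
        StabilizesBlock (Subgroup.centralizer ((conjS g Q : Subgroup G) : Set G)) (conjB g rfl f) y := by
      intro y
      rw [mem_conjS, hT]
      exact mem_stab_conj_iff g rfl
    letI : Fintype (conjS g T) := Fintype.ofFinite _
    have hF'' := isPBlock_transBlock (subConjIso g (rfl : conjS g T = conjS g T)).symm hF'
    obtain ⟨D₂, hD₂, hD₂le⟩ := exists_defect_ge_norm hM hPe (le_of_subpairLE hle₂) hle₂ hT' hF''
      (blockCoeff_conj_stab g rfl rfl hcoef)
    have h2 := card_defect_transBlock hM _ hF' hD hD₂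
    rw [card_subgroupOf_of_le hRT] at h2
    have hTN' := inf_normalizer_le_stabilizer hM hPe (le_of_subpairLE hle₂) hle₂ hT'
    have h3 := Subgroup.card_le_of_le hD₂le
    rw [card_subgroupOf_of_le hTN'] at h3
    exact h3.trans h2.le

theorem conjS_inf_centralizer (x : G) (hQ : conjS x Q = Q') :
    ((Q ⊓ Subgroup.centralizer (Q : Set G)).subgroupOf (Subgroup.centralizer (Q : Set G))).comap
      (cenIso x hQ).symm.toMonoidHom =
    (Q' ⊓ Subgroup.centralizer (Q' : Set G)).subgroupOf (Subgroup.centralizer (Q' : Set G)) := by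
  have hmem : ∀ u : G, u ∈ Q' ↔ x⁻¹ * u * x ∈ Q := by
    intro u
    rw [← hQ]
    exact mem_conjS
  ext t
  rw [Subgroup.mem_comap, Subgroup.mem_subgroupOf, Subgroup.mem_subgroupOf]
  constructor
  · rintro ⟨h1, -⟩
    exact ⟨(hmem t).mpr h1, t.2⟩
  · rintro ⟨h1, -⟩
    exact ⟨(hmem t).mp h1, ((cenIso x hQ).symm t).2⟩

/-- The centre is a defect group of the conjugate block. -/
theorem isDefectGroup_inf_conjB (x : G) (hQ : conjS x Q = Q')
    (hD : IsDefectGroup p M f ((Q ⊓ Subgroup.centralizer (Q : Set G)).subgroupOf (Subgroup.centralizer (Q : Set G)))) :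
    IsDefectGroup p M (conjB x hQ f) ((Q' ⊓ Subgroup.centralizer (Q' : Set G)).subgroupOf (Subgroup.centralizer (Q' : Set G))) := by
  classical
  letI : Fintype (Subgroup.centralizer (Q : Set G)) := Fintype.ofFinite _
  letI : Fintype (Subgroup.centralizer (Q' : Set G)) := Fintype.ofFinite _
  rw [conjB_eq_transBlock, ← conjS_inf_centralizer x hQ]
  exact isDefectGroup_transBlock _ hD

/-- **S4680.** -/
theorem isCentric_iff (hM : IsPModular p M) (hF : IsBlockFusionSystemOn p M B P e F) (hQP : Q ≤ P)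
    (hf : IsPBlock M f) (hle : SubpairLE p M Q f P e) :
    F.IsCentric Q ↔ IsDefectGroup p M f ((Q ⊓ Subgroup.centralizer (Q : Set G)).subgroupOf
      (Subgroup.centralizer (Q : Set G))) := by
  classical
  letI : Fintype (Subgroup.centralizer (Q : Set G)) := Fintype.ofFinite _
  have hmax := hF.1
  have hPe := hmax.1.1
  constructor
  · rintro ⟨-, hc⟩
    obtain ⟨x, hx, hxD⟩ := exists_conj_isDefectGroup_cen hM hmax hf hle
    have h1 := hc (conjS x Q) ((isConj_iff_of_subpair hM hF hQP hle).mpr ⟨x, rfl, hx⟩)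
    have h2 : P ⊓ Subgroup.centralizer ((conjS x Q : Subgroup G) : Set G) =
        conjS x Q ⊓ Subgroup.centralizer ((conjS x Q : Subgroup G) : Set G) :=
      le_antisymm (le_inf h1 inf_le_right) (inf_le_inf_right _ (le_of_subpairLE hx))
    rw [h2] at hxD
    have h3 := isDefectGroup_inf_conjB (f := conjB x rfl f) (Q := conjS x Q) (Q' := Q) x⁻¹ (conjS_inv_of_conjS x rfl) hxD
    rwa [conjB_conjB_inv] at h3
  · intro hD
    refine ⟨hQP, fun Q' hc => ?_⟩
    obtain ⟨g, rfl, hle₂⟩ := (isConj_iff_of_subpair hM hF hQP hle).mp hc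
    obtain ⟨D₂, hD₂, hD₂le⟩ := exists_defect_ge_cen hM hPe (le_of_subpairLE hle₂) (isPBlock_conjB g rfl hf) hle₂
    have hZ := isDefectGroup_inf_conjB g rfl hD
    letI : Fintype (Subgroup.centralizer ((conjS g Q : Subgroup G) : Set G)) := Fintype.ofFinite _
    have h2 := card_defect_eq hM (isPBlock_conjB g rfl hf) hZ hD₂
    have hZle : (conjS g Q ⊓ Subgroup.centralizer ((conjS g Q : Subgroup G) : Set G)).subgroupOf
        (Subgroup.centralizer ((conjS g Q : Subgroup G) : Set G)) ≤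
        (P ⊓ Subgroup.centralizer ((conjS g Q : Subgroup G) : Set G)).subgroupOf
        (Subgroup.centralizer ((conjS g Q : Subgroup G) : Set G)) := by
      intro t ht
      rw [Subgroup.mem_subgroupOf] at ht ⊢
      exact ⟨le_of_subpairLE hle₂ ht.1, ht.2⟩
    have hcard := Subgroup.card_le_of_le hD₂le
    have heq := Subgroup.eq_of_le_of_card_ge hZle (by rw [← h2]; exact hcard)
    rintro t ⟨htP, htC⟩
    have h5 : (⟨t, htC⟩ : Subgroup.centralizer ((conjS g Q : Subgroup G) : Set G)) ∈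
        (P ⊓ Subgroup.centralizer ((conjS g Q : Subgroup G) : Set G)).subgroupOf
        (Subgroup.centralizer ((conjS g Q : Subgroup G) : Set G)) := by
      rw [Subgroup.mem_subgroupOf]
      exact ⟨htP, htC⟩
    rw [← heq, Subgroup.mem_subgroupOf] at h5
    exact h5.1

end Fus

end Cfsg.Agent.Lib.H8Group
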