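import Cfsg.Agent.Lib.H8Group.KnorrApps
import Cfsg.Agent.Lib.Blocks.Orbits
import Cfsg.Prelude.Def_BlockLocal

/-!
# The Harris–Knörr correspondence
-/

set_option autoImplicit false
set_option linter.unusedSectionVars false

namespace Cfsg.Agent.Lib.H8Group

open Cfsg Cfsg.Agent.Lib.Char Cfsg.Agent.Lib.Blocks
open scoped ComplexConjugate

universe u

section Transport

variable {G : Type u} [Group G] [Fintype G] {M : Ideal AlgInt} {p : ℕ} [hp : Fact p.Prime]
  (N : Subgroup G) [hN : N.Normal] [Fintype N] {Q : Subgroup G}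

local notation "𝐇" => Subgroup.normalizer (Q : Set G)
local notation "𝐋" => (Subgroup.normalizer (Q : Set G) ⊓ N)
local notation "𝐍'" => Subgroup.normalizer ((Q.subgroupOf N : Subgroup N) : Set N)

omit [Fintype G] [Fintype N] hN in
theorem mem_normalizer_of_subgroupOf (hQN : Q ≤ N) (t : N)
    (ht : t ∈ Subgroup.normalizer ((Q.subgroupOf N : Subgroup N) : Set N)) :
    (t : G) ∈ Subgroup.normalizer (Q : Set G) := by
  rw [Subgroup.mem_normalizer_iff]
  intro g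
  by_cases hg : g ∈ N
  · have h1 := (Subgroup.mem_normalizer_iff.mp ht) ⟨g, hg⟩
    simpa [Subgroup.mem_subgroupOf] using h1
  · constructor
    · intro h; exact absurd (hQN h) hg
    · intro h
      exfalso
      apply hg
      have h2 : (t : G) * g * (t : G)⁻¹ ∈ N := hQN h
      have h3 : (t : G)⁻¹ * ((t : G) * g * (t : G)⁻¹) * (t : G) = g := by group
      rw [← h3]
      exact N.mul_mem (N.mul_mem (N.inv_mem t.2) h2) t.2

omit [Fintype G] [Fintype N] hN in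
theorem mem_normalizer_subgroupOf_of (l : G) (hl : l ∈ Subgroup.normalizer (Q : Set G)) (hlN : l ∈ N) :
    (⟨l, hlN⟩ : N) ∈ Subgroup.normalizer ((Q.subgroupOf N : Subgroup N) : Set N) := by
  rw [Subgroup.mem_normalizer_iff]
  intro g
  have h1 := (Subgroup.mem_normalizer_iff.mp hl) (g : G)
  simpa [Subgroup.mem_subgroupOf] using h1

/-- The normalizer computed in `N` is the intersection of `N` with the normalizer in `G`. -/
def normInfEquiv (hQN : Q ≤ N) : 𝐍' ≃* ↥𝐋 where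
  toFun t := ⟨((t : N) : G), mem_normalizer_of_subgroupOf N hQN _ t.2, (t : N).2⟩
  invFun l := ⟨⟨(l : G), l.2.2⟩, mem_normalizer_subgroupOf_of N _ l.2.1 l.2.2⟩
  left_inv t := rfl
  right_inv l := rfl
  map_mul' s t := rfl

omit [Fintype G] [Fintype N] hN in
@[simp] theorem normInfEquiv_coe (hQN : Q ≤ N) (t : 𝐍') :
    ((normInfEquiv N hQN t   : ↥𝐋) : G) = ((t : N) : G) := rfl

omit [Fintype G] [Fintype N] hN in
@[simp] theorem normInfEquiv_symm_coe (hQN : Q ≤ N) (l : ↥𝐋) :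
    ((((normInfEquiv N hQN).symm l : 𝐍') : N) : G) = (l : G) := rfl

omit [Fintype N] hN in
/-- The defect group condition under the transport. -/
theorem comap_normInfEquiv (hQN : Q ≤ N) :
    (Q.subgroupOf 𝐋).comap (normInfEquiv N hQN).toMonoidHom =
      (Q.subgroupOf N).subgroupOf 𝐍' := by
  ext t
  simp [Subgroup.mem_subgroupOf]

variable [Fintype ↥(Subgroup.normalizer (Q : Set G) ⊓ N)] [Fintype (Subgroup.normalizer ((Q.subgroupOf N : Subgroup N) : Set N))]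

theorem inducedCentralChar_normInf (hQN : Q ≤ N) (ξ : IrrCharacter ↥𝐋) (n : N) :
    inducedCentralChar 𝐍' ((Cfsg.Agent.Lib.Blocks.irrComp (H := 𝐍') (K := ↥𝐋) (normInfEquiv N hQN) ξ : IrrCharacter 𝐍') : 𝐍' → ℂ) n =
      inducedCentralCharIn N 𝐋 (ξ : ↥𝐋 → ℂ) (n : G) := by
  classical
  rw [inducedCentralChar, inducedCentralCharIn]
  apply finsum_mem_eq_of_bijOn (normInfEquiv N hQN)
  · refine ⟨?_, (normInfEquiv N hQN).injective.injOn, ?_⟩
    · intro t ht
      obtain ⟨c, hc⟩ := isConj_iff.mp ht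
      refine ⟨c⁻¹, ?_⟩
      have h1 := congrArg (Subtype.val) hc
      show ((c⁻¹ : N) : G) * ((t : N) : G) * ((c⁻¹ : N) : G)⁻¹ = n
      have h2 : (c : G) * (n : G) * (c : G)⁻¹ = ((t : N) : G) := h1
      rw [← h2]
      simp [mul_assoc]
    · rintro l ⟨x, hx⟩
      refine ⟨(normInfEquiv N hQN).symm l, ?_, by simp⟩
      refine isConj_iff.mpr ⟨x⁻¹, ?_⟩
      apply Subtype.ext
      show ((x⁻¹ : N) : G) * (n : G) * ((x⁻¹ : N) : G)⁻¹ = (l : G)
      rw [← hx]
      simp [mul_assoc]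
  · intro t _
    simp [Cfsg.Agent.Lib.Blocks.irrComp]

/-- Block induction inside `N` is block induction in the group `N`. -/
theorem isInducedBlock_of_in [M.IsPrime] (hQN : Q ≤ N) {e : Set (IrrCharacter ↥𝐋)} {d : Set (IrrCharacter N)}
    (h : IsInducedBlockIn M N 𝐋 e d) : IsInducedBlock M 𝐍' (transBlock (H := 𝐍') (K := ↥𝐋) (normInfEquiv N hQN) e) d := by
  refine ⟨isPBlock_transBlock _ h.1, h.2.1, fun ξ hξ θ hθ g => ?_⟩
  have h1 := h.2.2 _ hξ θ hθ g
  rw [← inducedCentralChar_normInf N hQN, Cfsg.Agent.Lib.Blocks.irrComp_irrComp_symm] at h1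
  exact h1

theorem isInducedBlockIn_of [M.IsPrime] (hQN : Q ≤ N) {e : Set (IrrCharacter ↥𝐋)} {d : Set (IrrCharacter N)}
    (he : IsPBlock M e) (h : IsInducedBlock M 𝐍' (transBlock (H := 𝐍') (K := ↥𝐋) (normInfEquiv N hQN) e) d) :
    IsInducedBlockIn M N 𝐋 e d := by
  refine ⟨he, h.2.1, fun ξ hξ θ hθ g => ?_⟩
  have h1 := h.2.2 _ (irrComp_mem_transBlock (H := 𝐍') (K := ↥𝐋) (normInfEquiv N hQN) hξ) θ hθ g
  rw [inducedCentralChar_normInf] at h1
  exact h1

/-- Every block of the local subgroup induces a block of `N`. -/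
theorem exists_isInducedBlockIn (hM : IsPModular p M) (hQ : IsPGroup p Q) (hQN : Q ≤ N)
    {e : Set (IrrCharacter ↥𝐋)} (he : IsPBlock M e) : ∃ d, IsInducedBlockIn M N 𝐋 e d := by
  have := isPrime_of_modular hM
  have hQ' : IsPGroup p (Q.subgroupOf N) := isPGroup_subgroupOf hQ N
  obtain ⟨d, hd⟩ := exists_isInducedBlock 𝐍' hM hQ' Subgroup.le_normalizer
    (Subgroup.centralizer_le_normalizer _) le_rfl (isPBlock_transBlock (H := 𝐍') (K := ↥𝐋) (normInfEquiv N hQN) he)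
  exact ⟨d, isInducedBlockIn_of N hQN he hd⟩

/-- The Brauer correspondent is unique. -/
theorem eq_of_isInducedBlockIn (hM : IsPModular p M) (hQ : IsPGroup p Q) (hQN : Q ≤ N)
    {d : Set (IrrCharacter N)} (hd : IsPBlock M d) (hdQ : IsDefectGroup p M d (Q.subgroupOf N))
    {e e₁ : Set (IrrCharacter ↥𝐋)} (h : IsInducedBlockIn M N 𝐋 e d) (h₁ : IsInducedBlockIn M N 𝐋 e₁ d) :
    e = e₁ := by
  have := isPrime_of_modular hM
  have hQ' : IsPGroup p (Q.subgroupOf N) := isPGroup_subgroupOf hQ N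
  obtain ⟨b, -, hu⟩ := first_main_ii hM hQ' hd hdQ
  have h2 := isInducedBlock_of_in N hQN h
  have h3 := isInducedBlock_of_in N hQN h₁
  have e2 := hu _ ⟨h2.1, isDefectGroup_of_induced hM hQ' hdQ h2, h2⟩
  have e3 := hu _ ⟨h3.1, isDefectGroup_of_induced hM hQ' hdQ h3, h3⟩
  have e4 := e2.trans e3.symm
  have e5 := congrArg (transBlock (H := ↥𝐋) (K := 𝐍') (normInfEquiv N hQN).symm) e4
  rwa [transBlock_symm_transBlock, transBlock_symm_transBlock] at e5

theorem spec_irrComp {A B : Type u} [Group A] [Group B] [Fintype A] [Fintype B] (e : A ≃* B) (f : B → ℂ)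
    (ξ : IrrCharacter B) : spec (f ∘ e) (Cfsg.Agent.Lib.Blocks.irrComp e ξ) = spec f ξ := by
  rw [spec, spec]
  simp only [Cfsg.Agent.Lib.Blocks.irrComp_coe, Function.comp_apply, map_one]
  congr 1
  exact Fintype.sum_equiv e.toEquiv _ _ fun _ => rfl

end Transport

section Cover

variable {G : Type u} [Group G] [Fintype G] {M : Ideal AlgInt} {p : ℕ} [hp : Fact p.Prime]
  (N : Subgroup G) [hN : N.Normal] [Fintype N]

/-- `N ∩ T` as a subgroup of `T` and as a subgroup of `G`. -/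
def subInfEquiv (T : Subgroup G) : N.subgroupOf T ≃* ↥(T ⊓ N) where
  toFun x := ⟨((x : T) : G), (x : T).2, x.2⟩
  invFun l := ⟨⟨(l : G), l.2.1⟩, l.2.2⟩
  left_inv x := rfl
  right_inv l := rfl
  map_mul' s t := rfl

omit [Fintype G] [Fintype N] hN in
@[simp] theorem subInfEquiv_coe (T : Subgroup G) (x : N.subgroupOf T) :
    ((subInfEquiv N T x : ↥(T ⊓ N)) : G) = ((x : T) : G) := rfl

omit [Fintype G] [Fintype N] hN in
@[simp] theorem subInfEquiv_symm_coe (T : Subgroup G) (l : ↥(T ⊓ N)) :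
    ((((subInfEquiv N T).symm l : N.subgroupOf T) : T) : G) = (l : G) := rfl

variable (T : Subgroup G) [Fintype T] [Fintype ↥(T ⊓ N)]

/-- The restriction of a character of `T` to `T ⊓ N`, seen through `N.subgroupOf T`. -/
theorem classInner_subInf [Fintype (N.subgroupOf T)] (ψ : IrrCharacter T) (ξ : IrrCharacter ↥(T ⊓ N)) :
    classInner (fun n : N.subgroupOf T => (ψ : T → ℂ) n)
      ((Cfsg.Agent.Lib.Blocks.irrComp (subInfEquiv N T) ξ : IrrCharacter (N.subgroupOf T)) : N.subgroupOf T → ℂ) =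
    classInner (fun l : ↥(T ⊓ N) => (ψ : T → ℂ) (Subgroup.inclusion inf_le_left l)) (ξ : ↥(T ⊓ N) → ℂ) :=
  classInner_comp_mulEquiv (subInfEquiv N T) (fun l : ↥(T ⊓ N) => (ψ : T → ℂ) (Subgroup.inclusion inf_le_left l)) _

/-- A constituent on `T ⊓ N`. -/
theorem exists_constituent_inf (ψ : IrrCharacter T) :
    ∃ ξ : IrrCharacter ↥(T ⊓ N),
      classInner (fun l : ↥(T ⊓ N) => (ψ : T → ℂ) (Subgroup.inclusion inf_le_left l)) (ξ : ↥(T ⊓ N) → ℂ) ≠ 0 := by
  classical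
  letI : Fintype (N.subgroupOf T) := Fintype.ofFinite _
  haveI : (N.subgroupOf T).Normal := Subgroup.normal_subgroupOf
  obtain ⟨ξ'', h⟩ := Cfsg.Agent.Lib.Blocks.exists_constituent (N.subgroupOf T) ψ
  refine ⟨Cfsg.Agent.Lib.Blocks.irrComp (subInfEquiv N T).symm ξ'', ?_⟩
  rw [← classInner_subInf, Cfsg.Agent.Lib.Blocks.irrComp_irrComp_symm]
  exact h

/-- The central formula for the restriction to `T ⊓ N`. -/
theorem spec_res_inf {ψ : IrrCharacter T} {ξ : IrrCharacter ↥(T ⊓ N)}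
    (h : classInner (fun l : ↥(T ⊓ N) => (ψ : T → ℂ) (Subgroup.inclusion inf_le_left l)) (ξ : ↥(T ⊓ N) → ℂ) ≠ 0)
    {u : T → ℂ} (hu : IsClassFunction T u) (hsupp : ∀ t : T, (t : G) ∉ N → u t = 0) :
    spec u ψ = spec (fun l : ↥(T ⊓ N) => u (Subgroup.inclusion inf_le_left l)) ξ := by
  classical
  letI : Fintype (N.subgroupOf T) := Fintype.ofFinite _
  haveI : (N.subgroupOf T).Normal := Subgroup.normal_subgroupOf
  have h1 : classInner (fun n : N.subgroupOf T => (ψ : T → ℂ) n)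
      ((Cfsg.Agent.Lib.Blocks.irrComp (subInfEquiv N T) ξ : IrrCharacter (N.subgroupOf T)) : N.subgroupOf T → ℂ) ≠ 0 := by
    rw [classInner_subInf]
    exact h
  have hf : ∀ t : T, Cfsg.Agent.Lib.Char.conjFun (N.subgroupOf T) t (fun n : N.subgroupOf T => u n) = fun n : N.subgroupOf T => u n := by
    intro t
    funext n
    rw [conjFun_apply]
    have := hu (n : T) t⁻¹
    simpa using this
  have h2 := spec_extendByZero (N.subgroupOf T) hf h1
  have h3 : extendByZero (N.subgroupOf T) (fun n : N.subgroupOf T => u n) = u := by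
    funext t
    by_cases ht : t ∈ N.subgroupOf T
    · rw [extendByZero_of_mem _ _ ht]
    · rw [extendByZero_of_notMem _ _ ht, hsupp t (fun h => ht (Subgroup.mem_subgroupOf.mpr h))]
  rw [h3] at h2
  rw [h2]
  have h4 := spec_irrComp (subInfEquiv N T) (fun l : ↥(T ⊓ N) => u (Subgroup.inclusion inf_le_left l)) ξ
  rw [← h4]
  rfl

end Cover

section Main

variable {G : Type u} [Group G] [Fintype G] {M : Ideal AlgInt} {p : ℕ} [hp : Fact p.Prime]
  (N : Subgroup G) [hN : N.Normal] [Fintype N] {Q : Subgroup G}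

local notation "𝐇" => Subgroup.normalizer (Q : Set G)
local notation "𝐋" => (Subgroup.normalizer (Q : Set G) ⊓ N)
local notation "𝐍'" => Subgroup.normalizer ((Q.subgroupOf N : Subgroup N) : Set N)

variable [Fintype (Subgroup.normalizer (Q : Set G))] [Fintype ↥(Subgroup.normalizer (Q : Set G) ⊓ N)]
  [Fintype (Subgroup.normalizer ((Q.subgroupOf N : Subgroup N) : Set N))]

/-- **Induced blocks cover the induced blocks.** -/
theorem exists_conj_mem_of_induced (hM : IsPModular p M) (hQN : Q ≤ N) {c : Set (IrrCharacter 𝐇)}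
    {B : Set (IrrCharacter G)} (hind : IsInducedBlock M 𝐇 c B) {ψ : IrrCharacter 𝐇} (hψ : ψ ∈ c)
    {ξ : IrrCharacter ↥𝐋}
    (hψξ : classInner (fun l : ↥𝐋 => (ψ : 𝐇 → ℂ) (Subgroup.inclusion inf_le_left l)) (ξ : ↥𝐋 → ℂ) ≠ 0)
    {d₁ : Set (IrrCharacter N)} (hd₁ : IsInducedBlockIn M N 𝐋 (blockOf M (ξ : ↥𝐋 → ℂ)) d₁)
    {χ : IrrCharacter G} (hχ : χ ∈ B) {θ₀ : IrrCharacter N}
    (hθ₀ : classInner (fun n : N => (χ : G → ℂ) n) (θ₀ : N → ℂ) ≠ 0) : ∃ g : G, conjIrr N g θ₀ ∈ d₁ := by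
  classical
  have := isPrime_of_modular hM
  have hd₁b := hd₁.2.1
  have hbc : ∀ θ ∈ d₁, blockOf M (θ : N → ℂ) ⊆ d₁ := by
    intro θ hθ
    rw [← blockOf_eq_of_mem hd₁b hθ]
  have hAb := gSat_closed (G := G) N hbc
  have hAinv : ∀ (g : G) θ, θ ∈ gSat (G := G) N d₁ → conjIrr N g θ ∈ gSat (G := G) N d₁ :=
    fun g θ h => gSat_invariant N h g
  have hinv := conjFun_coef_indic N hAinv
  have hz : indic (gSat (G := G) N d₁) ∈ zS M N := indic_mem_zS_of_closed hAb
  have hcl : IsClassFunction G (extendByZero N (coef (indic (gSat (G := G) N d₁)))) :=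
    extendByZero_isClassFunction N hinv
  have hS : ∀ x, MemLocalRing M (extendByZero N (coef (indic (gSat (G := G) N d₁))) x) :=
    extendByZero_memLocalRing N (fun x => hz x)
  have hsA := spec_mem_zS (M := M) hcl hS
  have h1 : spec (extendByZero N (coef (indic (gSat (G := G) N d₁)))) χ = indic (gSat (G := G) N d₁) θ₀ := by
    rw [spec_extendByZero N hinv hθ₀, spec_coef]
  have h2 := IsInducedBlock.resPhi_congr 𝐇 hind hψ hχ hsA
  rw [resPhi, coef_spec _ hcl, h1] at h2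
  have h3 := spec_res_inf N 𝐇 hψξ (u := Cfsg.Agent.Lib.Blocks.resFun 𝐇 (extendByZero N (coef (indic (gSat (G := G) N d₁)))))
    (resFun_isClassFunction 𝐇 hcl) (fun t ht => extendByZero_of_notMem N _ ht)
  obtain ⟨θ₁, hθ₁⟩ := IsPBlock.nonempty hd₁b
  have hd' := isInducedBlock_of_in N hQN hd₁
  have h4 := IsInducedBlock.resPhi_congr 𝐍' hd'
    (irrComp_mem_transBlock (H := 𝐍') (K := ↥𝐋) (normInfEquiv N hQN) (self_mem_blockOf ξ)) hθ₁ hz
  rw [resPhi] at h4
  have h5 : spec (Cfsg.Agent.Lib.Blocks.resFun 𝐍' (coef (indic (gSat (G := G) N d₁))))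
      (Cfsg.Agent.Lib.Blocks.irrComp (H := 𝐍') (K := ↥𝐋) (normInfEquiv N hQN) ξ) =
      spec (fun l : ↥𝐋 => Cfsg.Agent.Lib.Blocks.resFun 𝐇 (extendByZero N (coef (indic (gSat (G := G) N d₁))))
        (Subgroup.inclusion inf_le_left l)) ξ := by
    rw [← spec_irrComp (normInfEquiv N hQN)]
    congr 1
    funext t
    simp only [Function.comp_apply, Cfsg.Agent.Lib.Blocks.resFun_apply]
    have hmem : (((normInfEquiv N hQN t : ↥𝐋) : G)) ∈ N := (normInfEquiv N hQN t).2.2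
    show _ = extendByZero N _ ((normInfEquiv N hQN t : ↥𝐋) : G)
    rw [extendByZero_of_mem N _ hmem]
    rfl
  rw [h5, ← h3, indic_apply_of_mem (self_subset_gSat N d₁ hθ₁)] at h4
  by_contra hcon
  push Not at hcon
  have hθ₀A : θ₀ ∉ gSat (G := G) N d₁ := by
    rintro ⟨g, hg⟩
    exact hcon g hg
  rw [indic_apply_of_notMem hθ₀A, sub_zero] at h2
  have h6 := MemLocalIdeal.sub h2 h4
  rw [sub_sub_cancel] at h6
  exact not_memLocalIdeal_one h6

/-- Conjugation by an element of `T` on `T ⊓ N`. -/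
def conjInf (T : Subgroup G) (h : T) : ↥(T ⊓ N) ≃* ↥(T ⊓ N) where
  toFun l := ⟨(h : G) * (l : G) * (h : G)⁻¹, T.mul_mem (T.mul_mem h.2 l.2.1) (T.inv_mem h.2),
    hN.conj_mem _ l.2.2 _⟩
  invFun l := ⟨(h : G)⁻¹ * (l : G) * (h : G), T.mul_mem (T.mul_mem (T.inv_mem h.2) l.2.1) h.2, by
    have := hN.conj_mem _ l.2.2 (h : G)⁻¹
    simpa using this⟩
  left_inv l := by
    apply Subtype.ext
    simp [mul_assoc]
  right_inv l := by
    apply Subtype.ext
    simp [mul_assoc]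
  map_mul' s t := by
    apply Subtype.ext
    simp [mul_assoc]

omit [Fintype G] [Fintype N] in
@[simp] theorem conjInf_coe (T : Subgroup G) (h : T) (l : ↥(T ⊓ N)) :
    ((conjInf N T h l : ↥(T ⊓ N)) : G) = (h : G) * (l : G) * (h : G)⁻¹ := rfl

omit [Fintype G] [Fintype N] in
@[simp] theorem conjInf_symm_coe (T : Subgroup G) (h : T) (l : ↥(T ⊓ N)) :
    (((conjInf N T h).symm l : ↥(T ⊓ N)) : G) = (h : G)⁻¹ * (l : G) * (h : G) := rfl

theorem inducedCentralCharIn_conj (h : 𝐇) (ξ₁ : IrrCharacter ↥𝐋) (n : N) (m : N) (hm : (m : G) = (h : G) * (n : G) * (h : G)⁻¹) :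
    inducedCentralCharIn N 𝐋 ((Cfsg.Agent.Lib.Blocks.irrComp (conjInf N 𝐇 h) ξ₁ : IrrCharacter ↥𝐋) : ↥𝐋 → ℂ) (n : G) =
      inducedCentralCharIn N 𝐋 (ξ₁ : ↥𝐋 → ℂ) (m : G) := by
  classical
  rw [inducedCentralCharIn, inducedCentralCharIn]
  apply finsum_mem_eq_of_bijOn (conjInf N 𝐇 h)
  · refine ⟨?_, (conjInf N 𝐇 h).injective.injOn, ?_⟩
    · rintro l ⟨x, hx⟩
      refine ⟨⟨(h : G) * (x : G) * (h : G)⁻¹, hN.conj_mem _ x.2 _⟩, ?_⟩
      simp only [conjInf_coe]
      rw [hm, ← hx]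
      group
    · rintro l ⟨x, hx⟩
      refine ⟨(conjInf N 𝐇 h).symm l, ⟨⟨(h : G)⁻¹ * (x : G) * (h : G), by
        have := hN.conj_mem _ x.2 (h : G)⁻¹
        simpa using this⟩, ?_⟩, by simp⟩
      simp only [conjInf_symm_coe]
      rw [hm] at hx
      have h1 : (x : G) * (l : G) * (x : G)⁻¹ = (h : G) * (n : G) * (h : G)⁻¹ := hx
      have h2 : (n : G) = (h : G)⁻¹ * ((x : G) * (l : G) * (x : G)⁻¹) * (h : G) := by
        rw [h1]
        group
      rw [h2]
      group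
  · intro t _
    simp [Cfsg.Agent.Lib.Blocks.irrComp]

/-- **A block inducing a block covering `d` covers `e`.** -/
theorem covers_of_induced_of_covers (hM : IsPModular p M) (hQ : IsPGroup p Q) (hQN : Q ≤ N)
    {d : Set (IrrCharacter N)} (hd : IsPBlock M d) (hdQ : IsDefectGroup p M d (Q.subgroupOf N))
    {e : Set (IrrCharacter ↥𝐋)} (hed : IsInducedBlockIn M N 𝐋 e d)
    {c : Set (IrrCharacter 𝐇)} {B : Set (IrrCharacter G)} (hind : IsInducedBlock M 𝐇 c B)
    (hcov : ∃ χ ∈ B, ∃ θ ∈ d, classInner (fun n : N => (χ : G → ℂ) n) (θ : N → ℂ) ≠ 0) :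
    ∃ ψ ∈ c, ∃ ξ ∈ e, classInner (fun l : ↥𝐋 => (ψ : 𝐇 → ℂ) (Subgroup.inclusion inf_le_left l)) (ξ : ↥𝐋 → ℂ) ≠ 0 := by
  classical
  have := isPrime_of_modular hM
  obtain ⟨χ, hχ, θ, hθ, hcon⟩ := hcov
  obtain ⟨ψ, hψ⟩ := IsPBlock.nonempty hind.1
  obtain ⟨ξ₁, hξ₁⟩ := exists_constituent_inf N 𝐇 ψ
  have hb₁ := isPBlock_blockOf (M := M) ξ₁
  obtain ⟨d₁, hd₁⟩ := exists_isInducedBlockIn N hM hQ hQN hb₁
  obtain ⟨g, hg⟩ := exists_conj_mem_of_induced N hM hQN hind hψ hξ₁ hd₁ hχ hcon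
  have hW : IsPBlock M {θ' | conjIrr N g⁻¹ θ' ∈ d} := by
    rw [← transBlock_conjEquiv]
    exact isPBlock_transBlock _ hd
  have hgW : conjIrr N g θ ∈ {θ' | conjIrr N g⁻¹ θ' ∈ d} := by
    show conjIrr N g⁻¹ (conjIrr N g θ) ∈ d
    rw [← conjIrr_mul, inv_mul_cancel, conjIrr_one]
    exact hθ
  have hd₁W : d₁ = {θ' | conjIrr N g⁻¹ θ' ∈ d} := by
    rw [blockOf_eq_of_mem hd₁.2.1 hg, ← blockOf_eq_of_mem hW hgW]
  have hWD := isDefectGroup_conj_block N g hdQ
  rw [← hd₁W] at hWD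
  have hQ' : IsPGroup p (Q.subgroupOf N) := isPGroup_subgroupOf hQ N
  have hb₁' := isPBlock_transBlock (H := 𝐍') (K := ↥𝐋) (normInfEquiv N hQN) hb₁
  obtain ⟨E₁, hE₁⟩ := IsPBlock.exists_isDefectGroup hM hb₁'
  have h1 := IsDefectGroup.pCore_le hM hb₁' hE₁
  haveI hnorm : ((Q.subgroupOf N).subgroupOf 𝐍').Normal := Subgroup.normal_in_normalizer
  have h2 : (Q.subgroupOf N).subgroupOf 𝐍' ≤ pCore p 𝐍' :=
    Cfsg.Agent.Lib.Basic.le_pCore hnorm (isPGroup_subgroupOf hQ' 𝐍')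
  obtain ⟨E₂, hE₂, hle⟩ := IsInducedBlock.exists_defect_le 𝐍' hM (isInducedBlock_of_in N hQN hd₁) hE₁
  obtain ⟨n, hn⟩ := IsDefectGroup.exists_conj_eq hM hd₁.2.1 hWD hE₂
  have hQle : Q ≤ conjS ((n : G) * g) Q := by
    intro q hq
    have hqN : (⟨q, hQN hq⟩ : N) ∈ 𝐍' := Subgroup.le_normalizer (Subgroup.mem_subgroupOf.mpr hq)
    have h3 : (⟨q, hQN hq⟩ : N) ∈ E₂ := by
      apply hle
      refine ⟨⟨⟨q, hQN hq⟩, hqN⟩, h1 (h2 ?_), rfl⟩
      exact Subgroup.mem_subgroupOf.mpr (Subgroup.mem_subgroupOf.mpr hq)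
    rw [hn, mem_conjS, Subgroup.mem_subgroupOf, mem_conjS] at h3
    rw [mem_conjS]
    have h4 : ((n : G) * g)⁻¹ * q * ((n : G) * g) = g⁻¹ * ((n : G)⁻¹ * q * (n : G)) * g := by group
    rw [h4]
    simpa using h3
  have hQeq : Q = conjS ((n : G) * g) Q := Subgroup.eq_of_le_of_card_ge hQle (by rw [card_conjS])
  have hh : (n : G) * g ∈ 𝐇 := by
    rw [Subgroup.mem_normalizer_iff]
    intro x
    constructor
    · intro hx
      have h5 : x ∈ Q := hx
      exact conj_mem_conjS (x := (n : G) * g) h5 |> fun h6 => by rw [← hQeq] at h6; exact h6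
    · intro hx
      have h5 : (n : G) * g * x * ((n : G) * g)⁻¹ ∈ conjS ((n : G) * g) Q := by
        rw [← hQeq]
        exact hx
      rw [mem_conjS] at h5
      have h6 : ((n : G) * g)⁻¹ * ((n : G) * g * x * ((n : G) * g)⁻¹) * ((n : G) * g) = x := by group
      rwa [h6] at h5
  have hstab : ∀ θ' ∈ d, conjIrr N ((n : G) * g) θ' ∈ d₁ := by
    intro θ' hθ'
    rw [conjIrr_mul]
    apply le_blockStab N d₁ n.2
    rw [hd₁W]
    show conjIrr N g⁻¹ (conjIrr N g θ') ∈ d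
    rw [← conjIrr_mul, inv_mul_cancel, conjIrr_one]
    exact hθ'
  let h : 𝐇 := ⟨(n : G) * g, hh⟩
  let ξ : IrrCharacter ↥𝐋 := Cfsg.Agent.Lib.Blocks.irrComp (conjInf N 𝐇 h) ξ₁
  have hbξ := isPBlock_blockOf (M := M) ξ
  have hind₂ : IsInducedBlockIn M N 𝐋 (blockOf M (ξ : ↥𝐋 → ℂ)) d := by
    refine isInducedBlockIn_of N hQN hbξ ?_
    refine isInducedBlock_of_mem 𝐍' (isPBlock_transBlock (H := 𝐍') (K := ↥𝐋) (normInfEquiv N hQN) hbξ) hd
      (irrComp_mem_transBlock (H := 𝐍') (K := ↥𝐋) (normInfEquiv N hQN) (self_mem_blockOf ξ)) hθ ?_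
    intro m
    rw [inducedCentralChar_normInf N hQN,
      inducedCentralCharIn_conj N h ξ₁ m ⟨(h : G) * (m : G) * (h : G)⁻¹, hN.conj_mem _ m.2 _⟩ rfl]
    have h7 := hd₁.2.2 ξ₁ (self_mem_blockOf ξ₁) (conjIrr N (h : G) θ) (hstab θ hθ)
      ⟨(h : G) * (m : G) * (h : G)⁻¹, hN.conj_mem _ m.2 _⟩
    rw [centralChar_conjIrr] at h7
    have h8 : conjEquiv N (h : G) ⟨(h : G) * (m : G) * (h : G)⁻¹, hN.conj_mem _ m.2 _⟩ = m := by
      apply Subtype.ext
      rw [conjEquiv_coe]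
      group
    rw [h8] at h7
    exact h7
  have he' : blockOf M (ξ : ↥𝐋 → ℂ) = e := eq_of_isInducedBlockIn N hM hQ hQN hd hdQ hind₂ hed
  refine ⟨ψ, hψ, ξ, he' ▸ self_mem_blockOf ξ, ?_⟩
  have h9 := classInner_comp_mulEquiv (conjInf N 𝐇 h)
    (fun l : ↥𝐋 => (ψ : 𝐇 → ℂ) (Subgroup.inclusion inf_le_left l)) (ξ₁ : ↥𝐋 → ℂ)
  have h10 : (fun l : ↥𝐋 => (ψ : 𝐇 → ℂ) (Subgroup.inclusion inf_le_left l)) ∘ (conjInf N 𝐇 h) =
      (fun l : ↥𝐋 => (ψ : 𝐇 → ℂ) (Subgroup.inclusion inf_le_left l)) := by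
    funext l
    simp only [Function.comp_apply]
    have h11 := irr_isClassFunction ψ (Subgroup.inclusion inf_le_left l) h
    rw [← h11]
    congr 1
  rw [h10] at h9
  show classInner _ (((ξ₁ : ↥𝐋 → ℂ) ∘ (conjInf N 𝐇 h))) ≠ 0
  rw [h9]
  exact hξ₁

/-- The intersection with the local subgroup of the `p`-groups centralizing a point of the support
of the idempotent of a covering block is trapped in `Q`. -/
theorem le_of_coeff_of_covering (hM : IsPModular p M) (hQN : Q ≤ N)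
    {e : Set (IrrCharacter ↥𝐋)} (he : IsPBlock M e) (heQ : IsDefectGroup p M e (Q.subgroupOf 𝐋))
    {c : Set (IrrCharacter 𝐇)} (hc : IsPBlock M c)
    (hcov : ∃ ψ ∈ c, ∃ ξ ∈ e, classInner (fun l : ↥𝐋 => (ψ : 𝐇 → ℂ) (Subgroup.inclusion inf_le_left l)) (ξ : ↥𝐋 → ℂ) ≠ 0)
    {y : 𝐇} (hy : ¬ MemLocalIdeal M (blockCoeff c y)) {R : Subgroup G} (hR : IsPGroup p R)
    (hRL : R ≤ 𝐋) (hRy : ∀ r ∈ R, r * (y : G) = (y : G) * r) : R ≤ Q := by
  classical
  have := isPrime_of_modular hM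
  letI : Fintype (N.subgroupOf 𝐇) := Fintype.ofFinite _
  haveI : (N.subgroupOf 𝐇).Normal := Subgroup.normal_subgroupOf
  have he'' := isPBlock_transBlock (H := N.subgroupOf 𝐇) (K := ↥𝐋) (subInfEquiv N 𝐇) he
  have hQ''N : Q.subgroupOf 𝐇 ≤ N.subgroupOf 𝐇 := fun x hx =>
    Subgroup.mem_subgroupOf.mpr (hQN (Subgroup.mem_subgroupOf.mp hx))
  have hdef : IsDefectGroup p M (transBlock (H := N.subgroupOf 𝐇) (K := ↥𝐋) (subInfEquiv N 𝐇) e)
      ((Q.subgroupOf 𝐇).subgroupOf (N.subgroupOf 𝐇)) := by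
    have h1 := isDefectGroup_transBlock (H := N.subgroupOf 𝐇) (K := ↥𝐋) (subInfEquiv N 𝐇) heQ
    have h2 : (Q.subgroupOf 𝐋).comap (subInfEquiv N 𝐇).toMonoidHom =
        (Q.subgroupOf 𝐇).subgroupOf (N.subgroupOf 𝐇) := by
      ext t
      simp [Subgroup.mem_subgroupOf]
    rwa [h2] at h1
  have hcov'' : ∃ χ ∈ c, ∃ θ ∈ transBlock (H := N.subgroupOf 𝐇) (K := ↥𝐋) (subInfEquiv N 𝐇) e,
      classInner (fun n : N.subgroupOf 𝐇 => (χ : 𝐇 → ℂ) n) (θ : N.subgroupOf 𝐇 → ℂ) ≠ 0 := by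
    obtain ⟨ψ, hψ, ξ, hξ, h⟩ := hcov
    refine ⟨ψ, hψ, _, irrComp_mem_transBlock (H := N.subgroupOf 𝐇) (K := ↥𝐋) (subInfEquiv N 𝐇) hξ, ?_⟩
    rw [classInner_subInf]
    exact h
  obtain ⟨P, hP, hinf, -⟩ := knorr_exists (N.subgroupOf 𝐇) hM he'' hQ''N hdef hc hcov''
  have hR' : IsPGroup p (R.subgroupOf 𝐇) := isPGroup_subgroupOf hR 𝐇
  have hle : R.subgroupOf 𝐇 ≤ Subgroup.centralizer ({y} : Set 𝐇) := by
    intro x hx
    rw [Subgroup.mem_centralizer_singleton_iff]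
    apply Subtype.ext
    exact hRy _ (Subgroup.mem_subgroupOf.mp hx)
  obtain ⟨t, ht⟩ := IsDefectGroup.le_conj_of_coeff hM hc hP hy hR' hle
  intro r hr
  have hrH : r ∈ 𝐇 := (hRL hr).1
  have h1 : (⟨r, hrH⟩ : 𝐇) ∈ conjS t P := ht (Subgroup.mem_subgroupOf.mpr hr)
  rw [mem_conjS] at h1
  have h2 : t⁻¹ * (⟨r, hrH⟩ : 𝐇) * t ∈ N.subgroupOf 𝐇 := by
    have h3 := (inferInstance : (N.subgroupOf 𝐇).Normal).conj_mem (⟨r, hrH⟩ : 𝐇)
      (Subgroup.mem_subgroupOf.mpr (hRL hr).2) t⁻¹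
    simpa using h3
  have h4 : t⁻¹ * (⟨r, hrH⟩ : 𝐇) * t ∈ Q.subgroupOf 𝐇 := by
    rw [← hinf]
    exact ⟨h1, h2⟩
  have h5 : (t : G)⁻¹ * r * (t : G) ∈ Q := Subgroup.mem_subgroupOf.mp h4
  have h6 := (Subgroup.mem_normalizer_iff.mp t.2 _).mp h5
  have h7 : (t : G) * ((t : G)⁻¹ * r * (t : G)) * (t : G)⁻¹ = r := by group
  rwa [h7] at h6

omit [Fintype G] [Fintype N] hN hp in
theorem extendByZero_conj_mem (T : Subgroup G) {f : T → ℂ} (hf : IsClassFunction T f) (a : T) (y : G) :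
    extendByZero T f ((a : G)⁻¹ * y * a) = extendByZero T f y := by
  by_cases hy : y ∈ T
  · have hy' : (a : G)⁻¹ * y * a ∈ T := T.mul_mem (T.mul_mem (T.inv_mem a.2) hy) a.2
    rw [extendByZero_of_mem T f hy, extendByZero_of_mem T f hy']
    have := hf ⟨y, hy⟩ a⁻¹
    rw [← this]
    congr 1
    apply Subtype.ext
    simp
  · have hy' : (a : G)⁻¹ * y * a ∉ T := by
      intro h
      apply hy
      have := T.mul_mem (T.mul_mem a.2 h) (T.inv_mem a.2)
      simpa [mul_assoc] using this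
    rw [extendByZero_of_notMem T f hy, extendByZero_of_notMem T f hy']

omit [Fintype N] hN in
theorem indFun_eq_sum_out (T : Subgroup G) [Fintype T] [Fintype (G ⧸ T)] {f : T → ℂ} (hf : IsClassFunction T f) (g : G) :
    indFun T f g = ∑ q : G ⧸ T, extendByZero T f ((q.out)⁻¹ * g * q.out) := by
  classical
  have hT0 : (Nat.card T : ℂ) ≠ 0 := by exact_mod_cast Nat.card_pos.ne'
  rw [indFun_apply, ← sum_quotient_out T (fun x => extendByZero T f (x⁻¹ * g * x)), Finset.mul_sum]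
  refine Finset.sum_congr rfl fun q _ => ?_
  have h2 : ∀ a : T, extendByZero T f ((q.out * a)⁻¹ * g * (q.out * a)) =
      extendByZero T f ((q.out)⁻¹ * g * q.out) := by
    intro a
    rw [← extendByZero_conj_mem T hf a ((q.out)⁻¹ * g * q.out)]
    congr 1
    group
  rw [Finset.sum_congr rfl fun a _ => h2 a, Finset.sum_const, Finset.card_univ, nsmul_eq_mul,
    Nat.card_eq_fintype_card (α := T), ← mul_assoc]
  rw [Nat.card_eq_fintype_card (α := T)] at hT0
  rw [inv_mul_cancel₀ hT0, one_mul]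

omit [Fintype N] hN in
theorem memLocalIdeal_sub_of_resC_eq [M.IsPrime] {u v : ℂ} (hu : MemLocalRing M u) (hv : MemLocalRing M v)
    (h : resC M u = resC M v) : MemLocalIdeal M (u - v) := by
  rw [resC_of_mem hu, resC_of_mem hv, Ideal.Quotient.eq, mem_locMax] at h
  exact h

/-- **The trace of a block idempotent of the normalizer**: on `C_G(Q)` it agrees with the idempotent
modulo the local ideal. -/
theorem indFun_coef_congr (hM : IsPModular p M) (hQ : IsPGroup p Q) (hQN : Q ≤ N)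
    {e : Set (IrrCharacter ↥𝐋)} (he : IsPBlock M e) (heQ : IsDefectGroup p M e (Q.subgroupOf 𝐋))
    {c : Set (IrrCharacter 𝐇)} (hc : IsPBlock M c)
    (hcov : ∃ ψ ∈ c, ∃ ξ ∈ e, classInner (fun l : ↥𝐋 => (ψ : 𝐇 → ℂ) (Subgroup.inclusion inf_le_left l)) (ξ : ↥𝐋 → ℂ) ≠ 0)
    {y : G} (hy : y ∈ Subgroup.centralizer (Q : Set G)) :
    MemLocalIdeal M (indFun 𝐇 (coef (indic c)) y -
      coef (indic c) (⟨y, Subgroup.centralizer_le_normalizer _ hy⟩ : 𝐇)) := by
  classical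
  have := isPrime_of_modular hM
  have hcl := coef_isClassFunction (indic c)
  have hS : ∀ t, MemLocalRing M (coef (indic c) t) := indic_mem_zS hc
  let w : G ⧸ 𝐇 → ℂ := fun t => extendByZero 𝐇 (coef (indic c)) ((t.out)⁻¹ * y * t.out)
  have hwmk : ∀ g : G, w (g : G ⧸ 𝐇) = extendByZero 𝐇 (coef (indic c)) (g⁻¹ * y * g) := by
    intro g
    obtain ⟨b, hb⟩ := QuotientGroup.mk_out_eq_mul 𝐇 g
    simp only [w]
    rw [hb, ← extendByZero_conj_mem 𝐇 hcl b (g⁻¹ * y * g)]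
    congr 1
    group
  have hwloc : ∀ t, MemLocalRing M (w t) := fun t => extendByZero_memLocalRing 𝐇 hS _
  let φ : Q →* Equiv.Perm (G ⧸ 𝐇) := MulAction.toPermHom Q (G ⧸ 𝐇)
  have hφ : ∀ (q : Q) (g : G), φ q (g : G ⧸ 𝐇) = (((q : G) * g : G) : G ⧸ 𝐇) := fun q g => rfl
  have hF : ∀ (q : Q) (t : G ⧸ 𝐇), resC M (w (φ q t)) = resC M (w t) := by
    intro q t
    induction t using QuotientGroup.induction_on with
    | H g =>
      rw [hφ, hwmk, hwmk]
      congr 2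
      have h1 : (q : G) * y = y * (q : G) := Subgroup.mem_centralizer_iff.mp hy q q.2
      have h2 : ((q : G) * g)⁻¹ * y * ((q : G) * g) = g⁻¹ * ((q : G)⁻¹ * (y * (q : G))) * g := by group
      rw [h2, ← h1]
      group
  obtain ⟨r, hr⟩ := exists_sum_sub_fixed hQ φ (fun t => resC M (w t)) hF
  have hp0 : p • r = 0 := by
    rw [nsmul_eq_mul, natCast_resF_eq_zero hM, zero_mul]
  rw [hp0, add_zero] at hr
  have hfix : ∀ t, (∀ q, φ q t = t) → t ≠ ((1 : G) : G ⧸ 𝐇) → resC M (w t) = 0 := by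
    intro t hfixed hne
    by_contra h0
    have hw : ¬ MemLocalIdeal M (w t) := fun hI => h0 ((resC_eq_zero_iff (hwloc t)).mpr hI)
    have ht : ((t.out : G) : G ⧸ 𝐇) = t := QuotientGroup.out_eq' t
    have hy' : (t.out)⁻¹ * y * t.out ∈ 𝐇 := by
      by_contra hn
      apply hw
      show MemLocalIdeal M (extendByZero _ _ _)
      rw [extendByZero_of_notMem _ _ hn]
      exact memLocalIdeal_zero
    have hw' : ¬ MemLocalIdeal M (blockCoeff c (⟨_, hy'⟩ : 𝐇)) := by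
      rw [blockCoeff_eq_coef]
      intro hI
      apply hw
      show MemLocalIdeal M (extendByZero _ _ _)
      rw [extendByZero_of_mem _ _ hy']
      exact hI
    have hRL : conjS (t.out)⁻¹ Q ≤ 𝐋 := by
      intro x hx
      rw [mem_conjS, inv_inv] at hx
      have h1 : φ ⟨_, hx⟩ ((t.out : G) : G ⧸ 𝐇) = ((t.out : G) : G ⧸ 𝐇) := by
        rw [ht]
        exact hfixed ⟨_, hx⟩
      rw [hφ] at h1
      have h2 := QuotientGroup.eq.mp h1
      have h3 : ((t.out * x * (t.out)⁻¹ * t.out))⁻¹ * t.out = x⁻¹ := by group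
      simp only at h2
      rw [h3] at h2
      refine ⟨by simpa using 𝐇.inv_mem h2, ?_⟩
      have h4 := hN.conj_mem _ (hQN hx) (t.out)⁻¹
      have h5 : (t.out)⁻¹ * (t.out * x * (t.out)⁻¹) * ((t.out)⁻¹)⁻¹ = x := by group
      rwa [h5] at h4
    have hRy : ∀ x ∈ conjS (t.out)⁻¹ Q, x * ((t.out)⁻¹ * y * t.out) = ((t.out)⁻¹ * y * t.out) * x := by
      intro x hx
      rw [mem_conjS, inv_inv] at hx
      have h1 : (t.out * x * (t.out)⁻¹) * y = y * (t.out * x * (t.out)⁻¹) :=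
        Subgroup.mem_centralizer_iff.mp hy _ hx
      have h2 : x * ((t.out)⁻¹ * y * t.out) = (t.out)⁻¹ * ((t.out * x * (t.out)⁻¹) * y) * t.out := by group
      rw [h2, h1]
      group
    have hle := le_of_coeff_of_covering N hM hQN he heQ hc hcov hw' (isPGroup_conjS hQ) hRL hRy
    have heq : conjS (t.out)⁻¹ Q = Q := Subgroup.eq_of_le_of_card_ge hle (by rw [card_conjS])
    have hgH : t.out ∈ 𝐇 := by
      rw [Subgroup.mem_normalizer_iff]
      intro x
      have h1 : x ∈ Q ↔ x ∈ conjS (t.out)⁻¹ Q := by rw [heq]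
      rw [h1, mem_conjS, inv_inv]
    apply hne
    rw [← ht]
    apply QuotientGroup.eq.mpr
    simpa using 𝐇.inv_mem hgH
  have hone : ∀ q, φ q ((1 : G) : G ⧸ 𝐇) = ((1 : G) : G ⧸ 𝐇) := by
    intro q
    rw [hφ]
    apply QuotientGroup.eq.mpr
    simpa using 𝐇.inv_mem (Subgroup.le_normalizer q.2)
  have hr' : ∑ t, resC M (w t) = resC M (w ((1 : G) : G ⧸ 𝐇)) := by
    rw [hr]
    apply Finset.sum_eq_single_of_mem
    · simp only [Finset.mem_filter, Finset.mem_univ, true_and]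
      exact hone
    · intro t ht hne
      simp only [Finset.mem_filter, Finset.mem_univ, true_and] at ht
      exact hfix t ht hne
  have hw1 : w ((1 : G) : G ⧸ 𝐇) = coef (indic c) (⟨y, Subgroup.centralizer_le_normalizer _ hy⟩ : 𝐇) := by
    rw [hwmk]
    simp only [inv_one, one_mul, mul_one]
    rw [extendByZero_of_mem _ _ (Subgroup.centralizer_le_normalizer _ hy)]
  rw [hw1] at hr'
  have hind : indFun 𝐇 (coef (indic c)) y = ∑ t, w t := indFun_eq_sum_out 𝐇 hcl y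
  apply memLocalIdeal_sub_of_resC_eq (indFun_memLocalRing hcl hS y) (hS _)
  rw [hind, resC_sum _ _ (fun t _ => hwloc t)]
  exact hr'

/-- **Uniqueness in the Harris–Knörr correspondence.** -/
theorem eq_of_induced_of_covering (hM : IsPModular p M) (hQ : IsPGroup p Q) (hQN : Q ≤ N)
    {e : Set (IrrCharacter ↥𝐋)} (he : IsPBlock M e) (heQ : IsDefectGroup p M e (Q.subgroupOf 𝐋))
    {c₁ c₂ : Set (IrrCharacter 𝐇)} {B : Set (IrrCharacter G)}
    (hcov : ∃ ψ ∈ c₁, ∃ ξ ∈ e, classInner (fun l : ↥𝐋 => (ψ : 𝐇 → ℂ) (Subgroup.inclusion inf_le_left l)) (ξ : ↥𝐋 → ℂ) ≠ 0)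
    (h₁ : IsInducedBlock M 𝐇 c₁ B) (h₂ : IsInducedBlock M 𝐇 c₂ B) : c₁ = c₂ := by
  classical
  have := isPrime_of_modular hM
  have hc₁ := h₁.1
  have hcl := coef_isClassFunction (indic c₁)
  have hS : ∀ t, MemLocalRing M (coef (indic c₁) t) := indic_mem_zS hc₁
  have hxcl : IsClassFunction G (indFun 𝐇 (coef (indic c₁))) := isClassFunction_indFun 𝐇 _
  have hxS : ∀ g, MemLocalRing M (indFun 𝐇 (coef (indic c₁)) g) := indFun_memLocalRing hcl hS
  have hs := spec_mem_zS (M := M) hxcl hxS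
  have hQH : Q ≤ 𝐇 := Subgroup.le_normalizer
  -- the truncation
  let b : 𝐇 → ℂ := fun t => if (t : G) ∈ Subgroup.centralizer (Q : Set G) then coef (indic c₁) t else 0
  have hbcl : IsClassFunction 𝐇 b := by
    intro x k
    have hmem : ((k * x * k⁻¹ : 𝐇) : G) ∈ Subgroup.centralizer (Q : Set G) ↔
        (x : G) ∈ Subgroup.centralizer (Q : Set G) := by
      have hnormal : (Subgroup.centralizer (Q : Set G)).subgroupOf 𝐇 |>.Normal := by
        constructor
        intro n hn g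
        rw [Subgroup.mem_subgroupOf] at hn ⊢
        rw [Subgroup.mem_centralizer_iff] at hn ⊢
        intro q hq
        have h1 := hn _ ((Subgroup.mem_normalizer_iff.mp (𝐇.inv_mem g.2) q).mp hq)
        have h2 : ((g : G))⁻¹ * q * ((g : G)⁻¹)⁻¹ = (g : G)⁻¹ * q * (g : G) := by simp
        rw [h2] at h1
        have h3 : q * (((g * n * g⁻¹ : 𝐇)) : G) = (g : G) * (((g : G)⁻¹ * q * (g : G)) * (n : G)) * (g : G)⁻¹ := by
          push_cast
          group
        have h4 : (((g * n * g⁻¹ : 𝐇)) : G) * q = (g : G) * ((n : G) * ((g : G)⁻¹ * q * (g : G))) * (g : G)⁻¹ := by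
          push_cast
          group
        rw [h3, h4, h1]
      constructor
      · intro h
        have h1 := hnormal.conj_mem (k * x * k⁻¹) (Subgroup.mem_subgroupOf.mpr h) k⁻¹
        have h2 : k⁻¹ * (k * x * k⁻¹) * k⁻¹⁻¹ = x := by group
        rw [h2] at h1
        exact Subgroup.mem_subgroupOf.mp h1
      · intro h
        exact Subgroup.mem_subgroupOf.mp (hnormal.conj_mem x (Subgroup.mem_subgroupOf.mpr h) k)
    simp only [b, hmem]
    by_cases hx : (x : G) ∈ Subgroup.centralizer (Q : Set G)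
    · rw [if_pos hx, if_pos hx]
      exact hcl x k
    · rw [if_neg hx, if_neg hx]
  have hkey : ∀ ψ : IrrCharacter 𝐇, MemLocalIdeal M (spec (coef (indic c₁)) ψ -
      spec (Cfsg.Agent.Lib.Blocks.resFun 𝐇 (indFun 𝐇 (coef (indic c₁)))) ψ) := by
    intro ψ
    have h1 := spec_res_sub_brT 𝐇 hM hQ hQH le_rfl hxcl hxS ψ
    -- the truncation and the function
    have hdiff : IsClassFunction 𝐇 (brT 𝐇 Q (indFun 𝐇 (coef (indic c₁))) - b) :=
      IsClassFunction.sub (brT_isClassFunction 𝐇 le_rfl hxcl) hbcl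
    have h2 : MemLocalIdeal M (spec (brT 𝐇 Q (indFun 𝐇 (coef (indic c₁))) - b) ψ) := by
      apply spec_memLocalIdeal hdiff
      intro t
      by_cases ht : (t : G) ∈ Subgroup.centralizer (Q : Set G)
      · have h3 := indFun_coef_congr N hM hQ hQN he heQ hc₁ hcov ht
        simp only [Pi.sub_apply, b, if_pos ht]
        rw [brT_of_mem _ _ _ ht]
        exact h3
      · simp only [Pi.sub_apply, b, if_neg ht]
        rw [brT_of_notMem _ _ _ ht, sub_zero]
        exact memLocalIdeal_zero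
    rw [spec_sub, Pi.sub_apply] at h2
    have h3 : MemLocalIdeal M (spec (coef (indic c₁)) ψ - spec b ψ) := by
      haveI hQnormal : (Q.subgroupOf 𝐇).Normal := Subgroup.normal_in_normalizer
      rw [spec_eq_sum_classes _ hcl ψ, spec_eq_sum_classes _ hbcl ψ, ← Finset.sum_sub_distrib]
      refine MemLocalIdeal.sum _ fun K _ => ?_
      rw [← sub_mul]
      by_cases hK : ((clsRep K : 𝐇) : G) ∈ Subgroup.centralizer (Q : Set G)
      · simp only [b, if_pos hK, sub_self, zero_mul]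
        exact memLocalIdeal_zero
      · refine MemLocalIdeal.mul_left ?_ ?_
        · simp only [b, if_neg hK, sub_zero]
          exact hS _
        · refine centralChar_memLocalIdeal_of_normal hM (Q.subgroupOf 𝐇) (isPGroup_subgroupOf hQ 𝐇) _ ?_ ψ
          intro x hx hxC
          obtain ⟨k, hk⟩ := isConj_iff.mp hx
          apply hK
          have hxC' : (x : G) ∈ Subgroup.centralizer (Q : Set G) := by
            rw [Subgroup.mem_centralizer_iff] at hxC ⊢
            intro q hq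
            have h5 := hxC ⟨q, hQH hq⟩ (Subgroup.mem_subgroupOf.mpr hq)
            exact congrArg Subtype.val h5
          have hnormal : ∀ (u v : 𝐇), (u : G) ∈ Subgroup.centralizer (Q : Set G) →
              ((v * u * v⁻¹ : 𝐇) : G) ∈ Subgroup.centralizer (Q : Set G) := by
            intro u v hu
            rw [Subgroup.mem_centralizer_iff] at hu ⊢
            intro q hq
            have h6 := hu _ ((Subgroup.mem_normalizer_iff.mp (𝐇.inv_mem v.2) q).mp hq)
            have h7 : ((v : G))⁻¹ * q * ((v : G)⁻¹)⁻¹ = (v : G)⁻¹ * q * (v : G) := by simp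
            rw [h7] at h6
            have h8 : q * (((v * u * v⁻¹ : 𝐇)) : G) = (v : G) * (((v : G)⁻¹ * q * (v : G)) * (u : G)) * (v : G)⁻¹ := by
              push_cast
              group
            have h9 : (((v * u * v⁻¹ : 𝐇)) : G) * q = (v : G) * ((u : G) * ((v : G)⁻¹ * q * (v : G))) * (v : G)⁻¹ := by
              push_cast
              group
            rw [h8, h9, h6]
          have h10 := hnormal x k⁻¹ hxC'
          have h11 : k⁻¹ * x * k⁻¹⁻¹ = clsRep K := by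
            rw [← hk]
            group
          rwa [h11] at h10
    have h4 := MemLocalIdeal.add h3 (MemLocalIdeal.neg h2)
    have h5 := MemLocalIdeal.sub h4 h1
    convert h5 using 1
    ring
  obtain ⟨χ, hχ⟩ := IsPBlock.nonempty h₁.2.1
  have hval : ∀ {c : Set (IrrCharacter 𝐇)} (_ : IsInducedBlock M 𝐇 c B) {ψ : IrrCharacter 𝐇} (_ : ψ ∈ c),
      MemLocalIdeal M (indic c₁ ψ - spec (indFun 𝐇 (coef (indic c₁))) χ) := by
    intro c hc ψ hψ
    have h1 := IsInducedBlock.resPhi_congr 𝐇 hc hψ hχ hs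
    rw [resPhi, coef_spec _ hxcl] at h1
    have h2 := hkey ψ
    rw [spec_coef] at h2
    have h3 := MemLocalIdeal.add h2 h1
    convert h3 using 1
    ring
  obtain ⟨ψ₁, hψ₁⟩ := IsPBlock.nonempty h₁.1
  obtain ⟨ψ₂, hψ₂⟩ := IsPBlock.nonempty h₂.1
  have hv1 := hval h₁ hψ₁
  have hv2 := hval h₂ hψ₂
  have hψ₂₁ : ψ₂ ∈ c₁ := by
    by_contra hn
    rw [indic_apply_of_notMem hn, zero_sub] at hv2
    rw [indic_apply_of_mem hψ₁] at hv1
    have h3 := MemLocalIdeal.add hv1 hv2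
    have h4 : (1 : ℂ) - spec (indFun 𝐇 (coef (indic c₁))) χ + -spec (indFun 𝐇 (coef (indic c₁))) χ = 1 - 2 * spec (indFun 𝐇 (coef (indic c₁))) χ := by ring
    have h5 := MemLocalIdeal.sub hv1 hv2
    have h6 : (1 : ℂ) - spec (indFun 𝐇 (coef (indic c₁))) χ - -spec (indFun 𝐇 (coef (indic c₁))) χ = 1 := by ring
    rw [h6] at h5
    exact not_memLocalIdeal_one h5
  rw [blockOf_eq_of_mem hc₁ hψ₂₁, ← blockOf_eq_of_mem h₂.1 hψ₂]

end Main

end Cfsg.Agent.Lib.H8Group
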