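import Cfsg.Agent.Lib.H8Group.FusionBlocks

/-!
# Brauer pairs in a subgroup containing a centralizer
-/

set_option autoImplicit false
set_option linter.unusedSectionVars false

namespace Cfsg.Agent.Lib.H8Group

open Cfsg Cfsg.Agent.Lib.Char Cfsg.Agent.Lib.Blocks

universe u

section CenData

variable {G : Type u} [Group G] [Fintype G] {M : Ideal AlgInt} {p : ℕ} [hp : Fact p.Prime] {W R R₁ R₂ Q₀ : Subgroup G}

/-- Data relating centralizers in a subgroup and in the whole group. -/
structure CenData (R' : Subgroup W) (R : Subgroup G) : Prop where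
  le : R'.map W.subtype ≤ R
  cen_le : Subgroup.centralizer (R : Set G) ≤ W
  cen : ∀ c : W, c ∈ Subgroup.centralizer (R' : Set W) → (c : G) ∈ Subgroup.centralizer (R : Set G)

/-- The centralizer in the subgroup and in the group agree. -/
noncomputable def cenTrans {R' : Subgroup W} (h : CenData R' R) :
    Subgroup.centralizer (R' : Set W) ≃* Subgroup.centralizer (R : Set G) :=
  MulEquiv.ofBijective
    ({ toFun := fun c => ⟨((c : W) : G), h.cen c c.2⟩, map_one' := rfl, map_mul' := fun _ _ => rfl } :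
      Subgroup.centralizer (R' : Set W) →* Subgroup.centralizer (R : Set G))
    ⟨fun a b hab => Subtype.ext (Subtype.ext (congrArg (fun z : Subgroup.centralizer (R : Set G) => (z : G)) hab)),
     fun y => by
      refine ⟨⟨⟨y, h.cen_le y.2⟩, ?_⟩, rfl⟩
      rw [Subgroup.mem_centralizer_iff]
      intro r hr
      apply Subtype.ext
      exact Subgroup.mem_centralizer_iff.mp y.2 _ (h.le ⟨r, hr, rfl⟩)⟩

@[simp] theorem cenTrans_coe {R' : Subgroup W} (h : CenData R' R) (c : Subgroup.centralizer (R' : Set W)) :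
    ((cenTrans h c : Subgroup.centralizer (R : Set G)) : G) = ((c : W) : G) := rfl

@[simp] theorem cenTrans_symm_coe {R' : Subgroup W} (h : CenData R' R) (y : Subgroup.centralizer (R : Set G)) :
    ((((cenTrans h).symm y : Subgroup.centralizer (R' : Set W)) : W) : G) = y := by
  have h1 := cenTrans_coe h ((cenTrans h).symm y)
  rw [MulEquiv.apply_symm_apply] at h1
  exact h1.symm

theorem cenTrans_symm_mk {R' : Subgroup W} (h : CenData R' R) (c : Subgroup.centralizer (R' : Set W))
    (hc : ((c : W) : G) ∈ Subgroup.centralizer (R : Set G)) : (cenTrans h).symm ⟨((c : W) : G), hc⟩ = c := by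
  rw [MulEquiv.symm_apply_eq]
  rfl

theorem brauerOmega_trans {R' : Subgroup W} (h : CenData R' R) {β : G → ℂ} {β' : W → ℂ}
    (hβ : ∀ c ∈ Subgroup.centralizer (R' : Set W), β' c = β (c : G)) (ξ : Subgroup.centralizer (R : Set G) → ℂ) :
    brauerOmega R' β' (ξ ∘ cenTrans h) = brauerOmega R β ξ := by
  rw [brauerOmega, brauerOmega, ← finsum_comp_equiv (cenTrans h).toEquiv]
  refine finsum_congr fun c => ?_
  have h1 : (cenTrans h) 1 = 1 := map_one _
  simp only [MulEquiv.toEquiv_eq_coe, EquivLike.coe_coe, Function.comp_apply]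
  rw [h1, hβ c c.2]
  rfl

theorem isPGroup_of_map {R' : Subgroup W} (h : IsPGroup p (R'.map W.subtype)) : IsPGroup p R' := by
  intro x
  obtain ⟨k, hk⟩ := h ⟨((x : W) : G), ⟨x, x.2, rfl⟩⟩
  refine ⟨k, ?_⟩
  apply Subtype.ext
  apply Subtype.ext
  have h1 := congrArg (fun z : (R'.map W.subtype) => (z : G)) hk
  simpa using h1

/-- A normal subpair in the group gives a Brauer pair of the block of the subgroup. -/
theorem isBrauerPairOf_of_isNormalSubpair {R' : Subgroup W} [Fintype (Subgroup.centralizer (R : Set G))]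
    [Fintype (Subgroup.centralizer (R' : Set W))] (hcd : CenData R' R)
    {f : Set (IrrCharacter (Subgroup.centralizer (Q₀ : Set G)))} {F : Set (IrrCharacter W)} (hF : IsPBlock M F)
    (hcoef : ∀ w : W, blockCoeff F w = subgroupBlockCoeff (Subgroup.centralizer (Q₀ : Set G)) f (w : G))
    {g : Set (IrrCharacter (Subgroup.centralizer (R : Set G)))} (h : IsNormalSubpair p M Q₀ f R g) :
    IsBrauerPairOf p M F R' (transBlock (cenTrans hcd) g) := by
  classical
  letI : Fintype W := Fintype.ofFinite _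
  obtain ⟨-, ⟨hRp, hg⟩, -, -, -, hv⟩ := h
  refine ⟨⟨isPGroup_of_map (hRp.to_le hcd.le), isPBlock_transBlock _ hg⟩, hF, fun ξ' hξ' => ?_⟩
  have h1 := hv _ hξ'
  rw [← brauerOmega_trans hcd (β' := blockCoeff F) (fun c _ => hcoef c)] at h1
  have h2 : ((Cfsg.Agent.Lib.Blocks.irrComp (cenTrans hcd).symm ξ' : IrrCharacter _) : _ → ℂ) ∘ cenTrans hcd =
      (ξ' : _ → ℂ) := by
    funext c
    simp only [Cfsg.Agent.Lib.Blocks.irrComp_coe, Function.comp_apply, MulEquiv.symm_apply_apply]
  rw [h2] at h1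
  exact h1

/-- A Brauer pair of the block of the subgroup gives a normal subpair in the group. -/
theorem isNormalSubpair_of_isBrauerPairOf {R' : Subgroup W} [Fintype (Subgroup.centralizer (R : Set G))]
    [Fintype (Subgroup.centralizer (R' : Set W))] (hcd : CenData R' R)
    {f : Set (IrrCharacter (Subgroup.centralizer (Q₀ : Set G)))} {F : Set (IrrCharacter W)}
    (hcoef : ∀ w : W, blockCoeff F w = subgroupBlockCoeff (Subgroup.centralizer (Q₀ : Set G)) f (w : G))
    (hQ₀ : IsBrauerPair p M Q₀ f) (hRp : IsPGroup p R) (hQ₀R : Q₀ ≤ R) (hRN : R ≤ Subgroup.normalizer (Q₀ : Set G))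
    (hRst : ∀ x ∈ R, StabilizesBlock (Subgroup.centralizer (Q₀ : Set G)) f x)
    {g' : Set (IrrCharacter (Subgroup.centralizer (R' : Set W)))} (h : IsBrauerPairOf p M F R' g') :
    IsNormalSubpair p M Q₀ f R (transBlock (cenTrans hcd).symm g') := by
  classical
  letI : Fintype W := Fintype.ofFinite _
  obtain ⟨⟨-, hg'⟩, -, hv⟩ := h
  refine ⟨hQ₀, ⟨hRp, isPBlock_transBlock _ hg'⟩, hQ₀R, hRN, hRst, fun ξ hξ => ?_⟩
  have h1 := hv _ hξ
  rw [← brauerOmega_trans hcd (β' := blockCoeff F) (fun c _ => hcoef c)]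
  exact h1

/-- The case of a subgroup contained in the subgroup. -/
theorem cenData_map (hQ₀ : Subgroup.centralizer (Q₀ : Set G) ≤ W) {R' : Subgroup W} (h : Q₀ ≤ R'.map W.subtype) :
    CenData R' (R'.map W.subtype) where
  le := le_rfl
  cen_le := (Subgroup.centralizer_le h).trans hQ₀
  cen := by
    intro c hc
    rw [Subgroup.mem_centralizer_iff]
    rintro _ ⟨r, hr, rfl⟩
    exact congrArg Subtype.val (Subgroup.mem_centralizer_iff.mp hc r hr)

theorem cenData_of_le {R : Subgroup G} (hQ₀ : Subgroup.centralizer (Q₀ : Set G) ≤ W) (hRW : R ≤ W) (h : Q₀ ≤ R) :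
    CenData (R.subgroupOf W) R where
  le := by
    rw [Subgroup.map_subgroupOf_eq_of_le hRW]
  cen_le := (Subgroup.centralizer_le h).trans hQ₀
  cen := by
    intro c hc
    rw [Subgroup.mem_centralizer_iff]
    intro r hr
    have h1 := Subgroup.mem_centralizer_iff.mp hc ⟨r, hRW hr⟩ (Subgroup.mem_subgroupOf.mpr hr)
    exact congrArg Subtype.val h1

theorem cenData_conj (hQ₀ : Subgroup.centralizer (Q₀ : Set G) ≤ W) {R' : Subgroup W} (h : Q₀ ≤ R'.map W.subtype) :
    CenData R' (R'.map W.subtype) := cenData_map hQ₀ h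

/-- Normal inclusions in the subgroup are normal inclusions in the group. -/
theorem isNormalSubpair_lift {R₁' R₂' : Subgroup W} [Fintype (Subgroup.centralizer ((R₁'.map W.subtype : Subgroup G) : Set G))]
    [Fintype (Subgroup.centralizer (R₁' : Set W))] [Fintype (Subgroup.centralizer ((R₂'.map W.subtype : Subgroup G) : Set G))]
    [Fintype (Subgroup.centralizer (R₂' : Set W))] (hcd₁ : CenData R₁' (R₁'.map W.subtype))
    (hcd₂ : CenData R₂' (R₂'.map W.subtype))
    {x₁ : Set (IrrCharacter (Subgroup.centralizer (R₁' : Set W)))}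
    {x₂ : Set (IrrCharacter (Subgroup.centralizer (R₂' : Set W)))} (h : IsNormalSubpair p M R₁' x₁ R₂' x₂) :
    IsNormalSubpair p M (R₁'.map W.subtype) (transBlock (cenTrans hcd₁).symm x₁) (R₂'.map W.subtype)
      (transBlock (cenTrans hcd₂).symm x₂) := by
  classical
  letI : Fintype W := Fintype.ofFinite _
  obtain ⟨⟨hp₁, hx₁⟩, ⟨hp₂, hx₂⟩, hle, hN, hst, hv⟩ := h
  have hN' : R₂'.map W.subtype ≤ Subgroup.normalizer ((R₁'.map W.subtype : Subgroup G) : Set G) := by
    rintro _ ⟨y, hy, rfl⟩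
    rw [Subgroup.mem_normalizer_iff]
    intro z
    constructor
    · rintro ⟨r, hr, rfl⟩
      exact ⟨(y * r * y⁻¹ : W), (Subgroup.mem_normalizer_iff.mp (hN hy) r).mp hr, rfl⟩
    · rintro ⟨r, hr, hrz⟩
      have hzW : z ∈ W := by
        have h1 : z = (y : G)⁻¹ * (r : G) * (y : G) := by
          have h2 : (r : G) = y * z * (y : G)⁻¹ := hrz
          rw [h2]
          group
        rw [h1]
        exact W.mul_mem (W.mul_mem (W.inv_mem y.2) r.2) y.2
      refine ⟨⟨z, hzW⟩, ?_, rfl⟩
      have h1 : (r : W) = y * ⟨z, hzW⟩ * y⁻¹ := Subtype.ext hrz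
      rw [h1] at hr
      exact (Subgroup.mem_normalizer_iff.mp (hN hy) _).mpr hr
  refine ⟨⟨hp₁.map _, isPBlock_transBlock _ hx₁⟩, ⟨hp₂.map _, isPBlock_transBlock _ hx₂⟩,
    Subgroup.map_mono hle, hN', ?_, fun ξ hξ => ?_⟩
  · rintro _ ⟨y, hy, rfl⟩
    refine ⟨normalizer_le_normalizer_centralizer (hN' ⟨y, hy, rfl⟩), fun χ hχ => ?_⟩
    obtain ⟨χ₂, hχ₂, h2⟩ := (hst y hy).2 _ hχ
    refine ⟨Cfsg.Agent.Lib.Blocks.irrComp (cenTrans hcd₁).symm χ₂, ?_, fun k k' hk => ?_⟩
    · show Cfsg.Agent.Lib.Blocks.irrComp (cenTrans hcd₁).symm.symm (Cfsg.Agent.Lib.Blocks.irrComp (cenTrans hcd₁).symm χ₂) ∈ x₁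
      rwa [Cfsg.Agent.Lib.Blocks.irrComp_symm_irrComp]
    · simp only [Cfsg.Agent.Lib.Blocks.irrComp_coe, Function.comp_apply]
      have h3 := h2 ((cenTrans hcd₁).symm k) ((cenTrans hcd₁).symm k') (by
        apply Subtype.ext
        simp only [cenTrans_symm_coe, Subgroup.coe_mul, InvMemClass.coe_inv]
        exact hk)
      rw [h3]
      simp only [Cfsg.Agent.Lib.Blocks.irrComp_coe, Function.comp_apply]
      have h4 : (cenTrans hcd₁).symm.symm ((cenTrans hcd₁).symm k) = k := (cenTrans hcd₁).apply_symm_apply k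
      rw [h4]
  · have h1 := hv _ hξ
    rw [← brauerOmega_trans hcd₂ (β' := subgroupBlockCoeff (Subgroup.centralizer (R₁' : Set W)) x₁)]
    · exact h1
    · intro c hc
      have hc₁ : c ∈ Subgroup.centralizer (R₁' : Set W) := Subgroup.centralizer_le hle hc
      have hc₂ : (c : G) ∈ Subgroup.centralizer ((R₁'.map W.subtype : Subgroup G) : Set G) := hcd₁.cen c hc₁
      simp only [subgroupBlockCoeff, dif_pos hc₁, dif_pos hc₂]
      rw [blockCoeff_transBlock]
      congr 1
      exact (cenTrans_symm_mk hcd₁ ⟨c, hc₁⟩ hc₂).symm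

/-- The lift of a pair. -/
noncomputable def liftIdx (hQ₀ : Subgroup.centralizer (Q₀ : Set G) ≤ W) (a : BrauerPairIdx W)
    (h : Q₀ ≤ a.1.map W.subtype) : BrauerPairIdx G :=
  letI : Fintype (Subgroup.centralizer ((a.1.map W.subtype : Subgroup G) : Set G)) := Fintype.ofFinite _
  letI : Fintype (Subgroup.centralizer (a.1 : Set W)) := Fintype.ofFinite _
  ⟨a.1.map W.subtype, transBlock (cenTrans (cenData_map hQ₀ h)).symm a.2⟩

theorem chain_lift (hQ₀ : Subgroup.centralizer (Q₀ : Set G) ≤ W) {a b : BrauerPairIdx W}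
    (hab : Relation.ReflTransGen (NormalSubpairRel p M) a b) (ha : Q₀ ≤ a.1.map W.subtype) :
    ∃ hb : Q₀ ≤ b.1.map W.subtype,
      Relation.ReflTransGen (NormalSubpairRel p M) (liftIdx hQ₀ a ha) (liftIdx hQ₀ b hb) := by
  induction hab with
  | refl => exact ⟨ha, Relation.ReflTransGen.refl⟩
  | tail _ hstep ih =>
    rename_i b c _
    obtain ⟨hb, hchain⟩ := ih
    have hstep' : IsNormalSubpair p M b.1 b.2 c.1 c.2 := hstep
    have hc : Q₀ ≤ c.1.map W.subtype := hb.trans (Subgroup.map_mono hstep'.2.2.1)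
    refine ⟨hc, hchain.tail ?_⟩
    letI : Fintype (Subgroup.centralizer ((b.1.map W.subtype : Subgroup G) : Set G)) := Fintype.ofFinite _
    letI : Fintype (Subgroup.centralizer (b.1 : Set W)) := Fintype.ofFinite _
    letI : Fintype (Subgroup.centralizer ((c.1.map W.subtype : Subgroup G) : Set G)) := Fintype.ofFinite _
    letI : Fintype (Subgroup.centralizer (c.1 : Set W)) := Fintype.ofFinite _
    exact isNormalSubpair_lift (cenData_map hQ₀ hb) (cenData_map hQ₀ hc) hstep'

/-- Chains in the subgroup are chains in the group. -/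
theorem subpairLE_lift (hQ₀ : Subgroup.centralizer (Q₀ : Set G) ≤ W) {R₁' R₂' : Subgroup W}
    (h₁ : R₁'.map W.subtype = R₁) (h₂ : R₂'.map W.subtype = R₂) (hQ₀R₁ : Q₀ ≤ R₁)
    {x₁ : Set (IrrCharacter (Subgroup.centralizer (R₁' : Set W)))}
    {x₂ : Set (IrrCharacter (Subgroup.centralizer (R₂' : Set W)))} (hle : SubpairLE p M R₁' x₁ R₂' x₂)
    (cd₁ : CenData R₁' R₁) (cd₂ : CenData R₂' R₂) :
    letI : Fintype (Subgroup.centralizer (R₁ : Set G)) := Fintype.ofFinite _
    letI : Fintype (Subgroup.centralizer (R₁' : Set W)) := Fintype.ofFinite _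
    letI : Fintype (Subgroup.centralizer (R₂ : Set G)) := Fintype.ofFinite _
    letI : Fintype (Subgroup.centralizer (R₂' : Set W)) := Fintype.ofFinite _
    SubpairLE p M R₁ (transBlock (cenTrans cd₁).symm x₁) R₂ (transBlock (cenTrans cd₂).symm x₂) := by
  subst h₁ h₂
  obtain ⟨hb, hchain⟩ := chain_lift (a := ⟨R₁', x₁⟩) (b := ⟨R₂', x₂⟩) hQ₀ hle hQ₀R₁
  exact hchain

/-- The lift of a conjugate block. -/
theorem conjB_lift {A : Subgroup G} {A' : Subgroup W} (u : W) (cd_A : CenData A' A) {B₁ : Subgroup G}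
    (cd₁ : CenData (conjS u A') B₁) (hB : conjS (u : G) A = B₁)
    (a : Set (IrrCharacter (Subgroup.centralizer (A : Set G)))) :
    letI : Fintype (Subgroup.centralizer (A : Set G)) := Fintype.ofFinite _
    letI : Fintype (Subgroup.centralizer (A' : Set W)) := Fintype.ofFinite _
    letI : Fintype (Subgroup.centralizer (B₁ : Set G)) := Fintype.ofFinite _
    letI : Fintype (Subgroup.centralizer ((conjS u A' : Subgroup W) : Set W)) := Fintype.ofFinite _
    transBlock (cenTrans cd₁).symm (conjB u rfl (transBlock (cenTrans cd_A) a)) = conjB (u : G) hB a := by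
  classical
  letI : Fintype W := Fintype.ofFinite _
  letI : Fintype (Subgroup.centralizer (A : Set G)) := Fintype.ofFinite _
  letI : Fintype (Subgroup.centralizer (A' : Set W)) := Fintype.ofFinite _
  letI : Fintype (Subgroup.centralizer (B₁ : Set G)) := Fintype.ofFinite _
  letI : Fintype (Subgroup.centralizer ((conjS u A' : Subgroup W) : Set W)) := Fintype.ofFinite _
  ext ξ
  rw [mem_conjB]
  show Cfsg.Agent.Lib.Blocks.irrComp (cenTrans cd₁).symm.symm ξ ∈ conjB u rfl (transBlock (cenTrans cd_A) a) ↔ _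
  rw [mem_conjB]
  show Cfsg.Agent.Lib.Blocks.irrComp (cenTrans cd_A).symm
    (Cfsg.Agent.Lib.Blocks.irrComp (cenIso u rfl) (Cfsg.Agent.Lib.Blocks.irrComp (cenTrans cd₁).symm.symm ξ)) ∈ a ↔ _
  have h : Cfsg.Agent.Lib.Blocks.irrComp (cenTrans cd_A).symm
      (Cfsg.Agent.Lib.Blocks.irrComp (cenIso u rfl) (Cfsg.Agent.Lib.Blocks.irrComp (cenTrans cd₁).symm.symm ξ)) =
      Cfsg.Agent.Lib.Blocks.irrComp (cenIso (u : G) hB) ξ := by
    apply Subtype.ext
    funext c
    simp only [Cfsg.Agent.Lib.Blocks.irrComp_coe, Function.comp_apply]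
    have h0 : (cenTrans cd₁).symm.symm (cenIso u rfl ((cenTrans cd_A).symm c)) = cenIso (u : G) hB c := by
      apply Subtype.ext
      show (u : G) * ((((cenTrans cd_A).symm c : Subgroup.centralizer (A' : Set W)) : W) : G) * (u : G)⁻¹ = (u : G) * (c : G) * (u : G)⁻¹
      rw [cenTrans_symm_coe]
    rw [h0]
  rw [h]

end CenData

section MaxDefect

variable {G : Type u} [Group G] [Fintype G] {M : Ideal AlgInt} {p : ℕ} [hp : Fact p.Prime] {P : Subgroup G}

/-- A Brauer pair on a defect group is maximal. -/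
theorem isMaximalBrauerPair_of_defect (hM : IsPModular p M) {B : Set (IrrCharacter G)}
    {e : Set (IrrCharacter (Subgroup.centralizer (P : Set G)))} (h : IsBrauerPairOf p M B P e)
    (hD : IsDefectGroup p M B P) : IsMaximalBrauerPair p M B P e := by
  refine ⟨h, fun R g hRg hle => ?_⟩
  obtain ⟨R₁, g₁, hle₁, hmax₁⟩ := exists_maximal_above R g hRg
  have hD₁ := isDefectGroup_of_isMaximalBrauerPair hM hmax₁
  have h1 := card_defect_eq hM h.2.1 hD hD₁
  have h2 := Subgroup.card_le_of_le (le_of_subpairLE hle₁)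
  exact (Subgroup.eq_of_le_of_card_ge (le_of_subpairLE hle) (by rw [← h1] at *; exact h2)).symm

/-- An element of `P` fixes every block of `C_G(P)`. -/
theorem conjB_self_of_mem {n : G} (hn : n ∈ P) (h : conjS n P = P)
    (e : Set (IrrCharacter (Subgroup.centralizer (P : Set G)))) : conjB n h e = e := by
  classical
  letI : Fintype (Subgroup.centralizer (P : Set G)) := Fintype.ofFinite _
  ext ξ
  rw [mem_conjB]
  have h1 : Cfsg.Agent.Lib.Blocks.irrComp (cenIso n h) ξ = ξ := by
    apply Subtype.ext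
    funext c
    simp only [Cfsg.Agent.Lib.Blocks.irrComp_coe, Function.comp_apply]
    have h2 : cenIso n h c = c := by
      apply Subtype.ext
      have h3 := Subgroup.mem_centralizer_iff.mp c.2 n hn
      simp only [cenIso_coe]
      rw [h3]
      group
    rw [h2]
  rw [h1]

theorem conjS_self_of_mem {n : G} (hn : n ∈ P) : conjS n P = P :=
  conjS_eq_of_mem_normalizer (Subgroup.le_normalizer hn)

end MaxDefect

end Cfsg.Agent.Lib.H8Group
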