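import Cfsg.Agent.Lib.H8Group.RowForms
import Cfsg.Agent.Lib.H8Group.DefClass
import Cfsg.Agent.Lib.H8Group.CentralStruct
import Cfsg.Agent.Lib.H8Group.SubPairs

/-!
# Characters of height zero and Brauer pairs

If `χ` is a character of height zero of the block `B` and `(Q, f)` is a Brauer pair of `B`, then the `f`-part
of the restriction of `χ` to `C_G(Q)` does not vanish modulo the local ideal.  For a block `b` of
`C_G(Q)`, with `Q` abelian, the `b`-part of that restriction has a value at a defect class which is a unit.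
-/

set_option autoImplicit false
set_option linter.unusedSectionVars false
set_option linter.style.haveILetI false

namespace Cfsg.Agent.Lib.H8Group

open Cfsg Cfsg.Agent.Lib.Char Cfsg.Agent.Lib.Blocks
open scoped ComplexConjugate

universe u v

section Proj

variable {G : Type u} [Group G] [Fintype G]

theorem projOp_eq_conv (c : IrrCharacter G → ℂ) (ϑ : G → ℂ) (g : G) :
    projOp c ϑ g = conv (fun x => coef c x⁻¹) ϑ g := by
  rw [projOp, conv]
  refine Fintype.sum_equiv (Equiv.inv G) _ _ fun x => ?_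
  simp

theorem classInner_projOp_irr (d : IrrCharacter G → ℂ) {ϑ : G → ℂ} (hϑ : IsClassFunction G ϑ) (χ : IrrCharacter G) :
    classInner (projOp d ϑ) (χ : G → ℂ) = d χ * classInner ϑ (χ : G → ℂ) := by
  classical
  rw [classInner_projOp_left _ hϑ, Finset.sum_eq_single χ]
  · rw [classInner_irr_self χ.2, mul_one]
  · intro φ _ hφ
    rw [classInner_irr_of_ne φ.2 χ.2 (fun h => hφ (Subtype.ext h)), mul_zero, mul_zero]
  · simp

theorem projOp_projOp (c d : IrrCharacter G → ℂ) {ϑ : G → ℂ} (hϑ : IsClassFunction G ϑ) (g : G) :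
    projOp c (projOp d ϑ) g = projOp (c * d) ϑ g := by
  rw [projOp_eq_sum _ (projOp_isClassFunction d hϑ), projOp_eq_sum _ hϑ]
  refine Finset.sum_congr rfl fun χ _ => ?_
  rw [classInner_projOp_irr d hϑ, Pi.mul_apply]
  ring

theorem projOp_sub_left (c d : IrrCharacter G → ℂ) (ϑ : G → ℂ) (g : G) :
    projOp (c - d) ϑ g = projOp c ϑ g - projOp d ϑ g := by
  simp only [projOp, coef_sub, Pi.sub_apply, sub_mul, Finset.sum_sub_distrib]

theorem projOp_sum_left {α : Type*} (s : Finset α) (c : α → IrrCharacter G → ℂ) (ϑ : G → ℂ) (g : G) :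
    projOp (∑ a ∈ s, c a) ϑ g = ∑ a ∈ s, projOp (c a) ϑ g := by
  classical
  simp only [projOp, coef_sum, Finset.sum_apply, Finset.sum_mul]
  rw [Finset.sum_comm]

variable {M : Ideal AlgInt} {p : ℕ} [hp : Fact p.Prime]

theorem projOp_memLocalIdeal_of_coef [M.IsPrime] {c : IrrCharacter G → ℂ} (hc : CoefIdeal M c) {ϑ : G → ℂ}
    (hϑ : ∀ x, MemLocalRing M (ϑ x)) (g : G) : MemLocalIdeal M (projOp c ϑ g) :=
  MemLocalIdeal.sum _ fun x _ => MemLocalIdeal.mul_right (hc x) (hϑ _)

theorem projOp_memLocalIdeal_of_values [M.IsPrime] {c : IrrCharacter G → ℂ} (hc : c ∈ zS M G) {ϑ : G → ℂ}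
    (hϑ : ∀ x, MemLocalIdeal M (ϑ x)) (g : G) : MemLocalIdeal M (projOp c ϑ g) :=
  MemLocalIdeal.sum _ fun x _ => MemLocalIdeal.mul_left (hc x) (hϑ _)

theorem projOp_memLocalRing [M.IsPrime] {c : IrrCharacter G → ℂ} (hc : c ∈ zS M G) {ϑ : G → ℂ}
    (hϑ : ∀ x, MemLocalRing M (ϑ x)) (g : G) : MemLocalRing M (projOp c ϑ g) :=
  MemLocalRing.sum _ fun x _ => MemLocalRing.mul (hc x) (hϑ _)

/-- Transport of the operator along an isomorphism. -/
theorem projOp_transBlock {H K : Type u} [Group H] [Fintype H] [Group K] [Fintype K] (e : H ≃* K)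
    (b : Set (IrrCharacter K)) (ϑ : K → ℂ) (h : H) :
    projOp (indic (transBlock e b)) (ϑ ∘ e) h = projOp (indic b) ϑ (e h) := by
  simp only [projOp]
  refine Fintype.sum_equiv e.toEquiv _ _ fun x => ?_
  rw [coef_indic_transBlock]
  simp

end Proj

section TR

variable {C D : Type u} [Group C] [Fintype C] [Group D] [Fintype D] {Γ : Type v} [Group Γ]
  {M : Ideal AlgInt} {p : ℕ} [hp : Fact p.Prime] {ρ : Γ →* MulAut C} {ι : D →* C}

/-- **The Brauer map on class functions.** -/
theorem projOp_brauer (hM : IsPModular p M) [M.IsPrime] (hΓ : IsPGroup p Γ) (h : BrData ρ ι)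
    {c : IrrCharacter C → ℂ} (hc : c ∈ zS M C) (hcI : InvF ρ (coef c)) {ϑ : C → ℂ} (hϑ : InvF ρ ϑ)
    (hϑL : ∀ x, MemLocalRing M (ϑ x)) (t : D) :
    MemLocalIdeal M (projOp c ϑ (ι t) - projOp (brV ι c) (ϑ ∘ ι) t) := by
  have h1 : InvF ρ (fun x => coef c x⁻¹) := by
    intro γ x
    simp only
    rw [← map_inv, hcI]
  have h2 := conv_brauer hM hΓ h h1 hϑ (fun x => hc x⁻¹) hϑL t
  rw [projOp_eq_conv, projOp_eq_conv]
  convert h2 using 3
  have h3 : coef (brV ι c) = coef c ∘ ι := coef_spec _ (isClassFunction_comp (coef_isClassFunction c) ι)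
  funext y
  rw [h3]
  simp [map_inv]

open scoped Classical in
/-- The blocks of `D` which occur in the image of the block `f` of `C`. -/
noncomputable def brE (ι : D →* C) (M : Ideal AlgInt) [M.IsPrime] (f : Set (IrrCharacter C)) : Finset (Set (IrrCharacter D)) :=
  (blocksFinset M D).filter (fun e => ∀ ξ ∈ e, MemLocalIdeal M (brV ι (indic f) ξ - 1))

theorem mem_brE [M.IsPrime] {f : Set (IrrCharacter C)} {e : Set (IrrCharacter D)} :
    e ∈ brE ι M f ↔ IsPBlock M e ∧ ∀ ξ ∈ e, MemLocalIdeal M (brV ι (indic f) ξ - 1) := by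
  classical
  rw [brE, Finset.mem_filter, mem_blocksFinset]

theorem sum_indic_brE_apply [M.IsPrime] (f : Set (IrrCharacter C)) (χ : IrrCharacter D) :
    open scoped Classical in
    (∑ e ∈ brE ι M f, indic e) χ = if blockOf M (χ : D → ℂ) ∈ brE ι M f then 1 else 0 := by
  classical
  rw [Finset.sum_apply]
  split_ifs with h
  · rw [Finset.sum_eq_single (blockOf M (χ : D → ℂ))]
    · exact indic_apply_of_mem (self_mem_blockOf χ)
    · intro e he hne
      refine indic_apply_of_notMem fun hχ => hne ?_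
      exact blockOf_eq_of_mem (mem_brE.mp he).1 hχ
    · intro h2
      exact absurd h h2
  · refine Finset.sum_eq_zero fun e he => ?_
    refine indic_apply_of_notMem fun hχ => h ?_
    rw [← blockOf_eq_of_mem (mem_brE.mp he).1 hχ]
    exact he

/-- The image of a block is the sum of the blocks occurring in it. -/
theorem coefIdeal_brV_sub (hM : IsPModular p M) [M.IsPrime] (hΓ : IsPGroup p Γ) (h : BrData ρ ι)
    {f : Set (IrrCharacter C)} (hf : IsPBlock M f) (hfs : IsStable ρ f) :
    CoefIdeal M (brV ι (indic f) - ∑ e ∈ brE ι M f, indic e) := by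
  classical
  set v := brV ι (indic f) with hv
  set w : IrrCharacter D → ℂ := ∑ e ∈ brE ι M f, indic e with hw
  have hfS := indic_mem_zS hf
  have hvS : v ∈ zS M D := brV_mem_zS ι hfS
  have hwS : w ∈ zS M D := Subring.sum_mem _ fun e he => indic_mem_zS (mem_brE.mp he).1
  have hvcoef : coef v = coef (indic f) ∘ ι :=
    coef_spec _ (isClassFunction_comp (coef_isClassFunction _) ι)
  have hinv := invF_of_isStable hfs
  have hid : CoefIdeal M (v * v - v) := by
    intro t
    rw [coef_sub, coef_mul, hvcoef, Pi.sub_apply]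
    have h1 := conv_brauer hM hΓ h hinv hinv hfS hfS t
    rw [← coef_mul, indic_mul_self] at h1
    exact MemLocalIdeal.symm h1
  have hww : w * w = w := by
    funext χ
    rw [Pi.mul_apply, hw, sum_indic_brE_apply]
    split_ifs <;> simp
  have hvidem : ∀ χ, MemLocalIdeal M (v χ * v χ - v χ) := by
    intro χ
    have h1 := brV_mul hM hΓ h hfS hfS hinv hinv χ
    rw [indic_mul_self] at h1
    exact MemLocalIdeal.symm h1
  have hvloc : ∀ χ, MemLocalRing M (v χ) := fun χ => brV_memLocalRing ι hfS χ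
  have hvals : ∀ χ, MemLocalIdeal M ((v - w) χ) := by
    intro χ
    rw [Pi.sub_apply, hw, sum_indic_brE_apply]
    split_ifs with h1
    · exact (mem_brE.mp h1).2 χ (self_mem_blockOf χ)
    · rw [sub_zero]
      have h2 := hvidem χ
      have h3 : v χ * v χ - v χ = v χ * (v χ - 1) := by ring
      rw [h3] at h2
      rcases MemLocalIdeal.of_mul (hvloc χ) (MemLocalRing.sub (hvloc χ) memLocalRing_one) h2 with h4 | h4
      · exact h4
      · exfalso
        apply h1
        refine mem_brE.mpr ⟨isPBlock_blockOf χ, fun ξ hξ => ?_⟩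
        exact MemLocalIdeal.trans (brV_congr ι hfS (isPBlock_blockOf χ) hξ (self_mem_blockOf χ)) h4
  have hcube : CoefIdeal M ((v - w) ^ 3 - (v - w)) := by
    have h1 : (v - w) ^ 3 - (v - w) = (v * v - v) * (1 + v - 3 * w) := by
      linear_combination (3 * v - w - 1) * hww
    rw [h1]
    refine CoefIdeal.mul_right hid (Subring.sub_mem _ (Subring.add_mem _ (Subring.one_mem _) hvS)
      (Subring.mul_mem _ ?_ hwS))
    exact_mod_cast natCast_mem (zS M D) 3
  exact coefIdeal_of_cube hM (Subring.sub_mem _ hvS hwS) hcube hvals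

/-- **The transfer formula.** -/
theorem tr_sum (hM : IsPModular p M) [M.IsPrime] (hΓ : IsPGroup p Γ) (h : BrData ρ ι)
    {f : Set (IrrCharacter C)} (hf : IsPBlock M f) (hfs : IsStable ρ f) {ϑ : C → ℂ} (hϑ : InvF ρ ϑ)
    (hϑL : ∀ x, MemLocalRing M (ϑ x)) (t : D) :
    MemLocalIdeal M (projOp (indic f) ϑ (ι t) - projOp (∑ e ∈ brE ι M f, indic e) (ϑ ∘ ι) t) := by
  have h1 := projOp_brauer hM hΓ h (indic_mem_zS hf) (invF_of_isStable hfs) hϑ hϑL t
  have h2 := projOp_memLocalIdeal_of_coef (coefIdeal_brV_sub hM hΓ h hf hfs) (ϑ := ϑ ∘ ι)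
    (fun x => hϑL _) t
  rw [projOp_sub_left] at h2
  exact MemLocalIdeal.trans h1 h2

/-- The non-vanishing of the `e`-part of a function. -/
def NVp (M : Ideal AlgInt) {E : Type u} [Group E] [Fintype E] (e : Set (IrrCharacter E)) (ϑ : E → ℂ) : Prop :=
  ∃ w, ¬ MemLocalIdeal M (projOp (indic e) ϑ w)

/-- Down one step. -/
theorem nvp_down (hM : IsPModular p M) [M.IsPrime] (hΓ : IsPGroup p Γ) (h : BrData ρ ι)
    {f : Set (IrrCharacter C)} (hf : IsPBlock M f) (hfs : IsStable ρ f) {ϑ : C → ℂ} (hϑ : InvF ρ ϑ)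
    (hϑL : ∀ x, MemLocalRing M (ϑ x)) (hϑc : IsClassFunction C ϑ) {e : Set (IrrCharacter D)}
    (he : e ∈ brE ι M f) (hnv : NVp M e (ϑ ∘ ι)) : NVp M f ϑ := by
  classical
  by_contra hcon
  have hall : ∀ w, MemLocalIdeal M (projOp (indic f) ϑ w) := by
    intro w
    by_contra hw
    exact hcon ⟨w, hw⟩
  obtain ⟨t, ht⟩ := hnv
  apply ht
  have hcl := isClassFunction_comp hϑc ι
  have h1 : ∀ s, MemLocalIdeal M (projOp (∑ e ∈ brE ι M f, indic e) (ϑ ∘ ι) s) := by
    intro s
    have h2 := MemLocalIdeal.symm (tr_sum hM hΓ h hf hfs hϑ hϑL s)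
    simpa using MemLocalIdeal.add h2 (hall (ι s))
  have h2 := projOp_memLocalIdeal_of_values (indic_mem_zS (mem_brE.mp he).1) h1 t
  rw [projOp_projOp _ _ hcl] at h2
  have h3 : indic e * ∑ e' ∈ brE ι M f, indic e' = indic e := by
    rw [Finset.mul_sum, Finset.sum_eq_single e]
    · exact indic_mul_self e
    · intro e' he' hne
      exact indic_mul_indic_eq_zero (mem_brE.mp he).1 (mem_brE.mp he').1 (Ne.symm hne)
    · intro h4
      exact absurd he h4
  rwa [h3] at h2

/-- Up one step. -/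
theorem exists_nvp_up (hM : IsPModular p M) [M.IsPrime] (hΓ : IsPGroup p Γ) (h : BrData ρ ι)
    {f : Set (IrrCharacter C)} (hf : IsPBlock M f) (hfs : IsStable ρ f) {ϑ : C → ℂ} (hϑ : InvF ρ ϑ)
    (hϑL : ∀ x, MemLocalRing M (ϑ x)) {t : D} (ht : ¬ MemLocalIdeal M (projOp (indic f) ϑ (ι t))) :
    ∃ e ∈ brE ι M f, ¬ MemLocalIdeal M (projOp (indic e) (ϑ ∘ ι) t) := by
  by_contra hcon
  push Not at hcon
  apply ht
  have h1 := tr_sum hM hΓ h hf hfs hϑ hϑL t
  rw [projOp_sum_left] at h1
  simpa using MemLocalIdeal.add h1 (MemLocalIdeal.sum _ hcon)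

end TR

section Pairs

variable {G : Type u} [Group G] [Fintype G] {M : Ideal AlgInt} {p : ℕ} [hp : Fact p.Prime] {Q R P : Subgroup G}

theorem resCen_isClassFunction {ϑ : G → ℂ} (hϑ : IsClassFunction G ϑ) (K : Subgroup G) :
    IsClassFunction K (ϑ ∘ K.subtype) := fun g h => hϑ _ _

/-- The restriction of a class function is invariant under the action on the centralizer. -/
theorem invF_resCen {ϑ : G → ℂ} (hϑ : IsClassFunction G ϑ) (hRN : R ≤ Subgroup.normalizer (Q : Set G)) :
    InvF (cenAct Q R hRN) (ϑ ∘ (Subgroup.centralizer (Q : Set G)).subtype) := by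
  intro u c
  simp only [Function.comp_apply, Subgroup.subtype_apply, cenAct_coe]
  exact hϑ _ _

/-- Down along a normal subpair. -/
theorem nvp_step (hM : IsPModular p M) {ϑ : G → ℂ} (hϑ : IsClassFunction G ϑ) (hL : ∀ g, MemLocalRing M (ϑ g))
    [Fintype (Subgroup.centralizer (Q : Set G))] [Fintype (Subgroup.centralizer (R : Set G))]
    {f : Set (IrrCharacter (Subgroup.centralizer (Q : Set G)))} {e : Set (IrrCharacter (Subgroup.centralizer (R : Set G)))}
    (hs : IsNormalSubpair p M Q f R e)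
    (hnv : NVp M e (ϑ ∘ (Subgroup.centralizer (R : Set G)).subtype)) :
    NVp M f (ϑ ∘ (Subgroup.centralizer (Q : Set G)).subtype) := by
  have := isPrime_of_modular hM
  obtain ⟨⟨-, hf⟩, ⟨hRp, he⟩, hQR, hRN, hst, hv⟩ := hs
  have hfs := (isStable_iff_stabilizes hRN f).mpr hst
  refine nvp_down hM hRp (brData_c hQR hRN) hf hfs (invF_resCen hϑ hRN) (fun x => hL _)
    (resCen_isClassFunction hϑ _) (e := e) (mem_brE.mpr ⟨he, fun ξ hξ => ?_⟩) hnv
  rw [← brauerOmega_eq_brV_c hQR]
  exact hv ξ hξ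

/-- Down along a chain. -/
theorem nvp_chain (hM : IsPModular p M) {ϑ : G → ℂ} (hϑ : IsClassFunction G ϑ) (hL : ∀ g, MemLocalRing M (ϑ g))
    {a b : BrauerPairIdx G} (h : Relation.ReflTransGen (NormalSubpairRel p M) a b)
    (hnv : letI : Fintype (Subgroup.centralizer (b.1 : Set G)) := Fintype.ofFinite _
      NVp M b.2 (ϑ ∘ (Subgroup.centralizer (b.1 : Set G)).subtype)) :
    letI : Fintype (Subgroup.centralizer (a.1 : Set G)) := Fintype.ofFinite _
    NVp M a.2 (ϑ ∘ (Subgroup.centralizer (a.1 : Set G)).subtype) := by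
  induction h with
  | refl => exact hnv
  | tail _ hstep ih =>
    rename_i b c _
    apply ih
    letI : Fintype (Subgroup.centralizer (b.1 : Set G)) := Fintype.ofFinite _
    letI : Fintype (Subgroup.centralizer (c.1 : Set G)) := Fintype.ofFinite _
    exact nvp_step hM hϑ hL hstep hnv

/-- A conjugate of a block. -/
theorem nvp_conjB {ϑ : G → ℂ} (hϑ : IsClassFunction G ϑ) [Fintype (Subgroup.centralizer (Q : Set G))]
    [Fintype (Subgroup.centralizer (R : Set G))] (x : G) (h : conjS x Q = R)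
    {f : Set (IrrCharacter (Subgroup.centralizer (Q : Set G)))}
    (hnv : NVp M f (ϑ ∘ (Subgroup.centralizer (Q : Set G)).subtype)) :
    NVp M (conjB x h f) (ϑ ∘ (Subgroup.centralizer (R : Set G)).subtype) := by
  classical
  obtain ⟨w, hw⟩ := hnv
  refine ⟨cenIso x h w, fun hc => hw ?_⟩
  rw [conjB_eq_transBlock] at hc
  have h1 : (ϑ ∘ (Subgroup.centralizer (R : Set G)).subtype) =
      (ϑ ∘ (Subgroup.centralizer (Q : Set G)).subtype) ∘ (cenIso x h).symm := by
    funext c
    simp only [Function.comp_apply, Subgroup.subtype_apply, cenIso_symm_coe]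
    have := hϑ (c : G) x⁻¹
    simpa using this.symm
  rw [h1, projOp_transBlock] at hc
  simpa using hc

/-- **Height zero characters are nonzero on every maximal pair.** -/
theorem nvp_maximal (hM : IsPModular p M) {B : Set (IrrCharacter G)} {e : Set (IrrCharacter (Subgroup.centralizer (P : Set G)))}
    [Fintype (Subgroup.centralizer (P : Set G))]
    (hmax : IsMaximalBrauerPair p M B P e) {χ : IrrCharacter G} (hχ : χ ∈ B) (h0 : blockHeight p B (χ : G → ℂ) = 0) :
    NVp M e ((χ : G → ℂ) ∘ (Subgroup.centralizer (P : Set G)).subtype) := by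
  classical
  have := isPrime_of_modular hM
  have hB := hmax.1.2.1
  have hD := isDefectGroup_of_isMaximalBrauerPair hM hmax
  obtain ⟨y, hy, hS⟩ := isDefectGroup_iff.mp hD
  have hPp := hmax.1.1.1
  have hyP : y ∈ Subgroup.centralizer (P : Set G) := by
    rw [Subgroup.mem_centralizer_iff]
    intro t ht
    have h1 := hS.le ht
    exact (Subgroup.mem_centralizer_singleton_iff.mp h1)
  have hval := irr_not_mem_of_height_zero hM hB hy hχ h0
  have h1 : ¬ MemLocalIdeal M (projOp (indic B) (χ : G → ℂ) (Subgroup.subtype (Subgroup.centralizer (P : Set G)) ⟨y, hyP⟩)) := by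
    rw [projOp_irr, indic_apply_of_mem hχ, one_mul]
    exact hval
  have hinv : InvF (gAct P) (χ : G → ℂ) := by
    intro u g
    simp only [gAct_apply]
    exact irr_isClassFunction χ _ _
  have hLχ : ∀ g, MemLocalRing M ((χ : G → ℂ) g) := fun g => memLocalRing_of_isIntegral (irr_isIntegral χ g)
  obtain ⟨e', he', hnv⟩ := exists_nvp_up hM hPp (brData_g P) hB (isStable_g B) hinv hLχ h1
  have hpair : IsBrauerPairOf p M B P e' := by
    refine ⟨⟨hPp, (mem_brE.mp he').1⟩, hB, fun ξ hξ => ?_⟩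
    rw [brauerOmega_eq_brV_g]
    exact (mem_brE.mp he').2 ξ hξ
  obtain ⟨z, hz, hconj⟩ := exists_conj_of_maximal hM (isMaximalBrauerPair_of_defect hM hpair hD) hmax
  rw [← hconj]
  exact nvp_conjB (irr_isClassFunction χ) z hz ⟨_, hnv⟩

/-- **Height zero characters are nonzero on every Brauer pair of the block.** -/
theorem nvp_of_isBrauerPairOf (hM : IsPModular p M) {B : Set (IrrCharacter G)}
    {f : Set (IrrCharacter (Subgroup.centralizer (Q : Set G)))}
    [Fintype (Subgroup.centralizer (Q : Set G))] (hQf : IsBrauerPairOf p M B Q f) {χ : IrrCharacter G} (hχ : χ ∈ B)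
    (h0 : blockHeight p B (χ : G → ℂ) = 0) :
    NVp M f ((χ : G → ℂ) ∘ (Subgroup.centralizer (Q : Set G)).subtype) := by
  classical
  have := isPrime_of_modular hM
  obtain ⟨R', g, hle, hmax⟩ := exists_maximal_above Q f hQf
  letI : Fintype (Subgroup.centralizer (R' : Set G)) := Fintype.ofFinite _
  have h1 := nvp_maximal hM hmax hχ h0
  have h2 := nvp_chain hM (irr_isClassFunction χ) (fun g => memLocalRing_of_isIntegral (irr_isIntegral χ g)) hle h1
  convert h2

end Pairs

section Uniform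

variable {X : Type u} [Group X] [Fintype X] {M : Ideal AlgInt} {p : ℕ} [hp : Fact p.Prime] {P : Subgroup X}

/-- The centre of `P`, as a subgroup of the centralizer. -/
abbrev cenZ (P : Subgroup X) : Subgroup (Subgroup.centralizer (P : Set X)) :=
  (P ⊓ Subgroup.centralizer (P : Set X)).subgroupOf (Subgroup.centralizer (P : Set X))

/-- The block of a maximal pair has the centre of `P` as defect group. -/
theorem isDefectGroup_cenZ (hM : IsPModular p M) {B : Set (IrrCharacter X)}
    {e : Set (IrrCharacter (Subgroup.centralizer (P : Set X)))} (hmax : IsMaximalBrauerPair p M B P e) :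
    IsDefectGroup p M e (cenZ P) := by
  classical
  have := isPrime_of_modular hM
  letI : Fintype (Subgroup.centralizer (P : Set X)) := Fintype.ofFinite _
  have hB := hmax.1.2.1
  have hPe := hmax.1.1
  have he := hPe.2
  have hPp := hPe.1
  obtain ⟨D, hD, hle⟩ := exists_defect_ge_cen hM hPe le_rfl he Relation.ReflTransGen.refl
  have hrev : D ≤ cenZ P := by
    obtain ⟨y, hy, hS⟩ := isDefectGroup_iff.mp hD
    set D' : Subgroup X := D.map (Subgroup.subtype _) with hD'
    have hD'p : IsPGroup p D' := hS.isPGroup.map _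
    have hD'C : D' ≤ Subgroup.centralizer (P : Set X) := Subgroup.map_subtype_le _
    have hRp : IsPGroup p (P ⊔ D' : Subgroup X) :=
      IsPGroup.to_sup_of_normal_left' hPp hD'p (hD'C.trans (Subgroup.centralizer_le_normalizer _))
    have hRsub : P ⊔ D' ≤ P ⊔ Subgroup.centralizer (P : Set X) := sup_le_sup_left hD'C _
    have hRN : P ⊔ D' ≤ Subgroup.normalizer (P : Set X) := hRsub.trans sup_centralizer_le_normalizer
    have hyR : (y : X) ∈ Subgroup.centralizer ((P ⊔ D' : Subgroup X) : Set X) := by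
      have hle2 : P ⊔ D' ≤ Subgroup.centralizer ({(y : X)} : Set X) := by
        refine sup_le ?_ ?_
        · intro t ht
          rw [Subgroup.mem_centralizer_singleton_iff]
          exact Subgroup.mem_centralizer_iff.mp y.2 t ht
        · rintro _ ⟨t, ht, rfl⟩
          have h1 := hS.le ht
          rw [Subgroup.mem_centralizer_singleton_iff] at h1 ⊢
          exact congrArg Subtype.val h1
      rw [Subgroup.mem_centralizer_iff]
      intro t ht
      exact (Subgroup.mem_centralizer_singleton_iff.mp (hle2 ht))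
    have hyc : ¬ MemLocalIdeal M (subgroupBlockCoeff (Subgroup.centralizer (P : Set X)) e (y : X)) := by
      simp only [subgroupBlockCoeff, dif_pos y.2]
      exact hy.2.1
    obtain ⟨g, hg⟩ := exists_isNormalSubpair_of_coeff hM hRp le_sup_left hRN he
      (fun x hx => stabilizesBlock_of_mem_sup (hRsub hx) e) hyR hyc
    have hstep : SubpairLE p M P e (P ⊔ D') g :=
      Relation.ReflTransGen.single (show NormalSubpairRel p M ⟨P, e⟩ ⟨_, g⟩ from hg)
    have hRg : IsBrauerPairOf p M B (P ⊔ D') g := (isBrauerPairOf_iff_of_chain hM hstep hB).mpr hmax.1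
    have hRP := hmax.2 _ g hRg hstep
    intro u hu
    rw [Subgroup.mem_subgroupOf]
    refine ⟨?_, u.2⟩
    have h1 : (u : X) ∈ D' := ⟨u, hu, rfl⟩
    have h2 : (u : X) ∈ P ⊔ D' := Subgroup.mem_sup_right h1
    have h3 : P ⊔ D' ≤ P := hRP.le
    exact h3 h2
  have h := le_antisymm hrev hle
  rwa [← h]

/-- **All members of the block of a maximal pair are congruent.** -/
theorem maxPair_congr (hM : IsPModular p M) {B : Set (IrrCharacter X)}
    {e : Set (IrrCharacter (Subgroup.centralizer (P : Set X)))} [Fintype (Subgroup.centralizer (P : Set X))]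
    (hmax : IsMaximalBrauerPair p M B P e) {η η' : IrrCharacter (Subgroup.centralizer (P : Set X))} (hη : η ∈ e)
    (hη' : η' ∈ e) (w : Subgroup.centralizer (P : Set X)) :
    MemLocalIdeal M ((η : _ → ℂ) w - (η' : _ → ℂ) w) := by
  classical
  have := isPrime_of_modular hM
  have hD := isDefectGroup_cenZ hM hmax
  have he := hmax.1.1.2
  have hPp := hmax.1.1.1
  letI : Fintype (cenZ P) := Fintype.ofFinite _
  have hZcomm : ∀ (z : Subgroup.centralizer (P : Set X)), z ∈ cenZ P → ∀ c : Subgroup.centralizer (P : Set X), z * c = c * z := by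
    intro z hz c
    apply Subtype.ext
    have h1 : (z : X) ∈ P := (Subgroup.mem_subgroupOf.mp hz).1
    exact Subgroup.mem_centralizer_iff.mp c.2 _ h1
  haveI hZn : (cenZ P).Normal := ⟨fun n hn g => by
    have : g * n * g⁻¹ = n := by
      rw [← hZcomm n hn g]
      group
    rwa [this]⟩
  have hZp : IsPGroup p (cenZ P) := hD |> fun h => by
    obtain ⟨g, -, hS⟩ := isDefectGroup_iff.mp h
    exact hS.isPGroup
  have hG : cenZ P ⊔ Subgroup.centralizer ((cenZ P : Subgroup (Subgroup.centralizer (P : Set X))) : Set (Subgroup.centralizer (P : Set X))) = ⊤ := by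
    rw [eq_top_iff]
    intro c _
    apply Subgroup.mem_sup_right
    rw [Subgroup.mem_centralizer_iff]
    intro z hz
    exact hZcomm z hz c
  obtain ⟨θ, α, Ψ, hθ, hN, -, hΨ, hrange⟩ := normal_central_block_struct hM hZp hG he hD
  have hcommZ : ∀ a b : cenZ P, a * b = b * a := by
    intro a b
    apply Subtype.ext
    exact hZcomm _ a.2 _
  have hdeg := comm_iff_irr_degree_one.mp hcommZ
  have hreg : ∀ ξ ∈ e, ∀ r : Subgroup.centralizer (P : Set X), ¬ p ∣ orderOf r →
      (ξ : _ → ℂ) r = (θ : _ → ℂ) r := by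
    intro ξ hξ r hr
    rw [← hrange] at hξ
    obtain ⟨lam, rfl⟩ := hξ
    rw [hΨ, hN.psi_regular _ hr, hdeg, one_mul]
  obtain ⟨β, hβ⟩ := exists_isPExp (Subgroup.centralizer (P : Set X)) p
  obtain ⟨r, hzr, hcomm, ⟨k, hk⟩, hr⟩ := hβ.isPPart w
  have h1 := character_mul_congr hM (IsIrrCharacter.isCharacter η.2) hcomm hk hr
  have h2 := character_mul_congr hM (IsIrrCharacter.isCharacter η'.2) hcomm hk hr
  rw [hzr] at h1 h2
  rw [hreg η hη r hr] at h1
  rw [hreg η' hη' r hr] at h2
  exact MemLocalIdeal.trans h1 (MemLocalIdeal.symm h2)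

/-- The sum of the multiplicities in a block. -/
noncomputable def cval {E : Type u} [Group E] [Fintype E] (ϑ : E → ℂ) (e : Set (IrrCharacter E)) : ℂ :=
  ∑ η : IrrCharacter E, indic e η * classInner ϑ (η : E → ℂ)

theorem cval_memLocalRing [M.IsPrime] {E : Type u} [Group E] [Fintype E] {ϑ : E → ℂ} (hϑ : IsCharacter E ϑ)
    (e : Set (IrrCharacter E)) : MemLocalRing M (cval ϑ e) := by
  classical
  refine MemLocalRing.sum _ fun η _ => MemLocalRing.mul ?_ ?_
  · by_cases h : η ∈ e
    · rw [indic_apply_of_mem h]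
      exact memLocalRing_one
    · rw [indic_apply_of_notMem h]
      exact memLocalRing_zero
  · obtain ⟨n, hn⟩ := IsCharacter.classInner_irr_eq_nat hϑ η.2
    rw [hn]
    exact MemLocalRing.natCast n

theorem projOp_uniform (hM : IsPModular p M) {B : Set (IrrCharacter X)}
    {e : Set (IrrCharacter (Subgroup.centralizer (P : Set X)))} [Fintype (Subgroup.centralizer (P : Set X))]
    (hmax : IsMaximalBrauerPair p M B P e) {ϑ : Subgroup.centralizer (P : Set X) → ℂ}
    (hϑ : IsCharacter _ ϑ) {η₀ : IrrCharacter (Subgroup.centralizer (P : Set X))} (hη₀ : η₀ ∈ e)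
    (w : Subgroup.centralizer (P : Set X)) :
    MemLocalIdeal M (projOp (indic e) ϑ w - cval ϑ e * (η₀ : _ → ℂ) w) := by
  classical
  have := isPrime_of_modular hM
  rw [projOp_eq_sum _ (IsCharacter.isClassFunction hϑ), cval, Finset.sum_mul, ← Finset.sum_sub_distrib]
  refine MemLocalIdeal.sum _ fun η _ => ?_
  by_cases hη : η ∈ e
  · rw [indic_apply_of_mem hη, one_mul, one_mul, ← mul_sub]
    obtain ⟨n, hn⟩ := IsCharacter.classInner_irr_eq_nat hϑ η.2
    rw [hn]
    exact MemLocalIdeal.mul_left (MemLocalRing.natCast n) (maxPair_congr hM hmax hη hη₀ w)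
  · rw [indic_apply_of_notMem hη]
    simpa using memLocalIdeal_zero

theorem cval_conjB {ϑ : X → ℂ} (hϑ : IsClassFunction X ϑ) [Fintype (Subgroup.centralizer (P : Set X))] (z : X)
    (hz : conjS z P = P) (e : Set (IrrCharacter (Subgroup.centralizer (P : Set X)))) :
    cval (ϑ ∘ (Subgroup.centralizer (P : Set X)).subtype) (conjB z hz e) =
      cval (ϑ ∘ (Subgroup.centralizer (P : Set X)).subtype) e := by
  classical
  rw [cval, cval]
  refine Fintype.sum_equiv (irrCompEquiv (cenIso z hz)) _ _ fun ξ => ?_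
  show indic (conjB z hz e) ξ * _ = indic e (irrComp (cenIso z hz) ξ) * _
  have h1 : indic (conjB z hz e) ξ = indic e (irrComp (cenIso z hz) ξ) := by
    by_cases h : irrComp (cenIso z hz) ξ ∈ e
    · rw [indic_apply_of_mem h, indic_apply_of_mem ((mem_conjB z hz e ξ).mpr h)]
    · rw [indic_apply_of_notMem h, indic_apply_of_notMem (fun h2 => h ((mem_conjB z hz e ξ).mp h2))]
  rw [h1]
  congr 1
  have h2 : (ϑ ∘ (Subgroup.centralizer (P : Set X)).subtype) =
      (ϑ ∘ (Subgroup.centralizer (P : Set X)).subtype) ∘ cenIso z hz := by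
    funext c
    simp only [Function.comp_apply, Subgroup.subtype_apply, cenIso_coe]
    exact (hϑ _ _).symm
  rw [← classInner_comp_mulEquiv (cenIso z hz) (ϑ ∘ (Subgroup.centralizer (P : Set X)).subtype) (ξ : _ → ℂ), ← h2]
  rfl

/-- **Local to global for a block.** -/
theorem lg_value (hM : IsPModular p M) {b : Set (IrrCharacter X)}
    {e : Set (IrrCharacter (Subgroup.centralizer (P : Set X)))} [Fintype (Subgroup.centralizer (P : Set X))]
    (hmax : IsMaximalBrauerPair p M b P e) {y : X} (hy : IsDefectClass M b y)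
    (hyP : y ∈ Subgroup.centralizer (P : Set X)) {ϑ : X → ℂ} (hϑ : IsCharacter X ϑ)
    (hnv : NVp M e (ϑ ∘ (Subgroup.centralizer (P : Set X)).subtype)) :
    ¬ MemLocalIdeal M (projOp (indic b) ϑ y) := by
  classical
  have := isPrime_of_modular hM
  have hb := hmax.1.2.1
  have hPp := hmax.1.1.1
  have he := hmax.1.1.2
  have hD := isDefectGroup_of_isMaximalBrauerPair hM hmax
  obtain ⟨η₀, hη₀⟩ := IsPBlock.nonempty he
  haveI : Nonempty (IrrCharacter (Subgroup.centralizer (P : Set X))) := ⟨η₀⟩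
  set ι : Subgroup.centralizer (P : Set X) →* X := Subgroup.subtype _ with hι
  set E := brE ι M b with hE
  have hpick : ∀ e' ∈ E, ∃ η, η ∈ e' := fun e' he' => IsPBlock.nonempty (mem_brE.mp he').1
  choose! pick hpickm using hpick
  set S : ℂ := ∑ e' ∈ E, ((pick e' : IrrCharacter (Subgroup.centralizer (P : Set X))) : Subgroup.centralizer (P : Set X) → ℂ) ⟨y, hyP⟩ with hS
  have hSL : MemLocalRing M S := MemLocalRing.sum _ fun e' _ =>
    memLocalRing_of_isIntegral (irr_isIntegral _ _)
  -- the main congruence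
  have key : ∀ {ϑ' : X → ℂ}, IsCharacter X ϑ' →
      MemLocalIdeal M (projOp (indic b) ϑ' y - cval (ϑ' ∘ ι) e * S) := by
    intro ϑ' hϑ'
    have hcl := IsCharacter.isClassFunction hϑ'
    have hinv : InvF (gAct P) ϑ' := by
      intro u g
      simp only [gAct_apply]
      exact hcl _ _
    have hL : ∀ g, MemLocalRing M (ϑ' g) := fun g => memLocalRing_of_isIntegral (IsCharacter.isIntegral hϑ' g)
    have h1 := tr_sum hM hPp (brData_g P) hb (isStable_g b) hinv hL ⟨y, hyP⟩
    refine MemLocalIdeal.trans h1 ?_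
    rw [projOp_sum_left, hS, Finset.mul_sum, ← Finset.sum_sub_distrib]
    refine MemLocalIdeal.sum _ fun e' he' => ?_
    have hpair : IsBrauerPairOf p M b P e' := by
      refine ⟨⟨hPp, (mem_brE.mp he').1⟩, hb, fun ξ hξ => ?_⟩
      rw [brauerOmega_eq_brV_g]
      exact (mem_brE.mp he').2 ξ hξ
    have hmax' := isMaximalBrauerPair_of_defect hM hpair hD
    obtain ⟨z, hz, hconj⟩ := exists_conj_of_maximal hM hmax hmax'
    have h2 : cval (ϑ' ∘ ι) e = cval (ϑ' ∘ ι) e' := by
      rw [← hconj]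
      exact (cval_conjB hcl z hz e).symm
    rw [h2]
    exact projOp_uniform hM hmax' (IsCharacter.comp hϑ' ι) (hpickm e' he') _
  -- a character of height zero
  obtain ⟨ψ₀, hψ₀, h00⟩ := exists_height_zero (p := p) (IsPBlock.nonempty hb)
  have hψ₀c := IsIrrCharacter.isCharacter ψ₀.2
  have hval := irr_not_mem_of_height_zero hM hb hy hψ₀ h00
  have hSne : ¬ MemLocalIdeal M S := by
    intro hS0
    apply hval
    have h1 := key hψ₀c
    rw [projOp_irr, indic_apply_of_mem hψ₀, one_mul] at h1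
    have h2 := MemLocalIdeal.mul_left (cval_memLocalRing (IsCharacter.comp hψ₀c ι) e) hS0
    simpa using MemLocalIdeal.add h1 h2
  have hcne : ¬ MemLocalIdeal M (cval (ϑ ∘ ι) e) := by
    obtain ⟨w, hw⟩ := hnv
    intro hc0
    apply hw
    have h1 := projOp_uniform hM hmax (IsCharacter.comp hϑ ι) hη₀ w
    have h2 := MemLocalIdeal.mul_right hc0 (memLocalRing_of_isIntegral (M := M) (irr_isIntegral η₀ w))
    simpa using MemLocalIdeal.add h1 h2
  intro hA
  have h1 := key hϑ
  have h2 : MemLocalIdeal M (cval (ϑ ∘ ι) e * S) := by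
    have h3 := MemLocalIdeal.symm h1
    simpa using MemLocalIdeal.add h3 hA
  rcases MemLocalIdeal.of_mul (cval_memLocalRing (IsCharacter.comp hϑ ι) e) hSL h2 with h3 | h3
  · exact hcne h3
  · exact hSne h3

end Uniform

section Link

variable {G : Type u} [Group G] [Fintype G] {M : Ideal AlgInt} {p : ℕ} [hp : Fact p.Prime] {Q₀ : Subgroup G}

local notation "𝐖" => Subgroup.centralizer ((Q₀ : Subgroup G) : Set G)

/-- **The block part of a height zero character has a unit value at a defect class.** -/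
theorem exists_defectClass_unit (hM : IsPModular p M) (hQ₀ : IsPGroup p Q₀) (hab : Q₀ ≤ Subgroup.centralizer (Q₀ : Set G))
    [Fintype (Subgroup.centralizer (Q₀ : Set G))] {b : Set (IrrCharacter (Subgroup.centralizer (Q₀ : Set G)))}
    {B : Set (IrrCharacter G)} (hind : IsInducedBlock M (Subgroup.centralizer (Q₀ : Set G)) b B) {χ : IrrCharacter G}
    (hχ : χ ∈ B) (h0 : blockHeight p B (χ : G → ℂ) = 0) :
    ∃ y : Subgroup.centralizer (Q₀ : Set G), IsDefectClass M b y ∧
      ¬ MemLocalIdeal M (projOp (indic b) ((χ : G → ℂ) ∘ (Subgroup.centralizer (Q₀ : Set G)).subtype) y) := by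
  classical
  have := isPrime_of_modular hM
  have hb := hind.1
  have hB := hind.2.1
  obtain ⟨P', e', hmax⟩ := exists_isMaximalBrauerPair hM hb
  have hP'D := isDefectGroup_of_isMaximalBrauerPair hM hmax
  haveI hQW : (Q₀.subgroupOf 𝐖).Normal := ⟨fun n hn g => by
    have h1 : g * n * g⁻¹ = n := by
      have h2 : (n : G) * g = g * n := Subgroup.mem_centralizer_iff.mp g.2 n (Subgroup.mem_subgroupOf.mp hn)
      apply Subtype.ext
      simp only [Subgroup.coe_mul, InvMemClass.coe_inv]
      rw [← h2]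
      group
    rwa [h1]⟩
  have hQpc : Q₀.subgroupOf 𝐖 ≤ pCore p 𝐖 := Cfsg.Agent.Lib.Basic.le_pCore hQW (isPGroup_subgroupOf hQ₀ 𝐖)
  have hQ₀P : Q₀ ≤ P'.map 𝐖.subtype := by
    intro q hq
    have h1 : (⟨q, hab hq⟩ : 𝐖) ∈ Q₀.subgroupOf 𝐖 := Subgroup.mem_subgroupOf.mpr hq
    exact ⟨⟨q, hab hq⟩, IsDefectGroup.pCore_le hM hb hP'D (hQpc h1), rfl⟩
  have hcd : CenData P' (P'.map 𝐖.subtype) := cenData_map (le_refl 𝐖) hQ₀P
  letI : Fintype (Subgroup.centralizer ((P'.map 𝐖.subtype : Subgroup G) : Set G)) := Fintype.ofFinite _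
  letI : Fintype (Subgroup.centralizer (P' : Set 𝐖)) := Fintype.ofFinite _
  have hRp : IsPGroup p (P'.map 𝐖.subtype) := hmax.1.1.1.map _
  have hRN : P'.map 𝐖.subtype ≤ Subgroup.normalizer (Q₀ : Set G) :=
    (Subgroup.map_subtype_le _).trans (Subgroup.centralizer_le_normalizer _)
  have hRst : ∀ x ∈ P'.map 𝐖.subtype, StabilizesBlock 𝐖 b x := fun x hx =>
    stabilizesBlock_of_mem_sup (Subgroup.mem_sup_right (Subgroup.map_subtype_le _ hx)) b
  have hcoef : ∀ w : 𝐖, blockCoeff b w = subgroupBlockCoeff 𝐖 b (w : G) := by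
    intro w
    simp only [subgroupBlockCoeff, dif_pos w.2]
  have hstep := isNormalSubpair_of_isBrauerPairOf hcd hcoef ⟨hQ₀, hb⟩ hRp hQ₀P hRN hRst hmax.1
  have hQb : IsBrauerPairOf p M B Q₀ b := (isBrauerPairOf_iff hM hQ₀ hb).mpr hind
  have hPt : IsBrauerPairOf p M B (P'.map 𝐖.subtype) (transBlock (cenTrans hcd).symm e') :=
    (isBrauerPairOf_iff_of_chain hM (Relation.ReflTransGen.single (show NormalSubpairRel p M ⟨Q₀, b⟩ ⟨_, _⟩ from hstep)) hB).mpr hQb
  obtain ⟨w, hw⟩ := nvp_of_isBrauerPairOf hM hPt hχ h0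
  have hfun : (χ : G → ℂ) ∘ (Subgroup.centralizer ((P'.map 𝐖.subtype : Subgroup G) : Set G)).subtype =
      (((χ : G → ℂ) ∘ 𝐖.subtype) ∘ (Subgroup.centralizer (P' : Set 𝐖)).subtype) ∘ (cenTrans hcd).symm := by
    funext c
    simp only [Function.comp_apply, Subgroup.subtype_apply, cenTrans_symm_coe]
  rw [hfun, projOp_transBlock] at hw
  have hnv' : NVp M e' (((χ : G → ℂ) ∘ 𝐖.subtype) ∘ (Subgroup.centralizer (P' : Set 𝐖)).subtype) := ⟨_, hw⟩
  obtain ⟨y, hy, hS⟩ := isDefectGroup_iff.mp hP'D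
  have hyP : y ∈ Subgroup.centralizer (P' : Set 𝐖) := by
    rw [Subgroup.mem_centralizer_iff]
    intro t ht
    exact Subgroup.mem_centralizer_singleton_iff.mp (hS.le ht)
  exact ⟨y, hy, lg_value hM hmax hy hyP (IsCharacter.comp (IsIrrCharacter.isCharacter χ.2) 𝐖.subtype) hnv'⟩

end Link

section Deg

variable {G : Type u} [Group G] [Fintype G] {M : Ideal AlgInt} {p : ℕ} [hp : Fact p.Prime]
variable {H : Subgroup G} [Fintype H]

open scoped Classical

/-- The values at a defect class are proportional to the reduced degrees. -/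
theorem exists_unit_value (hM : IsPModular p M) {b : Set (IrrCharacter H)} (hb : IsPBlock M b) {y : H}
    (hy : IsDefectClass M b y) :
    ∃ u : ℂ, MemLocalRing M u ∧ ∀ ψ ∈ b, MemLocalIdeal M ((ψ : H → ℂ) y - (degQ p b ψ : ℂ) * u) := by
  have := isPrime_of_modular hM
  have hpp : p.Prime := hp.out
  obtain ⟨ψ₀, hψ₀, h00⟩ := exists_height_zero (p := p) (IsPBlock.nonempty hb)
  set I := (Subgroup.centralizer ({y} : Set H)).index with hI
  have hI0 : I ≠ 0 := Subgroup.index_ne_zero_of_finite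
  have hval : I.factorization p = minVal p b := (sInf_degree_eq_of_defectClass hM hb hy).symm
  set I' := I / p ^ minVal p b with hI'
  have hIeq : I = p ^ minVal p b * I' := by
    rw [hI', Nat.mul_div_cancel' ]
    rw [← hval]
    exact Nat.ordProj_dvd _ _
  have hI'nd : ¬ p ∣ I' := by
    rw [hI', ← hval]
    exact Nat.not_dvd_ordCompl hpp hI0
  set v₀ := centralChar (ψ₀ : H → ℂ) y with hv₀
  have hv₀L : MemLocalRing M v₀ := zS_apply_mem (centralChar_mem_zS (M := M) y) ψ₀
  refine ⟨v₀ * (I' : ℂ)⁻¹, MemLocalRing.mul hv₀L (inv_natCast_memLocalRing hM hI'nd), fun ψ hψ => ?_⟩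
  have h1 := zS_apply_congr hb (centralChar_mem_zS (M := M) y) hψ hψ₀
  have h2 : centralChar (ψ : H → ℂ) y = ((I' : ℂ) / (degQ p b ψ : ℂ)) * (ψ : H → ℂ) y := by
    rw [centralChar_eq_div_mul, ← hI, hIeq, degQ_spec (p := p) hψ]
    have hP : ((p ^ minVal p b : ℕ) : ℂ) ≠ 0 := by exact_mod_cast pow_ne_zero _ hpp.ne_zero
    have hd : (degQ p b ψ : ℂ) ≠ 0 := by exact_mod_cast degQ_ne_zero hψ
    push_cast
    push_cast at hP
    field_simp
  have hI'0 : (I' : ℂ) ≠ 0 := natCast_ne_zero_of_not_dvd hI'nd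
  have hd : (degQ p b ψ : ℂ) ≠ 0 := by exact_mod_cast degQ_ne_zero hψ
  have h3 := MemLocalIdeal.mul_left (MemLocalRing.mul (inv_natCast_memLocalRing hM hI'nd) (MemLocalRing.natCast (degQ p b ψ))) h1
  rw [h2] at h3
  convert h3 using 1
  field_simp
  rw [hv₀]

/-- **The degree form does not vanish at a height zero character.** -/
theorem not_dvd_of_defectClass (hM : IsPModular p M) {b : Set (IrrCharacter H)} (hb : IsPBlock M b) (χ : IrrCharacter G)
    {y : H} (hy : IsDefectClass M b y)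
    (hval : ¬ MemLocalIdeal M (projOp (indic b) ((χ : G → ℂ) ∘ H.subtype) y)) :
    ¬ (p : ℤ) ∣ ∑ ψ : {ψ : IrrCharacter H // ψ ∈ b}, (resMul H χ ψ : ℤ) * degF p b ψ := by
  have := isPrime_of_modular hM
  obtain ⟨u, huL, hu⟩ := exists_unit_value hM hb hy
  intro hd
  apply hval
  have hcl := IsCharacter.isClassFunction (IsCharacter.comp (IsIrrCharacter.isCharacter χ.2) H.subtype)
  have h1 : projOp (indic b) ((χ : G → ℂ) ∘ H.subtype) y =
      ∑ ψ : {ψ : IrrCharacter H // ψ ∈ b}, (resMul H χ ψ : ℂ) * ((ψ : IrrCharacter H) : H → ℂ) y := by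
    rw [projOp_eq_sum _ hcl, ← Finset.sum_filter_add_sum_filter_not Finset.univ (· ∈ b)]
    have h2 : ∑ ψ ∈ Finset.univ.filter (fun ψ : IrrCharacter H => ¬ ψ ∈ b), indic b ψ *
        (classInner ((χ : G → ℂ) ∘ H.subtype) (ψ : H → ℂ) * (ψ : H → ℂ) y) = 0 := by
      refine Finset.sum_eq_zero fun ψ hψ => ?_
      rw [indic_apply_of_notMem (Finset.mem_filter.mp hψ).2, zero_mul]
    rw [h2, add_zero, Finset.sum_subtype (p := (· ∈ b)) _ (fun ψ => by simp)]
    refine Finset.sum_congr rfl fun ψ _ => ?_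
    rw [indic_apply_of_mem ψ.2, one_mul, classInner_res_eq]
  have h3 : MemLocalIdeal M (((∑ ψ : {ψ : IrrCharacter H // ψ ∈ b}, (resMul H χ ψ : ℤ) * degF p b ψ : ℤ) : ℂ)) :=
    (intCast_memLocalIdeal_iff hM _).mpr hd
  have h4 := MemLocalIdeal.mul_right h3 huL
  rw [h1]
  have h5 : MemLocalIdeal M (∑ ψ : {ψ : IrrCharacter H // ψ ∈ b}, (resMul H χ ψ : ℂ) * ((ψ : IrrCharacter H) : H → ℂ) y -
      ((∑ ψ : {ψ : IrrCharacter H // ψ ∈ b}, (resMul H χ ψ : ℤ) * degF p b ψ : ℤ) : ℂ) * u) := by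
    push_cast
    rw [Finset.sum_mul, ← Finset.sum_sub_distrib]
    refine MemLocalIdeal.sum _ fun ψ _ => ?_
    have h6 := MemLocalIdeal.mul_left (MemLocalRing.natCast (resMul H χ ψ)) (hu ψ ψ.2)
    convert h6 using 1
    simp only [degF]
    push_cast
    ring
  simpa using MemLocalIdeal.add h5 h4

end Deg

section Main

variable {G : Type u} [Group G] [Fintype G] {M : Ideal AlgInt} {p : ℕ} [hp : Fact p.Prime]
variable {H : Subgroup G} [Fintype H] {x : H}

open scoped Classical

/-- The centralizer of a `p`-element in terms of the subgroup it generates. -/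
theorem exists_height_zero_eq_aux (hM : IsPModular p M) (hxp : ∃ k, orderOf (x : G) = p ^ k)
    {Q₀ : Subgroup G} (hQ₀ : IsPGroup p Q₀) (hab : Q₀ ≤ Subgroup.centralizer (Q₀ : Set G)) :
    ∀ (C : Subgroup G) [Fintype C], C = Subgroup.centralizer (Q₀ : Set G) → ∀ {b : Set (IrrCharacter C)}
      {B : Set (IrrCharacter G)} (_ : IsInducedBlock M C b B) {χ : IrrCharacter G} (_ : χ ∈ B)
      (_ : blockHeight p B (χ : G → ℂ) = 0),
      ¬ (p : ℤ) ∣ ∑ ψ : {ψ : IrrCharacter C // ψ ∈ b}, (resMul C χ ψ : ℤ) * degF p b ψ := by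
  intro C _ hC b B hind χ hχ h0
  subst hC
  obtain ⟨y, hy, hval⟩ := exists_defectClass_unit hM hQ₀ hab hind hχ h0
  exact not_dvd_of_defectClass hM hind.1 χ hy hval

/-- **Characters of height zero lie in the good set of a subsection.** -/
theorem height_zero_row (hM : IsPModular p M) (hH : ∀ w : G, w ∈ H ↔ Commute w (x : G))
    (hxp : ∃ k, orderOf (x : G) = p ^ k) {b : Set (IrrCharacter H)} {B : Set (IrrCharacter G)}
    (hind : IsInducedBlock M H b B) {χ : IrrCharacter G} (hχ : χ ∈ B) (h0 : blockHeight p B (χ : G → ℂ) = 0) :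
    ¬ (p : ℤ) ∣ ∑ ψ : {ψ : IrrCharacter H // ψ ∈ b}, (resMul H χ ψ : ℤ) * degF p b ψ := by
  have hQ₀ : IsPGroup p (Subgroup.zpowers (x : G)) := isPGroup_zpowers hxp
  have hC : H = Subgroup.centralizer ((Subgroup.zpowers (x : G) : Subgroup G) : Set G) := by
    rw [centralizer_zpowers_eq]
    ext w
    rw [hH, Subgroup.mem_centralizer_singleton_iff]
    rfl
  have hab : Subgroup.zpowers (x : G) ≤ Subgroup.centralizer ((Subgroup.zpowers (x : G) : Subgroup G) : Set G) := by
    rw [← hC, Subgroup.zpowers_le]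
    exact x.2
  exact exists_height_zero_eq_aux hM hxp hQ₀ hab H hC hind hχ h0

end Main

end Cfsg.Agent.Lib.H8Group
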