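import Cfsg.Agent.Lib.H8Group.GradedNil
import Cfsg.Agent.Lib.Blocks.Nil

/-!
# The centralizer of a normal subgroup in the group algebra, graded by the quotient
-/

set_option autoImplicit false
set_option linter.unusedSectionVars false

namespace Cfsg.Agent.Lib.H8Group

open Cfsg.Agent.Lib.Blocks MonoidAlgebra

section Alg

variable {F : Type*} [CommRing F] {G : Type*} [Group G]

/-- An element of the group algebra from its coefficients. -/
noncomputable def mkAlg [Finite G] (f : G → F) : MonoidAlgebra F G := ofCoeff (Finsupp.equivFunOnFinite.symm f)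

@[simp] theorem coeff_mkAlg [Finite G] (f : G → F) (g : G) : (mkAlg f).coeff g = f g := rfl

theorem alg_ext {x y : MonoidAlgebra F G} (h : ∀ g, x.coeff g = y.coeff g) : x = y :=
  MonoidAlgebra.ext (Finsupp.ext h)

variable [Fintype G]

theorem coeff_mul_eq_sum (x y : MonoidAlgebra F G) (g : G) :
    (x * y).coeff g = ∑ u, x.coeff u * y.coeff (u⁻¹ * g) := by
  classical
  rw [coeff_mul, Finsupp.sum_fintype _ _ (by simp)]
  refine Finset.sum_congr rfl fun u _ => ?_
  rw [Finsupp.sum_fintype _ _ (by simp), Finset.sum_eq_single (u⁻¹ * g)]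
  · simp
  · intro v _ hv
    rw [if_neg]
    intro h
    apply hv
    rw [← h]
    simp
  · simp

/-- The Brauer vanishing lemma: a `Q`-invariant element vanishing on `C_G(Q)` stays so after
multiplying by a `Q`-invariant element. -/
theorem coeff_mul_eq_zero_of_vanish {p : ℕ} [Fact p.Prime] (hp0 : (p : F) = 0) {Q : Subgroup G}
    (hQ : IsPGroup p Q) {x v : MonoidAlgebra F G}
    (hx : ∀ q ∈ Q, ∀ g, x.coeff (q * g * q⁻¹) = x.coeff g)
    (hv : ∀ q ∈ Q, ∀ g, v.coeff (q * g * q⁻¹) = v.coeff g)
    (h0 : ∀ g ∈ Subgroup.centralizer (Q : Set G), x.coeff g = 0) {w : G}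
    (hw : w ∈ Subgroup.centralizer (Q : Set G)) : (x * v).coeff w = 0 := by
  classical
  rw [coeff_mul_eq_sum]
  obtain ⟨r, hr⟩ := exists_sum_sub_fixed hQ (conjPerm Q) (fun u => x.coeff u * v.coeff (u⁻¹ * w)) (by
    intro s u
    simp only [conjPerm_apply]
    rw [hx _ s.2]
    congr 1
    have hts : (s : G) * w = w * s := (Subgroup.mem_centralizer_iff.mp hw) s s.2
    have h2 : ((s : G) * u * (s : G)⁻¹)⁻¹ * w = (s : G) * (u⁻¹ * w) * (s : G)⁻¹ := by
      have : w = (s : G) * w * (s : G)⁻¹ := by rw [hts]; group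
      calc ((s : G) * u * (s : G)⁻¹)⁻¹ * w
          = ((s : G) * u * (s : G)⁻¹)⁻¹ * ((s : G) * w * (s : G)⁻¹) := by rw [← this]
        _ = (s : G) * (u⁻¹ * w) * (s : G)⁻¹ := by group
    rw [h2, hv _ s.2])
  rw [hr, nsmul_eq_mul, hp0, zero_mul, add_zero]
  apply Finset.sum_eq_zero
  intro u hu
  have hu' : ∀ γ, conjPerm Q γ u = u := by simpa using hu
  rw [h0 u ((conjPerm_fixed_iff Q u).mp hu'), zero_mul]

/-- The centralizer of the group elements of `N` in the group algebra. -/
noncomputable def cenN (N : Subgroup G) : Subring (MonoidAlgebra F G) :=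
  Subring.centralizer (Set.range fun n : N => (single (n : G) (1 : F) : MonoidAlgebra F G))

theorem mem_cenN_iff {N : Subgroup G} {y : MonoidAlgebra F G} :
    y ∈ cenN N ↔ ∀ n ∈ N, ∀ g, y.coeff (n * g * n⁻¹) = y.coeff g := by
  rw [cenN, Subring.mem_centralizer_iff]
  constructor
  · intro h n hn g
    have h1 := h _ ⟨⟨n, hn⟩, rfl⟩
    have h2 := congrArg (fun z => z.coeff (n * g)) h1
    simp only [coeff_single_mul_apply, coeff_mul_single_apply, one_mul, mul_one] at h2
    rw [inv_mul_cancel_left] at h2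
    exact h2.symm
  · rintro h _ ⟨n, rfl⟩
    apply alg_ext
    intro g
    simp only [coeff_single_mul_apply, coeff_mul_single_apply, one_mul, mul_one]
    have h2 := h n n.2 ((n : G)⁻¹ * g)
    rw [← h2]
    congr 1
    group

variable (N : Subgroup G) [hN : N.Normal]

/-- The elements of the centralizer supported on a coset. -/
def homS (t : G ⧸ N) : Set (cenN (F := F) N) := {y | ∀ g, (y : MonoidAlgebra F G).coeff g ≠ 0 → (g : G ⧸ N) = t}

theorem one_mem_homS : (1 : cenN (F := F) N) ∈ homS N 1 := by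
  classical
  intro g hg
  have h1 : ((1 : cenN (F := F) N) : MonoidAlgebra F G).coeff g = (single (1 : G) (1 : F) : MonoidAlgebra F G).coeff g := rfl
  rw [h1, coeff_single, Finsupp.single_apply] at hg
  split_ifs at hg with h
  · rw [← h]
    rfl
  · exact absurd rfl hg

theorem mul_mem_homS (s t : G ⧸ N) (a b : cenN (F := F) N) (ha : a ∈ homS N s) (hb : b ∈ homS N t) :
    a * b ∈ homS N (s * t) := by
  intro g hg
  have h1 : ((a * b : cenN (F := F) N) : MonoidAlgebra F G).coeff g ≠ 0 := hg
  rw [Subring.coe_mul, coeff_mul_eq_sum] at h1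
  obtain ⟨u, -, hu⟩ := Finset.exists_ne_zero_of_sum_ne_zero h1
  have h2 := ha u (left_ne_zero_of_mul hu)
  have h3 := hb _ (right_ne_zero_of_mul hu)
  rw [← h2, ← h3, ← QuotientGroup.mk_mul]
  simp

/-- The restriction to a coset. -/
noncomputable def resCoset (t : G ⧸ N) (y : MonoidAlgebra F G) : MonoidAlgebra F G := by
  classical
  exact mkAlg fun g => if (g : G ⧸ N) = t then y.coeff g else 0

theorem coeff_resCoset (t : G ⧸ N) (y : MonoidAlgebra F G) (g : G) [Decidable ((g : G ⧸ N) = t)] :
    (resCoset N t y).coeff g = if (g : G ⧸ N) = t then y.coeff g else 0 := by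
  classical
  simp only [resCoset, coeff_mkAlg]
  split_ifs <;> rfl

theorem mk_conj_eq {n : G} (hn : n ∈ N) (g : G) : ((n * g * n⁻¹ : G) : G ⧸ N) = g := by
  rw [QuotientGroup.eq]
  have h3 : (n * g * n⁻¹)⁻¹ * g = n * (g⁻¹ * n⁻¹ * g) := by group
  rw [h3]
  refine N.mul_mem hn ?_
  simpa using hN.conj_mem _ (N.inv_mem hn) g⁻¹

theorem resCoset_mem (t : G ⧸ N) {y : MonoidAlgebra F G} (hy : y ∈ cenN N) : resCoset N t y ∈ cenN N := by
  classical
  rw [mem_cenN_iff] at hy ⊢
  intro n hn g
  rw [coeff_resCoset, coeff_resCoset, mk_conj_eq N hn, hy n hn]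

/-- The homogeneous components of an element of the centralizer. -/
noncomputable def homComp (y : cenN (F := F) N) (t : G ⧸ N) : cenN (F := F) N :=
  ⟨resCoset N t (y : MonoidAlgebra F G), resCoset_mem N t y.2⟩

theorem homComp_mem (y : cenN (F := F) N) (t : G ⧸ N) : homComp N y t ∈ homS N t := by
  classical
  intro g hg
  by_contra h
  apply hg
  show (resCoset N t (y : MonoidAlgebra F G)).coeff g = 0
  rw [coeff_resCoset, if_neg h]

theorem sum_homComp [Fintype (G ⧸ N)] (y : cenN (F := F) N) : y = ∑ t, homComp N y t := by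
  classical
  apply Subtype.ext
  apply alg_ext
  intro g
  have h1 : ((∑ t, homComp N y t : cenN (F := F) N) : MonoidAlgebra F G) =
      ∑ t, resCoset N t (y : MonoidAlgebra F G) := by
    rw [AddSubmonoidClass.coe_finsetSum]
    rfl
  rw [h1, coeff_sum, Finset.sum_apply']
  rw [Finset.sum_eq_single (g : G ⧸ N)]
  · rw [coeff_resCoset, if_pos rfl]
  · intro t _ ht
    rw [coeff_resCoset, if_neg (Ne.symm ht)]
  · intro h
    exact absurd (Finset.mem_univ _) h

/-- Elements supported on `N` are central in the centralizer of `N`. -/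
theorem homS_one_central {z : cenN (F := F) N} (hz : z ∈ homS N 1) (c : cenN (F := F) N) : z * c = c * z := by
  classical
  apply Subtype.ext
  have hc : ∀ n ∈ N, ∀ r : F, (single n r : MonoidAlgebra F G) * (c : MonoidAlgebra F G) =
      (c : MonoidAlgebra F G) * single n r := by
    intro n hn r
    apply alg_ext
    intro g
    simp only [coeff_single_mul_apply, coeff_mul_single_apply]
    have h2 := mem_cenN_iff.mp c.2 n hn (n⁻¹ * g)
    rw [← h2, mul_comm r]
    congr 2
    group
  have hdec : (z : MonoidAlgebra F G) = ∑ g : G, single g ((z : MonoidAlgebra F G).coeff g) := by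
    apply alg_ext
    intro g
    rw [coeff_sum, Finset.sum_apply', Finset.sum_eq_single g]
    · simp
    · intro u _ hu
      rw [coeff_single, Finsupp.single_apply, if_neg hu]
    · intro h
      exact absurd (Finset.mem_univ _) h
  rw [Subring.coe_mul, Subring.coe_mul, hdec, Finset.sum_mul, Finset.mul_sum]
  refine Finset.sum_congr rfl fun g _ => ?_
  by_cases h0 : (z : MonoidAlgebra F G).coeff g = 0
  · rw [h0]
    simp
  · have h1 := hz g h0
    have h2 : g ∈ N := (QuotientGroup.eq_one_iff g).mp h1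
    exact hc g h2 _

end Alg

end Cfsg.Agent.Lib.H8Group
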