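import Cfsg.Agent.Lib.H8Group.KnorrMain

/-!
# Consequences of Knörr's theorem
-/

set_option autoImplicit false
set_option linter.unusedSectionVars false

namespace Cfsg.Agent.Lib.H8Group

open Cfsg Cfsg.Agent.Lib.Char Cfsg.Agent.Lib.Blocks
open scoped ComplexConjugate

universe u

section Apps

variable {G : Type u} [Group G] [Fintype G] {M : Ideal AlgInt} {p : ℕ} [hp : Fact p.Prime]
  (N : Subgroup G) [hN : N.Normal] [Fintype N]

theorem transBlock_conjEquiv (z : G) (c₀ : Set (IrrCharacter N)) :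
    transBlock (conjEquiv N z) c₀ = {θ | conjIrr N z⁻¹ θ ∈ c₀} := by
  ext ψ
  have h1 : Cfsg.Agent.Lib.Blocks.irrComp (conjEquiv N z).symm ψ = conjIrr N z⁻¹ ψ := by
    apply Subtype.ext
    funext n
    simp only [Cfsg.Agent.Lib.Blocks.irrComp_coe, conjIrr_coe, Function.comp_apply,
      Cfsg.Agent.Lib.Char.conjFun_apply]
    refine congrArg _ (Subtype.ext ?_)
    simp [conjEquiv]
  show Cfsg.Agent.Lib.Blocks.irrComp (conjEquiv N z).symm ψ ∈ c₀ ↔ _
  rw [h1]
  rfl

/-- The conjugate of a block has the conjugate defect group. -/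
theorem isDefectGroup_conj_block {c₀ : Set (IrrCharacter N)} {Q : Subgroup G} (z : G)
    (hE : IsDefectGroup p M c₀ (Q.subgroupOf N)) :
    IsDefectGroup p M {θ | conjIrr N z⁻¹ θ ∈ c₀} ((conjS z Q).subgroupOf N) := by
  have h1 := isDefectGroup_transBlock (conjEquiv N z) hE
  rw [transBlock_conjEquiv] at h1
  have h2 : (Q.subgroupOf N).comap (conjEquiv N z).toMonoidHom = (conjS z Q).subgroupOf N := by
    ext x
    rw [Subgroup.mem_comap, Subgroup.mem_subgroupOf, Subgroup.mem_subgroupOf, mem_conjS]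
    show ((conjEquiv N z x : N) : G) ∈ Q ↔ _
    rw [conjEquiv_coe]
  rw [h2] at h1
  exact h1

/-- Every defect group of a block `B` is, after intersection with `N`, a defect group of a block of
`N` covered by `B` and stable under it. -/
theorem exists_stable_block (hM : IsPModular p M) {B : Set (IrrCharacter G)} (hB : IsPBlock M B)
    {P : Subgroup G} (hP : IsDefectGroup p M B P) :
    ∃ c : Set (IrrCharacter N), IsPBlock M c ∧ (∀ x ∈ P, StabilizesBlock N c x) ∧
      (∃ χ ∈ B, ∃ θ ∈ c, classInner (fun n : N => (χ : G → ℂ) n) (θ : N → ℂ) ≠ 0) ∧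
      IsDefectGroup p M c ((P ⊓ N).subgroupOf N) := by
  classical
  have := isPrime_of_modular hM
  obtain ⟨χ, hχ⟩ := IsPBlock.nonempty hB
  obtain ⟨θ₀, hθ₀⟩ := Cfsg.Agent.Lib.Blocks.exists_constituent N χ
  have hc₀ := isPBlock_blockOf (M := M) θ₀
  obtain ⟨E, hE⟩ := IsPBlock.exists_isDefectGroup hM hc₀
  have hQN : E.map N.subtype ≤ N := Subgroup.map_subtype_le E
  have hQ : IsDefectGroup p M (blockOf M (θ₀ : N → ℂ)) ((E.map N.subtype).subgroupOf N) := by
    have h : (E.map N.subtype).subgroupOf N = E :=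
      Subgroup.comap_map_eq_self_of_injective (Subgroup.subtype_injective N) E
    rw [h]
    exact hE
  obtain ⟨P₀, hP₀, hinf, hstab⟩ := knorr_exists N hM hc₀ hQN hQ hB ⟨χ, hχ, θ₀, self_mem_blockOf θ₀, hθ₀⟩
  obtain ⟨z, rfl⟩ := IsDefectGroup.exists_conj_eq hM hB hP₀ hP
  refine ⟨{θ | conjIrr N z⁻¹ θ ∈ blockOf M (θ₀ : N → ℂ)}, ?_, ?_, ⟨χ, hχ, conjIrr N z θ₀, ?_, ?_⟩, ?_⟩
  · rw [← transBlock_conjEquiv]
    exact isPBlock_transBlock _ hc₀
  · intro x hx
    rw [stabilizes_iff]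
    intro θ hθ
    show conjIrr N z⁻¹ (conjIrr N x θ) ∈ blockOf M (θ₀ : N → ℂ)
    have h1 : z⁻¹ * x * z ∈ P₀ := mem_conjS.mp hx
    have h2 : conjIrr N z⁻¹ (conjIrr N x θ) = conjIrr N (z⁻¹ * x * z) (conjIrr N z⁻¹ θ) := by
      rw [← conjIrr_mul, ← conjIrr_mul]
      congr 1
      group
    rw [h2]
    exact hstab h1 _ hθ
  · show conjIrr N z⁻¹ (conjIrr N z θ₀) ∈ blockOf M (θ₀ : N → ℂ)
    rw [← conjIrr_mul, inv_mul_cancel, conjIrr_one]
    exact self_mem_blockOf θ₀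
  · rw [classInner_conjIrr]
    exact hθ₀
  · have h1 : conjS z P₀ ⊓ N = conjS z (E.map N.subtype) := by
      ext g
      rw [Subgroup.mem_inf, mem_conjS, mem_conjS, ← hinf, Subgroup.mem_inf]
      constructor
      · rintro ⟨h1, h2⟩
        refine ⟨h1, ?_⟩
        simpa using hN.conj_mem g h2 z⁻¹
      · rintro ⟨h1, h2⟩
        refine ⟨h1, ?_⟩
        have := hN.conj_mem _ h2 z
        simpa [mul_assoc] using this
    rw [h1]
    exact isDefectGroup_conj_block N z hQ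

include hN in
theorem blockPull_invariant' {T : Subgroup G} (hNT : N ≤ T) [Fintype (N.subgroupOf T)] {b : Set (IrrCharacter N)}
    (t : T) (ht : ∀ θ ∈ b, conjIrr N (t : G) θ ∈ b)
    (θ : IrrCharacter (N.subgroupOf T)) (hθ : θ ∈ blockPull (Subgroup.subgroupOfEquivOfLe hNT) b) :
    conjIrr (N.subgroupOf T) t θ ∈ blockPull (Subgroup.subgroupOfEquivOfLe hNT) b := by
  have h2 : irrComp (Subgroup.subgroupOfEquivOfLe hNT).symm (conjIrr (N.subgroupOf T) t θ) =
      conjIrr N (t : G) (irrComp (Subgroup.subgroupOfEquivOfLe hNT).symm θ) := by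
    apply Subtype.ext
    funext n
    simp only [irrComp_coe, conjIrr_coe, Function.comp_apply, Cfsg.Agent.Lib.Char.conjFun_apply]
    congr 1
  show irrComp (Subgroup.subgroupOfEquivOfLe hNT).symm (conjIrr (N.subgroupOf T) t θ) ∈ b
  rw [h2]
  exact ht _ hθ

/-- A constituent of the restriction to an intermediate subgroup above a given constituent. -/
theorem exists_intermediate_constituent {L : Subgroup G} [Fintype L] (hNL : N ≤ L) {χ : IrrCharacter G}
    {θ : IrrCharacter N} (h : classInner (fun n : N => (χ : G → ℂ) n) (θ : N → ℂ) ≠ 0) :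
    ∃ τ : IrrCharacter L, classInner (fun l : L => (χ : G → ℂ) l) (τ : L → ℂ) ≠ 0 ∧
      classInner (resTN N hNL (τ : L → ℂ)) (θ : N → ℂ) ≠ 0 := by
  classical
  have hχ' := IsIrrCharacter.isCharacter χ.2
  obtain ⟨m, hm1, hsum⟩ := IsCharacter.exists_eq_sum (isCharacter_resFun L hχ')
  have hresN : Cfsg.Agent.Lib.Char.resFun N (χ : G → ℂ) = ∑ ψ' : IrrCharacter L, m ψ' • resTN N hNL (ψ' : L → ℂ) := by
    funext n
    have := congrFun hsum ⟨n, hNL n.2⟩
    simpa [Finset.sum_apply] using this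
  have hf : classInner (Cfsg.Agent.Lib.Char.resFun N (χ : G → ℂ)) (θ : N → ℂ) =
      ∑ ψ' : IrrCharacter L, (m ψ' : ℂ) * classInner (resTN N hNL (ψ' : L → ℂ)) θ := by
    rw [hresN, classInner_sum_left]
    refine Finset.sum_congr rfl fun ψ' _ => ?_
    rw [← Nat.cast_smul_eq_nsmul ℂ, classInner_smul_left]
  have h' : classInner (Cfsg.Agent.Lib.Char.resFun N (χ : G → ℂ)) (θ : N → ℂ) ≠ 0 := h
  rw [hf] at h'
  obtain ⟨ψ, -, hψ⟩ := Finset.exists_ne_zero_of_sum_ne_zero h'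
  refine ⟨ψ, ?_, right_ne_zero_of_mul hψ⟩
  have := hm1 ψ
  show classInner (Cfsg.Agent.Lib.Char.resFun L (χ : G → ℂ)) (ψ : L → ℂ) ≠ 0
  rw [this]
  exact left_ne_zero_of_mul hψ

/-- A block with a defect group in `N` covering an invariant block of `N` forbids `p`-overgroups of
`N`. -/
theorem eq_of_defect_le_of_pindex (hM : IsPModular p M) (L : Subgroup G) [hL : L.Normal] (hNL : N ≤ L)
    (hLN : ∃ k : ℕ, (N.subgroupOf L).index = p ^ k) {B : Set (IrrCharacter G)} (hB : IsPBlock M B)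
    {c : Set (IrrCharacter N)} (hc : IsPBlock M c) (hinv : ∀ (g : G) θ, θ ∈ c → conjIrr N g θ ∈ c)
    (hcov : ∃ χ ∈ B, ∃ θ ∈ c, classInner (fun n : N => (χ : G → ℂ) n) (θ : N → ℂ) ≠ 0)
    (hD : ∃ D, IsDefectGroup p M B D ∧ D ≤ N) : L = N := by
  classical
  have := isPrime_of_modular hM
  letI : Fintype L := Fintype.ofFinite _
  letI : Fintype (N.subgroupOf L) := Fintype.ofFinite _
  haveI : (N.subgroupOf L).Normal := Subgroup.normal_subgroupOf
  obtain ⟨χ, hχ, θ, hθ, hcon⟩ := hcov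
  obtain ⟨τ, hτχ, hτθ⟩ := exists_intermediate_constituent N hNL hcon
  have hF₁ := isPBlock_blockOf (M := M) τ
  obtain ⟨E₁, hE₁⟩ := IsPBlock.exists_isDefectGroup hM hF₁
  have hQL : E₁.map L.subtype ≤ L := Subgroup.map_subtype_le E₁
  have hQ : IsDefectGroup p M (blockOf M (τ : L → ℂ)) ((E₁.map L.subtype).subgroupOf L) := by
    have h : (E₁.map L.subtype).subgroupOf L = E₁ :=
      Subgroup.comap_map_eq_self_of_injective (Subgroup.subtype_injective L) E₁
    rw [h]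
    exact hE₁
  obtain ⟨P, hP, hinf, -⟩ := knorr_exists L hM hF₁ hQL hQ hB ⟨χ, hχ, τ, self_mem_blockOf τ, hτχ⟩
  -- the defect group lies in `N`
  obtain ⟨D, hDB, hDN⟩ := hD
  obtain ⟨y, rfl⟩ := IsDefectGroup.exists_conj_eq hM hB hDB hP
  have hPN : conjS y D ≤ N := by
    have := conjS_mono y hDN
    rwa [conjS_of_normal y N] at this
  have hE₁N : E₁ ≤ N.subgroupOf L := by
    intro x hx
    apply Subgroup.mem_subgroupOf.mpr
    have h1 : (x : G) ∈ E₁.map L.subtype := ⟨x, hx, rfl⟩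
    rw [← hinf] at h1
    exact hPN h1.1
  -- Fong's theorem
  obtain ⟨k, hk⟩ := hLN
  set e : N.subgroupOf L ≃* N := Subgroup.subgroupOfEquivOfLe hNL with he
  have hc₁ := isPBlock_blockPull e hc
  have hinv₁ : ∀ (l : L) (θ : IrrCharacter (N.subgroupOf L)), θ ∈ blockPull e c → conjIrr (N.subgroupOf L) l θ ∈ blockPull e c :=
    fun l θ hθ => blockPull_invariant' N hNL l (fun θ hθ => hinv _ θ hθ) θ hθ
  have hinner : ∀ (φ : IrrCharacter L) (θ : IrrCharacter N),
      classInner (fun n : N.subgroupOf L => (φ : L → ℂ) n)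
        ((irrComp e θ : IrrCharacter (N.subgroupOf L)) : N.subgroupOf L → ℂ) =
        classInner (resTN N hNL (φ : L → ℂ)) (θ : N → ℂ) := by
    intro φ θ
    exact classInner_comp_mulEquiv e (resTN N hNL (φ : L → ℂ)) (θ : N → ℂ)
  have hcovF : ∃ χ ∈ blockOf M (τ : L → ℂ), ∃ θ ∈ blockPull e c,
      classInner (fun n : N.subgroupOf L => (χ : L → ℂ) n) (θ : N.subgroupOf L → ℂ) ≠ 0 := by
    refine ⟨τ, self_mem_blockOf τ, irrComp e θ, (mem_blockPull _).mpr hθ, ?_⟩
    rw [hinner]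
    exact hτθ
  have hu := existsUnique_covering (G := L) (N.subgroupOf L) hM hk hc₁
  have hmax : ∀ F' : Set (IrrCharacter L), IsPBlock M F' →
      (∃ χ ∈ F', ∃ θ ∈ blockPull e c,
        classInner (fun n : N.subgroupOf L => (χ : L → ℂ) n) (θ : N.subgroupOf L → ℂ) ≠ 0) →
      blockDefect p F' ≤ blockDefect p (blockOf M (τ : L → ℂ)) := by
    intro F' hF' hc'
    rw [hu.unique ⟨hF', hc'⟩ ⟨hF₁, hcovF⟩]
  obtain ⟨h1, -, -⟩ := fong (N.subgroupOf L) hM hc₁ hinv₁ hF₁ hcovF hmax hE₁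
  rw [sup_eq_right.mpr hE₁N, hk] at h1
  have hk0 : k = 0 := by
    by_contra h0
    exact h1 (dvd_pow_self p h0)
  rw [hk0, pow_zero] at hk
  have htop : N.subgroupOf L = ⊤ := Subgroup.index_eq_one.mp hk
  refine le_antisymm ?_ hNL
  intro x hx
  have h2 : (⟨x, hx⟩ : L) ∈ N.subgroupOf L := by
    rw [htop]
    exact Subgroup.mem_top _
  exact Subgroup.mem_subgroupOf.mp h2

/-- **Block stabilizers meet `p`-overgroups trivially.** -/
theorem stab_inf_eq (hM : IsPModular p M) (L : Subgroup G) [hL : L.Normal] (hNL : N ≤ L)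
    (hLN : ∃ k : ℕ, (N.subgroupOf L).index = p ^ k) {B : Set (IrrCharacter G)} (hB : IsPBlock M B)
    {c : Set (IrrCharacter N)} (hc : IsPBlock M c)
    (hcov : ∃ χ ∈ B, ∃ θ ∈ c, classInner (fun n : N => (χ : G → ℂ) n) (θ : N → ℂ) ≠ 0)
    (hD : ∃ D, IsDefectGroup p M B D ∧ D ≤ N) {T : Subgroup G}
    (hT : ∀ x, x ∈ T ↔ ∀ θ ∈ c, conjIrr N x θ ∈ c) : T ⊓ L = N := by
  classical
  have := isPrime_of_modular hM
  have hNT : N ≤ T := by
    intro n hn
    rw [hT]
    exact le_blockStab N c hn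
  letI : Fintype T := Fintype.ofFinite _
  obtain ⟨F, hF, hFc, hFind⟩ := fr_surj N hNT hc hT hB hcov
  obtain ⟨C, hC, -, hirr, hmem⟩ := fr_main N hNT hc hT hF hFc
  have e0 := IsInducedBlock.unique T hC hFind
  rw [e0] at hmem
  letI : Fintype (N.subgroupOf T) := Fintype.ofFinite _
  haveI : (N.subgroupOf T).Normal := Subgroup.normal_subgroupOf
  haveI : (L.subgroupOf T).Normal := Subgroup.normal_subgroupOf
  set e : N.subgroupOf T ≃* N := Subgroup.subgroupOfEquivOfLe hNT with he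
  have hc₂ := isPBlock_blockPull e hc
  have hinv₂ : ∀ (t : T) (θ : IrrCharacter (N.subgroupOf T)), θ ∈ blockPull e c → conjIrr (N.subgroupOf T) t θ ∈ blockPull e c :=
    fun t θ hθ => blockPull_invariant' N hNT t (fun θ hθ => (hT t).mp t.2 θ hθ) θ hθ
  have hinner : ∀ (φ : IrrCharacter T) (θ : IrrCharacter N),
      classInner (fun n : N.subgroupOf T => (φ : T → ℂ) n)
        ((irrComp e θ : IrrCharacter (N.subgroupOf T)) : N.subgroupOf T → ℂ) =
        classInner (resTN N hNT (φ : T → ℂ)) (θ : N → ℂ) := by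
    intro φ θ
    exact classInner_comp_mulEquiv e (resTN N hNT (φ : T → ℂ)) (θ : N → ℂ)
  have hcov₂ : ∃ χ ∈ F, ∃ θ ∈ blockPull e c,
      classInner (fun n : N.subgroupOf T => (χ : T → ℂ) n) (θ : N.subgroupOf T → ℂ) ≠ 0 := by
    obtain ⟨ψ, hψ, θ, hθ, h⟩ := hFc
    refine ⟨ψ, hψ, irrComp e θ, (mem_blockPull _).mpr hθ, ?_⟩
    rw [hinner]
    exact h
  -- defect groups
  obtain ⟨D', hD'⟩ := IsPBlock.exists_isDefectGroup hM hF
  have hDB := isDefectGroup_induced_of_fr hM hF hFind hirr hmem hD'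
  obtain ⟨D, hDB', hDN⟩ := hD
  obtain ⟨y, hy⟩ := IsDefectGroup.exists_conj_eq hM hB hDB' hDB
  have hPN : D'.map T.subtype ≤ N := by
    rw [hy]
    have := conjS_mono y hDN
    rwa [conjS_of_normal y N] at this
  have hD'N : D' ≤ N.subgroupOf T := by
    intro x hx
    exact Subgroup.mem_subgroupOf.mpr (hPN ⟨x, hx, rfl⟩)
  -- the index
  have hN'L' : N.subgroupOf T ≤ L.subgroupOf T := fun x hx =>
    Subgroup.mem_subgroupOf.mpr (hNL (Subgroup.mem_subgroupOf.mp hx))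
  have hidx : ∃ k : ℕ, ((N.subgroupOf T).subgroupOf (L.subgroupOf T)).index = p ^ k := by
    obtain ⟨k, hk⟩ := hLN
    have hNinf : N ≤ T ⊓ L := le_inf hNT hNL
    have h1 : N.relIndex (T ⊓ L) * (T ⊓ L).relIndex L = N.relIndex L :=
      Subgroup.relIndex_mul_relIndex N (T ⊓ L) L hNinf inf_le_right
    have h2 : N.relIndex (T ⊓ L) ∣ p ^ k := by
      rw [← hk, ← Subgroup.relIndex, ← h1]
      exact dvd_mul_right _ _
    obtain ⟨j, -, hj⟩ := (Nat.dvd_prime_pow hp.out).mp h2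
    refine ⟨j, ?_⟩
    rw [← hj]
    have h3 := Subgroup.index_mul_card ((N.subgroupOf T).subgroupOf (L.subgroupOf T))
    have h4 := Subgroup.index_mul_card (N.subgroupOf (T ⊓ L))
    rw [card_subgroupOf_eq _ hN'L', card_subgroupOf_eq _ hNT] at h3
    rw [card_subgroupOf_eq _ hNinf] at h4
    have h5 : Nat.card (L.subgroupOf T) = Nat.card (T ⊓ L : Subgroup G) := by
      have h6 : (L.subgroupOf T).map T.subtype = T ⊓ L := by
        rw [Subgroup.subgroupOf_map_subtype, inf_comm]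
      rw [← h6]
      exact (Subgroup.card_map_of_injective (Subgroup.subtype_injective T)).symm
    rw [h5] at h3
    have h7 : 0 < Nat.card N := Nat.card_pos
    exact Nat.eq_of_mul_eq_mul_right h7 (h3.trans h4.symm)
  have hLeq := eq_of_defect_le_of_pindex (N.subgroupOf T) hM (L.subgroupOf T) hN'L' hidx hF hc₂ hinv₂ hcov₂
    ⟨D', hD', hD'N⟩
  refine le_antisymm ?_ (le_inf hNT hNL)
  rintro g ⟨hgT, hgL⟩
  have h1 : (⟨g, hgT⟩ : T) ∈ L.subgroupOf T := Subgroup.mem_subgroupOf.mpr hgL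
  rw [hLeq] at h1
  exact Subgroup.mem_subgroupOf.mp h1

end Apps

end Cfsg.Agent.Lib.H8Group
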