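import Cfsg.Agent.Lib.H8Group.KnorrAlg
import Cfsg.Agent.Lib.H8Group.FrCentral
import Cfsg.Agent.Lib.Blocks.Residue

/-!
# The key lemma of Harris and Knörr: block idempotents covering an invariant block survive the
Brauer map of a defect group of that block
-/

set_option autoImplicit false
set_option linter.unusedSectionVars false

namespace Cfsg.Agent.Lib.H8Group

open Cfsg Cfsg.Agent.Lib.Char Cfsg.Agent.Lib.Blocks MonoidAlgebra
open scoped ComplexConjugate

universe u

section Residue

variable {M : Ideal AlgInt} [M.IsPrime]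

/-- The residue ring. -/
abbrev ResF (M : Ideal AlgInt) [M.IsPrime] := locRing M ⧸ locMax M

/-- The reduction of a complex number, when local. -/
noncomputable def resC (M : Ideal AlgInt) [M.IsPrime] (z : ℂ) : ResF M := by
  classical
  exact if h : MemLocalRing M z then Ideal.Quotient.mk _ ⟨z, h⟩ else 0

theorem resC_of_mem {z : ℂ} (h : MemLocalRing M z) : resC M z = Ideal.Quotient.mk _ ⟨z, h⟩ := by
  classical
  simp only [resC, dif_pos h]

theorem resC_add {z w : ℂ} (hz : MemLocalRing M z) (hw : MemLocalRing M w) :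
    resC M (z + w) = resC M z + resC M w := by
  rw [resC_of_mem hz, resC_of_mem hw, resC_of_mem (MemLocalRing.add hz hw), ← map_add]
  rfl

theorem resC_mul {z w : ℂ} (hz : MemLocalRing M z) (hw : MemLocalRing M w) :
    resC M (z * w) = resC M z * resC M w := by
  rw [resC_of_mem hz, resC_of_mem hw, resC_of_mem (MemLocalRing.mul hz hw), ← map_mul]
  rfl

theorem resC_zero : resC M 0 = 0 := by
  rw [resC_of_mem memLocalRing_zero]
  exact map_zero (Ideal.Quotient.mk (locMax M))

theorem resC_eq_zero_iff {z : ℂ} (hz : MemLocalRing M z) : resC M z = 0 ↔ MemLocalIdeal M z := by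
  rw [resC_of_mem hz, Ideal.Quotient.eq_zero_iff_mem, mem_locMax]

theorem resC_sum {ι : Type*} (s : Finset ι) (f : ι → ℂ) (h : ∀ i ∈ s, MemLocalRing M (f i)) :
    resC M (∑ i ∈ s, f i) = ∑ i ∈ s, resC M (f i) := by
  classical
  induction s using Finset.induction_on with
  | empty => simpa using resC_zero
  | insert a s ha ih =>
    rw [Finset.sum_insert ha, Finset.sum_insert ha, resC_add (h a (Finset.mem_insert_self _ _))
      (MemLocalRing.sum _ fun i hi => h i (Finset.mem_insert_of_mem hi)),
      ih fun i hi => h i (Finset.mem_insert_of_mem hi)]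

theorem exists_resC_eq (f : ResF M) : ∃ z, MemLocalRing M z ∧ resC M z = f := by
  obtain ⟨z, rfl⟩ := Ideal.Quotient.mk_surjective f
  exact ⟨z, z.2, resC_of_mem z.2⟩

theorem natCast_resF_eq_zero {p : ℕ} (hM : IsPModular p M) : (p : ResF M) = 0 := by
  have h1 : MemLocalRing M (p : ℂ) := MemLocalRing.natCast p
  have h2 := (resC_eq_zero_iff h1).mpr (p_memLocalIdeal hM)
  rw [resC_of_mem h1] at h2
  rw [← h2]
  have h3 : (⟨(p : ℂ), h1⟩ : locRing M) = (p : locRing M) := by
    apply Subtype.ext
    simp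
  rw [h3, map_natCast]

variable {G : Type u} [Group G] [Fintype G]

/-- The reduction of a local function. -/
noncomputable def rhoF (M : Ideal AlgInt) [M.IsPrime] (a : G → ℂ) : MonoidAlgebra (ResF M) G :=
  mkAlg fun g => resC M (a g)

@[simp] theorem coeff_rhoF (a : G → ℂ) (g : G) : (rhoF M a).coeff g = resC M (a g) := rfl

theorem rhoF_conv {a b : G → ℂ} (ha : ∀ x, MemLocalRing M (a x)) (hb : ∀ x, MemLocalRing M (b x)) :
    rhoF M (conv a b) = rhoF M a * rhoF M b := by
  apply alg_ext
  intro g
  rw [coeff_mul_eq_sum, coeff_rhoF, conv, resC_sum _ _ fun x _ => MemLocalRing.mul (ha x) (hb _)]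
  refine Finset.sum_congr rfl fun x _ => ?_
  rw [resC_mul (ha x) (hb _)]
  rfl

theorem rhoF_mem_cenN_of_class (N : Subgroup G) {a : G → ℂ} (ha : ∀ n ∈ N, ∀ g, a (n * g * n⁻¹) = a g) :
    rhoF M a ∈ cenN N := by
  rw [mem_cenN_iff]
  intro n hn g
  simp only [coeff_rhoF, ha n hn]

variable (N : Subgroup G) [hN : N.Normal] [Fintype N]

theorem extendByZero_conv (a b : N → ℂ) :
    extendByZero N (conv a b) = conv (extendByZero N a) (extendByZero N b) := by
  funext t
  have h1 : conv (extendByZero N a) (extendByZero N b) t =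
      ∑ n : N, a n * extendByZero N b ((n : G)⁻¹ * t) := by
    rw [conv]
    exact sum_extendByZero_mul N a _
  rw [h1]
  by_cases ht : t ∈ N
  · rw [extendByZero_of_mem N _ ht, conv]
    refine Finset.sum_congr rfl fun n _ => ?_
    congr 1
    have hm : (n : G)⁻¹ * t ∈ N := N.mul_mem (N.inv_mem n.2) ht
    rw [extendByZero_of_mem N _ hm]
    exact congrArg b (Subtype.ext (by simp))
  · rw [extendByZero_of_notMem N _ ht]
    symm
    refine Finset.sum_eq_zero fun n _ => ?_
    have hm : (n : G)⁻¹ * t ∉ N := fun h => ht (by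
      have := N.mul_mem n.2 h
      simpa using this)
    rw [extendByZero_of_notMem N _ hm, mul_zero]

/-- The group algebra element attached to an element of the centre of the local group algebra of `N`. -/
noncomputable def psiN (M : Ideal AlgInt) [M.IsPrime] (d : IrrCharacter N → ℂ) : MonoidAlgebra (ResF M) G :=
  rhoF M (extendByZero N (coef d))

theorem extendByZero_coef_local {d : IrrCharacter N → ℂ} (hd : d ∈ zS M N) (g : G) :
    MemLocalRing M (extendByZero N (coef d) g) :=
  extendByZero_memLocalRing N (fun x => hd x) g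

theorem psiN_mul {d d' : IrrCharacter N → ℂ} (hd : d ∈ zS M N) (hd' : d' ∈ zS M N) :
    psiN N M (d * d') = psiN N M d * psiN N M d' := by
  rw [psiN, coef_mul, extendByZero_conv, rhoF_conv (extendByZero_coef_local N hd)
    (extendByZero_coef_local N hd')]
  rfl

theorem psiN_pow {d : IrrCharacter N → ℂ} (hd : d ∈ zS M N) (n : ℕ) :
    psiN N M (d ^ (n + 1)) = psiN N M d ^ (n + 1) := by
  induction n with
  | zero => simp
  | succ n ih =>
    rw [pow_succ d (n + 1), psiN_mul N (Subring.pow_mem _ hd _) hd, ih, pow_succ (psiN N M d) (n + 1)]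

theorem psiN_mem_cenN (d : IrrCharacter N → ℂ) : psiN N M d ∈ cenN N := by
  apply rhoF_mem_cenN_of_class
  intro n hn g
  have hf := coef_isClassFunction d
  by_cases hg : g ∈ N
  · have hg' : n * g * n⁻¹ ∈ N := N.mul_mem (N.mul_mem hn hg) (N.inv_mem hn)
    rw [extendByZero_of_mem N _ hg, extendByZero_of_mem N _ hg']
    exact hf ⟨g, hg⟩ ⟨n, hn⟩
  · have hg' : n * g * n⁻¹ ∉ N := fun h => hg (by
      have := N.mul_mem (N.mul_mem (N.inv_mem hn) h) hn
      simpa [mul_assoc] using this)
    rw [extendByZero_of_notMem N _ hg, extendByZero_of_notMem N _ hg']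

theorem psiN_supp (d : IrrCharacter N → ℂ) {g : G} (hg : (psiN N M d).coeff g ≠ 0) : g ∈ N := by
  by_contra h
  apply hg
  show resC M (extendByZero N (coef d) g) = 0
  rw [extendByZero_of_notMem N _ h, resC_zero]

/-- **The dichotomy.** An element of the centre of the block algebra of `b` which vanishes on the
centralizer of a defect group is nilpotent. -/
theorem isNilpotent_of_vanish {p : ℕ} [hp : Fact p.Prime] (hM : IsPModular p M) {b : Set (IrrCharacter N)}
    (hb : IsPBlock M b) {Q : Subgroup G} (hQ : IsPGroup p Q) (hQN : Q ≤ N) {y₀ : N}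
    (hy₀Q : (y₀ : G) ∈ Subgroup.centralizer (Q : Set G)) (hy₀ : ¬ MemLocalIdeal M (coef (indic b) y₀))
    {y : MonoidAlgebra (ResF M) G} (hyC : y ∈ cenN N) (hyS : ∀ g, y.coeff g ≠ 0 → g ∈ N)
    (hε : y * psiN N M (indic b) = y) (h0 : ∀ g ∈ Subgroup.centralizer (Q : Set G), y.coeff g = 0) :
    IsNilpotent y := by
  classical
  choose s hs hs' using fun f : ResF M => exists_resC_eq (M := M) f
  let a : N → ℂ := fun n => s (y.coeff n)
  have hac : IsClassFunction N a := by
    intro n h
    simp only [a]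
    congr 1
    exact mem_cenN_iff.mp hyC h h.2 n
  have haS : ∀ n, MemLocalRing M (a n) := fun n => hs _
  have hyΨ : rhoF M (extendByZero N a) = y := by
    apply alg_ext
    intro g
    rw [coeff_rhoF]
    by_cases hg : g ∈ N
    · rw [extendByZero_of_mem N _ hg]
      exact hs' _
    · rw [extendByZero_of_notMem N _ hg, resC_zero]
      by_contra h
      exact hg (hyS g (Ne.symm h))
  have hc : spec a ∈ zS M N := spec_mem_zS hac haS
  have hca : coef (spec a) = a := coef_spec a hac
  have hψc : psiN N M (spec a) = y := by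
    rw [psiN, hca, hyΨ]
  obtain ⟨θ₀, hθ₀⟩ := IsPBlock.nonempty hb
  by_cases hu : MemLocalIdeal M (spec a θ₀)
  · have hall : ∀ θ ∈ b, MemLocalIdeal M (spec a θ) := by
      intro θ hθ
      have h1 := zS_apply_congr hb hc hθ hθ₀
      have h2 := MemLocalIdeal.add h1 hu
      simpa using h2
    have hc' : ∀ θ, MemLocalIdeal M ((spec a * indic b) θ) := by
      intro θ
      rw [Pi.mul_apply]
      by_cases hθ : θ ∈ b
      · rw [indic_apply_of_mem hθ, mul_one]
        exact hall θ hθ
      · rw [indic_apply_of_notMem hθ, mul_zero]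
        exact memLocalIdeal_zero
    obtain ⟨n, hn, hcoef⟩ := exists_pow_coef_memLocalIdeal hM hc'
    obtain ⟨m, rfl⟩ := Nat.exists_eq_succ_of_ne_zero hn
    have hiS := indic_mem_zS hb
    have h3 : psiN N M ((spec a * indic b) ^ (m + 1)) = 0 := by
      apply alg_ext
      intro g
      show resC M (extendByZero N (coef ((spec a * indic b) ^ (m + 1))) g) = 0
      by_cases hg : g ∈ N
      · rw [extendByZero_of_mem N _ hg]
        exact (resC_eq_zero_iff (MemLocalIdeal.memLocalRing (hcoef _))).mpr (hcoef _)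
      · rw [extendByZero_of_notMem N _ hg, resC_zero]
    rw [psiN_pow N (Subring.mul_mem _ hc hiS), psiN_mul N hc hiS, hψc, hε] at h3
    exact ⟨_, h3⟩
  · exfalso
    have hu' : ∀ θ ∈ b, ¬ MemLocalIdeal M (spec a θ) := by
      intro θ hθ h
      apply hu
      have h1 := zS_apply_congr hb hc hθ₀ hθ
      have h2 := MemLocalIdeal.add h1 h
      simpa using h2
    obtain ⟨w, hw, hcw⟩ := exists_mul_eq_indic hb hc hu'
    have h1 : psiN N M (indic b) = y * psiN N M w := by
      rw [← hcw, psiN_mul N hc hw, hψc]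
    have h2 : (psiN N M (indic b)).coeff (y₀ : G) = 0 := by
      rw [h1]
      refine coeff_mul_eq_zero_of_vanish (natCast_resF_eq_zero hM) hQ
        (fun q hq g => mem_cenN_iff.mp hyC q (hQN hq) g)
        (fun q hq g => mem_cenN_iff.mp (psiN_mem_cenN N w) q (hQN hq) g) h0 hy₀Q
    apply hy₀
    have h3 : (psiN N M (indic b)).coeff (y₀ : G) = resC M (coef (indic b) y₀) := by
      show resC M (extendByZero N (coef (indic b)) (y₀ : G)) = _
      rw [extendByZero_coe]
    rw [h3] at h2
    exact (resC_eq_zero_iff (indic_mem_zS hb _)).mp h2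

end Residue

section Cosets

variable {F : Type*} [CommRing F] {G : Type*} [Group G] [Fintype G] (N : Subgroup G) [hN : N.Normal]

theorem resCoset_mul_of_supp (t : G ⧸ N) (a z : MonoidAlgebra F G) (hz : ∀ g, z.coeff g ≠ 0 → g ∈ N) :
    resCoset N t a * z = resCoset N t (a * z) := by
  classical
  apply alg_ext
  intro g
  rw [coeff_mul_eq_sum, coeff_resCoset, coeff_mul_eq_sum]
  have hcos : ∀ u : G, z.coeff (u⁻¹ * g) ≠ 0 → (u : G ⧸ N) = g := fun u hu =>
    QuotientGroup.eq.mpr (hz _ hu)
  by_cases hg : (g : G ⧸ N) = t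
  · rw [if_pos hg]
    refine Finset.sum_congr rfl fun u _ => ?_
    by_cases h0 : z.coeff (u⁻¹ * g) = 0
    · rw [h0, mul_zero, mul_zero]
    · rw [coeff_resCoset, if_pos ((hcos u h0).trans hg)]
  · rw [if_neg hg]
    refine Finset.sum_eq_zero fun u _ => ?_
    by_cases h0 : z.coeff (u⁻¹ * g) = 0
    · rw [h0, mul_zero]
    · rw [coeff_resCoset, if_neg (fun h => hg ((hcos u h0).symm.trans h)), zero_mul]

end Cosets

section Key

variable {G : Type u} [Group G] [Fintype G] {M : Ideal AlgInt} {p : ℕ} [hp : Fact p.Prime]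
  (N : Subgroup G) [hN : N.Normal] [Fintype N]

/-- The block idempotent of a block of `G` reduced to the residue ring. -/
noncomputable def rhoBlock (M : Ideal AlgInt) [M.IsPrime] (B : Set (IrrCharacter G)) : MonoidAlgebra (ResF M) G :=
  rhoF M (coef (indic B))

theorem rhoBlock_mul_self [M.IsPrime] {B : Set (IrrCharacter G)} (hB : IsPBlock M B) :
    rhoBlock M B * rhoBlock M B = rhoBlock M B := by
  have hS := indic_mem_zS hB
  rw [rhoBlock, ← rhoF_conv (fun x => hS x) (fun x => hS x), ← coef_mul, indic_mul_self]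

theorem covSet_of_covering [M.IsPrime] {b : Set (IrrCharacter N)} (hb : IsPBlock M b)
    (hinv : ∀ (g : G) θ, θ ∈ b → conjIrr N g θ ∈ b) {B : Set (IrrCharacter G)} (hB : IsPBlock M B)
    (hcov : ∃ χ ∈ B, ∃ θ ∈ b, classInner (fun n : N => (χ : G → ℂ) n) (θ : N → ℂ) ≠ 0) :
    B ⊆ covSet (G := G) N b := by
  intro χ hχ
  obtain ⟨χ₀, hχ₀, θ₀, hθ₀, h₀⟩ := hcov
  obtain ⟨ψ, hψ⟩ := Cfsg.Agent.Lib.Blocks.exists_constituent N χ
  obtain ⟨g, hg⟩ := covering_constituents N hB hb hχ₀ hχ hθ₀ h₀ hψ
  refine ⟨ψ, ?_, hψ⟩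
  have h1 := hinv g⁻¹ _ hg
  rwa [← conjIrr_mul, inv_mul_cancel, conjIrr_one] at h1

/-- The product of the reduced idempotent of a covering block and that of the covered block. -/
theorem rhoBlock_mul_psiN [M.IsPrime] {b : Set (IrrCharacter N)} (hb : IsPBlock M b)
    (hinv : ∀ (g : G) θ, θ ∈ b → conjIrr N g θ ∈ b) {B : Set (IrrCharacter G)} (hB : IsPBlock M B)
    (hcov : ∃ χ ∈ B, ∃ θ ∈ b, classInner (fun n : N => (χ : G → ℂ) n) (θ : N → ℂ) ≠ 0) :
    rhoBlock M B * psiN N M (indic b) = rhoBlock M B := by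
  have hsub := covSet_of_covering N hb hinv hB hcov
  have hS := indic_mem_zS hB
  have h1 : psiN N M (indic b) = rhoF M (coef (indic (covSet (G := G) N b))) := by
    rw [coef_indic_covSet N hinv]
    rfl
  have h2 : indic B * indic (covSet (G := G) N b) = indic B := by
    funext χ
    by_cases hχ : χ ∈ B
    · simp [hχ, hsub hχ]
    · simp [hχ]
  have h3 := coef_mul (indic B) (indic (covSet (G := G) N b))
  rw [h2] at h3
  rw [h1, rhoBlock, ← rhoF_conv (fun x => hS x) (fun x => indic_covSet_mem_zS N hb hinv x), ← h3]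

/-- Data of a defect group of a block of a normal subgroup. -/
theorem exists_defect_data (hM : IsPModular p M) {b : Set (IrrCharacter N)} {Q : Subgroup G} (hQN : Q ≤ N)
    (hQ : IsDefectGroup p M b (Q.subgroupOf N)) :
    IsPGroup p Q ∧ ∃ y₀ : N, (y₀ : G) ∈ Subgroup.centralizer (Q : Set G) ∧
      ¬ MemLocalIdeal M (coef (indic b) y₀) := by
  obtain ⟨y, hy, hS⟩ := isDefectGroup_iff.mp hQ
  refine ⟨(hS.isPGroup).of_equiv (Subgroup.subgroupOfEquivOfLe hQN), y, ?_, ?_⟩
  · rw [Subgroup.mem_centralizer_iff]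
    intro q hq
    have h1 : (⟨q, hQN hq⟩ : N) ∈ Subgroup.centralizer ({y} : Set N) := hS.le (Subgroup.mem_subgroupOf.mpr hq)
    have h2 := Subgroup.mem_centralizer_singleton_iff.mp h1
    have h3 := congrArg Subtype.val h2
    exact h3
  · rw [← blockCoeff_eq_coef]
    exact hy.2.1

/-- **The key lemma of Harris and Knörr.** The idempotent of a block of `G` covering an invariant
block of `N` with defect group `Q` has a nonzero coefficient on the centralizer of `Q`. -/
theorem exists_coeff_of_covering (hM : IsPModular p M) {b : Set (IrrCharacter N)} (hb : IsPBlock M b)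
    (hinv : ∀ (g : G) θ, θ ∈ b → conjIrr N g θ ∈ b) {Q : Subgroup G} (hQN : Q ≤ N)
    (hQ : IsDefectGroup p M b (Q.subgroupOf N)) {B : Set (IrrCharacter G)} (hB : IsPBlock M B)
    (hcov : ∃ χ ∈ B, ∃ θ ∈ b, classInner (fun n : N => (χ : G → ℂ) n) (θ : N → ℂ) ≠ 0) :
    ∃ x ∈ Subgroup.centralizer (Q : Set G), ¬ MemLocalIdeal M (blockCoeff B x) := by
  classical
  have := isPrime_of_modular hM
  by_contra hcon
  push Not at hcon
  obtain ⟨hQp, y₀, hy₀Q, hy₀⟩ := exists_defect_data N hM hQN hQ
  letI : Fintype (G ⧸ N) := Fintype.ofFinite _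
  have hS := indic_mem_zS hB
  have hecen : rhoBlock M B ∈ cenN N := by
    apply rhoF_mem_cenN_of_class
    intro n _ g
    exact coef_isClassFunction _ g n
  let e : cenN (F := ResF M) N := ⟨rhoBlock M B, hecen⟩
  have he : e * e = e := Subtype.ext (rhoBlock_mul_self hB)
  have hεS : ∀ g, (psiN N M (indic b)).coeff g ≠ 0 → g ∈ N := fun g hg => psiN_supp N _ hg
  have hεe := rhoBlock_mul_psiN N hb hinv hB hcov
  let ε : cenN (F := ResF M) N := ⟨psiN N M (indic b), psiN_mem_cenN N _⟩
  have hε1 : ε ∈ homS N 1 := by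
    intro g hg
    exact (QuotientGroup.eq_one_iff g).mpr (hεS g hg)
  have hcompε : ∀ t, homComp N e t * ε = homComp N e t := by
    intro t
    apply Subtype.ext
    show resCoset N t (rhoBlock M B) * psiN N M (indic b) = resCoset N t (rhoBlock M B)
    rw [resCoset_mul_of_supp N t _ _ hεS, hεe]
  have hzero : e = 0 := by
    refine eq_zero_of_graded_idempotent (H := homS N) (x := homComp N e) (one_mem_homS N) (mul_mem_homS N)
      (homComp_mem N e) ?_ he (sum_homComp N e)
    intro t v hv
    have hy1 : homComp N e t * v ∈ homS N 1 := by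
      have := mul_mem_homS N t t⁻¹ _ _ (homComp_mem N e t) hv
      rwa [mul_inv_cancel] at this
    refine ⟨?_, homS_one_central N hy1⟩
    -- nilpotency
    have hnil : IsNilpotent ((homComp N e t * v : cenN (F := ResF M) N) : MonoidAlgebra (ResF M) G) := by
      refine isNilpotent_of_vanish N hM hb hQp hQN hy₀Q hy₀ (homComp N e t * v).2 ?_ ?_ ?_
      · intro g hg
        exact (QuotientGroup.eq_one_iff g).mp (hy1 g hg)
      · have h1 : homComp N e t * v * ε = homComp N e t * v := by
          rw [mul_assoc, ← homS_one_central N hε1 v, ← mul_assoc, hcompε]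
        exact congrArg Subtype.val h1
      · intro g hg
        show ((homComp N e t : cenN (F := ResF M) N) * v : cenN (F := ResF M) N).1.coeff g = 0
        rw [Subring.coe_mul]
        refine coeff_mul_eq_zero_of_vanish (natCast_resF_eq_zero hM) hQp
          (fun q hq g => mem_cenN_iff.mp (homComp N e t).2 q (hQN hq) g)
          (fun q hq g => mem_cenN_iff.mp v.2 q (hQN hq) g) ?_ hg
        intro u hu
        show (resCoset N t (rhoBlock M B)).coeff u = 0
        rw [coeff_resCoset]
        split_ifs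
        · show resC M (coef (indic B) u) = 0
          rw [← blockCoeff_eq_coef]
          exact (resC_eq_zero_iff (blockCoeff_memLocalRing hB u)).mpr (hcon u hu)
        · rfl
    obtain ⟨n, hn⟩ := hnil
    exact ⟨n, Subtype.ext (by
      rw [Subring.coe_pow]
      exact hn)⟩
  -- the idempotent is not zero
  obtain ⟨D, hD⟩ := IsPBlock.exists_isDefectGroup hM hB
  obtain ⟨g, hg, -⟩ := isDefectGroup_iff.mp hD
  apply hg.2.1
  have h1 : (rhoBlock M B).coeff g = 0 := by
    have h2 : rhoBlock M B = 0 := congrArg Subtype.val hzero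
    rw [h2]
    rfl
  rw [blockCoeff_eq_coef]
  exact (resC_eq_zero_iff (hS g)).mp h1

end Key

end Cfsg.Agent.Lib.H8Group
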