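import Cfsg.Agent.Lib.H8Group.KnorrKey

/-!
# Knörr's theorem on the defect groups of covering blocks
-/

set_option autoImplicit false
set_option linter.unusedSectionVars false

namespace Cfsg.Agent.Lib.H8Group

open Cfsg Cfsg.Agent.Lib.Char Cfsg.Agent.Lib.Blocks MonoidAlgebra
open scoped ComplexConjugate

universe u

section Invariant

variable {G : Type u} [Group G] [Fintype G] {M : Ideal AlgInt} {p : ℕ} [hp : Fact p.Prime]
  (N : Subgroup G) [hN : N.Normal] [Fintype N]

/-- The easy half of Knörr's theorem: the intersection with `N` of a defect group of a covering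
block is not larger than a defect group of the invariant covered block. -/
theorem card_inf_le_of_covering (hM : IsPModular p M) {b : Set (IrrCharacter N)} (hb : IsPBlock M b)
    (hinv : ∀ (g : G) θ, θ ∈ b → conjIrr N g θ ∈ b) {Q : Subgroup G} (hQN : Q ≤ N)
    (hQ : IsDefectGroup p M b (Q.subgroupOf N)) {B : Set (IrrCharacter G)} (hB : IsPBlock M B)
    (hcov : ∃ χ ∈ B, ∃ θ ∈ b, classInner (fun n : N => (χ : G → ℂ) n) (θ : N → ℂ) ≠ 0)
    {P : Subgroup G} (hP : IsDefectGroup p M B P) : Nat.card (P ⊓ N : Subgroup G) ≤ Nat.card Q := by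
  classical
  have := isPrime_of_modular hM
  obtain ⟨g, hg, hS⟩ := isDefectGroup_iff.mp hP
  have hPp : IsPGroup p P := hS.isPGroup
  have hQ₀p : IsPGroup p (P ⊓ N : Subgroup G) := hPp.to_le inf_le_left
  have hgQ₀ : g ∈ Subgroup.centralizer ((P ⊓ N : Subgroup G) : Set G) := by
    rw [Subgroup.mem_centralizer_iff]
    intro q hq
    have h1 : q ∈ Subgroup.centralizer ({g} : Set G) := hS.le hq.1
    exact Subgroup.mem_centralizer_singleton_iff.mp h1
  have hecen : rhoBlock M B ∈ cenN N := by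
    apply rhoF_mem_cenN_of_class
    intro n _ g
    exact coef_isClassFunction _ g n
  have hεS : ∀ g, (psiN N M (indic b)).coeff g ≠ 0 → g ∈ N := fun g hg => psiN_supp N _ hg
  have hε1 : (⟨psiN N M (indic b), psiN_mem_cenN N _⟩ : cenN (F := ResF M) N) ∈ homS N 1 := by
    intro g hg
    exact (QuotientGroup.eq_one_iff g).mpr (hεS g hg)
  have hcomm := homS_one_central N hε1 ⟨rhoBlock M B, hecen⟩
  have hcomm' : psiN N M (indic b) * rhoBlock M B = rhoBlock M B * psiN N M (indic b) := congrArg Subtype.val hcomm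
  have hεe := rhoBlock_mul_psiN N hb hinv hB hcov
  have hgne : (rhoBlock M B).coeff g ≠ 0 := by
    intro h0
    apply hg.2.1
    rw [blockCoeff_eq_coef]
    exact (resC_eq_zero_iff (indic_mem_zS hB g)).mp h0
  -- a fixed point
  have hex : ∃ u ∈ Subgroup.centralizer ((P ⊓ N : Subgroup G) : Set G), (psiN N M (indic b)).coeff u ≠ 0 := by
    by_contra hcon
    push Not at hcon
    apply hgne
    rw [← hεe, ← hcomm']
    exact coeff_mul_eq_zero_of_vanish (natCast_resF_eq_zero hM) hQ₀p
      (fun q hq g => mem_cenN_iff.mp (psiN_mem_cenN N _) q hq.2 g)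
      (fun q hq g => mem_cenN_iff.mp hecen q hq.2 g) hcon hgQ₀
  obtain ⟨u, huC, hu⟩ := hex
  have huN := hεS u hu
  have hcoef : ¬ MemLocalIdeal M (blockCoeff b (⟨u, huN⟩ : N)) := by
    intro h
    apply hu
    show resC M (extendByZero N (coef (indic b)) u) = 0
    rw [extendByZero_of_mem N _ huN, ← blockCoeff_eq_coef]
    exact (resC_eq_zero_iff (MemLocalIdeal.memLocalRing h)).mpr h
  have hle : (P ⊓ N : Subgroup G).subgroupOf N ≤ Subgroup.centralizer ({(⟨u, huN⟩ : N)} : Set N) := by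
    intro x hx
    rw [Subgroup.mem_centralizer_singleton_iff]
    apply Subtype.ext
    have h1 := Subgroup.mem_centralizer_iff.mp huC x (Subgroup.mem_subgroupOf.mp hx)
    exact h1
  obtain ⟨y, hy⟩ := IsDefectGroup.le_conj_of_coeff hM hb hQ hcoef (isPGroup_subgroupOf hQ₀p N) hle
  have h1 := Subgroup.card_le_of_le hy
  rw [card_conjS, card_subgroupOf_eq _ inf_le_right, card_subgroupOf_eq _ hQN] at h1
  exact h1

/-- **Knörr's theorem** for an invariant block. -/
theorem exists_defect_inf_eq_of_invariant (hM : IsPModular p M) {b : Set (IrrCharacter N)} (hb : IsPBlock M b)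
    (hinv : ∀ (g : G) θ, θ ∈ b → conjIrr N g θ ∈ b) {Q : Subgroup G} (hQN : Q ≤ N)
    (hQ : IsDefectGroup p M b (Q.subgroupOf N)) {B : Set (IrrCharacter G)} (hB : IsPBlock M B)
    (hcov : ∃ χ ∈ B, ∃ θ ∈ b, classInner (fun n : N => (χ : G → ℂ) n) (θ : N → ℂ) ≠ 0) :
    ∃ P, IsDefectGroup p M B P ∧ P ⊓ N = Q := by
  obtain ⟨x, hxQ, hx⟩ := exists_coeff_of_covering N hM hb hinv hQN hQ hB hcov
  obtain ⟨D, hD⟩ := IsPBlock.exists_isDefectGroup hM hB
  obtain ⟨hQp, -⟩ := exists_defect_data N hM hQN hQ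
  have hQx : Q ≤ Subgroup.centralizer ({x} : Set G) := by
    intro q hq
    rw [Subgroup.mem_centralizer_singleton_iff]
    exact Subgroup.mem_centralizer_iff.mp hxQ q hq
  obtain ⟨y, hy⟩ := IsDefectGroup.le_conj_of_coeff hM hB hD hx hQp hQx
  have hP := IsDefectGroup.conj hD y
  refine ⟨conjS y D, hP, ?_⟩
  have hc := card_inf_le_of_covering N hM hb hinv hQN hQ hB hcov hP
  exact (Subgroup.eq_of_le_of_card_ge (le_inf hy hQN) hc).symm

/-- The stabilizer of a set of irreducible characters of a normal subgroup. -/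
def blockStab (b : Set (IrrCharacter N)) : Subgroup G where
  carrier := {x | ∀ θ ∈ b, conjIrr N x θ ∈ b}
  mul_mem' := by
    intro x y hx hy θ hθ
    rw [conjIrr_mul]
    exact hx _ (hy _ hθ)
  one_mem' := by
    intro θ hθ
    rwa [conjIrr_one]
  inv_mem' := by
    intro x hx θ hθ
    have hpow : ∀ k : ℕ, conjIrr N (x ^ k) θ ∈ b := by
      intro k
      induction k with
      | zero => rwa [pow_zero, conjIrr_one]
      | succ k ih =>
        rw [pow_succ', conjIrr_mul]
        exact hx _ ih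
    have h1 : x ^ (orderOf x - 1) * x = 1 := by
      rw [← pow_succ, Nat.sub_add_cancel (orderOf_pos x)]
      exact pow_orderOf_eq_one x
    rw [← eq_inv_of_mul_eq_one_left h1]
    exact hpow _

@[simp] theorem mem_blockStab {b : Set (IrrCharacter N)} {x : G} :
    x ∈ blockStab N b ↔ ∀ θ ∈ b, conjIrr N x θ ∈ b := Iff.rfl

theorem le_blockStab (b : Set (IrrCharacter N)) : N ≤ blockStab N b := by
  intro n hn θ hθ
  have h1 : conjIrr N n θ = θ := by
    apply Subtype.ext
    funext m
    rw [conjIrr_coe, Cfsg.Agent.Lib.Char.conjFun_apply]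
    have h2 := irr_isClassFunction θ m ⟨n⁻¹, N.inv_mem hn⟩
    rw [← h2]
    refine congrArg (θ : N → ℂ) (Subtype.ext ?_)
    simp
  rwa [h1]

/-- **Knörr's theorem.** -/
theorem knorr_exists (hM : IsPModular p M) {b : Set (IrrCharacter N)} (hb : IsPBlock M b)
    {Q : Subgroup G} (hQN : Q ≤ N) (hQ : IsDefectGroup p M b (Q.subgroupOf N)) {B : Set (IrrCharacter G)}
    (hB : IsPBlock M B) (hcov : ∃ χ ∈ B, ∃ θ ∈ b, classInner (fun n : N => (χ : G → ℂ) n) (θ : N → ℂ) ≠ 0) :
    ∃ P, IsDefectGroup p M B P ∧ P ⊓ N = Q ∧ P ≤ blockStab N b := by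
  classical
  have := isPrime_of_modular hM
  have hNT := le_blockStab N b
  letI : Fintype (blockStab N b) := Fintype.ofFinite _
  have hT : ∀ x, x ∈ blockStab N b ↔ ∀ θ ∈ b, conjIrr N x θ ∈ b := fun x => Iff.rfl
  obtain ⟨F, hF, hFc, hFind⟩ := fr_surj N hNT hb hT hB hcov
  obtain ⟨C, hC, -, hirr, hmem⟩ := fr_main N hNT hb hT hF hFc
  have e0 := IsInducedBlock.unique (blockStab N b) hC hFind
  rw [e0] at hmem
  letI : Fintype (N.subgroupOf (blockStab N b)) := Fintype.ofFinite _
  haveI : (N.subgroupOf (blockStab N b)).Normal := Subgroup.normal_subgroupOf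
  set e : N.subgroupOf (blockStab N b) ≃* N := Subgroup.subgroupOfEquivOfLe hNT with he
  have hb₂ := isPBlock_blockPull e hb
  have hinv := blockPull_invariant N hNT hT
  have hinner : ∀ (φ : IrrCharacter (blockStab N b)) (θ : IrrCharacter N),
      classInner (fun n : N.subgroupOf (blockStab N b) => (φ : blockStab N b → ℂ) n)
        ((irrComp e θ : IrrCharacter (N.subgroupOf (blockStab N b))) : N.subgroupOf (blockStab N b) → ℂ) =
        classInner (resTN N hNT (φ : blockStab N b → ℂ)) (θ : N → ℂ) := by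
    intro φ θ
    exact classInner_comp_mulEquiv e (resTN N hNT (φ : blockStab N b → ℂ)) (θ : N → ℂ)
  have hcov₂ : ∃ χ ∈ F, ∃ θ ∈ blockPull e b,
      classInner (fun n : N.subgroupOf (blockStab N b) => (χ : blockStab N b → ℂ) n)
        (θ : N.subgroupOf (blockStab N b) → ℂ) ≠ 0 := by
    obtain ⟨ψ, hψ, θ, hθ, h⟩ := hFc
    refine ⟨ψ, hψ, irrComp e θ, (mem_blockPull _).mpr hθ, ?_⟩
    rw [hinner]
    exact h
  have hQT : Q ≤ blockStab N b := hQN.trans hNT
  have hQ'N' : Q.subgroupOf (blockStab N b) ≤ N.subgroupOf (blockStab N b) := fun x hx =>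
    Subgroup.mem_subgroupOf.mpr (hQN (Subgroup.mem_subgroupOf.mp hx))
  have hQ'' : IsDefectGroup p M (blockPull e b)
      ((Q.subgroupOf (blockStab N b)).subgroupOf (N.subgroupOf (blockStab N b))) := by
    have h1 := isDefectGroup_transBlock e hQ
    have h2 : (Q.subgroupOf N).comap e.toMonoidHom =
        (Q.subgroupOf (blockStab N b)).subgroupOf (N.subgroupOf (blockStab N b)) := by
      ext x
      rfl
    rw [h2] at h1
    exact h1
  obtain ⟨P', hP', hP'N⟩ := exists_defect_inf_eq_of_invariant (N.subgroupOf (blockStab N b)) hM hb₂ hinv hQ'N' hQ'' hF hcov₂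
  refine ⟨P'.map (blockStab N b).subtype, isDefectGroup_induced_of_fr hM hF hFind hirr hmem hP', ?_, ?_⟩
  · ext g
    constructor
    · rintro ⟨⟨t, ht, rfl⟩, hgN⟩
      have h1 : t ∈ P' ⊓ N.subgroupOf (blockStab N b) := ⟨ht, Subgroup.mem_subgroupOf.mpr hgN⟩
      rw [hP'N] at h1
      exact Subgroup.mem_subgroupOf.mp h1
    · intro hg
      have h1 : (⟨g, hQT hg⟩ : blockStab N b) ∈ P' ⊓ N.subgroupOf (blockStab N b) := by
        rw [hP'N]
        exact Subgroup.mem_subgroupOf.mpr hg
      exact ⟨⟨_, h1.1, rfl⟩, hQN hg⟩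
  · rintro _ ⟨t, -, rfl⟩
    exact t.2

end Invariant

end Cfsg.Agent.Lib.H8Group
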