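import Mathlib
import Cfsg.Agent.S4429
import Cfsg.Agent.S4711

/-! A simple group of order `7920`: the structure obtained along the way. -/

set_option autoImplicit false
set_option linter.unusedSectionVars false
set_option linter.unusedVariables false

namespace Cfsg.Agent.Lib.H8Group.M11

open Cfsg Cfsg.Agent.Lib.Char Cfsg.Agent.Lib.Blocks Cfsg.Agent.Lib.BT Subgroup MulAction Cfsg.Agent.S4429
open scoped ComplexConjugate

universe u

variable {G : Type u} [Group G] [Fintype G] [IsSimpleGroup G]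

/-- The analysis at the prime `5`. -/
theorem analysis (hG : Nat.card G = 7920) {P : Sylow 11 G} (h : SC P 5 13 2) (D : Dat P 5 2) {z : G} (hoz : orderOf z = 5) :
    D.ε = 1 ∧ (∀ χ ∈ D.A, charDegree (χ : G → ℂ) = 45) ∧ D.A.card = 1 ∧
      (∀ χ ∈ D.B, charDegree (χ : G → ℂ) = 10) ∧ D.B.card = 3 ∧ (∀ χ ∈ D.Y, charDegree (χ : G → ℂ) = 16) ∧
      Nat.card (centralizer ({z} : Set G)) = 5 ∧
      ∃ w : IrrCharacter G → ℤ, (∀ χ : IrrCharacter G, (χ : G → ℂ) z = w χ) ∧
        (∀ χ : IrrCharacter G, (5 : ℤ) ∣ (charDegree (χ : G → ℂ) : ℤ) - w χ) ∧ ∑ χ, (w χ) ^ 2 = 5 := by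
  classical
  obtain ⟨hε, hB, hbr⟩ := branches h hG D
  have hperf := h.perfect
  have hzp : IsPGroup 5 (zpowers z) := by
    apply isPGroup_zpowers (p := 5)
    exact ⟨1, by simpa using hoz⟩
  obtain ⟨Q, hQle⟩ := IsPGroup.exists_le_sylow hzp
  have hzQ : z ∈ (Q : Subgroup G) := hQle (mem_zpowers z)
  have hQ := card_sylow5 hG Q
  obtain ⟨v, e, n, hv, he, hmod, hmul, he2⟩ := numerics5 hG hperf Q
  have hz1' : z ≠ 1 := by
    intro h0
    rw [h0, orderOf_one] at hoz
    omega
  have hCz : centralizer ({z} : Set G) = centralizer ((Q : Subgroup G) : Set G) := cent_eq (p := 5) _ hQ hzQ hz1'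
  have hcz : Nat.card (centralizer ({z} : Set G)) = 5 * v := by rw [hCz, hv]
  have hcomm : ∀ y : centralizer ({z} : Set G), z * (y : G) = y * z := fun y => mem_centralizer_iff.mp y.2 z rfl
  have no11 : ¬ 11 ∣ v := by
    intro h11
    obtain ⟨y, hy⟩ := exists_prime_orderOf_dvd_card' (G := centralizer ({z} : Set G)) 11 (by rw [hcz]; exact Dvd.dvd.mul_left h11 5)
    exact no_eleven h hoz (y := y) (by rw [Subgroup.orderOf_coe]; exact hy) (hcomm y)
  have hfin : v = 1 → e = 4 → Nat.card (centralizer ({z} : Set G)) = 5 ∧ ∃ w : IrrCharacter G → ℤ, (∀ χ : IrrCharacter G, (χ : G → ℂ) z = w χ) ∧ (∀ χ : IrrCharacter G, (5 : ℤ) ∣ (charDegree (χ : G → ℂ) : ℤ) - w χ) ∧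
      ∑ χ, (w χ) ^ 2 = 5 := by
    rintro rfl rfl
    exact ⟨hcz, values5 (Q : Subgroup G) hQ hcz (fun x hx hx1 => conj_of_five (Q : Subgroup G) hQ hv he hzQ hz1' hx hx1)⟩
  rcases hbr with ⟨hA, hAc, hBc, hY⟩ | ⟨hA, hAc, hBc, hY⟩
  · -- the first branch
    have h2Y : D.Y.card = 2 := D.card_Y
    obtain ⟨θ, hθ⟩ : D.Y.Nonempty := by
      rw [← Finset.card_pos]
      omega
    have no2 : ¬ 2 ∣ v := by
      intro h2
      obtain ⟨u, hu⟩ := exists_prime_orderOf_dvd_card' (G := centralizer ({z} : Set G)) 2 (by rw [hcz]; exact Dvd.dvd.mul_left h2 5)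
      exact no_ten hG D hε (fun χ hχ => by rw [hA χ hχ]; norm_num) (fun χ hχ => by rw [hB χ hχ]; norm_num) hθ
        (by rw [hY θ hθ]) hoz (u := u) (by rw [Subgroup.orderOf_coe]; exact hu) (hcomm u)
    obtain ⟨hv1, he4⟩ := num1 v e n hmod hmul he2 no2 no11
    exact ⟨hε, hA, hAc, hB, hBc, hY, hfin hv1 he4⟩
  · -- the second branch
    exfalso
    have h2Y : D.Y.card = 2 := D.card_Y
    obtain ⟨θ, hθ⟩ : D.Y.Nonempty := by
      rw [← Finset.card_pos]
      omega
    have hv5 : ¬ 5 ∣ v := by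
      intro h5
      have h1 : Nat.card (centralizer ((Q : Subgroup G) : Set G)) ∣ Nat.card G := Subgroup.card_subgroup_dvd_card _
      rw [hv, hG] at h1
      obtain ⟨c, hc⟩ := h5
      rw [hc] at h1
      have h25 : 25 ∣ 7920 := Dvd.dvd.trans ⟨c, by ring⟩ h1
      norm_num at h25
    have hv1 : v = 1 := by
      by_contra hv1
      obtain ⟨q, hq, hqv⟩ := Nat.exists_prime_and_dvd hv1
      haveI := Fact.mk hq
      obtain ⟨y, hy⟩ := exists_prime_orderOf_dvd_card' (G := centralizer ({z} : Set G)) q (by rw [hcz]; exact Dvd.dvd.mul_left hqv 5)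
      have hq5 : q ≠ 5 := by
        rintro rfl
        exact hv5 hqv
      have hy' : orderOf (y : G) = q := by rw [Subgroup.orderOf_coe]; exact hy
      have h1 := eq_one_of_vanish hperf θ (hY θ hθ) (fun g hg => vanish5 hG θ (by rw [hY θ hθ]) hg) hoz (hcomm y)
        (by
          rw [hy']
          intro h5
          exact hq5 ((Nat.prime_dvd_prime_iff_eq (by norm_num) hq).mp h5).symm)
      rw [h1, orderOf_one] at hy'
      exact hq.one_lt.ne hy'
    have he4 : e = 4 := by
      rw [hv1] at hmul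
      rcases he2 with rfl | rfl
      · omega
      · rfl
    obtain ⟨-, w, hw1, hw2, hw3⟩ := hfin hv1 he4
    exact false_of_branch2 D w hw1 hw2 hw3 hA hAc

/-- An element of order `5` has centralizer of order `5`, and an element of order `11` has centralizer of order `11`. -/
theorem small_centralizers (hG : Nat.card G = 7920) :
    (∀ z : G, orderOf z = 5 → Nat.card (centralizer ({z} : Set G)) = 5) ∧
    (∀ y : G, orderOf y = 11 → Nat.card (centralizer ({y} : Set G)) = 11) := by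
  classical
  obtain ⟨P, h⟩ := exists_SC_M11 hG
  obtain ⟨D⟩ := h.exists_dat
  constructor
  · intro z hz
    exact (analysis hG h D hz).2.2.2.2.2.2.1
  · intro y hy
    obtain ⟨S, hS⟩ := h.exists_sylow_of_order hy
    have hy1 : y ≠ 1 := by
      intro h0
      rw [h0, orderOf_one] at hy
      omega
    rw [h.cent_all S y hS hy1]
    exact h.card_sylow_coe S

/-- The number of Sylow subgroups when the degree is ... : the square of a value at an element of order three. -/
theorem exists_normSq_three {x : G} (hx : orderOf x = 3) (χ : IrrCharacter G) :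
    ∃ N n : ℕ, (χ : G → ℂ) x * conj ((χ : G → ℂ) x) = N ∧ 3 * n = charDegree (χ : G → ℂ) ^ 2 + 2 * N := by
  classical
  have hχc := IsIrrCharacter.isCharacter χ.2
  let Φ : G → ℂ := fun g => (χ : G → ℂ) g * conj ((χ : G → ℂ) g)
  have hΦ : IsCharacter G Φ := IsCharacter.mul hχc (IsCharacter.conj hχc)
  let X : Subgroup G := zpowers x
  letI : Fintype X := Fintype.ofFinite _
  have hX : Nat.card X = 3 := by rw [Nat.card_zpowers, hx]
  obtain ⟨n, hn⟩ := Cfsg.Agent.S4711.exists_sum_eq_nat X hΦ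
  have hconst : ∀ y : X, y ≠ 1 → Φ y = Φ x := by
    intro y hy
    obtain ⟨k, hk⟩ := y.2
    have hk' : x ^ k = (y : G) := hk
    have hy1 : (y : G) ≠ 1 := fun e0 => hy (Subtype.ext e0)
    have h3 : (y : G) = x ∨ (y : G) = x⁻¹ := by
      have hmod : (k % 3 = 0) ∨ (k % 3 = 1) ∨ (k % 3 = 2) := by omega
      have hp3 : x ^ (3 : ℤ) = 1 := by
        have := pow_orderOf_eq_one x
        rw [hx] at this
        exact_mod_cast this
      have hsplit : x ^ k = x ^ (k % 3) := by
        conv_lhs => rw [← Int.mul_ediv_add_emod k 3, zpow_add, zpow_mul, hp3, one_zpow, one_mul]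
      rw [← hk', hsplit]
      rcases hmod with h0 | h0 | h0
      · rw [h0, zpow_zero] at hsplit
        exact absurd (hk' ▸ hsplit) hy1
      · rw [h0, zpow_one]
        exact Or.inl rfl
      · right
        rw [h0]
        rw [eq_inv_iff_mul_eq_one, ← zpow_add_one, show (2 : ℤ) + 1 = 3 by norm_num, hp3]
    rcases h3 with h3 | h3
    · show Φ y = Φ x
      rw [h3]
    · show Φ y = Φ x
      rw [h3]
      show (χ : G → ℂ) x⁻¹ * conj ((χ : G → ℂ) x⁻¹) = (χ : G → ℂ) x * conj ((χ : G → ℂ) x)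
      rw [IsCharacter.apply_inv hχc, Complex.conj_conj, mul_comm]
  have hsum : ∑ y : X, Φ y = Φ 1 + 2 * Φ x := by
    rw [← Finset.add_sum_erase _ _ (Finset.mem_univ (1 : X)), Finset.sum_congr rfl (fun y hy => hconst y (Finset.ne_of_mem_erase hy)),
      Finset.sum_const, Finset.card_erase_of_mem (Finset.mem_univ _), Finset.card_univ, ← Nat.card_eq_fintype_card, hX]
    simp
  have h1 : Φ 1 = ((charDegree (χ : G → ℂ) : ℂ)) ^ 2 := by
    show (χ : G → ℂ) 1 * conj ((χ : G → ℂ) 1) = _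
    rw [apply_one_eq_charDegree hχc, Complex.conj_natCast, sq]
  rw [hsum, h1, hX] at hn
  push_cast at hn
  obtain ⟨d, hd⟩ : ∃ d : ℕ, charDegree (χ : G → ℂ) = d := ⟨_, rfl⟩
  rw [hd] at hn ⊢
  -- the value is an integer
  have hint : IsIntegral ℤ (Φ x) := by
    have h2 := IsCharacter.isIntegral hχc x
    have h3 : IsIntegral ℤ (conj ((χ : G → ℂ) x)) := by
      rw [← IsCharacter.apply_inv hχc]
      exact IsCharacter.isIntegral hχc _
    exact h2.mul h3
  have hq : Φ x = algebraMap ℚ ℂ ((3 * (n : ℚ) - (d : ℚ) ^ 2) / 2) := by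
    rw [map_div₀, map_sub, map_mul, map_pow]
    simp only [map_ofNat, map_natCast]
    linear_combination (1 / 2 : ℂ) * hn
  rw [hq] at hint
  have hint2 : IsIntegral ℤ ((3 * (n : ℚ) - (d : ℚ) ^ 2) / 2) := (isIntegral_algebraMap_iff (algebraMap ℚ ℂ).injective).mp hint
  obtain ⟨k, hk⟩ := IsIntegrallyClosed.isIntegral_iff.mp hint2
  have hk' : ((k : ℤ) : ℚ) = (3 * (n : ℚ) - (d : ℚ) ^ 2) / 2 := hk
  have hk2 : 2 * (k : ℤ) = 3 * (n : ℤ) - (d : ℤ) ^ 2 := by
    have : (2 : ℚ) * (k : ℚ) = 3 * (n : ℚ) - (d : ℚ) ^ 2 := by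
      rw [hk']
      ring
    exact_mod_cast this
  have hΦk : Φ x = (k : ℂ) := by
    rw [hq, ← hk']
    simp
  have hk0 : 0 ≤ k := by
    have h2 : (0 : ℝ) ≤ Complex.normSq ((χ : G → ℂ) x) := Complex.normSq_nonneg _
    have h3 : Φ x = ((Complex.normSq ((χ : G → ℂ) x) : ℝ) : ℂ) := Complex.mul_conj _
    rw [h3] at hΦk
    have h4 : Complex.normSq ((χ : G → ℂ) x) = (k : ℝ) := by exact_mod_cast hΦk
    rw [h4] at h2
    exact_mod_cast h2
  refine ⟨k.toNat, n, ?_, ?_⟩
  · show Φ x = _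
    rw [hΦk]
    have : ((k.toNat : ℕ) : ℤ) = k := Int.toNat_of_nonneg hk0
    exact_mod_cast this.symm
  · have h7 : ((k.toNat : ℕ) : ℤ) = k := Int.toNat_of_nonneg hk0
    have h8 : ((3 * n : ℕ) : ℤ) = ((d ^ 2 + 2 * k.toNat : ℕ) : ℤ) := by
      push_cast
      rw [h7]
      linarith
    exact_mod_cast h8

/-- All the degrees. -/
theorem sum_deg (hG : Nat.card G = 7920) (f : ℕ → ℕ) :
    ∑ χ : IrrCharacter G, f (charDegree (χ : G → ℂ)) = f 1 + (3 * f 10 + (f 11 + (2 * f 16 + (f 44 + (f 45 + f 55))))) := by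
  classical
  have hr := (Cfsg.Agent.S4429.result hG).2
  have hcount : ∀ v : ℕ, (Finset.univ.filter (fun χ : IrrCharacter G => charDegree (χ : G → ℂ) = v)).card =
      (if v = 1 ∨ v = 11 ∨ v = 44 ∨ v = 45 ∨ v = 55 then 1 else if v = 10 then 3 else if v = 16 then 2 else 0) := by
    intro v
    rw [← hr v, Nat.card_eq_fintype_card, Fintype.card_subtype]
  have hV : ∀ χ ∈ (Finset.univ : Finset (IrrCharacter G)), charDegree (χ : G → ℂ) ∈ ({1, 10, 11, 16, 44, 45, 55} : Finset ℕ) := by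
    intro χ _
    by_contra hnot
    simp only [Finset.mem_insert, Finset.mem_singleton, not_or] at hnot
    have h1 := hcount (charDegree (χ : G → ℂ))
    have h2 : χ ∈ Finset.univ.filter (fun ψ : IrrCharacter G => charDegree (ψ : G → ℂ) = charDegree (χ : G → ℂ)) :=
      Finset.mem_filter.mpr ⟨Finset.mem_univ _, rfl⟩
    obtain ⟨h3, h4, h5, h6, h7, h8, h9⟩ := hnot
    rw [if_neg (by tauto), if_neg h4, if_neg h6, Finset.card_eq_zero] at h1
    rw [h1] at h2
    simp at h2
  rw [sum_fiber Finset.univ (fun χ : IrrCharacter G => charDegree (χ : G → ℂ)) _ hV f]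
  simp only [hcount]
  rw [Finset.sum_insert (by decide), Finset.sum_insert (by decide), Finset.sum_insert (by decide),
    Finset.sum_insert (by decide), Finset.sum_insert (by decide), Finset.sum_insert (by decide), Finset.sum_singleton]
  norm_num

end Cfsg.Agent.Lib.H8Group.M11
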