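import Cfsg.Agent.Lib.H8Group.ConjPairs
import Cfsg.Agent.Lib.H8Group.Subsection

/-!
# Maximal Brauer pairs
-/

set_option autoImplicit false
set_option linter.unusedSectionVars false

namespace Cfsg.Agent.Lib.H8Group

open Cfsg Cfsg.Agent.Lib.Char Cfsg.Agent.Lib.Blocks

universe u v

section Abstract

variable {C D : Type u} [Group C] [Fintype C] [Group D] [Fintype D] {Γ : Type v} [Group Γ]
  {M : Ideal AlgInt} {p : ℕ} [hp : Fact p.Prime] {ρ : Γ →* MulAut C} {ι : D →* C}

/-- A nonzero image of an idempotent is detected by an irreducible character. -/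
theorem exists_brV_not_mem (hM : IsPModular p M) [M.IsPrime] (hΓ : IsPGroup p Γ) (h : BrData ρ ι)
    {c : IrrCharacter C → ℂ} (hc : c ∈ zS M C) (hcc : c * c = c) (hinv : InvF ρ (coef c)) {y : D}
    (hy : ¬ MemLocalIdeal M (coef c (ι y))) : ∃ ξ₀, ¬ MemLocalIdeal M (brV ι c ξ₀) := by
  classical
  by_contra hcon
  push Not at hcon
  have hdS := brV_mem_zS (M := M) ι hc
  have hcoef : coef (brV ι c) = coef c ∘ ι := coef_spec _ (isClassFunction_comp (coef_isClassFunction _) ι)
  have hid : CoefIdeal M (brV ι c * brV ι c - brV ι c) := by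
    intro t
    rw [coef_sub, coef_mul, hcoef, Pi.sub_apply]
    have h1 := conv_brauer hM hΓ h hinv hinv hc hc t
    rw [← coef_mul, hcc] at h1
    exact MemLocalIdeal.symm h1
  have hcube : CoefIdeal M (brV ι c ^ 3 - brV ι c) := by
    have h1 : brV ι c ^ 3 - brV ι c = (brV ι c * brV ι c - brV ι c) * (brV ι c + 1) := by ring
    rw [h1]
    exact CoefIdeal.mul_right hid (Subring.add_mem _ hdS (Subring.one_mem _))
  have h2 := coefIdeal_of_cube hM hdS hcube hcon y
  rw [hcoef] at h2
  exact hy h2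

/-- A stable block below a stable union of blocks with a nonzero image. -/
theorem exists_stable_block_of_union (hM : IsPModular p M) (hΓ : IsPGroup p Γ) (h : BrData ρ ι)
    {A : Set (IrrCharacter C)} (hA : ∀ χ ∈ A, blockOf M (χ : C → ℂ) ⊆ A) (hAs : IsStable ρ A) {y : D}
    (hy : ¬ MemLocalIdeal M (coef (indic A) (ι y))) :
    ∃ (ξ₀ : IrrCharacter D) (f : Set (IrrCharacter C)), IsPBlock M f ∧ IsStable ρ f ∧ f ⊆ A ∧
      MemLocalIdeal M (brV ι (indic f) ξ₀ - 1) := by
  classical
  have := isPrime_of_modular hM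
  have hS : indic A ∈ zS M C := indic_mem_zS_of_closed hA
  obtain ⟨ξ₀, hξ₀⟩ := exists_brV_not_mem hM hΓ h hS (indic_mul_self A) (invF_of_isStable hAs) hy
  obtain ⟨f, ⟨hf, hfs, hf1⟩, -⟩ := existsUnique_stable_block hM hΓ h ξ₀
  refine ⟨ξ₀, f, hf, hfs, ?_, hf1⟩
  by_contra hsub
  have hdisj : indic f * indic A = 0 := by
    funext θ
    simp only [Pi.mul_apply, Pi.zero_apply]
    by_cases h1 : θ ∈ f
    · by_cases h2 : θ ∈ A
      · exfalso
        apply hsub
        rw [blockOf_eq_of_mem hf h1]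
        exact hA θ h2
      · rw [indic_apply_of_notMem h2, mul_zero]
    · rw [indic_apply_of_notMem h1, zero_mul]
  have h3 := brV_mul hM hΓ h (indic_mem_zS hf) hS (invF_of_isStable hfs) (invF_of_isStable hAs) ξ₀
  rw [hdisj, brV_zero, zero_sub] at h3
  have h4 := MemLocalIdeal.neg h3
  rw [neg_neg] at h4
  have h5 := MemLocalIdeal.mul_right hf1 (brV_memLocalRing ι hS ξ₀)
  apply hξ₀
  have h6 := MemLocalIdeal.sub h4 h5
  convert h6 using 1
  ring

end Abstract

section Step

variable {G : Type u} [Group G] [Fintype G] {M : Ideal AlgInt} {p : ℕ} [hp : Fact p.Prime] {Q P : Subgroup G}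

/-- A stable block with a nonzero coefficient on the centralizer of a larger `p`-group lies below a
pair for that group. -/
theorem exists_isNormalSubpair_of_coeff (hM : IsPModular p M) {R : Subgroup G} (hR : IsPGroup p R) (hQR : Q ≤ R)
    (hRN : R ≤ Subgroup.normalizer (Q : Set G)) {f : Set (IrrCharacter (Subgroup.centralizer (Q : Set G)))}
    (hf : IsPBlock M f) (hst : ∀ x ∈ R, StabilizesBlock (Subgroup.centralizer (Q : Set G)) f x)
    {y : G} (hyR : y ∈ Subgroup.centralizer (R : Set G))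
    (hy : ¬ MemLocalIdeal M (subgroupBlockCoeff (Subgroup.centralizer (Q : Set G)) f y)) :
    ∃ g, IsNormalSubpair p M Q f R g := by
  classical
  have := isPrime_of_modular hM
  letI : Fintype (Subgroup.centralizer (R : Set G)) := Fintype.ofFinite _
  letI : Fintype (Subgroup.centralizer (Q : Set G)) := Fintype.ofFinite _
  have hs := (isStable_iff_stabilizes hRN f).mpr hst
  have hyQ : y ∈ Subgroup.centralizer (Q : Set G) := Subgroup.centralizer_le hQR hyR
  have hy' : ¬ MemLocalIdeal M (coef (indic f) (cenIncl hQR ⟨y, hyR⟩)) := by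
    intro h
    apply hy
    simp only [subgroupBlockCoeff, dif_pos hyQ]
    rw [blockCoeff_eq_coef]
    exact h
  obtain ⟨ξ₀, hξ₀⟩ := exists_brV_not_mem hM hR (brData_c hQR hRN) (indic_mem_zS hf) (indic_mul_self f)
    (invF_of_isStable hs) hy'
  obtain ⟨f₂, ⟨hf₂, hf₂s, hf₂1⟩, -⟩ := existsUnique_stable_block hM hR (brData_c hQR hRN) ξ₀
  have hff₂ : f₂ = f := by
    by_contra hne
    have h3 := brV_mul hM hR (brData_c hQR hRN) (indic_mem_zS hf₂) (indic_mem_zS hf) (invF_of_isStable hf₂s)
      (invF_of_isStable hs) ξ₀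
    rw [indic_mul_indic_eq_zero hf₂ hf hne, brV_zero, zero_sub] at h3
    have h4 := MemLocalIdeal.neg h3
    rw [neg_neg] at h4
    have h5 := MemLocalIdeal.mul_right hf₂1 (brV_memLocalRing (cenIncl hQR) (indic_mem_zS hf) ξ₀)
    apply hξ₀
    have h6 := MemLocalIdeal.sub h4 h5
    convert h6 using 1
    ring
  rw [hff₂] at hf₂1
  refine ⟨blockOf M (ξ₀ : Subgroup.centralizer (R : Set G) → ℂ), ⟨hR.to_le hQR, hf⟩, ⟨hR, isPBlock_blockOf ξ₀⟩, hQR, hRN, hst, fun ξ hξ => ?_⟩
  rw [brauerOmega_eq_brV_c hQR]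
  exact MemLocalIdeal.trans (brV_congr (cenIncl hQR) (indic_mem_zS hf) (isPBlock_blockOf ξ₀) hξ (self_mem_blockOf ξ₀)) hf₂1

end Step

section Max

variable {G : Type u} [Group G] [Fintype G] {M : Ideal AlgInt} {p : ℕ} [hp : Fact p.Prime] {P : Subgroup G}

theorem normal_centralizer_subgroupOf (P : Subgroup G) :
    ((Subgroup.centralizer (P : Set G)).subgroupOf (Subgroup.normalizer (P : Set G))).Normal := by
  constructor
  intro n hn g
  rw [Subgroup.mem_subgroupOf] at hn ⊢
  exact conj_mem_centralizer_of_normalizer g.2 hn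

/-- The isomorphism of the centralizer as a subgroup of `N_G(P)` and of `G`. -/
abbrev cenSub (P : Subgroup G) :
    ((Subgroup.centralizer (P : Set G)).subgroupOf (Subgroup.normalizer (P : Set G))) ≃* Subgroup.centralizer (P : Set G) :=
  Subgroup.subgroupOfEquivOfLe (Subgroup.centralizer_le_normalizer _)

variable [Fintype (Subgroup.normalizer (P : Set G))] [Fintype (Subgroup.centralizer (P : Set G))]
  [Fintype ((Subgroup.centralizer (P : Set G)).subgroupOf (Subgroup.normalizer (P : Set G)))]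

/-- A block of `N_G(P)` over a block of `C_G(P)` inducing `B` induces `B`. -/
theorem isInducedBlock_of_cover (hM : IsPModular p M) (hP : IsPGroup p P)
    {e : Set (IrrCharacter (Subgroup.centralizer (P : Set G)))} {B : Set (IrrCharacter G)}
    (he : IsInducedBlock M (Subgroup.centralizer (P : Set G)) e B)
    {B₀ : Set (IrrCharacter (Subgroup.normalizer (P : Set G)))} (hB₀ : IsPBlock M B₀)
    {ψ : IrrCharacter (Subgroup.normalizer (P : Set G))} (hψ : ψ ∈ B₀) {ξ : IrrCharacter (Subgroup.centralizer (P : Set G))}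
    (hξ : ξ ∈ e)
    (hcon : classInner (fun n : ((Subgroup.centralizer (P : Set G)).subgroupOf (Subgroup.normalizer (P : Set G))) =>
        (ψ : Subgroup.normalizer (P : Set G) → ℂ) n) ((Cfsg.Agent.Lib.Blocks.irrComp (cenSub P) ξ : IrrCharacter _) : _ → ℂ) ≠ 0) :
    IsInducedBlock M (Subgroup.normalizer (P : Set G)) B₀ B := by
  classical
  have := isPrime_of_modular hM
  haveI := normal_centralizer_subgroupOf P
  obtain ⟨χ, hχ⟩ := IsPBlock.nonempty he.2.1
  refine isInducedBlock_of_mem _ hB₀ he.2.1 hψ hχ fun g => ?_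
  have h1 := induced_sub_brauer (M := M) (Subgroup.normalizer (P : Set G)) hM hP Subgroup.le_normalizer le_rfl ψ g
  rw [brauerCentralChar_eq_spec] at h1
  have hf : ∀ t : Subgroup.normalizer (P : Set G),
      Cfsg.Agent.Lib.Char.conjFun ((Subgroup.centralizer (P : Set G)).subgroupOf (Subgroup.normalizer (P : Set G))) t
        (fun n : ((Subgroup.centralizer (P : Set G)).subgroupOf (Subgroup.normalizer (P : Set G))) => brT (Subgroup.normalizer (P : Set G)) P (cls g) n) =
      fun n : ((Subgroup.centralizer (P : Set G)).subgroupOf (Subgroup.normalizer (P : Set G))) => brT (Subgroup.normalizer (P : Set G)) P (cls g) n := by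
    intro t
    funext n
    rw [Cfsg.Agent.Lib.Char.conjFun_apply]
    have h2 := brT_isClassFunction (Subgroup.normalizer (P : Set G)) (P := P) le_rfl (cls_isClassFunction g) (n : _) t⁻¹
    simpa using h2
  have h3 := spec_extendByZero _ hf hcon
  have h4 : extendByZero ((Subgroup.centralizer (P : Set G)).subgroupOf (Subgroup.normalizer (P : Set G)))
      (fun n : ((Subgroup.centralizer (P : Set G)).subgroupOf (Subgroup.normalizer (P : Set G))) => brT (Subgroup.normalizer (P : Set G)) P (cls g) n) =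
      brT (Subgroup.normalizer (P : Set G)) P (cls g) := by
    funext t
    by_cases ht : t ∈ (Subgroup.centralizer (P : Set G)).subgroupOf (Subgroup.normalizer (P : Set G))
    · rw [extendByZero_of_mem _ _ ht]
    · rw [extendByZero_of_notMem _ _ ht, brT_of_notMem _ _ _ (fun h => ht (Subgroup.mem_subgroupOf.mpr h))]
  rw [h4] at h3
  rw [h3] at h1
  have h5 : spec (fun n : ((Subgroup.centralizer (P : Set G)).subgroupOf (Subgroup.normalizer (P : Set G))) =>
      brT (Subgroup.normalizer (P : Set G)) P (cls g) n)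
      (Cfsg.Agent.Lib.Blocks.irrComp (cenSub P) ξ) =
      spec (Cfsg.Agent.Lib.Blocks.resFun (Subgroup.centralizer (P : Set G)) (cls g)) ξ := by
    rw [← spec_irrComp (cenSub P)]
    congr 1
    funext n
    have hn : ((n : Subgroup.normalizer (P : Set G)) : G) ∈ Subgroup.centralizer (P : Set G) :=
      Subgroup.mem_subgroupOf.mp n.2
    rw [brT_of_mem _ _ _ hn]
    rfl
  rw [h5, ← inducedCentralChar_eq_spec] at h1
  exact MemLocalIdeal.trans h1 (he.2.2 ξ hξ χ hχ g)

/-- **The defect group of a block of `N_G(P)` covering a maximal pair.** -/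
theorem isDefectGroup_of_maximal (hM : IsPModular p M)
    {e : Set (IrrCharacter (Subgroup.centralizer (P : Set G)))} {B : Set (IrrCharacter G)}
    (hmax : IsMaximalBrauerPair p M B P e)
    {B₀ : Set (IrrCharacter (Subgroup.normalizer (P : Set G)))} (hB₀ : IsPBlock M B₀)
    (hcov : ∃ ψ ∈ B₀, ∃ ξ ∈ e,
      classInner (fun n : ((Subgroup.centralizer (P : Set G)).subgroupOf (Subgroup.normalizer (P : Set G))) =>
        (ψ : Subgroup.normalizer (P : Set G) → ℂ) n) ((Cfsg.Agent.Lib.Blocks.irrComp (cenSub P) ξ : IrrCharacter _) : _ → ℂ) ≠ 0) :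
    IsDefectGroup p M B₀ (P.subgroupOf (Subgroup.normalizer (P : Set G))) := by
  classical
  have := isPrime_of_modular hM
  haveI := normal_centralizer_subgroupOf P
  obtain ⟨⟨hPp, he⟩, hB, hv⟩ := hmax.1
  obtain ⟨ψ₀, hψ₀, ξ₀, hξ₀, hcon₀⟩ := hcov
  have he'' := isPBlock_transBlock (cenSub P) he
  have hξ₀'' := irrComp_mem_transBlock (cenSub P) hξ₀
  have hbc : ∀ θ ∈ transBlock (cenSub P) e, blockOf M (θ : _ → ℂ) ⊆ transBlock (cenSub P) e := by
    intro θ hθ
    rw [← blockOf_eq_of_mem he'' hθ]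
  have hA''b := gSat_closed (G := Subgroup.normalizer (P : Set G)) _ hbc
  have hA''inv : ∀ (g : Subgroup.normalizer (P : Set G)) θ,
      θ ∈ gSat (G := Subgroup.normalizer (P : Set G)) _ (transBlock (cenSub P) e) →
      conjIrr _ g θ ∈ gSat (G := Subgroup.normalizer (P : Set G)) _ (transBlock (cenSub P) e) :=
    fun g θ h => gSat_invariant _ h g
  have hinv := conjFun_coef_indic _ hA''inv
  have hz : indic (gSat (G := Subgroup.normalizer (P : Set G)) _ (transBlock (cenSub P) e)) ∈ zS M _ :=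
    indic_mem_zS_of_closed hA''b
  have hacl := extendByZero_isClassFunction _ hinv
  have haS := extendByZero_memLocalRing (M := M) _ (fun x => hz x)
  have hspec : ∀ χ ∈ B₀, spec (extendByZero _ (coef (indic (gSat (G := Subgroup.normalizer (P : Set G)) _
      (transBlock (cenSub P) e))))) χ = 1 := by
    intro χ hχ
    obtain ⟨θ, hθ⟩ := Cfsg.Agent.Lib.Blocks.exists_constituent
      ((Subgroup.centralizer (P : Set G)).subgroupOf (Subgroup.normalizer (P : Set G))) χ
    obtain ⟨g, hg⟩ := covering_constituents _ hB₀ he'' hψ₀ hχ hξ₀'' hcon₀ hθ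
    rw [spec_extendByZero _ hinv hθ, spec_coef, indic_apply_of_mem]
    exact ⟨g, hg⟩
  have hconv : conv (extendByZero _ (coef (indic (gSat (G := Subgroup.normalizer (P : Set G)) _
      (transBlock (cenSub P) e))))) (coef (indic B₀)) = coef (indic B₀) := by
    have h1 := coef_mul (spec (extendByZero _ (coef (indic (gSat (G := Subgroup.normalizer (P : Set G)) _
      (transBlock (cenSub P) e)))))) (indic B₀)
    rw [coef_spec _ hacl] at h1
    rw [← h1]
    congr 1
    funext χ
    simp only [Pi.mul_apply]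
    by_cases hχ : χ ∈ B₀
    · rw [hspec χ hχ, one_mul]
    · rw [indic_apply_of_notMem hχ, mul_zero]
  obtain ⟨P₀, hP₀⟩ := IsPBlock.exists_isDefectGroup hM hB₀
  obtain ⟨g₀, hg₀, hS⟩ := isDefectGroup_iff.mp hP₀
  have hP₀p := hS.isPGroup
  have hg₀cen : g₀ ∈ Subgroup.centralizer (P₀ : Set (Subgroup.normalizer (P : Set G))) := by
    rw [Subgroup.mem_centralizer_iff]
    intro t ht
    exact Subgroup.mem_centralizer_singleton_iff.mp (hS.le ht)
  letI : Fintype (Subgroup.centralizer (P₀ : Set (Subgroup.normalizer (P : Set G)))) := Fintype.ofFinite _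
  have h1 := conv_brauer hM hP₀p (brData_g P₀) (a := extendByZero _ (coef (indic (gSat (G := Subgroup.normalizer (P : Set G)) _
      (transBlock (cenSub P) e))))) (b := coef (indic B₀)) (fun u x => hacl x u)
      (fun u x => coef_isClassFunction _ x u) haS (indic_mem_zS hB₀) ⟨g₀, hg₀cen⟩
  have hne : ¬ MemLocalIdeal M (coef (indic B₀) g₀) := by
    rw [← blockCoeff_eq_coef]
    exact hg₀.2.1
  have hex : ∃ y : Subgroup.centralizer (P₀ : Set (Subgroup.normalizer (P : Set G))),
      ¬ MemLocalIdeal M (extendByZero _ (coef (indic (gSat (G := Subgroup.normalizer (P : Set G)) _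
      (transBlock (cenSub P) e)))) (y : Subgroup.normalizer (P : Set G))) := by
    by_contra hcon
    push Not at hcon
    apply hne
    have h2 : MemLocalIdeal M (conv ((extendByZero _ (coef (indic (gSat (G := Subgroup.normalizer (P : Set G)) _
      (transBlock (cenSub P) e))))) ∘ Subgroup.subtype _) (coef (indic B₀) ∘ Subgroup.subtype _) ⟨g₀, hg₀cen⟩) := by
      refine MemLocalIdeal.sum _ fun y _ => MemLocalIdeal.mul_right (hcon y) (indic_mem_zS hB₀ _)
    have h3 := MemLocalIdeal.add h1 h2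
    rw [sub_add_cancel] at h3
    rw [hconv] at h3
    exact h3
  obtain ⟨y, hy⟩ := hex
  have hyC : (y : Subgroup.normalizer (P : Set G)) ∈
      (Subgroup.centralizer (P : Set G)).subgroupOf (Subgroup.normalizer (P : Set G)) := by
    by_contra hn
    apply hy
    rw [extendByZero_of_notMem _ _ hn]
    exact memLocalIdeal_zero
  rw [extendByZero_of_mem _ _ hyC] at hy
  -- the larger group
  have hPle : P.subgroupOf (Subgroup.normalizer (P : Set G)) ≤ P₀ := by
    haveI hnorm : (P.subgroupOf (Subgroup.normalizer (P : Set G))).Normal := Subgroup.normal_in_normalizer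
    exact (Cfsg.Agent.Lib.Basic.le_pCore hnorm (isPGroup_subgroupOf hPp _)).trans
      (IsDefectGroup.pCore_le hM hB₀ hP₀)
  have hPD₀ : P ≤ P₀.map (Subgroup.subtype (Subgroup.normalizer (P : Set G))) := by
    intro q hq
    exact ⟨⟨q, Subgroup.le_normalizer hq⟩, hPle (Subgroup.mem_subgroupOf.mpr hq), rfl⟩
  have hD₀N : P₀.map (Subgroup.subtype (Subgroup.normalizer (P : Set G))) ≤ Subgroup.normalizer (P : Set G) :=
    Subgroup.map_subtype_le _
  have hD₀p : IsPGroup p (P₀.map (Subgroup.subtype (Subgroup.normalizer (P : Set G)))) := hP₀p.map _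
  letI : Fintype (Subgroup.centralizer ((P₀.map (Subgroup.subtype (Subgroup.normalizer (P : Set G))) : Subgroup G) : Set G)) :=
    Fintype.ofFinite _
  -- the saturated set on `C_G(P)`
  have hAb : ∀ χ ∈ transBlock (cenSub P).symm (gSat (G := Subgroup.normalizer (P : Set G)) _ (transBlock (cenSub P) e)),
      blockOf M (χ : Subgroup.centralizer (P : Set G) → ℂ) ⊆
        transBlock (cenSub P).symm (gSat (G := Subgroup.normalizer (P : Set G)) _ (transBlock (cenSub P) e)) := by
    intro χ hχ χ' hχ'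
    have h2 : Cfsg.Agent.Lib.Blocks.irrComp (cenSub P) χ ∈
        gSat (G := Subgroup.normalizer (P : Set G)) _ (transBlock (cenSub P) e) := hχ
    exact hA''b _ h2 (sameBlock_irrComp (cenSub P) hχ')
  have hconjN : ∀ (u : Subgroup.normalizer (P : Set G)) (ψ' : IrrCharacter (Subgroup.centralizer (P : Set G))),
      Cfsg.Agent.Lib.Blocks.irrComp (cenSub P) (Cfsg.Agent.Lib.Blocks.irrComp (cenConj P u).symm ψ') =
        conjIrr _ u (Cfsg.Agent.Lib.Blocks.irrComp (cenSub P) ψ') := by
    intro u ψ'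
    apply Subtype.ext
    funext n
    rfl
  have hAs : IsStable (cenAct P _ hD₀N) (transBlock (cenSub P).symm
      (gSat (G := Subgroup.normalizer (P : Set G)) _ (transBlock (cenSub P) e))) := by
    intro u
    ext ψ'
    show Cfsg.Agent.Lib.Blocks.irrComp (cenSub P) (Cfsg.Agent.Lib.Blocks.irrComp (cenAct P _ hD₀N u).symm ψ') ∈
        gSat (G := Subgroup.normalizer (P : Set G)) _ (transBlock (cenSub P) e) ↔
      Cfsg.Agent.Lib.Blocks.irrComp (cenSub P) ψ' ∈ gSat (G := Subgroup.normalizer (P : Set G)) _ (transBlock (cenSub P) e)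
    have h2 := hconjN ⟨u, hD₀N u.2⟩ ψ'
    have h3 : Cfsg.Agent.Lib.Blocks.irrComp (cenSub P) (Cfsg.Agent.Lib.Blocks.irrComp (cenAct P _ hD₀N u).symm ψ') =
        conjIrr _ (⟨u, hD₀N u.2⟩ : Subgroup.normalizer (P : Set G)) (Cfsg.Agent.Lib.Blocks.irrComp (cenSub P) ψ') := h2
    rw [h3]
    constructor
    · intro h4
      have h5 := gSat_invariant _ h4 (⟨u, hD₀N u.2⟩ : Subgroup.normalizer (P : Set G))⁻¹
      rwa [← conjIrr_mul, inv_mul_cancel, conjIrr_one] at h5
    · intro h4
      exact gSat_invariant _ h4 _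
  have hy₀ : ((y : Subgroup.normalizer (P : Set G)) : G) ∈
      Subgroup.centralizer ((P₀.map (Subgroup.subtype (Subgroup.normalizer (P : Set G))) : Subgroup G) : Set G) := by
    rw [Subgroup.mem_centralizer_iff]
    rintro _ ⟨t, ht, rfl⟩
    have h2 := Subgroup.mem_centralizer_iff.mp y.2 t ht
    exact congrArg Subtype.val h2
  have hy₂ : ¬ MemLocalIdeal M (coef (indic (transBlock (cenSub P).symm
      (gSat (G := Subgroup.normalizer (P : Set G)) _ (transBlock (cenSub P) e))))
      (cenIncl hPD₀ ⟨_, hy₀⟩)) := by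
    rw [coef_indic_transBlock]
    exact hy
  obtain ⟨ξ₁, f, hf, hfs, hfA, hf1⟩ := exists_stable_block_of_union hM hD₀p (brData_c hPD₀ hD₀N) hAb hAs hy₂
  have hns : IsNormalSubpair p M P f (P₀.map (Subgroup.subtype (Subgroup.normalizer (P : Set G))))
      (blockOf M (ξ₁ : _ → ℂ)) := by
    refine ⟨⟨hPp, hf⟩, ⟨hD₀p, isPBlock_blockOf ξ₁⟩, hPD₀, hD₀N, (isStable_iff_stabilizes hD₀N f).mp hfs,
      fun ξ hξ => ?_⟩
    rw [brauerOmega_eq_brV_c hPD₀]
    exact MemLocalIdeal.trans (brV_congr (cenIncl hPD₀) (indic_mem_zS hf) (isPBlock_blockOf ξ₁) hξ (self_mem_blockOf ξ₁)) hf1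
  obtain ⟨θ, hθ⟩ := IsPBlock.nonempty hf
  obtain ⟨z, hz'⟩ : Cfsg.Agent.Lib.Blocks.irrComp (cenSub P) θ ∈
      gSat (G := Subgroup.normalizer (P : Set G)) _ (transBlock (cenSub P) e) := hfA hθ
  have hzP : conjS (z : G) P = P := by
    ext q
    rw [mem_conjS]
    have h2 := Subgroup.mem_normalizer_iff.mp (Subgroup.inv_mem _ z.2) q
    have h3 : (z : G)⁻¹ * q * (z : G)⁻¹⁻¹ = (z : G)⁻¹ * q * (z : G) := by simp
    rw [h3] at h2
    exact h2.symm
  have hconj : conjB (z : G) hzP f = e := by
    have h2 := irrComp_symm_mem_conjB (z : G) hzP hθ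
    have h3 : Cfsg.Agent.Lib.Blocks.irrComp (cenIso (z : G) hzP).symm θ ∈ e := by
      have h4 : Cfsg.Agent.Lib.Blocks.irrComp (cenSub P).symm
          (conjIrr _ z (Cfsg.Agent.Lib.Blocks.irrComp (cenSub P) θ)) ∈ e := hz'
      have h5 : Cfsg.Agent.Lib.Blocks.irrComp (cenSub P).symm
          (conjIrr _ z (Cfsg.Agent.Lib.Blocks.irrComp (cenSub P) θ)) =
          Cfsg.Agent.Lib.Blocks.irrComp (cenIso (z : G) hzP).symm θ := by
        apply Subtype.ext
        funext c
        rfl
      rwa [h5] at h4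
    rw [blockOf_eq_of_mem (isPBlock_conjB (z : G) hzP hf) h2, ← blockOf_eq_of_mem he h3]
  have hns2 := isNormalSubpair_conjB (z : G) hzP rfl hns
  rw [hconj] at hns2
  have hpair := (isBrauerPairOf_iff_normal hM hns2 (hmax.1.2.1)).mpr hmax.1
  have hfin := hmax.2 _ _ hpair (Relation.ReflTransGen.single hns2)
  have hD₀eq : P₀.map (Subgroup.subtype (Subgroup.normalizer (P : Set G))) = P := by
    have h2 := congrArg (conjS (z : G)⁻¹) hfin
    rwa [conjS_conjS, inv_mul_cancel, conjS_one, conjS_inv_of_conjS (z : G) hzP] at h2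
  have hfinal : P.subgroupOf (Subgroup.normalizer (P : Set G)) = P₀ := by
    ext t
    rw [Subgroup.mem_subgroupOf]
    constructor
    · intro ht
      have h2 : (t : G) ∈ P₀.map (Subgroup.subtype (Subgroup.normalizer (P : Set G))) := by
        rw [hD₀eq]
        exact ht
      obtain ⟨t', ht', ht''⟩ := h2
      have : t' = t := Subtype.ext ht''
      rwa [← this]
    · intro ht
      have h2 : (t : G) ∈ P₀.map (Subgroup.subtype (Subgroup.normalizer (P : Set G))) := ⟨t, ht, rfl⟩
      rwa [hD₀eq] at h2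
  rw [hfinal]
  exact hP₀

/-- **Maximal pairs have defect groups as subgroups** (S4659, with extra data). -/
theorem exists_cover_of_maximal (hM : IsPModular p M)
    {e : Set (IrrCharacter (Subgroup.centralizer (P : Set G)))} {B : Set (IrrCharacter G)}
    (hmax : IsMaximalBrauerPair p M B P e) {ξ : IrrCharacter (Subgroup.centralizer (P : Set G))} (hξ : ξ ∈ e)
    {ψ : IrrCharacter (Subgroup.normalizer (P : Set G))}
    (hψ : classInner (fun n : ((Subgroup.centralizer (P : Set G)).subgroupOf (Subgroup.normalizer (P : Set G))) =>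
        (ψ : Subgroup.normalizer (P : Set G) → ℂ) n) ((Cfsg.Agent.Lib.Blocks.irrComp (cenSub P) ξ : IrrCharacter _) : _ → ℂ) ≠ 0) :
    IsDefectGroup p M (blockOf M (ψ : Subgroup.normalizer (P : Set G) → ℂ)) (P.subgroupOf (Subgroup.normalizer (P : Set G))) ∧
      IsInducedBlock M (Subgroup.normalizer (P : Set G)) (blockOf M (ψ : Subgroup.normalizer (P : Set G) → ℂ)) B := by
  classical
  have := isPrime_of_modular hM
  obtain ⟨⟨hPp, he⟩, hB, hv⟩ := hmax.1
  have hB₀ := isPBlock_blockOf (M := M) ψ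
  exact ⟨isDefectGroup_of_maximal hM hmax hB₀ ⟨ψ, self_mem_blockOf ψ, ξ, hξ, hψ⟩,
    isInducedBlock_of_cover hM hPp ((isBrauerPairOf_iff hM hPp he).mp hmax.1) hB₀ (self_mem_blockOf ψ) hξ hψ⟩

omit [Fintype (Subgroup.normalizer (P : Set G))] [Fintype (Subgroup.centralizer (P : Set G))]
  [Fintype ((Subgroup.centralizer (P : Set G)).subgroupOf (Subgroup.normalizer (P : Set G)))] in
/-- **S4659.** If `(P, e)` is a maximal pair of `B`, then `P` is a defect group of `B`. -/
theorem isDefectGroup_of_isMaximalBrauerPair (hM : IsPModular p M)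
    {e : Set (IrrCharacter (Subgroup.centralizer (P : Set G)))} {B : Set (IrrCharacter G)}
    (hmax : IsMaximalBrauerPair p M B P e) : IsDefectGroup p M B P := by
  classical
  have := isPrime_of_modular hM
  letI : Fintype (Subgroup.normalizer (P : Set G)) := Fintype.ofFinite _
  letI : Fintype (Subgroup.centralizer (P : Set G)) := Fintype.ofFinite _
  letI : Fintype ((Subgroup.centralizer (P : Set G)).subgroupOf (Subgroup.normalizer (P : Set G))) := Fintype.ofFinite _
  haveI := normal_centralizer_subgroupOf P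
  obtain ⟨⟨hPp, he⟩, hB, hv⟩ := hmax.1
  obtain ⟨ξ, hξ⟩ := IsPBlock.nonempty he
  obtain ⟨ψ, hψ⟩ := exists_over_irr ((Subgroup.centralizer (P : Set G)).subgroupOf (Subgroup.normalizer (P : Set G)))
    (Cfsg.Agent.Lib.Blocks.irrComp (cenSub P) ξ)
  obtain ⟨hD, hind2⟩ := exists_cover_of_maximal hM hmax hξ hψ
  obtain ⟨B', hB', hB'D, hind⟩ := first_main_i hM hPp (isPBlock_blockOf ψ) hD
  rw [IsInducedBlock.unique (Subgroup.normalizer (P : Set G)) hind2 hind]
  exact hB'D

end Max

end Cfsg.Agent.Lib.H8Group
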