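import Cfsg.Agent.Lib.H8Group.BlockSat

/-!
# Nilpotent blocks and the inner fusion system
-/

set_option autoImplicit false
set_option linter.unusedSectionVars false

namespace Cfsg.Agent.Lib.H8Group

open Cfsg Cfsg.Agent.Lib.Char Cfsg.Agent.Lib.Blocks

universe u

section Nil

variable {G : Type u} [Group G] [Fintype G] {M : Ideal AlgInt} {p : ℕ} [hp : Fact p.Prime] {Q R P T : Subgroup G}
  {B : Set (IrrCharacter G)} {e : Set (IrrCharacter (Subgroup.centralizer (P : Set G)))} {F : FusionSystem P}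
  {f : Set (IrrCharacter (Subgroup.centralizer (R : Set G)))}

/-- In a nilpotent block, the stabilizer acts on `R` as a `p`-group. -/
theorem isPGroup_range_actOn (hnil : IsNilpotentBlock p M B) (hR : IsBrauerPairOf p M B R f)
    (hT : ∀ y : G, y ∈ T ↔ y ∈ Subgroup.normalizer (R : Set G) ∧
      StabilizesBlock (Subgroup.centralizer (R : Set G)) f y) (hTN : T ≤ Subgroup.normalizer (R : Set G)) :
    IsPGroup p (actOn R hTN).range := by
  classical
  have hpp : p.Prime := hp.out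
  rintro ⟨α, t, rfl⟩
  refine ⟨(orderOf t).factorization p, ?_⟩
  apply Subtype.ext
  show (actOn R hTN t) ^ (p ^ (orderOf t).factorization p) = 1
  rw [← map_pow]
  have ht := (T.pow_mem t.2 (p ^ (orderOf t).factorization p))
  have hm : (t : G) ^ (p ^ (orderOf t).factorization p) ∈ T := ht
  have hts := (hT _).mp hm
  have hreg : IsPRegular p ((t : G) ^ (p ^ (orderOf t).factorization p)) := by
    have h1 : orderOf ((t : G) ^ (p ^ (orderOf t).factorization p)) = orderOf t / p ^ (orderOf t).factorization p := by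
      rw [orderOf_pow' _ (pow_ne_zero _ hpp.ne_zero), Subgroup.orderOf_coe]
      congr 1
      exact Nat.gcd_eq_right (Nat.ordProj_dvd _ _)
    have h2 := Nat.not_dvd_ordCompl hpp (orderOf_pos t).ne'
    show ¬ p ∣ orderOf _
    rw [h1]
    exact h2
  have h3 := hnil.2 R f hR _ hts.1 hts.2 hreg
  have h4 : t ^ (p ^ (orderOf t).factorization p) ∈ (actOn R hTN).ker := (mem_ker_actOn hTN _).mpr h3
  exact h4

/-- In a nilpotent block, on a fully normalized subgroup, the stabilizer acts as `N_P(R)`. -/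
theorem exists_inner_of_nilpotent (hM : IsPModular p M) (hmax : IsMaximalBrauerPair p M B P e)
    (hnil : IsNilpotentBlock p M B) (hRP : R ≤ P) (hle : SubpairLE p M R f P e)
    (hT : ∀ y : G, y ∈ T ↔ y ∈ Subgroup.normalizer (R : Set G) ∧
      StabilizesBlock (Subgroup.centralizer (R : Set G)) f y)
    {F_T : Set (IrrCharacter T)} (hF_T : IsPBlock M F_T)
    (hcoef : ∀ t : T, blockCoeff F_T t = subgroupBlockCoeff (Subgroup.centralizer (R : Set G)) f (t : G))
    (hD : IsDefectGroup p M F_T ((P ⊓ Subgroup.normalizer (R : Set G)).subgroupOf T)) {t : G} (ht : t ∈ T) :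
    ∃ h ∈ P, ∀ x ∈ R, t * x * t⁻¹ = h * x * h⁻¹ := by
  classical
  have hPe := hmax.1.1
  have hF : IsBlockFusionSystemOn p M B P e (blockFusion hM hmax) := ⟨hmax, fun Q φ => Iff.rfl⟩
  have hf := isPBlock_of_subpairLE hM hPe hle
  have hTN : T ≤ Subgroup.normalizer (R : Set G) := fun y hy => ((hT y).mp hy).1
  have hNT := inf_normalizer_le_stabilizer hM hPe hRP hle hT
  obtain ⟨-, S, hS⟩ := isFullyAutomized_of_defect hM hF hRP hf hle hT hF_T hcoef hD
  have hAut := autGroup_eq_range hM hF hRP hf hle hT hTN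
  have hInd := autInducedBy_eq_map hNT hTN
  have hRpair : IsBrauerPairOf p M B R f := (isBrauerPairOf_iff_of_chain hM hle hmax.1.2.1).mp hmax.1
  have hp1 : IsPGroup p ((blockFusion hM hmax).autGroup R) := by
    rw [hAut]
    exact isPGroup_range_actOn hnil hRpair hT hTN
  have hp2 : IsPGroup p (⊤ : Subgroup ((blockFusion hM hmax).autGroup R)) :=
    hp1.of_equiv Subgroup.topEquiv.symm
  have hS₂ := S.3 hp2 le_top
  have hmem : actOn R hTN ⟨t, ht⟩ ∈ (blockFusion hM hmax).autGroup R := by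
    rw [hAut]
    exact ⟨_, rfl⟩
  have h1 : (⟨_, hmem⟩ : (blockFusion hM hmax).autGroup R) ∈ (S : Subgroup _) := by
    have h2 : (⟨_, hmem⟩ : (blockFusion hM hmax).autGroup R) ∈ (⊤ : Subgroup _) := Subgroup.mem_top _
    rw [hS₂] at h2
    exact h2
  rw [hS, Subgroup.mem_subgroupOf, hInd] at h1
  obtain ⟨n, hn, hnt⟩ := h1
  refine ⟨n, (Subgroup.mem_subgroupOf.mp hn).1, fun x hx => ?_⟩
  have h3 := congrArg (fun α : MulAut R => ((α ⟨x, hx⟩ : R) : G)) hnt
  exact h3.symm

theorem conjB_congr {Q Q' : Subgroup G} {x x' : G} (hx : x = x') (h₁ : conjS x Q = Q') (h₂ : conjS x' Q = Q')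
    (f : Set (IrrCharacter (Subgroup.centralizer (Q : Set G)))) : conjB x h₁ f = conjB x' h₂ f := by
  subst hx
  rfl

/-- **The block version of Frobenius' theorem.** -/
theorem exists_inner_of_subpairLE (hM : IsPModular p M) (hmax : IsMaximalBrauerPair p M B P e)
    (hnil : IsNilpotentBlock p M B) (n : ℕ) :
    ∀ (Q : Subgroup G) (f : Set (IrrCharacter (Subgroup.centralizer (Q : Set G)))) (g : G),
      n = Nat.card P - Nat.card Q → SubpairLE p M Q f P e →
      SubpairLE p M (conjS g Q) (conjB g rfl f) P e → ∃ u ∈ P, ∀ z ∈ Q, g * z * g⁻¹ = u * z * u⁻¹ := by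
  classical
  have hPe := hmax.1.1
  induction n using Nat.strong_induction_on with
  | _ n ih =>
    -- first, the statement for the maps into a fully normalized subgroup
    have key : ∀ (R : Subgroup G) (fR : Set (IrrCharacter (Subgroup.centralizer (R : Set G))))
        (T : Subgroup G) (F_T : Set (IrrCharacter T)), SubpairLE p M R fR P e →
        (∀ y : G, y ∈ T ↔ y ∈ Subgroup.normalizer (R : Set G) ∧
          StabilizesBlock (Subgroup.centralizer (R : Set G)) fR y) → IsPBlock M F_T →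
        (∀ t : T, blockCoeff F_T t = subgroupBlockCoeff (Subgroup.centralizer (R : Set G)) fR (t : G)) →
        IsDefectGroup p M F_T ((P ⊓ Subgroup.normalizer (R : Set G)).subgroupOf T) →
        ∀ (Q₁ : Subgroup G) (f₁ : Set (IrrCharacter (Subgroup.centralizer (Q₁ : Set G)))) (y : G)
          (hy : conjS y Q₁ = R), n = Nat.card P - Nat.card Q₁ → SubpairLE p M Q₁ f₁ P e → conjB y hy f₁ = fR →
          ∃ u ∈ P, ∀ z ∈ Q₁, y * z * y⁻¹ = u * z * u⁻¹ := by
      intro R fR T F_T hleR hT hF_T hcoef hD Q₁ f₁ y hy hn hle₁ hf₁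
      have hRP := le_of_subpairLE hleR
      have hQ₁P := le_of_subpairLE hle₁
      have hinner := fun {t : G} (ht : t ∈ T) => exists_inner_of_nilpotent hM hmax hnil hRP hleR hT hF_T hcoef hD ht
      -- the subgroup `N_P(Q₁)`
      have hX₁ : P ⊓ Subgroup.normalizer (Q₁ : Set G) ≤ P := inf_le_left
      have hX₂ : Q₁ ≤ P ⊓ Subgroup.normalizer (Q₁ : Set G) := le_inf hQ₁P Subgroup.le_normalizer
      have hTQ₁ : ∀ y' : G, y' ∈ stabOfBlock Q₁ f₁ ↔ y' ∈ Subgroup.normalizer (Q₁ : Set G) ∧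
          StabilizesBlock (Subgroup.centralizer (Q₁ : Set G)) f₁ y' := fun _ => Iff.rfl
      have hXT := inf_normalizer_le_stabilizer hM hPe hQ₁P hle₁ hTQ₁
      have hXh : ∀ t ∈ P ⊓ Subgroup.normalizer (Q₁ : Set G), ∃ h ∈ P, ∀ x ∈ R,
          (y * t * y⁻¹) * x * (y * t * y⁻¹)⁻¹ = h * x * h⁻¹ := by
        intro t ht
        have h1 := (hTQ₁ t).mp (hXT ht)
        refine hinner ((hT _).mpr ?_)
        have h2 := (mem_stab_conj_iff (f := f₁) (y := y * t * y⁻¹) y hy).mp (by
          have h3 : y⁻¹ * (y * t * y⁻¹) * y = t := by group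
          rw [h3]
          exact h1)
        rwa [hf₁] at h2
      by_cases hQ₁eq : Q₁ = P
      · -- the top case
        have hRQ : R = Q₁ := by
          rw [hQ₁eq]
          exact Subgroup.eq_of_le_of_card_ge hRP (by rw [← hy, card_conjS, hQ₁eq])
        subst hRQ
        have hff : f₁ = fR := subpairLE_unique hM hPe _ hRP _ _ hle₁ hleR
        subst hff
        have hyT : y ∈ T := (hT y).mpr ⟨mem_normalizer_of_conjS_eq hy, stabilizes_of_conjB_eq hy hf₁⟩
        exact hinner hyT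
      · -- the inductive step
        have hPp : IsPGroup p P := hPe.1
        have hlt := lt_inf_normalizer hPp hQ₁P hQ₁eq
        obtain ⟨fX, -, hleX⟩ := exists_subpairLE hM hPe _ hX₁
        obtain ⟨c, hc, hchain⟩ := extension_of_defect hM hmax hleR hT hF_T hcoef hD hle₁ hy hf₁ hX₂ hX₁ inf_le_right hXh hleX
        have hcard₁ : Nat.card Q₁ < Nat.card (P ⊓ Subgroup.normalizer (Q₁ : Set G) : Subgroup G) :=
          lt_of_le_of_ne (Subgroup.card_le_of_le hlt.le) (fun h => hlt.ne (Subgroup.eq_of_le_of_card_ge hlt.le h.ge))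
        have hcard₂ : Nat.card (P ⊓ Subgroup.normalizer (Q₁ : Set G) : Subgroup G) ≤ Nat.card P :=
          Subgroup.card_le_of_le hX₁
        obtain ⟨u, huP, hu⟩ := ih _ (by omega) _ fX (c * y) rfl hleX hchain
        refine ⟨u, huP, fun z hz => ?_⟩
        rw [← hu z (hX₂ hz)]
        have hzR : y * z * y⁻¹ ∈ R := by
          rw [← hy]
          exact conj_mem_conjS hz
        have h1 := Subgroup.mem_centralizer_iff.mp hc _ hzR
        calc y * z * y⁻¹ = c * (y * z * y⁻¹) * c⁻¹ := by rw [← h1]; group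
          _ = c * y * z * (c * y)⁻¹ := by group
    intro Q f g hn hle hle₂
    have hQP := le_of_subpairLE hle
    have hf := isPBlock_of_subpairLE hM hPe hle
    obtain ⟨F₁, hF₁, hcoef₁⟩ := exists_block_of_stabilizer (T := stabOfBlock Q f) hM (hPe.1.to_le hQP) hf (fun y => Iff.rfl)
    obtain ⟨x, hx, hxT⟩ := exists_conj_isDefectGroup_norm hM hmax hle (fun y => Iff.rfl) hF₁ hcoef₁
    obtain ⟨F₂, hF₂, hcoef₂, hD₂⟩ := hxT (stabOfBlock (conjS x Q) (conjB x rfl f)) (fun y => Iff.rfl)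
    obtain ⟨u₁, hu₁P, hu₁⟩ := key _ _ _ F₂ hx (fun y => Iff.rfl) hF₂ hcoef₂ hD₂ Q f x rfl hn hle rfl
    have hy : conjS (x * g⁻¹) (conjS g Q) = conjS x Q := by
      rw [conjS_conjS]
      simp
    have hy₃ : conjS (x * g⁻¹ * g) Q = conjS x Q := by
      rw [← conjS_conjS]
      exact hy
    have hconj : conjB (x * g⁻¹) hy (conjB g rfl f) = conjB x rfl f := by
      rw [conjB_conjB g (x * g⁻¹) rfl hy hy₃]
      exact conjB_congr (by simp) _ _ f
    obtain ⟨u₂, hu₂P, hu₂⟩ := key _ _ _ F₂ hx (fun y => Iff.rfl) hF₂ hcoef₂ hD₂ (conjS g Q) (conjB g rfl f) (x * g⁻¹) hy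
      (by rw [card_conjS]; exact hn) hle₂ hconj
    refine ⟨u₂⁻¹ * u₁, Subgroup.mul_mem _ (Subgroup.inv_mem _ hu₂P) hu₁P, fun z hz => ?_⟩
    have h1 := hu₁ z hz
    have h2 := hu₂ (g * z * g⁻¹) (conj_mem_conjS hz)
    have h3 : x * g⁻¹ * (g * z * g⁻¹) * (x * g⁻¹)⁻¹ = x * z * x⁻¹ := by group
    rw [h3, h1] at h2
    calc g * z * g⁻¹ = u₂⁻¹ * (u₂ * (g * z * g⁻¹) * u₂⁻¹) * u₂ := by group
      _ = u₂⁻¹ * (u₁ * z * u₁⁻¹) * u₂ := by rw [← h2]
      _ = u₂⁻¹ * u₁ * z * (u₂⁻¹ * u₁)⁻¹ := by group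

/-- A `p`-regular element acting on `Q` like a `p`-element centralizes `Q`. -/
theorem mem_centralizer_of_regular_conj {Q : Subgroup G} {x u : G} (hx : x ∈ Subgroup.normalizer (Q : Set G))
    (hreg : IsPRegular p x) {k : ℕ} (huk : u ^ (p ^ k) = 1) (h : ∀ z ∈ Q, x * z * x⁻¹ = u * z * u⁻¹) :
    x ∈ Subgroup.centralizer (Q : Set G) := by
  classical
  have hpp : p.Prime := hp.out
  have hxQ := conjS_eq_of_mem_normalizer hx
  have huQ : conjS u Q = Q := by
    have h1 : conjS u Q = conjS x Q := by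
      ext z
      constructor
      · rintro ⟨w, hw, rfl⟩
        exact ⟨w, hw, h w hw⟩
      · rintro ⟨w, hw, rfl⟩
        exact ⟨w, hw, (h w hw).symm⟩
    rw [h1, hxQ]
  have huN := mem_normalizer_of_conjS_eq huQ
  have hA : actOn Q (T := Subgroup.normalizer (Q : Set G)) le_rfl ⟨x, hx⟩ =
      actOn Q (T := Subgroup.normalizer (Q : Set G)) le_rfl ⟨u, huN⟩ := by
    ext z
    exact h z z.2
  have h1 : (actOn Q (T := Subgroup.normalizer (Q : Set G)) le_rfl ⟨x, hx⟩) ^ orderOf x = 1 := by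
    rw [← map_pow]
    have h2 : (⟨x, hx⟩ : Subgroup.normalizer (Q : Set G)) ^ orderOf x = 1 := by
      apply Subtype.ext
      simp [pow_orderOf_eq_one]
    rw [h2, map_one]
  have h2 : (actOn Q (T := Subgroup.normalizer (Q : Set G)) le_rfl ⟨x, hx⟩) ^ (p ^ k) = 1 := by
    rw [hA, ← map_pow]
    have h3 : (⟨u, huN⟩ : Subgroup.normalizer (Q : Set G)) ^ (p ^ k) = 1 := by
      apply Subtype.ext
      simp [huk]
    rw [h3, map_one]
  have hcop : Nat.Coprime (orderOf x) (p ^ k) :=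
    Nat.Coprime.pow_right _ ((Nat.Prime.coprime_iff_not_dvd hpp).mpr hreg).symm
  have h3 : orderOf (actOn Q (T := Subgroup.normalizer (Q : Set G)) le_rfl ⟨x, hx⟩) = 1 :=
    Nat.eq_one_of_dvd_coprimes hcop (orderOf_dvd_of_pow_eq_one h1) (orderOf_dvd_of_pow_eq_one h2)
  have h4 := orderOf_eq_one_iff.mp h3
  exact (mem_ker_actOn (T := Subgroup.normalizer (Q : Set G)) le_rfl ⟨x, hx⟩).mp h4

/-- **S4686.** -/
theorem isNilpotentBlock_iff_inner (hM : IsPModular p M) (hmax : IsMaximalBrauerPair p M B P e)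
    (hF : IsBlockFusionSystemOn p M B P e F) :
    IsNilpotentBlock p M B ↔ ∀ Q : Subgroup G, F.Hom Q = (innerFusionSystem P).Hom Q := by
  classical
  have hPe := hmax.1.1
  constructor
  · intro hnil Q
    ext φ
    constructor
    · intro hφ
      obtain ⟨hQ, g, hg, hgQ, f, hle, hle₂⟩ := (hF.2 Q φ).mp hφ
      obtain ⟨u, huP, hu⟩ := exists_inner_of_subpairLE hM hmax hnil _ Q f g rfl hle hle₂
      exact ⟨hQ, u, huP, fun x => by
        rw [hg]
        exact hu x x.2⟩
    · rintro ⟨hQ, u, huP, hu⟩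
      have h := F.conj_mem hQ huP
      have h1 : φ = conjHom Q u := MonoidHom.ext hu
      rw [h1]
      exact h
  · intro hinner
    refine ⟨hmax.1.2.1, fun Q f hQf x hx hs hreg => ?_⟩
    obtain ⟨y, hy⟩ := exists_conj_subpairLE hM hmax hQf
    have hf' := isPBlock_of_subpairLE hM hPe hy
    have hQ'P := le_of_subpairLE hy
    have hyinv : y⁻¹ * (y * x * y⁻¹) * y = x := by group
    have hx'N : y * x * y⁻¹ ∈ Subgroup.normalizer ((conjS y Q : Subgroup G) : Set G) :=
      (conj_mem_normalizer_iff y rfl).mpr (by rwa [hyinv])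
    have hx's : StabilizesBlock (Subgroup.centralizer ((conjS y Q : Subgroup G) : Set G)) (conjB y rfl f) (y * x * y⁻¹) :=
      stabilizesBlock_conjB y rfl (by rwa [hyinv])
    have hx'Q := conjS_eq_of_mem_normalizer hx'N
    have hcon := conjB_eq_of_stabilizes hM hx'Q hf' hx's
    have hle' : SubpairLE p M (conjS (y * x * y⁻¹) (conjS y Q)) (conjB (y * x * y⁻¹) rfl (conjB y rfl f)) P e :=
      (subpairLE_conjB_iff hx'Q).mpr (by rw [hcon]; exact hy)
    have hmem : conjHom (conjS y Q) (y * x * y⁻¹) ∈ F.Hom (conjS y Q) :=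
      (mem_hom_iff hM hF hQ'P hy _).mpr ⟨y * x * y⁻¹, fun _ => rfl, hle'⟩
    rw [hinner] at hmem
    obtain ⟨-, u, huP, hu⟩ := hmem
    obtain ⟨k, hk⟩ := hPe.1 ⟨u, huP⟩
    have huk : u ^ (p ^ k) = 1 := by
      have h1 := congrArg (fun z : P => (z : G)) hk
      simpa using h1
    have hreg' : IsPRegular p (y * x * y⁻¹) := by
      show ¬ p ∣ orderOf _
      rw [orderOf_conj_eq]
      exact hreg
    have hc := mem_centralizer_of_regular_conj hx'N hreg' huk (fun z hz => hu ⟨z, hz⟩)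
    have h2 := conj_inv_mem_cen_of_conjS y rfl hc
    rwa [hyinv] at h2

end Nil

end Cfsg.Agent.Lib.H8Group
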