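import Cfsg.Agent.Lib.H8Group.DefectPairs
import Cfsg.Agent.Lib.H8Group.StabBlock

/-!
# Defect groups of the blocks of the stabilizers in a maximal Brauer pair
-/

set_option autoImplicit false
set_option linter.unusedSectionVars false

namespace Cfsg.Agent.Lib.H8Group

open Cfsg Cfsg.Agent.Lib.Char Cfsg.Agent.Lib.Blocks

universe u

section NormPairs

variable {G : Type u} [Group G] [Fintype G] {M : Ideal AlgInt} {p : ℕ} [hp : Fact p.Prime] {Q Q' P R T T' : Subgroup G}

/-- The conjugation isomorphism of subgroups. -/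
def subConjIso (x : G) (h : conjS x T = T') : T ≃* T' where
  toFun t := ⟨x * t * x⁻¹, by rw [← h]; exact conj_mem_conjS t.2⟩
  invFun t := ⟨x⁻¹ * t * x, by
    have h1 : (t : G) ∈ conjS x T := by
      rw [h]
      exact t.2
    exact mem_conjS.mp h1⟩
  left_inv c := by
    apply Subtype.ext
    simp [mul_assoc]
  right_inv c := by
    apply Subtype.ext
    simp [mul_assoc]
  map_mul' s t := by
    apply Subtype.ext
    simp [mul_assoc]

@[simp] theorem subConjIso_coe (x : G) (h : conjS x T = T') (t : T) :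
    ((subConjIso x h t : T') : G) = x * t * x⁻¹ := rfl

@[simp] theorem subConjIso_symm_coe (x : G) (h : conjS x T = T') (t : T') :
    (((subConjIso x h).symm t : T) : G) = x⁻¹ * t * x := rfl

theorem conj_mem_normalizer_iff (x : G) (hQ : conjS x Q = Q') {y : G} :
    y ∈ Subgroup.normalizer (Q' : Set G) ↔ x⁻¹ * y * x ∈ Subgroup.normalizer (Q : Set G) := by
  subst hQ
  rw [Subgroup.mem_normalizer_iff, Subgroup.mem_normalizer_iff]
  constructor
  · intro h g
    have h1 := h (x * g * x⁻¹)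
    have h2 : x * g * x⁻¹ ∈ conjS x Q ↔ g ∈ Q := by
      rw [mem_conjS]
      have : x⁻¹ * (x * g * x⁻¹) * x = g := by group
      rw [this]
    have h3 : y * (x * g * x⁻¹) * y⁻¹ ∈ conjS x Q ↔
        x⁻¹ * y * x * g * (x⁻¹ * y * x)⁻¹ ∈ Q := by
      rw [mem_conjS]
      have : x⁻¹ * (y * (x * g * x⁻¹) * y⁻¹) * x = x⁻¹ * y * x * g * (x⁻¹ * y * x)⁻¹ := by group
      rw [this]
    exact h2.symm.trans (h1.trans h3)
  · intro h g
    have h1 := h (x⁻¹ * g * x)
    have h2 : g ∈ conjS x Q ↔ x⁻¹ * g * x ∈ Q := mem_conjS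
    have h3 : y * g * y⁻¹ ∈ conjS x Q ↔ x⁻¹ * y * x * (x⁻¹ * g * x) * (x⁻¹ * y * x)⁻¹ ∈ Q := by
      rw [mem_conjS]
      have : x⁻¹ * (y * g * y⁻¹) * x = x⁻¹ * y * x * (x⁻¹ * g * x) * (x⁻¹ * y * x)⁻¹ := by group
      rw [this]
    exact h2.trans (h1.trans h3.symm)

/-- Conjugation of stabilizers. -/
theorem stabilizesBlock_conjB (x : G) (hQ : conjS x Q = Q')
    {f : Set (IrrCharacter (Subgroup.centralizer (Q : Set G)))} {y : G}
    (h : StabilizesBlock (Subgroup.centralizer (Q : Set G)) f (x⁻¹ * y * x)) :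
    StabilizesBlock (Subgroup.centralizer (Q' : Set G)) (conjB x hQ f) y := by
  classical
  letI : Fintype (Subgroup.centralizer (Q : Set G)) := Fintype.ofFinite _
  letI : Fintype (Subgroup.centralizer (Q' : Set G)) := Fintype.ofFinite _
  obtain ⟨hN, h1⟩ := h
  have hQC : conjS x (Subgroup.centralizer (Q : Set G)) = Subgroup.centralizer (Q' : Set G) := by
    ext g
    rw [mem_conjS]
    constructor
    · intro hg
      have := conj_mem_cen_of_conjS x hQ hg
      simpa [mul_assoc] using this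
    · intro hg
      exact conj_inv_mem_cen_of_conjS x hQ hg
  refine ⟨(conj_mem_normalizer_iff x hQC).mpr hN, fun χ' hχ' => ?_⟩
  obtain ⟨χ₂, hχ₂, h2⟩ := h1 _ ((mem_conjB x hQ f χ').mp hχ')
  refine ⟨Cfsg.Agent.Lib.Blocks.irrComp (cenIso x hQ).symm χ₂, irrComp_symm_mem_conjB x hQ hχ₂, fun k k' hk => ?_⟩
  simp only [Cfsg.Agent.Lib.Blocks.irrComp_coe, Function.comp_apply]
  have h3 := h2 ((cenIso x hQ).symm k) ((cenIso x hQ).symm k') (by
    simp only [cenIso_symm_coe]
    rw [hk]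
    group)
  rw [h3]
  simp only [Cfsg.Agent.Lib.Blocks.irrComp_coe, Function.comp_apply, MulEquiv.apply_symm_apply]

/-- The stabilizers of conjugate blocks are conjugate. -/
theorem conjS_stabilizer (x : G) (hQ : conjS x Q = Q')
    {f : Set (IrrCharacter (Subgroup.centralizer (Q : Set G)))}
    (hT : ∀ y : G, y ∈ T ↔ y ∈ Subgroup.normalizer (Q : Set G) ∧
      StabilizesBlock (Subgroup.centralizer (Q : Set G)) f y)
    (hT' : ∀ y : G, y ∈ T' ↔ y ∈ Subgroup.normalizer (Q' : Set G) ∧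
      StabilizesBlock (Subgroup.centralizer (Q' : Set G)) (conjB x hQ f) y) : conjS x T = T' := by
  ext y
  rw [mem_conjS, hT, hT', conj_mem_normalizer_iff x hQ]
  constructor
  · rintro ⟨h1, h2⟩
    exact ⟨h1, stabilizesBlock_conjB x hQ h2⟩
  · rintro ⟨h1, h2⟩
    refine ⟨h1, ?_⟩
    have h3 := stabilizesBlock_conjB (Q := Q') (Q' := Q) x⁻¹ (conjS_inv_of_conjS x hQ) (f := conjB x hQ f)
      (y := x⁻¹ * y * x) (by
        have : x⁻¹⁻¹ * (x⁻¹ * y * x) * x⁻¹ = y := by group
        rwa [this])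
    rwa [conjB_conjB_inv] at h3

/-- **First half of S4662**: `N_P(Q)` is contained in a defect group of the block of the stabilizer. -/
theorem exists_defect_ge_norm (hM : IsPModular p M) {e : Set (IrrCharacter (Subgroup.centralizer (P : Set G)))}
    (hPe : IsBrauerPair p M P e) (hQP : Q ≤ P) {f : Set (IrrCharacter (Subgroup.centralizer (Q : Set G)))}
    (hle : SubpairLE p M Q f P e)
    (hT : ∀ y : G, y ∈ T ↔ y ∈ Subgroup.normalizer (Q : Set G) ∧
      StabilizesBlock (Subgroup.centralizer (Q : Set G)) f y)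
    {F : Set (IrrCharacter T)} (hF : IsPBlock M F)
    (hcoef : ∀ t : T, blockCoeff F t = subgroupBlockCoeff (Subgroup.centralizer (Q : Set G)) f (t : G)) :
    ∃ D : Subgroup T, IsDefectGroup p M F D ∧ (P ⊓ Subgroup.normalizer (Q : Set G)).subgroupOf T ≤ D := by
  classical
  letI : Fintype T := Fintype.ofFinite _
  have hRP : P ⊓ Subgroup.normalizer (Q : Set G) ≤ P := inf_le_left
  have hQR : Q ≤ P ⊓ Subgroup.normalizer (Q : Set G) := le_inf hQP Subgroup.le_normalizer
  have hRN : P ⊓ Subgroup.normalizer (Q : Set G) ≤ Subgroup.normalizer (Q : Set G) := inf_le_right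
  obtain ⟨g, hg, hRle⟩ := exists_subpairLE hM hPe _ hRP
  have hRpair : IsBrauerPair p M (P ⊓ Subgroup.normalizer (Q : Set G)) g := ⟨hPe.1.to_le hRP, hg⟩
  obtain ⟨f₂, hf₂, -⟩ := existsUnique_isNormalSubpair hM hRpair hQR hRN
  have hff : f₂ = f := subpairLE_unique hM hPe Q hQP f₂ f
    (Relation.ReflTransGen.trans (Relation.ReflTransGen.single (show NormalSubpairRel p M ⟨Q, f₂⟩ ⟨_, g⟩ from hf₂)) hRle) hle
  rw [hff] at hf₂
  obtain ⟨y, hy, hyc⟩ := exists_coeff_of_isNormalSubpair hM hf₂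
  have hyQ : y ∈ Subgroup.centralizer (Q : Set G) := Subgroup.centralizer_le hQR hy
  have hyT : y ∈ T := (hT y).mpr ⟨Subgroup.centralizer_le_normalizer _ hyQ, stabilizes_of_mem_centralizer _ f hyQ⟩
  have hyc' : ¬ MemLocalIdeal M (blockCoeff F (⟨y, hyT⟩ : T)) := by
    rw [hcoef]
    exact hyc
  have hp' : IsPGroup p ((P ⊓ Subgroup.normalizer (Q : Set G)).subgroupOf T) :=
    isPGroup_subgroupOf (hPe.1.to_le hRP) _
  have hcen : (P ⊓ Subgroup.normalizer (Q : Set G)).subgroupOf T ≤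
      Subgroup.centralizer ({(⟨y, hyT⟩ : T)} : Set T) := by
    intro t ht
    rw [Subgroup.mem_centralizer_singleton_iff]
    apply Subtype.ext
    rw [Subgroup.mem_subgroupOf] at ht
    exact Subgroup.mem_centralizer_iff.mp hy _ ht
  obtain ⟨D₀, hD₀⟩ := IsPBlock.exists_isDefectGroup hM hF
  obtain ⟨z, hz⟩ := IsDefectGroup.le_conj_of_coeff hM hF hD₀ hyc' hp' hcen
  exact ⟨conjS z D₀, IsDefectGroup.conj hD₀ z, hz⟩

/-- **Second half of S4662.** -/
theorem exists_conj_isDefectGroup_norm (hM : IsPModular p M) {B : Set (IrrCharacter G)}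
    {e : Set (IrrCharacter (Subgroup.centralizer (P : Set G)))}
    (hmax : IsMaximalBrauerPair p M B P e) {f : Set (IrrCharacter (Subgroup.centralizer (Q : Set G)))}
    (hle : SubpairLE p M Q f P e)
    (hT : ∀ y : G, y ∈ T ↔ y ∈ Subgroup.normalizer (Q : Set G) ∧
      StabilizesBlock (Subgroup.centralizer (Q : Set G)) f y)
    {F : Set (IrrCharacter T)} (hF : IsPBlock M F)
    (hcoef : ∀ t : T, blockCoeff F t = subgroupBlockCoeff (Subgroup.centralizer (Q : Set G)) f (t : G)) :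
    ∃ x : G, SubpairLE p M (conjS x Q) (conjB x rfl f) P e ∧
      ∀ T' : Subgroup G, (∀ y : G, y ∈ T' ↔ y ∈ Subgroup.normalizer ((conjS x Q : Subgroup G) : Set G) ∧
        StabilizesBlock (Subgroup.centralizer ((conjS x Q : Subgroup G) : Set G)) (conjB x rfl f) y) →
      ∃ F' : Set (IrrCharacter T'), IsPBlock M F' ∧
        (∀ t : T', blockCoeff F' t = subgroupBlockCoeff (Subgroup.centralizer ((conjS x Q : Subgroup G) : Set G)) (conjB x rfl f) (t : G)) ∧
        IsDefectGroup p M F' ((P ⊓ Subgroup.normalizer ((conjS x Q : Subgroup G) : Set G)).subgroupOf T') := by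
  classical
  have := isPrime_of_modular hM
  letI : Fintype T := Fintype.ofFinite _
  have hB := hmax.1.2.1
  have hPe := hmax.1.1
  have hQf : IsBrauerPairOf p M B Q f := (isBrauerPairOf_iff_of_chain hM hle hB).mp hmax.1
  have hf := hQf.1.2
  have hQp := hQf.1.1
  have hTN : T ≤ Subgroup.normalizer (Q : Set G) := fun y hy => ((hT y).mp hy).1
  obtain ⟨D, hD⟩ := IsPBlock.exists_isDefectGroup hM hF
  obtain ⟨t, ht, hS⟩ := isDefectGroup_iff.mp hD
  have hQT : Q ≤ T := fun q hq => (hT q).mpr ⟨Subgroup.le_normalizer hq, stabilizes_of_mem_self f hq⟩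
  have hQD : Q.subgroupOf T ≤ D := by
    haveI hQn : (Q.subgroupOf T).Normal := by
      refine ⟨fun x hx u => ?_⟩
      rw [Subgroup.mem_subgroupOf] at hx ⊢
      exact (Subgroup.mem_normalizer_iff.mp (hTN u.2) x).mp hx
    exact (Cfsg.Agent.Lib.Basic.le_pCore hQn (isPGroup_subgroupOf hQp _)).trans (IsDefectGroup.pCore_le hM hF hD)
  set D' : Subgroup G := D.map (Subgroup.subtype T) with hD'
  have hD'p : IsPGroup p D' := hS.isPGroup.map _
  have hD'T : D' ≤ T := Subgroup.map_subtype_le _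
  have hQD' : Q ≤ D' := fun q hq => ⟨⟨q, hQT hq⟩, hQD (Subgroup.mem_subgroupOf.mpr hq), rfl⟩
  have htR : (t : G) ∈ Subgroup.centralizer ((D' : Subgroup G) : Set G) := by
    rw [Subgroup.mem_centralizer_iff]
    rintro _ ⟨d, hd, rfl⟩
    have h1 := Subgroup.mem_centralizer_singleton_iff.mp (hS.le hd)
    exact congrArg Subtype.val h1
  have hcoef' : ¬ MemLocalIdeal M (subgroupBlockCoeff (Subgroup.centralizer (Q : Set G)) f (t : G)) := by
    rw [← hcoef]
    exact ht.2.1
  obtain ⟨g₁, hns⟩ := exists_isNormalSubpair_of_coeff hM hD'p hQD' (hD'T.trans hTN) hf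
    (fun x hx => ((hT x).mp (hD'T hx)).2) htR hcoef'
  have hR₁ : IsBrauerPairOf p M B D' g₁ := (isBrauerPairOf_iff_normal hM hns hB).mpr hQf
  obtain ⟨x, hx⟩ := exists_conj_subpairLE hM hmax hR₁
  have hns' := isNormalSubpair_conjB x rfl rfl hns
  have hle₂ : SubpairLE p M (conjS x Q) (conjB x rfl f) P e :=
    Relation.ReflTransGen.trans (Relation.ReflTransGen.single (show NormalSubpairRel p M ⟨_, _⟩ ⟨_, _⟩ from hns')) hx
  have hxP : conjS x D' ≤ P := le_of_subpairLE hx
  have hQ'P : conjS x Q ≤ P := le_of_subpairLE hle₂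
  refine ⟨x, hle₂, fun T' hT' => ?_⟩
  letI : Fintype T' := Fintype.ofFinite _
  have hTT' : conjS x T = T' := conjS_stabilizer x rfl hT hT'
  have hF' := isPBlock_transBlock (subConjIso x hTT').symm hF
  have hcoef₂ : ∀ t' : T', blockCoeff (transBlock (subConjIso x hTT').symm F) t' =
      subgroupBlockCoeff (Subgroup.centralizer ((conjS x Q : Subgroup G) : Set G)) (conjB x rfl f) (t' : G) := by
    intro t'
    rw [blockCoeff_transBlock, hcoef, ← subgroupBlockCoeff_conjB x rfl f]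
    congr 1
    simp [mul_assoc]
  refine ⟨_, hF', hcoef₂, ?_⟩
  obtain ⟨D₂, hD₂, hD₂le⟩ := exists_defect_ge_norm hM hPe hQ'P hle₂ hT' hF' hcoef₂
  have hD₃ := isDefectGroup_transBlock (subConjIso x hTT').symm hD
  obtain ⟨w, hw⟩ := IsDefectGroup.exists_conj_eq hM hF' hD₃ hD₂
  have hcard : Nat.card D₂ = Nat.card (D.comap (subConjIso x hTT').symm.toMonoidHom) := by
    rw [hw]
    exact card_conjS _ _
  have hle₃ : D.comap (subConjIso x hTT').symm.toMonoidHom ≤
      (P ⊓ Subgroup.normalizer ((conjS x Q : Subgroup G) : Set G)).subgroupOf T' := by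
    intro u hu
    rw [Subgroup.mem_subgroupOf]
    refine ⟨hxP ?_, ((hT' u).mp u.2).1⟩
    rw [mem_conjS]
    exact ⟨_, hu, rfl⟩
  have hfinal := Subgroup.eq_of_le_of_card_ge hD₂le (by
    rw [hcard]
    exact Subgroup.card_le_of_le hle₃)
  rw [hfinal]
  exact hD₂

/-- The block of the stabilizer exists. -/
theorem exists_block_of_stabilizer (hM : IsPModular p M) (hQp : IsPGroup p Q)
    {f : Set (IrrCharacter (Subgroup.centralizer (Q : Set G)))} (hf : IsPBlock M f)
    (hT : ∀ y : G, y ∈ T ↔ y ∈ Subgroup.normalizer (Q : Set G) ∧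
      StabilizesBlock (Subgroup.centralizer (Q : Set G)) f y) :
    ∃ F : Set (IrrCharacter T), IsPBlock M F ∧
      ∀ t : T, blockCoeff F t = subgroupBlockCoeff (Subgroup.centralizer (Q : Set G)) f (t : G) := by
  classical
  letI : Fintype (Subgroup.centralizer (Q : Set G)) := Fintype.ofFinite _
  letI : Fintype T := Fintype.ofFinite _
  have hQT : Q ≤ T := fun q hq => (hT q).mpr ⟨Subgroup.le_normalizer hq, stabilizes_of_mem_self f hq⟩
  have hCT : Subgroup.centralizer (Q : Set G) ≤ T := fun c hc =>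
    (hT c).mpr ⟨Subgroup.centralizer_le_normalizer _ hc, stabilizes_of_mem_centralizer _ f hc⟩
  have hTN : T ≤ Subgroup.normalizer (Q : Set G) := fun y hy => ((hT y).mp hy).1
  exact exists_block_stabilizer hM hQp hQT hCT hTN hf (fun t ht => ((hT t).mp ht).2)

end NormPairs

end Cfsg.Agent.Lib.H8Group
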