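import Cfsg.Agent.Lib.H8Group.RowForms
import Cfsg.Agent.Lib.Blocks.Residue
import Cfsg.Agent.Lib.Blocks.RealBlocks
import Mathlib.LinearAlgebra.Matrix.Rank
import Mathlib.LinearAlgebra.Matrix.ToLin

/-!
# Brauer's rank formula for the number of blocks with a given normal defect group
-/

set_option autoImplicit false
set_option linter.unusedSectionVars false
set_option linter.style.haveILetI false

namespace Cfsg.Agent.Lib.H8Group

open Cfsg Cfsg.Agent.Lib.Char Cfsg.Agent.Lib.Blocks
open scoped ComplexConjugate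

universe u

section LinAlg

theorem exists_rank_factor {K : Type*} [Field K] {m n : Type*} [Fintype m] [Fintype n] [DecidableEq m]
    [DecidableEq n] (A : Matrix m n K) :
    ∃ (r : ℕ), r = A.rank ∧ ∃ (B : Matrix m (Fin r) K) (C : Matrix (Fin r) n K) (B' : Matrix (Fin r) m K)
      (C' : Matrix n (Fin r) K), A = B * C ∧ B' * B = 1 ∧ C * C' = 1 := by
  classical
  refine ⟨_, rfl, ?_⟩
  let R := LinearMap.range A.mulVecLin
  have hr : Module.finrank K R = A.rank := rfl
  let e : R ≃ₗ[K] (Fin A.rank → K) := LinearEquiv.ofFinrankEq _ _ (by simp [hr])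
  let i : (Fin A.rank → K) →ₗ[K] (m → K) := R.subtype ∘ₗ e.symm.toLinearMap
  let π : (n → K) →ₗ[K] (Fin A.rank → K) := e.toLinearMap ∘ₗ A.mulVecLin.rangeRestrict
  have hi : LinearMap.ker i = ⊥ := by
    rw [LinearMap.ker_eq_bot]
    exact (Submodule.subtype_injective R).comp e.symm.injective
  have hπ : LinearMap.range π = ⊤ := by
    rw [LinearMap.range_eq_top]
    exact e.surjective.comp (LinearMap.surjective_rangeRestrict _)
  obtain ⟨i', hi'⟩ := LinearMap.exists_leftInverse_of_injective i hi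
  obtain ⟨π', hπ'⟩ := LinearMap.exists_rightInverse_of_surjective π hπ
  refine ⟨LinearMap.toMatrix' i, LinearMap.toMatrix' π, LinearMap.toMatrix' i', LinearMap.toMatrix' π', ?_, ?_, ?_⟩
  · rw [← LinearMap.toMatrix'_comp]
    have h : i ∘ₗ π = Matrix.toLin' A := by
      ext v
      simp [i, π]
    rw [h, LinearMap.toMatrix'_toLin']
  · rw [← LinearMap.toMatrix'_comp, hi', LinearMap.toMatrix'_id]
  · rw [← LinearMap.toMatrix'_comp, hπ', LinearMap.toMatrix'_id]

theorem rank_map_ringHom {K L : Type*} [Field K] [Field L] (f : K →+* L) {m n : Type*} [Fintype m] [Fintype n]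
    [DecidableEq m] [DecidableEq n] (A : Matrix m n K) : (A.map f).rank = A.rank := by
  classical
  obtain ⟨r, hr, B, C, B', C', h1, h2, h3⟩ := exists_rank_factor A
  rw [← hr]
  apply le_antisymm
  · have h4 : A.map f = B.map f * C.map f := by
      rw [h1]
      exact Matrix.map_mul
    rw [h4]
    refine (Matrix.rank_mul_le_right _ _).trans ?_
    refine (Matrix.rank_le_card_height _).trans ?_
    simp
  · have h4 : B'.map f * A.map f * C'.map f = (1 : Matrix (Fin r) (Fin r) L) := by
      have h5 : B' * A * C' = 1 := by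
        rw [h1, Matrix.mul_assoc, Matrix.mul_assoc B, h3, Matrix.mul_one, h2]
      have h6 := congrArg (fun X : Matrix (Fin r) (Fin r) K => X.map f) h5
      simp only [Matrix.map_mul] at h6
      rw [h6]
      exact Matrix.map_one f (map_zero f) (map_one f)
    have h5 : (1 : Matrix (Fin r) (Fin r) L).rank = r := by
      rw [Matrix.rank_one]
      simp
    rw [← h5, ← h4]
    refine (Matrix.rank_mul_le_left _ _).trans ?_
    exact Matrix.rank_mul_le_right _ _

theorem rank_eq_card_of_factor {F : Type*} [Field F] {ι κ : Type*} [Fintype ι] [Fintype κ] [DecidableEq ι]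
    [DecidableEq κ] (W : Matrix ι ι F) (A : Matrix κ ι F) (V : Matrix ι κ F) (σ : Equiv.Perm ι) (c : κ → F)
    (hc : ∀ b, c b ≠ 0) (hW : ∀ i j, W i j = ∑ b, c b * A b (σ i) * A b j) (hAV : A * V = 1) :
    W.rank = Fintype.card κ := by
  classical
  let A' : Matrix κ ι F := A.submatrix id σ
  let V' : Matrix ι κ F := V.submatrix σ id
  have hA'V' : A' * V' = 1 := by
    ext b b'
    have h1 := congrFun (congrFun hAV b) b'
    rw [Matrix.mul_apply] at h1 ⊢
    rw [← h1]
    exact Equiv.sum_comp σ (fun i => A b i * V i b')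
  have hW' : W = A'.transpose * Matrix.diagonal c * A := by
    ext i j
    rw [hW, Matrix.mul_apply]
    refine Finset.sum_congr rfl fun b _ => ?_
    rw [Matrix.mul_diagonal]
    simp [A', mul_comm]
  have hD : V'.transpose * W * V = Matrix.diagonal c := by
    rw [hW']
    calc V'.transpose * (A'.transpose * Matrix.diagonal c * A) * V
        = (V'.transpose * A'.transpose) * Matrix.diagonal c * (A * V) := by
          simp only [Matrix.mul_assoc]
      _ = (A' * V').transpose * Matrix.diagonal c * (A * V) := by rw [Matrix.transpose_mul]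
      _ = Matrix.diagonal c := by rw [hA'V', hAV]; simp
  have hrD : (Matrix.diagonal c).rank = Fintype.card κ := by
    rw [Matrix.rank_diagonal]
    exact Fintype.card_congr (Equiv.subtypeUnivEquiv hc)
  apply le_antisymm
  · rw [hW']
    refine (Matrix.rank_mul_le_left _ _).trans ?_
    refine (Matrix.rank_mul_le_right _ _).trans ?_
    rw [hrD]
  · rw [← hrD, ← hD]
    refine (Matrix.rank_mul_le_left _ _).trans ?_
    exact Matrix.rank_mul_le_right _ _

end LinAlg

section Pairs

variable {G : Type u} [Group G] [Fintype G]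

theorem card_pairs_eq_sum (S : Subgroup G) [Fintype S] (x y : G) :
    ((Nat.card {yz : G × G // yz.1 ∈ (ConjClasses.mk x).carrier ∧ yz.2 ∈ (ConjClasses.mk y).carrier ∧
      yz.2 * yz.1⁻¹ ∈ S} : ℕ) : ℂ) = ∑ s : S, conv (cls y) (cls x⁻¹) (s : G) := by
  classical
  have hiff : ∀ a : G, a ∈ (ConjClasses.mk x).carrier ↔ IsConj x⁻¹ a⁻¹ := by
    intro a
    rw [ConjClasses.mem_carrier_iff_mk_eq, ConjClasses.mk_eq_mk_iff_isConj]
    constructor
    · intro h
      exact isConj_inv_inv h.symm
    · intro h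
      have := isConj_inv_inv h
      simp only [inv_inv] at this
      exact this.symm
  have hiff2 : ∀ a : G, a ∈ (ConjClasses.mk y).carrier ↔ IsConj y a := by
    intro a
    rw [ConjClasses.mem_carrier_iff_mk_eq, ConjClasses.mk_eq_mk_iff_isConj]
    exact ⟨fun h => h.symm, fun h => h.symm⟩
  let e : {yz : G × G // yz.1 ∈ (ConjClasses.mk x).carrier ∧ yz.2 ∈ (ConjClasses.mk y).carrier ∧
      yz.2 * yz.1⁻¹ ∈ S} ≃ {q : S × G // IsConj y q.2 ∧ IsConj x⁻¹ (q.2⁻¹ * (q.1 : G))} :=
    { toFun := fun u => ⟨(⟨u.1.2 * u.1.1⁻¹, u.2.2.2⟩, u.1.2), (hiff2 _).mp u.2.2.1, by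
        have := (hiff _).mp u.2.1
        simpa using this⟩
      invFun := fun v => ⟨((v.1.1 : G)⁻¹ * v.1.2, v.1.2), by
        refine ⟨(hiff _).mpr ?_, (hiff2 _).mpr v.2.1, ?_⟩
        · simpa using v.2.2
        · simp⟩
      left_inv := fun u => by
        apply Subtype.ext
        simp
      right_inv := fun v => by
        apply Subtype.ext
        simp }
  rw [Nat.card_congr e, Nat.card_eq_fintype_card, Fintype.card_subtype]
  simp only [conv, cls]
  rw [Finset.natCast_card_filter, ← Finset.univ_product_univ, Finset.sum_product]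
  refine Finset.sum_congr rfl fun s _ => ?_
  refine Finset.sum_congr rfl fun u _ => ?_
  by_cases h1 : IsConj y u <;> by_cases h2 : IsConj x⁻¹ (u⁻¹ * (s : G))
  · rw [if_pos ⟨h1, h2⟩, if_pos h1, if_pos h2, mul_one]
  · rw [if_neg (fun h => h2 h.2), if_neg h2, mul_zero]
  · rw [if_neg (fun h => h1 h.1), if_neg h1, zero_mul]
  · rw [if_neg (fun h => h1 h.1), if_neg h1, zero_mul]

/-- The number of fixed points of `S` in the (virtual) representation: `⟨χ_S, 1_S⟩`. -/
theorem exists_fixNat (S : Subgroup G) [Fintype S] (χ : IrrCharacter G) :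
    ∃ n : ℕ, ∑ s : S, (χ : G → ℂ) s = (Nat.card S : ℂ) * n := by
  have h1 : IsCharacter S (fun s : S => (χ : G → ℂ) s) := IsCharacter.comp (IsIrrCharacter.isCharacter χ.2) S.subtype
  obtain ⟨n, hn⟩ := IsCharacter.classInner_irr_eq_nat h1 (isIrrCharacter_one (G := S))
  refine ⟨n, ?_⟩
  rw [← hn, classInner]
  simp only [map_one, mul_one]
  rw [← mul_assoc, mul_inv_cancel₀, one_mul]
  exact_mod_cast Nat.card_pos.ne'

/-- The multiplicity of the trivial character of `S` in `χ_S`. -/
noncomputable def fixNat (S : Subgroup G) (χ : IrrCharacter G) : ℕ :=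
  letI : Fintype S := Fintype.ofFinite S
  Classical.choose (exists_fixNat S χ)

theorem sum_fixNat (S : Subgroup G) [Fintype S] (χ : IrrCharacter G) :
    ∑ s : S, (χ : G → ℂ) s = (Nat.card S : ℂ) * fixNat S χ := by
  have h := Classical.choose_spec
    (@exists_fixNat G _ _ S (Fintype.ofFinite S) χ)
  rw [fixNat, ← h]
  exact Finset.sum_congr (by ext; simp) (fun _ _ => rfl)

theorem sum_conj_fixNat (S : Subgroup G) [Fintype S] (χ : IrrCharacter G) :
    ∑ s : S, conj ((χ : G → ℂ) s) = (Nat.card S : ℂ) * fixNat S χ := by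
  rw [← map_sum, sum_fixNat]
  simp

theorem pairs_formula (S : Subgroup G) (x y : G) :
    (S.index : ℂ) * ((Nat.card {yz : G × G // yz.1 ∈ (ConjClasses.mk x).carrier ∧
      yz.2 ∈ (ConjClasses.mk y).carrier ∧ yz.2 * yz.1⁻¹ ∈ S} : ℕ) : ℂ) =
      ∑ χ : IrrCharacter G, (charDegree (χ : G → ℂ) : ℂ) * (fixNat S χ : ℂ) *
        centralChar (χ : G → ℂ) y * centralChar (χ : G → ℂ) x⁻¹ := by
  classical
  letI : Fintype S := Fintype.ofFinite S
  rw [card_pairs_eq_sum]
  have h1 : ∀ s : S, conv (cls y) (cls x⁻¹) (s : G) = (Nat.card G : ℂ)⁻¹ * ∑ χ : IrrCharacter G,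
      (centralChar (χ : G → ℂ) y * centralChar (χ : G → ℂ) x⁻¹) * ((χ : G → ℂ) 1 * conj ((χ : G → ℂ) s)) := by
    intro s
    have h2 := coef_spec (conv (cls y) (cls x⁻¹))
      (conv_isClassFunction (cls_isClassFunction y) (cls_isClassFunction x⁻¹))
    rw [spec_conv _ _ (cls_isClassFunction y)] at h2
    rw [← h2, coef]
    simp only [Pi.mul_apply, spec_cls]
  simp only [h1]
  rw [← Finset.mul_sum, Finset.sum_comm]
  have h3 : ∀ χ : IrrCharacter G, ∑ s : S, (centralChar (χ : G → ℂ) y * centralChar (χ : G → ℂ) x⁻¹) *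
      ((χ : G → ℂ) 1 * conj ((χ : G → ℂ) s)) =
      (Nat.card S : ℂ) * ((charDegree (χ : G → ℂ) : ℂ) * (fixNat S χ : ℂ) *
        centralChar (χ : G → ℂ) y * centralChar (χ : G → ℂ) x⁻¹) := by
    intro χ
    rw [← Finset.mul_sum, ← Finset.mul_sum, sum_conj_fixNat, irr_one_eq]
    ring
  simp only [h3]
  rw [← Finset.mul_sum, ← mul_assoc, ← mul_assoc]
  have h4 : (S.index : ℂ) * (Nat.card G : ℂ)⁻¹ * (Nat.card S : ℂ) = 1 := by
    have h5 : (S.index : ℂ) * (Nat.card S : ℂ) = (Nat.card G : ℂ) := by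
      exact_mod_cast S.index_mul_card
    rw [mul_right_comm, h5, mul_inv_cancel₀]
    exact_mod_cast Nat.card_pos.ne'
  rw [h4, one_mul]

end Pairs

section LocalPart

variable {G : Type u} [Group G] [Fintype G] {p : ℕ} [hp : Fact p.Prime] {M : Ideal AlgInt}

/-- The exponent `a - d`. -/
theorem index_factor_of_sylow {D : Subgroup G} {y : G} (hS : IsSylowIn p (Subgroup.centralizer ({y} : Set G)) D) :
    ∃ r : ℕ, ¬ p ∣ r ∧ (Subgroup.centralizer ({y} : Set G)).index =
      p ^ ((Nat.card G).factorization p - (Nat.card D).factorization p) * r := by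
  have hpp : p.Prime := hp.out
  have h1 := factorization_index_add_card (p := p) (Subgroup.centralizer ({y} : Set G))
  have h2 : (Nat.card D).factorization p = (Nat.card (Subgroup.centralizer ({y} : Set G))).factorization p := by
    rw [hS.card_eq_pow, hpp.factorization_pow]
    simp
  have h3 : (Subgroup.centralizer ({y} : Set G)).index.factorization p =
      (Nat.card G).factorization p - (Nat.card D).factorization p := by omega
  have hne : (Subgroup.centralizer ({y} : Set G)).index ≠ 0 := Subgroup.index_ne_zero_of_finite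
  refine ⟨(Subgroup.centralizer ({y} : Set G)).index / p ^ (Subgroup.centralizer ({y} : Set G)).index.factorization p,
    Nat.not_dvd_ordCompl hpp hne, ?_⟩
  rw [← h3]
  exact (Nat.ordProj_mul_ordCompl_eq_self _ _).symm

/-- Blocks with larger defect group vanish on the classes with defect group `D`. -/
theorem defect_eq_of_central (hM : IsPModular p M) {D : Subgroup G} (hDn : D.Normal) (hDp : IsPGroup p D)
    {B : Set (IrrCharacter G)} (hB : IsPBlock M B) {E : Subgroup G} (hE : IsDefectGroup p M B E)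
    {χ : IrrCharacter G} (hχ : χ ∈ B) {y : G} (hS : IsSylowIn p (Subgroup.centralizer ({y} : Set G)) D)
    (hy : ¬ MemLocalIdeal M (centralChar (χ : G → ℂ) y)) : E = D := by
  have := isPrime_of_modular hM
  have h1 : D ≤ E := (Cfsg.Agent.Lib.Basic.le_pCore hDn hDp).trans (IsDefectGroup.pCore_le hM hB hE)
  obtain ⟨u, hu⟩ := IsDefectGroup.conj_le_of_central hM hB hE hχ hy
  obtain ⟨F, hF, hEF⟩ := exists_isSylowIn_ge (isPGroup_conjS (x := u) (IsDefectGroup.isPGroup hE)) hu
  have h2 : Nat.card E ≤ Nat.card D := by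
    have h3 := Subgroup.card_le_of_le hEF
    rw [card_conjS, hF.card_eq hS] at h3
    exact h3
  exact (Subgroup.eq_of_le_of_card_ge h1 h2).symm

/-- The term attached to a character, with the power of `p` removed. -/
noncomputable def tauT (p : ℕ) (S D : Subgroup G) (χ : IrrCharacter G) (y z : G) : ℂ :=
  (charDegree (χ : G → ℂ) : ℂ) * (fixNat S χ : ℂ) * centralChar (χ : G → ℂ) y * centralChar (χ : G → ℂ) z /
    ((p ^ ((Nat.card G).factorization p - (Nat.card D).factorization p) : ℕ) : ℂ)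

theorem minVal_eq_of_defect (hM : IsPModular p M) {B : Set (IrrCharacter G)} (hB : IsPBlock M B) {D : Subgroup G}
    (hD : IsDefectGroup p M B D) :
    minVal p B = (Nat.card G).factorization p - (Nat.card D).factorization p := by
  have := isPrime_of_modular hM
  have hpp : p.Prime := hp.out
  have h1 := card_val_eq_minVal_add_defect (p := p) (IsPBlock.nonempty hB)
  rw [card_defectGroup hM hB hD, hpp.factorization_pow]
  simp only [Finsupp.single_eq_same]
  omega

theorem tauT_of_mem (hM : IsPModular p M) {B : Set (IrrCharacter G)} (hB : IsPBlock M B) {D : Subgroup G}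
    (hD : IsDefectGroup p M B D) (S : Subgroup G) {χ : IrrCharacter G} (hχ : χ ∈ B) (y z : G) :
    tauT p S D χ y z = (degQ p B χ : ℂ) * (fixNat S χ : ℂ) * centralChar (χ : G → ℂ) y * centralChar (χ : G → ℂ) z := by
  have hpp : p.Prime := hp.out
  rw [tauT, ← minVal_eq_of_defect hM hB hD, degQ_spec (p := p) hχ]
  have hk : ((p ^ minVal p B : ℕ) : ℂ) ≠ 0 := by exact_mod_cast pow_ne_zero _ hpp.ne_zero
  push_cast
  push_cast at hk
  field_simp

theorem tauT_of_notMem (hM : IsPModular p M) {D : Subgroup G} (hDn : D.Normal) (hDp : IsPGroup p D)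
    (S : Subgroup G) {χ : IrrCharacter G}
    (hχ : ∀ E, IsDefectGroup p M (blockOf M (χ : G → ℂ)) E → E ≠ D)
    {y z : G} (hy : IsSylowIn p (Subgroup.centralizer ({y} : Set G)) D)
    (hz : IsSylowIn p (Subgroup.centralizer ({z} : Set G)) D) :
    MemLocalIdeal M (tauT p S D χ y z) := by
  have hpp : p.Prime := hp.out
  have := isPrime_of_modular hM
  set k := (Nat.card G).factorization p - (Nat.card D).factorization p with hk
  have hdeg0 : charDegree (χ : G → ℂ) ≠ 0 := (charDegree_pos χ.2).ne'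
  obtain ⟨n, hn, hdeg⟩ : ∃ n : ℕ, ¬ p ∣ n ∧ charDegree (χ : G → ℂ) = p ^ (charDegree (χ : G → ℂ)).factorization p * n :=
    ⟨_, Nat.not_dvd_ordCompl hpp hdeg0, (Nat.ordProj_mul_ordCompl_eq_self _ _).symm⟩
  set v := (charDegree (χ : G → ℂ)).factorization p with hv
  have hp0 : (p : ℂ) ≠ 0 := by exact_mod_cast hpp.ne_zero
  have hcy := memLocalRing_of_isIntegral (M := M) (isIntegral_centralChar χ y)
  have hcz := memLocalRing_of_isIntegral (M := M) (isIntegral_centralChar χ z)
  have hfix : MemLocalRing M (fixNat S χ : ℂ) := MemLocalRing.natCast _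
  have hpI := p_memLocalIdeal (p := p) hM
  rcases lt_trichotomy v k with hlt | heq | hgt
  · -- small degree
    obtain ⟨ry, -, hry⟩ := index_factor_of_sylow hy
    obtain ⟨rz, -, hrz⟩ := index_factor_of_sylow hz
    have hχ1 : (χ : G → ℂ) 1 = (charDegree (χ : G → ℂ) : ℂ) := irr_one_eq χ
    have hn0 : (n : ℂ) ≠ 0 := natCast_ne_zero_of_not_dvd (p := p) hn
    obtain ⟨t, ht⟩ : ∃ t, k = v + (t + 1) := ⟨k - v - 1, by omega⟩
    have h1 : tauT p S D χ y z = (p : ℂ) ^ (t + 1) * (((n : ℂ)⁻¹) * ((fixNat S χ : ℂ) * (ry : ℂ) * (rz : ℂ) *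
        (χ : G → ℂ) y * (χ : G → ℂ) z)) := by
      rw [tauT, centralChar, centralChar, hχ1, hry, hrz, ← hk, hdeg]
      have hpk : ((p : ℂ) ^ k) ≠ 0 := pow_ne_zero _ hp0
      have hpv : ((p : ℂ) ^ v) ≠ 0 := pow_ne_zero _ hp0
      push_cast
      rw [ht]
      rw [ht] at hpk
      field_simp
      ring
    rw [h1]
    refine MemLocalIdeal.mul_right (MemLocalIdeal.pow hpI (by omega)) ?_
    refine MemLocalRing.mul (inv_natCast_memLocalRing hM hn) ?_
    refine MemLocalRing.mul (MemLocalRing.mul (MemLocalRing.mul (MemLocalRing.mul hfix (MemLocalRing.natCast _))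
      (MemLocalRing.natCast _)) (memLocalRing_of_isIntegral (irr_isIntegral χ y))) (memLocalRing_of_isIntegral (irr_isIntegral χ z))
  · -- exact degree
    have hnot : MemLocalIdeal M (centralChar (χ : G → ℂ) y) := by
      by_contra hcon
      obtain ⟨E, hE⟩ := IsPBlock.exists_isDefectGroup hM (isPBlock_blockOf (M := M) χ)
      exact hχ E hE (defect_eq_of_central hM hDn hDp (isPBlock_blockOf χ) hE (self_mem_blockOf χ) hy hcon)
    have h1 : tauT p S D χ y z = (n : ℂ) * (fixNat S χ : ℂ) * centralChar (χ : G → ℂ) y * centralChar (χ : G → ℂ) z := by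
      rw [tauT, ← hk, hdeg, heq]
      have hpk : ((p : ℂ) ^ k) ≠ 0 := pow_ne_zero _ hp0
      push_cast
      field_simp
    rw [h1]
    exact MemLocalIdeal.mul_right (MemLocalIdeal.mul_left (MemLocalRing.mul (MemLocalRing.natCast _) hfix) hnot) hcz
  · -- big degree
    obtain ⟨t, ht⟩ : ∃ t, v = k + (t + 1) := ⟨v - k - 1, by omega⟩
    have h1 : tauT p S D χ y z = (p : ℂ) ^ (t + 1) * ((n : ℂ) * (fixNat S χ : ℂ) * centralChar (χ : G → ℂ) y *
        centralChar (χ : G → ℂ) z) := by
      rw [tauT, ← hk, hdeg, ht]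
      have hpk : ((p : ℂ) ^ k) ≠ 0 := pow_ne_zero _ hp0
      push_cast
      field_simp
      ring
    rw [h1]
    refine MemLocalIdeal.mul_right (MemLocalIdeal.pow hpI (by omega)) ?_
    exact MemLocalRing.mul (MemLocalRing.mul (MemLocalRing.mul (MemLocalRing.natCast _) hfix) hcy) hcz

end LocalPart

section UnitPart

variable {G : Type u} [Group G] [Fintype G] {p : ℕ} [hp : Fact p.Prime] {M : Ideal AlgInt}

/-- The block constant. -/
noncomputable def blockConst (p : ℕ) (S : Subgroup G) (B : Set (IrrCharacter G)) : ℕ :=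
  open scoped Classical in ∑ χ : IrrCharacter G, if χ ∈ B then degQ p B χ * fixNat S χ else 0

/-- The key sum: the regular part of a character has `⟨ , 1_S⟩` equal to `χ(1)/|S|`. -/
theorem sum_classInner_reg_fixNat (S : Sylow p G) (χ : IrrCharacter G) :
    (Nat.card (S : Subgroup G) : ℂ) * ∑ ξ : IrrCharacter G, classInner (pRegularPart p (χ : G → ℂ)) (ξ : G → ℂ) *
      (fixNat (S : Subgroup G) ξ : ℂ) = (χ : G → ℂ) 1 := by
  classical
  letI : Fintype (S : Subgroup G) := Fintype.ofFinite _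
  have hpp : p.Prime := hp.out
  rw [Finset.mul_sum]
  have h1 : ∀ ξ : IrrCharacter G, (Nat.card (S : Subgroup G) : ℂ) * (classInner (pRegularPart p (χ : G → ℂ)) (ξ : G → ℂ) *
      (fixNat (S : Subgroup G) ξ : ℂ)) = ∑ s : (S : Subgroup G), classInner (pRegularPart p (χ : G → ℂ)) (ξ : G → ℂ) * (ξ : G → ℂ) s := by
    intro ξ
    rw [← Finset.mul_sum, sum_fixNat]
    ring
  simp only [h1]
  rw [Finset.sum_comm]
  have hcl : IsClassFunction G (pRegularPart p (χ : G → ℂ)) := pRegularPart_isClassFunction (irr_isClassFunction χ)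
  have h2 : ∀ s : (S : Subgroup G), ∑ ξ : IrrCharacter G, classInner (pRegularPart p (χ : G → ℂ)) (ξ : G → ℂ) * (ξ : G → ℂ) s =
      pRegularPart p (χ : G → ℂ) s := by
    intro s
    have h3 := congrFun (classFunction_eq_sum (pRegularPart p (χ : G → ℂ)) hcl) (s : G)
    rw [h3]
    simp
  simp only [h2]
  rw [Finset.sum_eq_single (1 : (S : Subgroup G))]
  · have h9 : pRegularPart p (χ : G → ℂ) ((1 : (S : Subgroup G)) : G) = (χ : G → ℂ) 1 := by
      apply pRegularPart_of_not_dvd
      simp only [Subgroup.coe_one, orderOf_one]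
      exact fun h => hpp.one_lt.ne' (Nat.dvd_one.mp h)
    exact h9
  · intro s _ hs
    apply pRegularPart_of_dvd
    have hs1 : (s : G) ≠ 1 := fun h => hs (Subtype.ext h)
    obtain ⟨k, hk⟩ : ∃ k, orderOf (s : G) = p ^ k := by
      obtain ⟨k, hk⟩ := (IsPGroup.iff_orderOf.mp S.isPGroup') s
      exact ⟨k, by rw [← Subgroup.orderOf_coe] at hk; exact hk⟩
    rw [hk]
    refine dvd_pow_self p ?_
    rintro rfl
    rw [pow_zero, orderOf_eq_one_iff] at hk
    exact hs1 hk
  · simp

theorem not_dvd_blockConst (hM : IsPModular p M) {B : Set (IrrCharacter G)} (hB : IsPBlock M B) (S : Sylow p G) :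
    ¬ p ∣ blockConst p (S : Subgroup G) B := by
  classical
  have hpp : p.Prime := hp.out
  have := isPrime_of_modular hM
  obtain ⟨χ₀, hχ₀, h0⟩ := exists_height_zero (p := p) (IsPBlock.nonempty hB)
  have hu := not_dvd_degQ (p := p) hχ₀ h0
  have hcard : Nat.card (S : Subgroup G) = p ^ (Nat.card G).factorization p := Sylow.card_eq_multiplicity S
  -- the sum of T-values
  have h1 : ∑ ξ : IrrCharacter G, (if ξ ∈ B then blockT p B χ₀ ξ * (fixNat (S : Subgroup G) ξ : ℤ) else 0) =
      (degQ p B χ₀ : ℤ) := by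
    have h2 := sum_classInner_reg_fixNat S χ₀
    have h3 : ((∑ ξ : IrrCharacter G, (if ξ ∈ B then blockT p B χ₀ ξ * (fixNat (S : Subgroup G) ξ : ℤ) else 0) : ℤ) : ℂ) =
        ((p ^ blockDefect p B : ℕ) : ℂ) * ∑ ξ : IrrCharacter G, classInner (pRegularPart p (χ₀ : G → ℂ)) (ξ : G → ℂ) *
          (fixNat (S : Subgroup G) ξ : ℂ) := by
      push_cast
      rw [Finset.mul_sum]
      refine Finset.sum_congr rfl fun ξ _ => ?_
      by_cases hξ : ξ ∈ B
      · rw [if_pos hξ, ← mul_assoc]
        have h4 := pow_defect_mul_classInner hM hB hχ₀ ξ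
        push_cast at h4
        rw [h4]
      · rw [if_neg hξ, classInner_pRegularPart_eq_zero hM hB hχ₀ hξ]
        simp
    have h5 : (Nat.card G).factorization p = minVal p B + blockDefect p B :=
      card_val_eq_minVal_add_defect (p := p) (IsPBlock.nonempty hB)
    have hp0 : (p : ℂ) ≠ 0 := by exact_mod_cast hpp.ne_zero
    have h6 : ((∑ ξ : IrrCharacter G, (if ξ ∈ B then blockT p B χ₀ ξ * (fixNat (S : Subgroup G) ξ : ℤ) else 0) : ℤ) : ℂ) =
        ((degQ p B χ₀ : ℤ) : ℂ) := by
      rw [h3]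
      rw [irr_one_eq, degQ_spec (p := p) hχ₀, hcard, h5] at h2
      push_cast at h2 ⊢
      rw [pow_add, mul_assoc] at h2
      exact mul_left_cancel₀ (pow_ne_zero _ hp0) h2
    exact_mod_cast h6
  -- the congruence
  have h2 : (p : ℤ) ∣ (degQ p B χ₀ : ℤ) * ∑ ξ : IrrCharacter G, (if ξ ∈ B then blockT p B χ₀ ξ * (fixNat (S : Subgroup G) ξ : ℤ) else 0) -
      blockT p B χ₀ χ₀ * (blockConst p (S : Subgroup G) B : ℤ) := by
    rw [blockConst]
    push_cast
    rw [Finset.mul_sum, Finset.mul_sum, ← Finset.sum_sub_distrib]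
    refine Finset.dvd_sum fun ξ _ => ?_
    by_cases hξ : ξ ∈ B
    · rw [if_pos hξ, if_pos hξ]
      have h3 := blockT_congr hM hB hχ₀ hξ hχ₀
      have h4 : (degQ p B χ₀ : ℤ) * (blockT p B χ₀ ξ * (fixNat (S : Subgroup G) ξ : ℤ)) -
          blockT p B χ₀ χ₀ * ((degQ p B ξ : ℤ) * (fixNat (S : Subgroup G) ξ : ℤ)) =
          ((degQ p B χ₀ : ℤ) * blockT p B χ₀ ξ - (degQ p B ξ : ℤ) * blockT p B χ₀ χ₀) * (fixNat (S : Subgroup G) ξ : ℤ) := by
        ring
      rw [h4]
      exact Dvd.dvd.mul_right h3 _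
    · rw [if_neg hξ, if_neg hξ]
      simp
  rw [h1] at h2
  intro hdvd
  have h3 : (p : ℤ) ∣ (blockConst p (S : Subgroup G) B : ℤ) := by exact_mod_cast hdvd
  have h4 : (p : ℤ) ∣ (degQ p B χ₀ : ℤ) * (degQ p B χ₀ : ℤ) := by
    have h5 := dvd_add h2 (Dvd.dvd.mul_left h3 (blockT p B χ₀ χ₀))
    simpa using h5
  have h5 : p ∣ degQ p B χ₀ * degQ p B χ₀ := by exact_mod_cast h4
  rcases hpp.dvd_mul.mp h5 with h6 | h6 <;> exact hu h6

end UnitPart

section Final

variable {G : Type u} [Group G] [Fintype G] {p : ℕ} [hp : Fact p.Prime] {M : Ideal AlgInt}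

theorem pow_dvd_of_memLocalRing (hM : IsPModular p M) {n k : ℕ} (h : MemLocalRing M ((n : ℂ) / ((p ^ k : ℕ) : ℂ))) :
    p ^ k ∣ n := by
  have := isPrime_of_modular hM
  have hpp : p.Prime := hp.out
  by_cases hn : n = 0
  · simp [hn]
  rw [hpp.pow_dvd_iff_le_factorization hn]
  by_contra hlt
  push Not at hlt
  obtain ⟨n', hn', hnn⟩ : ∃ n' : ℕ, ¬ p ∣ n' ∧ n = p ^ n.factorization p * n' :=
    ⟨_, Nat.not_dvd_ordCompl hpp hn, (Nat.ordProj_mul_ordCompl_eq_self _ _).symm⟩
  set v := n.factorization p with hv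
  obtain ⟨t, ht⟩ : ∃ t, k = v + (t + 1) := ⟨k - v - 1, by omega⟩
  have hp0 : (p : ℂ) ≠ 0 := by exact_mod_cast hpp.ne_zero
  have hn0 : (n' : ℂ) ≠ 0 := natCast_ne_zero_of_not_dvd (p := p) hn'
  apply not_memLocalRing_inv_p (p := p) hM
  have h1 : (p : ℂ)⁻¹ = ((n : ℂ) / ((p ^ k : ℕ) : ℂ)) * ((p : ℂ) ^ t * (n' : ℂ)⁻¹) := by
    rw [hnn, ht]
    push_cast
    field_simp
    ring
  rw [h1]
  exact MemLocalRing.mul h (MemLocalRing.mul (MemLocalRing.pow (MemLocalRing.natCast _) _) (inv_natCast_memLocalRing hM hn'))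

theorem tauT_memLocalRing (hM : IsPModular p M) {D : Subgroup G} (hDn : D.Normal) (hDp : IsPGroup p D)
    (S : Subgroup G) (χ : IrrCharacter G)
    {y z : G} (hy : IsSylowIn p (Subgroup.centralizer ({y} : Set G)) D)
    (hz : IsSylowIn p (Subgroup.centralizer ({z} : Set G)) D) :
    MemLocalRing M (tauT p S D χ y z) := by
  have := isPrime_of_modular hM
  by_cases h : ∃ E, IsDefectGroup p M (blockOf M (χ : G → ℂ)) E ∧ E = D
  · obtain ⟨E, hE, rfl⟩ := h
    rw [tauT_of_mem hM (isPBlock_blockOf χ) hE S (self_mem_blockOf χ)]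
    exact MemLocalRing.mul (MemLocalRing.mul (MemLocalRing.mul (MemLocalRing.natCast _) (MemLocalRing.natCast _))
      (memLocalRing_of_isIntegral (isIntegral_centralChar χ y))) (memLocalRing_of_isIntegral (isIntegral_centralChar χ z))
  · push Not at h
    exact MemLocalIdeal.memLocalRing (tauT_of_notMem hM hDn hDp S (fun E hE => h E hE) hy hz)

theorem pairs_dvd (hM : IsPModular p M) {D : Subgroup G} (hDn : D.Normal) (hDp : IsPGroup p D)
    (S : Sylow p G) {x y z : G}
    (hy : IsSylowIn p (Subgroup.centralizer ({y} : Set G)) D)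
    (hz : IsSylowIn p (Subgroup.centralizer ({z} : Set G)) D) (hzx : IsConj x⁻¹ z) :
    p ^ ((Nat.card G).factorization p - (Nat.card D).factorization p) ∣
    (Nat.card {yz : G × G // yz.1 ∈ (ConjClasses.mk x).carrier ∧
      yz.2 ∈ (ConjClasses.mk y).carrier ∧ yz.2 * yz.1⁻¹ ∈ (S : Subgroup G)} : ℕ) := by
  have := isPrime_of_modular hM
  have hpp : p.Prime := hp.out
  set N := (Nat.card {yz : G × G // yz.1 ∈ (ConjClasses.mk x).carrier ∧
      yz.2 ∈ (ConjClasses.mk y).carrier ∧ yz.2 * yz.1⁻¹ ∈ (S : Subgroup G)} : ℕ) with hN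
  have h1 := pairs_formula (S : Subgroup G) x y
  rw [← hN] at h1
  have h2 : (((S : Subgroup G).index * N : ℕ) : ℂ) / ((p ^ ((Nat.card G).factorization p - (Nat.card D).factorization p) : ℕ) : ℂ) =
      ∑ χ : IrrCharacter G, tauT p (S : Subgroup G) D χ y z := by
    push_cast
    rw [h1, Finset.sum_div]
    refine Finset.sum_congr rfl fun χ _ => ?_
    rw [tauT, centralChar_eq_of_isConj χ hzx]
    push_cast
    rfl
  have h3 := pow_dvd_of_memLocalRing (n := (S : Subgroup G).index * N) (p := p) (M := M) hM (by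
    rw [h2]
    exact MemLocalRing.sum _ fun χ _ => tauT_memLocalRing hM hDn hDp _ χ hy hz)
  have h4 : ¬ p ∣ (S : Subgroup G).index := S.not_dvd_index
  exact (Nat.Coprime.pow_left _ ((Nat.Prime.coprime_iff_not_dvd hpp).mpr h4)).dvd_of_dvd_mul_left h3

theorem rank_formula_aux (hM : IsPModular p M) (D : Subgroup G) (hDn : D.Normal) (hDp : IsPGroup p D) (S : Sylow p G)
    {ι : Type*} [Fintype ι] [DecidableEq ι] (K : ι → ConjClasses G) (hKinj : Function.Injective K)
    (hK : ∀ C : ConjClasses G, (∃ i, K i = C) ↔ ∃ x ∈ C.carrier, ¬ p ∣ orderOf x ∧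
      ∃ Q : Sylow p (Subgroup.centralizer ({x} : Set G)),
        (Q : Subgroup (Subgroup.centralizer ({x} : Set G))).map (Subgroup.centralizer ({x} : Set G)).subtype = D) :
    Nat.card {B : Set (IrrCharacter G) // IsPBlock M B ∧ IsDefectGroup p M B D} =
      (Matrix.of fun i j : ι => ((Nat.card {yz : G × G // yz.1 ∈ (K i).carrier ∧ yz.2 ∈ (K j).carrier ∧
        yz.2 * yz.1⁻¹ ∈ (S : Subgroup G)} / p ^ ((Nat.card G).factorization p - (Nat.card D).factorization p) : ℕ) : ZMod p)).rank := by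
  classical
  have := isPrime_of_modular hM
  have hpp : p.Prime := hp.out
  -- representatives
  have hK1 := fun i => (hK (K i)).mp ⟨i, rfl⟩
  choose x hxK hxreg hxQ using hK1
  have hxS : ∀ i, IsSylowIn p (Subgroup.centralizer ({x i} : Set G)) D := fun i => hxQ i
  have hKx : ∀ i, K i = ConjClasses.mk (x i) := fun i => (ConjClasses.mem_carrier_iff_mk_eq.mp (hxK i)).symm
  -- inversion
  have hinv : ∀ i, ∃ i', K i' = ConjClasses.mk (x i)⁻¹ := by
    intro i
    refine (hK _).mpr ⟨(x i)⁻¹, ConjClasses.mem_carrier_mk, ?_, ?_⟩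
    · rw [orderOf_inv]
      exact hxreg i
    · have h1 : IsSylowIn p (Subgroup.centralizer ({(x i)⁻¹} : Set G)) D := by
        rw [centralizer_singleton_inv]
        exact hxS i
      exact h1
  choose σ₀ hσ₀ using hinv
  have hσconj : ∀ i, IsConj (x i)⁻¹ (x (σ₀ i)) := by
    intro i
    have h1 := hσ₀ i
    rw [hKx (σ₀ i)] at h1
    exact (ConjClasses.mk_eq_mk_iff_isConj.mp h1).symm
  have hσσ : Function.Involutive σ₀ := by
    intro i
    apply hKinj
    rw [hσ₀, hKx i]
    apply ConjClasses.mk_eq_mk_iff_isConj.mpr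
    have h1 := isConj_inv_inv (hσconj i)
    simp only [inv_inv] at h1
    exact h1.symm
  let σ : Equiv.Perm ι := hσσ.toPerm
  -- blocks
  letI : Fintype {B : Set (IrrCharacter G) // IsPBlock M B ∧ IsDefectGroup p M B D} := Fintype.ofFinite _
  have hrep : ∀ b : {B : Set (IrrCharacter G) // IsPBlock M B ∧ IsDefectGroup p M B D}, ∃ χ : IrrCharacter G, χ ∈ b.1 :=
    fun b => IsPBlock.nonempty b.2.1
  choose rep hrep using hrep
  -- residue field
  letI : Field (locRing M ⧸ locMax M) := Ideal.Quotient.field _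
  let q : ∀ z : ℂ, MemLocalRing M z → (locRing M ⧸ locMax M) := fun z hz => Ideal.Quotient.mk (locMax M) ⟨z, hz⟩
  have hqnat : ∀ n : ℕ, q (n : ℂ) (MemLocalRing.natCast n) = (n : locRing M ⧸ locMax M) := by
    intro n
    have h1 : (⟨(n : ℂ), MemLocalRing.natCast n⟩ : locRing M) = (n : locRing M) := by
      apply Subtype.ext
      simp
    simp only [q]
    rw [h1, map_natCast]
  have hqzero : ∀ (z : ℂ) (hz : MemLocalRing M z), q z hz = 0 ↔ MemLocalIdeal M z := by
    intro z hz
    exact Ideal.Quotient.eq_zero_iff_mem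
  have hqeq : ∀ (z w : ℂ) (hz : MemLocalRing M z) (hw : MemLocalRing M w), MemLocalIdeal M (z - w) → q z hz = q w hw := by
    intro z w hz hw h
    exact Ideal.Quotient.eq.mpr h
  have hqmul : ∀ (z w : ℂ) (hz : MemLocalRing M z) (hw : MemLocalRing M w), q (z * w) (MemLocalRing.mul hz hw) = q z hz * q w hw := by
    intro z w hz hw
    exact map_mul (Ideal.Quotient.mk (locMax M)) (⟨z, hz⟩ : locRing M) ⟨w, hw⟩
  have hqsum : ∀ {τ : Type _} (s : Finset τ) (f : τ → ℂ) (hf : ∀ t, MemLocalRing M (f t)),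
      q (∑ t ∈ s, f t) (MemLocalRing.sum s fun t _ => hf t) = ∑ t ∈ s, q (f t) (hf t) := by
    intro τ s f hf
    have h1 : (⟨∑ t ∈ s, f t, MemLocalRing.sum s fun t _ => hf t⟩ : locRing M) = ∑ t ∈ s, (⟨f t, hf t⟩ : locRing M) := by
      apply Subtype.ext
      simp
    simp only [q]
    rw [h1, map_sum]
  have hpF : ((p : ℕ) : locRing M ⧸ locMax M) = 0 := by
    rw [← hqnat, hqzero]
    exact p_memLocalIdeal hM
  haveI hchar : CharP (locRing M ⧸ locMax M) p := by
    apply ringChar.of_eq
    exact CharP.ringChar_of_prime_eq_zero hpp hpF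
  let φ : ZMod p →+* (locRing M ⧸ locMax M) := ZMod.castHom (dvd_refl p) _
  -- central characters
  have hom : ∀ (χ : IrrCharacter G) (g : G), MemLocalRing M (centralChar (χ : G → ℂ) g) :=
    fun χ g => memLocalRing_of_isIntegral (isIntegral_centralChar χ g)
  let A : Matrix {B : Set (IrrCharacter G) // IsPBlock M B ∧ IsDefectGroup p M B D} ι (locRing M ⧸ locMax M) :=
    fun b i => q (centralChar (rep b : G → ℂ) (x i)) (hom _ _)
  have hbc : ∀ (b : {B : Set (IrrCharacter G) // IsPBlock M B ∧ IsDefectGroup p M B D}) (g : G),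
      MemLocalRing M (blockCoeff b.1 g) := fun b g => blockCoeff_memLocalRing b.2.1 g
  let V : Matrix ι {B : Set (IrrCharacter G) // IsPBlock M B ∧ IsDefectGroup p M B D} (locRing M ⧸ locMax M) :=
    fun i b => q (blockCoeff b.1 (x i)) (hbc _ _)
  -- the dual basis
  have hAV : A * V = 1 := by
    ext b b'
    rw [Matrix.mul_apply]
    have h1 : spec (blockCoeff b'.1) (rep b) = if rep b ∈ b'.1 then 1 else 0 := by
      rw [spec_blockCoeff]
      by_cases hmem : rep b ∈ b'.1
      · rw [indic_apply_of_mem hmem, if_pos hmem]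
      · rw [indic_apply_of_notMem hmem, if_neg hmem]
    rw [spec_eq_sum_classes _ (blockCoeff_isClassFunction _)] at h1
    have hloc : ∀ C : ConjClasses G, MemLocalRing M (blockCoeff b'.1 (clsRep C) * centralChar (rep b : G → ℂ) (clsRep C)) :=
      fun C => MemLocalRing.mul (hbc _ _) (hom _ _)
    have h2 := hqsum Finset.univ _ hloc
    have h3 : q (∑ C : ConjClasses G, blockCoeff b'.1 (clsRep C) * centralChar (rep b : G → ℂ) (clsRep C))
        (MemLocalRing.sum _ fun t _ => hloc t) = (1 : Matrix _ _ (locRing M ⧸ locMax M)) b b' := by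
      by_cases hbb : b = b'
      · subst hbb
        have h4 : (∑ C : ConjClasses G, blockCoeff b.1 (clsRep C) * centralChar (rep b : G → ℂ) (clsRep C)) = ((1 : ℕ) : ℂ) := by
          rw [h1, if_pos (hrep b)]
          simp
        rw [Matrix.one_apply_eq, hqeq _ _ _ (MemLocalRing.natCast 1) (by rw [h4, sub_self]; exact memLocalIdeal_zero), hqnat]
        simp
      · have h4 : (∑ C : ConjClasses G, blockCoeff b'.1 (clsRep C) * centralChar (rep b : G → ℂ) (clsRep C)) = 0 := by
          rw [h1, if_neg]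
          intro hmem
          apply hbb
          apply Subtype.ext
          rw [blockOf_eq_of_mem b.2.1 (hrep b), blockOf_eq_of_mem b'.2.1 hmem]
        rw [Matrix.one_apply_ne hbb, hqzero, h4]
        exact memLocalIdeal_zero
    rw [← h3, h2]
    refine Fintype.sum_of_injective K hKinj _ _ ?_ ?_
    · intro C hC
      by_contra hne
      have hne1 : ¬ MemLocalIdeal M (blockCoeff b'.1 (clsRep C)) := by
        intro h
        apply hne
        have h5 := (hqzero _ (hbc b' (clsRep C))).mpr h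
        rw [hqmul _ _ (hbc _ _) (hom _ _), h5, zero_mul]
      have hne2 : ¬ MemLocalIdeal M (centralChar (rep b : G → ℂ) (clsRep C)) := by
        intro h
        apply hne
        have h5 := (hqzero _ (hom (rep b) (clsRep C))).mpr h
        rw [hqmul _ _ (hbc _ _) (hom _ _), h5, mul_zero]
      apply hC
      have hreg : ¬ p ∣ orderOf (clsRep C) := by
        intro hd
        apply hne1
        rw [blockCoeff_eq_zero_of_singular hM b'.2.1 hd]
        exact memLocalIdeal_zero
      obtain ⟨u, Q, hQ⟩ := minmax_a hM b'.2.1 b'.2.2 hne1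
      rw [conjS_of_normal u D (hQ := hDn)] at hQ
      obtain ⟨w, hw⟩ := IsDefectGroup.conj_le_of_central hM b.2.1 b.2.2 (hrep b) hne2
      rw [conjS_of_normal w D (hQ := hDn)] at hw
      have hS : IsSylowIn p (Subgroup.centralizer ({clsRep C} : Set G)) D := by
        have h6 : IsSylowIn p (Subgroup.centralizer ({clsRep C} : Set G))
            ((Q : Subgroup _).map (Subgroup.centralizer ({clsRep C} : Set G)).subtype) := ⟨Q, rfl⟩
        rwa [← h6.eq_of_le hDp hw hQ] at h6
      refine (hK C).mpr ⟨clsRep C, ?_, hreg, hS⟩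
      rw [ConjClasses.mem_carrier_iff_mk_eq]
      exact mk_clsRep C
    · intro i
      have hcon : IsConj (x i) (clsRep (K i)) := by
        have h5 := mk_clsRep (K i)
        rw [hKx i] at h5 ⊢
        exact (ConjClasses.mk_eq_mk_iff_isConj.mp h5.symm)
      rw [hqmul _ _ (hbc _ _) (hom _ _), mul_comm]
      congr 1
      · exact hqeq _ _ _ _ (by
          rw [IsClassFunction.congr_isConj (blockCoeff_isClassFunction _) hcon, sub_self]
          exact memLocalIdeal_zero)
      · exact hqeq _ _ _ _ (by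
          rw [centralChar_eq_of_isConj _ hcon, sub_self]
          exact memLocalIdeal_zero)
  -- the matrix
  set k := (Nat.card G).factorization p - (Nat.card D).factorization p with hk
  let N : ι → ι → ℕ := fun i j => Nat.card {yz : G × G // yz.1 ∈ (K i).carrier ∧ yz.2 ∈ (K j).carrier ∧
        yz.2 * yz.1⁻¹ ∈ (S : Subgroup G)}
  let W : Matrix ι ι (ZMod p) := Matrix.of fun i j : ι => ((N i j / p ^ k : ℕ) : ZMod p)
  have hind : ((S : Subgroup G).index : locRing M ⧸ locMax M) ≠ 0 := by
    rw [← hqnat, Ne, hqzero, natCast_memLocalIdeal_iff hM]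
    exact S.not_dvd_index
  let c : {B : Set (IrrCharacter G) // IsPBlock M B ∧ IsDefectGroup p M B D} → (locRing M ⧸ locMax M) :=
    fun b => (blockConst p (S : Subgroup G) b.1 : locRing M ⧸ locMax M) / ((S : Subgroup G).index : locRing M ⧸ locMax M)
  have hc : ∀ b, c b ≠ 0 := by
    intro b
    refine div_ne_zero ?_ hind
    rw [← hqnat, Ne, hqzero, natCast_memLocalIdeal_iff hM]
    exact not_dvd_blockConst hM b.2.1 S
  have hW : ∀ i j, (W.map φ) i j = ∑ b, c b * A b (σ i) * A b j := by
    intro i j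
    have hNdvd : p ^ k ∣ N i j := by
      simp only [N]
      rw [hKx i, hKx j]
      exact pairs_dvd hM hDn hDp S (hxS j) (hxS (σ₀ i)) (hσconj i)
    obtain ⟨N', hN'⟩ := hNdvd
    have hp0 : ((p ^ k : ℕ) : ℂ) ≠ 0 := by exact_mod_cast pow_ne_zero _ hpp.ne_zero
    have hNN : N i j / p ^ k = N' := by
      rw [hN']
      exact Nat.mul_div_cancel_left _ (pow_pos hpp.pos _)
    have hWij : (W.map φ) i j = (N' : locRing M ⧸ locMax M) := by
      simp only [W, Matrix.map_apply, Matrix.of_apply]
      rw [hNN, map_natCast]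
    -- the formula in `ℂ`
    have h1 : ((S : Subgroup G).index : ℂ) * (N' : ℂ) = ∑ χ : IrrCharacter G, tauT p (S : Subgroup G) D χ (x j) (x (σ₀ i)) := by
      have h2 := pairs_formula (S : Subgroup G) (x i) (x j)
      rw [← hKx i, ← hKx j] at h2
      have h3 : ((Nat.card {yz : G × G // yz.1 ∈ (K i).carrier ∧ yz.2 ∈ (K j).carrier ∧
        yz.2 * yz.1⁻¹ ∈ (S : Subgroup G)} : ℕ) : ℂ) = ((p ^ k : ℕ) : ℂ) * (N' : ℂ) := by
        have h4 : Nat.card {yz : G × G // yz.1 ∈ (K i).carrier ∧ yz.2 ∈ (K j).carrier ∧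
          yz.2 * yz.1⁻¹ ∈ (S : Subgroup G)} = p ^ k * N' := hN'
        rw [h4]
        push_cast
        ring
      rw [h3] at h2
      simp only [tauT, ← hk]
      rw [← Finset.sum_div, eq_div_iff hp0]
      simp only [centralChar_eq_of_isConj _ (hσconj i)] at h2
      rw [← h2]
      ring
    -- per-character congruence
    have hterm : ∀ χ : IrrCharacter G, MemLocalIdeal M (tauT p (S : Subgroup G) D χ (x j) (x (σ₀ i)) -
        ∑ b : {B : Set (IrrCharacter G) // IsPBlock M B ∧ IsDefectGroup p M B D},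
          (if χ ∈ b.1 then ((degQ p b.1 χ * fixNat (S : Subgroup G) χ : ℕ) : ℂ) else 0) *
            (centralChar (rep b : G → ℂ) (x (σ₀ i)) * centralChar (rep b : G → ℂ) (x j))) := by
      intro χ
      by_cases hχ : ∃ b : {B : Set (IrrCharacter G) // IsPBlock M B ∧ IsDefectGroup p M B D}, χ ∈ b.1
      · obtain ⟨b₀, hb₀⟩ := hχ
        rw [Finset.sum_eq_single b₀]
        · rw [if_pos hb₀, tauT_of_mem hM b₀.2.1 b₀.2.2 _ hb₀]
          have hy := sameBlock_of_mem b₀.2.1 hb₀ (hrep b₀) (x j)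
          have hz := sameBlock_of_mem b₀.2.1 hb₀ (hrep b₀) (x (σ₀ i))
          have h2 : (degQ p b₀.1 χ : ℂ) * (fixNat (S : Subgroup G) χ : ℂ) * centralChar (χ : G → ℂ) (x j) * centralChar (χ : G → ℂ) (x (σ₀ i)) -
              ((degQ p b₀.1 χ * fixNat (S : Subgroup G) χ : ℕ) : ℂ) * (centralChar (rep b₀ : G → ℂ) (x (σ₀ i)) * centralChar (rep b₀ : G → ℂ) (x j)) =
              ((degQ p b₀.1 χ * fixNat (S : Subgroup G) χ : ℕ) : ℂ) * ((centralChar (χ : G → ℂ) (x j) - centralChar (rep b₀ : G → ℂ) (x j)) * centralChar (χ : G → ℂ) (x (σ₀ i)) +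
                centralChar (rep b₀ : G → ℂ) (x j) * (centralChar (χ : G → ℂ) (x (σ₀ i)) - centralChar (rep b₀ : G → ℂ) (x (σ₀ i)))) := by
            push_cast
            ring
          rw [h2]
          exact MemLocalIdeal.mul_left (MemLocalRing.natCast _) (MemLocalIdeal.add (MemLocalIdeal.mul_right hy (hom _ _))
            (MemLocalIdeal.mul_left (hom _ _) hz))
        · intro b _ hb
          rw [if_neg, zero_mul]
          intro hmem
          apply hb
          apply Subtype.ext
          rw [blockOf_eq_of_mem b.2.1 hmem, blockOf_eq_of_mem b₀.2.1 hb₀]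
        · simp
      · push Not at hχ
        rw [Finset.sum_eq_zero, sub_zero]
        · refine tauT_of_notMem hM hDn hDp _ ?_ (hxS j) (hxS (σ₀ i))
          rintro E hE rfl
          exact hχ ⟨_, isPBlock_blockOf χ, hE⟩ (self_mem_blockOf χ)
        · intro b _
          rw [if_neg (hχ b), zero_mul]
    have hsum : MemLocalIdeal M (((S : Subgroup G).index : ℂ) * (N' : ℂ) -
        ∑ b : {B : Set (IrrCharacter G) // IsPBlock M B ∧ IsDefectGroup p M B D},
          (blockConst p (S : Subgroup G) b.1 : ℂ) *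
            (centralChar (rep b : G → ℂ) (x (σ₀ i)) * centralChar (rep b : G → ℂ) (x j))) := by
      have h2 : ∀ b : {B : Set (IrrCharacter G) // IsPBlock M B ∧ IsDefectGroup p M B D},
          (blockConst p (S : Subgroup G) b.1 : ℂ) * (centralChar (rep b : G → ℂ) (x (σ₀ i)) * centralChar (rep b : G → ℂ) (x j)) =
          ∑ χ : IrrCharacter G, (if χ ∈ b.1 then ((degQ p b.1 χ * fixNat (S : Subgroup G) χ : ℕ) : ℂ) else 0) *
            (centralChar (rep b : G → ℂ) (x (σ₀ i)) * centralChar (rep b : G → ℂ) (x j)) := by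
        intro b
        rw [blockConst, Nat.cast_sum, Finset.sum_mul]
        refine Finset.sum_congr rfl fun χ _ => ?_
        congr 1
        split_ifs <;> simp
      simp only [h2]
      rw [Finset.sum_comm, h1, ← Finset.sum_sub_distrib]
      exact MemLocalIdeal.sum _ fun χ _ => hterm χ
    -- transfer to the field
    rw [hWij]
    have hind' := hind
    have h3 : ((S : Subgroup G).index : locRing M ⧸ locMax M) * (N' : locRing M ⧸ locMax M) =
        ∑ b, (blockConst p (S : Subgroup G) b.1 : locRing M ⧸ locMax M) * A b (σ i) * A b j := by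
      have hloc1 : MemLocalRing M (((S : Subgroup G).index : ℂ) * (N' : ℂ)) :=
        MemLocalRing.mul (MemLocalRing.natCast _) (MemLocalRing.natCast _)
      have hloc2 : ∀ b : {B : Set (IrrCharacter G) // IsPBlock M B ∧ IsDefectGroup p M B D},
          MemLocalRing M ((blockConst p (S : Subgroup G) b.1 : ℂ) *
            (centralChar (rep b : G → ℂ) (x (σ₀ i)) * centralChar (rep b : G → ℂ) (x j))) :=
        fun b => MemLocalRing.mul (MemLocalRing.natCast _) (MemLocalRing.mul (hom _ _) (hom _ _))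
      have h4 := hqeq _ _ hloc1 (MemLocalRing.sum _ fun b _ => hloc2 b) hsum
      rw [hqsum Finset.univ _ hloc2, hqmul _ _ (MemLocalRing.natCast _) (MemLocalRing.natCast _), hqnat, hqnat] at h4
      rw [h4]
      refine Finset.sum_congr rfl fun b _ => ?_
      rw [hqmul _ _ (MemLocalRing.natCast _) (MemLocalRing.mul (hom _ _) (hom _ _)), hqnat, hqmul _ _ (hom _ _) (hom _ _), mul_assoc]
      rfl
    have h5 : ∀ b, c b * A b (σ i) * A b j = (blockConst p (S : Subgroup G) b.1 : locRing M ⧸ locMax M) * A b (σ i) * A b j /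
        ((S : Subgroup G).index : locRing M ⧸ locMax M) := by
      intro b
      simp only [c]
      field_simp
    simp only [h5]
    rw [← Finset.sum_div, ← h3]
    field_simp
  have hfin := rank_eq_card_of_factor (W.map φ) A V σ c hc hW hAV
  rw [rank_map_ringHom] at hfin
  rw [Nat.card_eq_fintype_card]
  exact hfin.symm

end Final

end Cfsg.Agent.Lib.H8Group
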