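import Cfsg.Agent.Lib.H8Group.RankTrace

/-!
# Blocks of regular rank one
-/

set_option autoImplicit false
set_option linter.unusedSectionVars false
set_option linter.style.haveILetI false

namespace Cfsg.Agent.Lib.H8Group

open Cfsg Cfsg.Agent.Lib.Char Cfsg.Agent.Lib.Blocks
open scoped ComplexConjugate

universe u

/-- Bezout for a finite family of integers. -/
theorem exists_bezout_finset {α : Type*} (S : Finset α) (f : α → ℤ) :
    ∃ (g : ℕ) (a : α → ℤ), (∑ i ∈ S, a i * f i = g) ∧ ∀ i ∈ S, (g : ℤ) ∣ f i := by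
  classical
  induction S using Finset.induction_on with
  | empty => exact ⟨0, fun _ => 0, by simp, by simp⟩
  | insert x S hx ih =>
    obtain ⟨g, a, h1, h2⟩ := ih
    refine ⟨Int.gcd (f x) g, fun i => if i = x then Int.gcdA (f x) g else Int.gcdB (f x) g * a i, ?_, ?_⟩
    · rw [Finset.sum_insert hx]
      beta_reduce
      rw [if_pos rfl]
      have h3 : ∑ i ∈ S, (if i = x then Int.gcdA (f x) g else Int.gcdB (f x) g * a i) * f i =
          Int.gcdB (f x) g * ∑ i ∈ S, a i * f i := by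
        rw [Finset.mul_sum]
        refine Finset.sum_congr rfl fun i hi => ?_
        rw [if_neg (fun h : i = x => hx (h ▸ hi))]
        ring
      rw [h3, h1, Int.gcd_eq_gcd_ab]
      ring
    · intro i hi
      rcases Finset.mem_insert.mp hi with rfl | hi
      · exact Int.gcd_dvd_left _ _
      · exact dvd_trans (Int.gcd_dvd_right _ _) (h2 i hi)

section Main

variable {G : Type u} [Group G] [Fintype G] {M : Ideal AlgInt} {p : ℕ} [hp : Fact p.Prime]

theorem pRegularPart_ne_zero (χ : IrrCharacter G) : pRegularPart p (χ : G → ℂ) ≠ 0 := by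
  have hpp : p.Prime := hp.out
  intro h
  have h1 := congrFun h 1
  rw [pRegularPart_of_not_dvd _ (by
    rw [orderOf_one]
    exact hpp.one_lt.ne' ∘ Nat.dvd_one.mp), Pi.zero_apply, irr_one_eq] at h1
  exact (charDegree_pos χ.2).ne' (by exact_mod_cast h1)

/-- In a block of rank one every truncation is a multiple of a fixed one. -/
theorem exists_smul_of_rank_one {B : Set (IrrCharacter G)} (hl : blockRank p B = 1) {χ₀ χ : IrrCharacter G}
    (hχ₀ : χ₀ ∈ B) (hχ : χ ∈ B) : ∃ c : ℂ, pRegularPart p (χ : G → ℂ) = c • pRegularPart p (χ₀ : G → ℂ) := by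
  set S := Submodule.span ℂ ((fun χ : IrrCharacter G => pRegularPart p (χ : G → ℂ)) '' B) with hS
  have h0 : pRegularPart p (χ₀ : G → ℂ) ∈ S := Submodule.subset_span ⟨χ₀, hχ₀, rfl⟩
  have h1 : pRegularPart p (χ : G → ℂ) ∈ S := Submodule.subset_span ⟨χ, hχ, rfl⟩
  have hnz : (⟨_, h0⟩ : S) ≠ 0 := fun h => pRegularPart_ne_zero (p := p) χ₀ (congrArg Subtype.val h)
  obtain ⟨c, hc⟩ := (finrank_eq_one_iff_of_nonzero' (⟨_, h0⟩ : S) hnz).mp hl ⟨_, h1⟩
  exact ⟨c, (congrArg Subtype.val hc).symm⟩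

/-- The scaled matrix entry as an inner product. -/
theorem pow_defect_mul_classInner (hM : IsPModular p M) {B : Set (IrrCharacter G)} (hB : IsPBlock M B)
    {χ : IrrCharacter G} (hχ : χ ∈ B) (ξ : IrrCharacter G) :
    ((p ^ blockDefect p B : ℕ) : ℂ) * classInner (pRegularPart p (χ : G → ℂ)) (ξ : G → ℂ) = blockT p B χ ξ := by
  have := isPrime_of_modular hM
  have hpp : p.Prime := hp.out
  have h2 := classInner_pRegularPart (p := p) χ ξ
  rw [regInt_eq_mul_blockT hM hB hχ, card_val_eq_minVal_add_defect (p := p) (IsPBlock.nonempty hB), pow_add] at h2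
  have hk : ((p ^ minVal p B : ℕ) : ℂ) ≠ 0 := by exact_mod_cast pow_ne_zero _ hpp.ne_zero
  apply mul_left_cancel₀ hk
  push_cast at h2 ⊢
  rw [← mul_assoc, h2]

/-- The diagonal entry at height zero is a unit. -/
theorem not_dvd_blockT_self (hM : IsPModular p M) {B : Set (IrrCharacter G)} (hB : IsPBlock M B)
    {χ : IrrCharacter G} (hχ : χ ∈ B) (h0 : blockHeight p B (χ : G → ℂ) = 0) {ξ : IrrCharacter G} (hξ : ξ ∈ B)
    (h0' : blockHeight p B (ξ : G → ℂ) = 0) : ¬ (p : ℤ) ∣ blockT p B χ ξ := by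
  have hpp : p.Prime := hp.out
  rintro ⟨c, hc⟩
  obtain ⟨h1, h2⟩ := regInt_val_of_height_zero hM hB hχ h0 hξ
  rw [val_eq_minVal_add_height hξ, h0', add_zero, regInt_eq_mul_blockT hM hB hχ, hc] at h2
  have h3 : ((p ^ minVal p B : ℕ) : ℤ) * ((p : ℤ) * c) ≠ 0 := by
    rw [regInt_eq_mul_blockT hM hB hχ, hc] at h1
    exact h1
  have h4 : p ^ (minVal p B + 1) ∣ (((p ^ minVal p B : ℕ) : ℤ) * ((p : ℤ) * c)).natAbs := by
    rw [Int.natAbs_mul, Int.natAbs_mul, pow_succ, Int.natAbs_natCast, Int.natAbs_natCast]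
    exact mul_dvd_mul_left _ (dvd_mul_right _ _)
  have h5 := (hpp.pow_dvd_iff_le_factorization (Int.natAbs_ne_zero.mpr h3)).mp h4
  omega

/-- **Cartan invariant of a block of rank one.** -/
theorem exists_rank_one_data (hM : IsPModular p M) {B : Set (IrrCharacter G)} (hB : IsPBlock M B)
    (hl : blockRank p B = 1) :
    ∃ φ : G → ℂ, ∃ d : IrrCharacter G → ℕ, (∃ n : IrrCharacter G → ℤ, ∀ x : G, IsPRegular p x →
        φ x = ∑ᶠ ψ ∈ B, (n ψ : ℂ) * (ψ : G → ℂ) x) ∧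
      (∀ χ ∈ B, ∀ x : G, IsPRegular p x → (χ : G → ℂ) x = (d χ : ℂ) * φ x) ∧
      ∑ᶠ χ ∈ B, d χ ^ 2 = p ^ blockDefect p B := by
  classical
  have := isPrime_of_modular hM
  have hpp : p.Prime := hp.out
  obtain ⟨χ₀, hχ₀, h00⟩ := exists_height_zero (p := p) (IsPBlock.nonempty hB)
  set S := Finset.univ.filter (· ∈ B) with hS
  have hmemS : ∀ χ, χ ∈ S ↔ χ ∈ B := fun χ => by simp [hS]
  set t : IrrCharacter G → ℤ := fun χ => blockT p B χ₀ χ with ht
  set s : ℤ := t χ₀ with hs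
  have hspos : 0 < s := blockT_self_pos hM hB hχ₀
  have hsC : (s : ℂ) ≠ 0 := by exact_mod_cast hspos.ne'
  have hPd : ((p ^ blockDefect p B : ℕ) : ℂ) ≠ 0 := by exact_mod_cast pow_ne_zero _ hpp.ne_zero
  -- the scalars
  have hr : ∀ χ ∈ B, pRegularPart p (χ : G → ℂ) = ((t χ : ℂ) / s) • pRegularPart p (χ₀ : G → ℂ) := by
    intro χ hχ
    obtain ⟨c, hc⟩ := exists_smul_of_rank_one hl hχ₀ hχ
    have h1 := pow_defect_mul_classInner hM hB hχ χ₀
    rw [hc, classInner_smul_left, mul_left_comm, pow_defect_mul_classInner hM hB hχ₀, blockT_symm B χ χ₀] at h1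
    have h2 : c = (t χ : ℂ) / s := by
      rw [eq_div_iff hsC]
      exact h1
    rw [hc, h2]
  have hTmul : ∀ χ ∈ B, ∀ ψ, s * blockT p B χ ψ = t χ * t ψ := by
    intro χ hχ ψ
    have h1 := pow_defect_mul_classInner hM hB hχ ψ
    rw [hr χ hχ, classInner_smul_left, mul_left_comm, pow_defect_mul_classInner hM hB hχ₀] at h1
    have h2 : (s : ℂ) * (blockT p B χ ψ : ℂ) = (t χ : ℂ) * (t ψ : ℂ) := by
      rw [← h1]
      field_simp
      rfl
    exact_mod_cast h2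
  have htpos : ∀ χ ∈ B, 0 < t χ := by
    intro χ hχ
    have h1 := congrFun (hr χ hχ) 1
    have hreg : ¬ p ∣ orderOf (1 : G) := by
      rw [orderOf_one]
      exact hpp.one_lt.ne' ∘ Nat.dvd_one.mp
    rw [pRegularPart_of_not_dvd _ hreg, Pi.smul_apply, pRegularPart_of_not_dvd _ hreg, irr_one_eq, irr_one_eq,
      smul_eq_mul] at h1
    have h2 : (s : ℂ) * (charDegree (χ : G → ℂ) : ℂ) = (t χ : ℂ) * (charDegree (χ₀ : G → ℂ) : ℂ) := by
      rw [h1]
      field_simp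
    have h3 : s * (charDegree (χ : G → ℂ) : ℤ) = t χ * (charDegree (χ₀ : G → ℂ) : ℤ) := by exact_mod_cast h2
    have h4 : 0 < s * (charDegree (χ : G → ℂ) : ℤ) := mul_pos hspos (by exact_mod_cast charDegree_pos χ.2)
    rw [h3] at h4
    exact (pos_iff_pos_of_mul_pos h4).mpr (by exact_mod_cast charDegree_pos χ₀.2)
  -- Bezout
  obtain ⟨g, a, hbez, hgdvd⟩ := exists_bezout_finset S t
  have hgpos : 0 < g := by
    rcases Nat.eq_zero_or_pos g with h | h
    · have h1 := hgdvd χ₀ ((hmemS _).mpr hχ₀)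
      rw [h] at h1
      simp only [Nat.cast_zero, zero_dvd_iff] at h1
      exact absurd h1 hspos.ne'
    · exact h
  have hgC : (g : ℂ) ≠ 0 := by exact_mod_cast hgpos.ne'
  have hgZ : (g : ℤ) ≠ 0 := by exact_mod_cast hgpos.ne'
  set dI : IrrCharacter G → ℤ := fun χ => t χ / g with hdI
  have htd : ∀ χ ∈ B, t χ = g * dI χ := fun χ hχ =>
    (Int.mul_ediv_cancel' (hgdvd χ ((hmemS _).mpr hχ))).symm
  have hdIpos : ∀ χ ∈ B, 0 < dI χ := by
    intro χ hχ
    have h1 := htpos χ hχ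
    rw [htd χ hχ] at h1
    exact (pos_iff_pos_of_mul_pos h1).mp (by exact_mod_cast hgpos)
  have hsum1 : ∑ χ ∈ S, a χ * dI χ = 1 := by
    apply mul_left_cancel₀ hgZ
    have h1 : (g : ℤ) * ∑ χ ∈ S, a χ * dI χ = ∑ χ ∈ S, a χ * t χ := by
      rw [Finset.mul_sum]
      refine Finset.sum_congr rfl fun χ hχ => ?_
      rw [htd χ ((hmemS _).mp hχ)]
      ring
    rw [h1, hbez, mul_one]
  -- the scalar `c`
  set c : ℤ := ∑ χ ∈ S, ∑ ψ ∈ S, a χ * a ψ * blockT p B χ ψ with hc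
  have hsc : s * c = g ^ 2 := by
    have h1 : s * c = ∑ χ ∈ S, ∑ ψ ∈ S, a χ * a ψ * (t χ * t ψ) := by
      rw [hc, Finset.mul_sum]
      refine Finset.sum_congr rfl fun χ hχ => ?_
      rw [Finset.mul_sum]
      refine Finset.sum_congr rfl fun ψ _ => ?_
      rw [← hTmul χ ((hmemS _).mp hχ) ψ]
      ring
    rw [h1]
    have h2 : ∑ χ ∈ S, ∑ ψ ∈ S, a χ * a ψ * (t χ * t ψ) = (∑ χ ∈ S, a χ * t χ) * ∑ ψ ∈ S, a ψ * t ψ := by
      rw [Finset.sum_mul]
      refine Finset.sum_congr rfl fun χ _ => ?_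
      rw [Finset.mul_sum]
      refine Finset.sum_congr rfl fun ψ _ => ?_
      ring
    rw [h2, hbez]
    ring
  have hTc : ∀ χ ∈ B, ∀ ψ ∈ B, blockT p B χ ψ = c * (dI χ * dI ψ) := by
    intro χ hχ ψ hψ
    apply mul_left_cancel₀ hspos.ne'
    rw [hTmul χ hχ ψ, htd χ hχ, htd ψ hψ, ← mul_assoc s, hsc]
    ring
  have hd0pos := hdIpos χ₀ hχ₀
  have hsdef : s = c * (dI χ₀ * dI χ₀) := hTc χ₀ hχ₀ χ₀ hχ₀
  have hcpos : 0 < c := by
    rw [hsdef] at hspos
    exact (pos_iff_pos_of_mul_pos hspos).mpr (mul_pos hd0pos hd0pos)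
  have hpc : ¬ (p : ℤ) ∣ c := by
    intro h
    apply not_dvd_blockT_self hM hB hχ₀ h00 hχ₀ h00
    have : blockT p B χ₀ χ₀ = s := rfl
    rw [this, hsdef]
    exact Dvd.dvd.mul_right h _
  -- the sum of squares
  have hrow : ∑ ψ ∈ S, t ψ * t ψ = (p ^ blockDefect p B : ℕ) * s := by
    have h1 := sum_blockT_mul hM hB hχ₀ hχ₀
    rw [← Finset.sum_filter_add_sum_filter_not Finset.univ (fun ψ : IrrCharacter G => ψ ∈ B)] at h1
    have h2 : ∑ ψ ∈ Finset.univ.filter (fun ψ : IrrCharacter G => ¬ ψ ∈ B),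
        blockT p B χ₀ ψ * blockT p B χ₀ ψ = 0 := by
      refine Finset.sum_eq_zero fun ψ hψ => ?_
      rw [blockT_eq_zero_of_notMem hM hB hχ₀ (Finset.mem_filter.mp hψ).2, mul_zero]
    rw [h2, add_zero] at h1
    exact h1
  have hcsum : c * ∑ ψ ∈ S, dI ψ ^ 2 = (p ^ blockDefect p B : ℕ) := by
    have h1 : ∑ ψ ∈ S, t ψ * t ψ = (c * (dI χ₀ * dI χ₀)) * (c * ∑ ψ ∈ S, dI ψ ^ 2) := by
      rw [Finset.mul_sum, Finset.mul_sum]
      refine Finset.sum_congr rfl fun ψ hψ => ?_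
      have h2 : t ψ = c * (dI χ₀ * dI ψ) := hTc χ₀ hχ₀ ψ ((hmemS _).mp hψ)
      rw [h2]
      ring
    rw [h1, ← hsdef, mul_comm s] at hrow
    exact mul_right_cancel₀ hspos.ne' hrow
  have hcone : c = 1 := by
    have h1 : (c.toNat : ℤ) = c := Int.toNat_of_nonneg hcpos.le
    have h2 : c.toNat ∣ p ^ blockDefect p B := by
      have h3 : (c.toNat : ℤ) ∣ ((p ^ blockDefect p B : ℕ) : ℤ) := by
        rw [h1, ← hcsum]
        exact dvd_mul_right _ _
      exact_mod_cast h3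
    obtain ⟨i, hi, h3⟩ := (Nat.dvd_prime_pow hpp).mp h2
    have h4 : i = 0 := by
      by_contra h0
      apply hpc
      rw [← h1, h3]
      push_cast
      exact dvd_pow_self _ h0
    rw [h4, pow_zero] at h3
    rw [← h1, h3]
    rfl
  -- conclusion
  refine ⟨fun x => ((g : ℂ) / s) * pRegularPart p (χ₀ : G → ℂ) x, fun χ => (dI χ).toNat, ⟨a, ?_⟩, ?_, ?_⟩
  · intro x hx
    rw [finsum_mem_eq_filter]
    have h1 : (g : ℂ) = ∑ χ ∈ S, (a χ : ℂ) * (t χ : ℂ) := by
      have := congrArg (fun z : ℤ => (z : ℂ)) hbez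
      simp only [Int.cast_sum, Int.cast_mul, Int.cast_natCast] at this
      exact this.symm
    show ((g : ℂ) / s) * pRegularPart p (χ₀ : G → ℂ) x = ∑ χ ∈ S, (a χ : ℂ) * (χ : G → ℂ) x
    rw [h1, Finset.sum_div, Finset.sum_mul]
    refine Finset.sum_congr rfl fun χ hχ => ?_
    have h2 := congrFun (hr χ ((hmemS _).mp hχ)) x
    rw [pRegularPart_of_not_dvd _ hx, Pi.smul_apply, smul_eq_mul] at h2
    rw [h2]
    ring
  · intro χ hχ x hx
    have h2 := congrFun (hr χ hχ) x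
    rw [pRegularPart_of_not_dvd _ hx, Pi.smul_apply, smul_eq_mul] at h2
    rw [h2, htd χ hχ]
    have h3 : (((dI χ).toNat : ℕ) : ℂ) = (dI χ : ℂ) := by
      have : (((dI χ).toNat : ℕ) : ℤ) = dI χ := Int.toNat_of_nonneg (hdIpos χ hχ).le
      exact_mod_cast this
    rw [h3]
    push_cast
    ring
  · rw [finsum_mem_eq_filter]
    rw [hcone, one_mul] at hcsum
    have h5 : ((∑ χ ∈ Finset.univ.filter (· ∈ B), (dI χ).toNat ^ 2 : ℕ) : ℤ) = ((p ^ blockDefect p B : ℕ) : ℤ) := by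
      rw [← hcsum]
      push_cast
      refine Finset.sum_congr rfl fun χ hχ => ?_
      rw [Int.toNat_of_nonneg (hdIpos χ ((hmemS _).mp hχ)).le]
    exact_mod_cast h5

end Main

end Cfsg.Agent.Lib.H8Group
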