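import Cfsg.Agent.Lib.H8Group.SMat
import Cfsg.Prelude.Def_BlockRank
import Mathlib.LinearAlgebra.Trace
import Mathlib.LinearAlgebra.Matrix.Rank

/-!
# The regular rank of a block as a trace
-/

set_option autoImplicit false
set_option linter.unusedSectionVars false
set_option linter.style.haveILetI false

namespace Cfsg.Agent.Lib.H8Group

open Cfsg Cfsg.Agent.Lib.Char Cfsg.Agent.Lib.Blocks
open scoped ComplexConjugate

universe u

theorem pRegularPart_apply {G : Type u} [Group G] (p : ℕ) (χ : G → ℂ) (g : G) [Decidable (p ∣ orderOf g)] :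
    pRegularPart p χ g = if p ∣ orderOf g then 0 else χ g := by
  classical
  simp only [pRegularPart, IsPRegular]
  by_cases h : p ∣ orderOf g
  · simp [h]
  · simp [h]

theorem pRegularPart_of_dvd {G : Type u} [Group G] {p : ℕ} (χ : G → ℂ) {g : G} (h : p ∣ orderOf g) :
    pRegularPart p χ g = 0 := by
  classical
  rw [pRegularPart_apply, if_pos h]

theorem pRegularPart_of_not_dvd {G : Type u} [Group G] {p : ℕ} (χ : G → ℂ) {g : G} (h : ¬ p ∣ orderOf g) :
    pRegularPart p χ g = χ g := by
  classical
  rw [pRegularPart_apply, if_neg h]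

theorem regTrunc_eq_smul {G : Type u} [Group G] (p : ℕ) (n : ℂ) (χ : G → ℂ) :
    regTrunc p n χ = n • pRegularPart p χ := by
  classical
  funext g
  simp only [regTrunc, Pi.smul_apply, smul_eq_mul, pRegularPart_apply]
  split_ifs <;> simp

theorem pRegularPart_isClassFunction {G : Type u} [Group G] {p : ℕ} {χ : G → ℂ} (hχ : IsClassFunction G χ) :
    IsClassFunction G (pRegularPart p χ) := by
  classical
  intro g h
  simp only [pRegularPart_apply, orderOf_conj, hχ g h]

section Main

variable {G : Type u} [Group G] [Fintype G] {M : Ideal AlgInt} {p : ℕ} [hp : Fact p.Prime]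

open scoped Classical

theorem pow_card_val_ne_zero : ((p ^ (Nat.card G).factorization p : ℕ) : ℂ) ≠ 0 := by
  have hpp : p.Prime := hp.out
  exact_mod_cast pow_ne_zero _ hpp.ne_zero

/-- The pairing `⟨χ°, ψ⟩` in terms of the integer matrix. -/
theorem classInner_pRegularPart (χ ξ : IrrCharacter G) :
    ((p ^ (Nat.card G).factorization p : ℕ) : ℂ) * classInner (pRegularPart p (χ : G → ℂ)) (ξ : G → ℂ) =
      regInt p χ ξ := by
  rw [← classInner_regTrunc_eq, regTrunc_eq_smul, classInner_smul_left]

theorem classInner_pRegularPart_symm (χ ξ : IrrCharacter G) :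
    classInner (pRegularPart p (χ : G → ℂ)) (ξ : G → ℂ) = classInner (pRegularPart p (ξ : G → ℂ)) (χ : G → ℂ) := by
  have h1 := classInner_pRegularPart (p := p) χ ξ
  have h2 := classInner_pRegularPart (p := p) ξ χ
  rw [regInt_symm, ← h2] at h1
  exact mul_left_cancel₀ pow_card_val_ne_zero h1

theorem classInner_pRegularPart_eq_zero (hM : IsPModular p M) {B : Set (IrrCharacter G)} (hB : IsPBlock M B)
    {χ ψ : IrrCharacter G} (hχ : χ ∈ B) (hψ : ψ ∉ B) :
    classInner (pRegularPart p (χ : G → ℂ)) (ψ : G → ℂ) = 0 := by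
  have h1 := classInner_pRegularPart (p := p) χ ψ
  rw [regInt_eq_zero_of_notMem hM hB hχ hψ] at h1
  have h2 : ((p ^ (Nat.card G).factorization p : ℕ) : ℂ) * classInner (pRegularPart p (χ : G → ℂ)) (ψ : G → ℂ) = 0 := by
    rw [h1]
    simp
  exact (mul_eq_zero.mp h2).resolve_left pow_card_val_ne_zero

/-- Expansion of a truncated character in the block. -/
theorem pRegularPart_eq_sum (hM : IsPModular p M) {B : Set (IrrCharacter G)} (hB : IsPBlock M B)
    {χ : IrrCharacter G} (hχ : χ ∈ B) :
    pRegularPart p (χ : G → ℂ) =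
      ∑ ψ : {ψ : IrrCharacter G // ψ ∈ B}, classInner (pRegularPart p (χ : G → ℂ)) ((ψ : IrrCharacter G) : G → ℂ) •
        ((ψ : IrrCharacter G) : G → ℂ) := by
  classical
  have h1 := classFunction_eq_sum (pRegularPart p (χ : G → ℂ)) (pRegularPart_isClassFunction (irr_isClassFunction χ))
  conv_lhs => rw [h1]
  rw [← Finset.sum_filter_add_sum_filter_not Finset.univ (fun ψ : IrrCharacter G => ψ ∈ B)]
  have h2 : ∑ ψ ∈ Finset.univ.filter (fun ψ : IrrCharacter G => ¬ ψ ∈ B),
      classInner (pRegularPart p (χ : G → ℂ)) (ψ : G → ℂ) • (ψ : G → ℂ) = 0 := by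
    refine Finset.sum_eq_zero fun ψ hψ => ?_
    rw [classInner_pRegularPart_eq_zero hM hB hχ (Finset.mem_filter.mp hψ).2, zero_smul]
  rw [h2, add_zero]
  refine Finset.sum_subtype _ (fun ψ => by simp) _

theorem pRegularPart_pRegularPart (f : G → ℂ) : pRegularPart p (pRegularPart p f) = pRegularPart p f := by
  classical
  funext g
  simp only [pRegularPart_apply]
  split_ifs <;> rfl

/-- The matrix of the truncation operator. -/
noncomputable def regMatrix (p : ℕ) (B : Set (IrrCharacter G)) :
    Matrix {ψ : IrrCharacter G // ψ ∈ B} {ψ : IrrCharacter G // ψ ∈ B} ℂ :=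
  Matrix.of fun χ ψ => classInner (pRegularPart p ((χ : IrrCharacter G) : G → ℂ)) ((ψ : IrrCharacter G) : G → ℂ)

theorem regMatrix_mul_self (hM : IsPModular p M) {B : Set (IrrCharacter G)} (hB : IsPBlock M B) :
    regMatrix p B * regMatrix p B = regMatrix p B := by
  classical
  ext χ ψ
  simp only [Matrix.mul_apply, regMatrix, Matrix.of_apply]
  have h1 := pRegularPart_eq_sum hM hB χ.2
  have h2 : pRegularPart p ((χ : IrrCharacter G) : G → ℂ) =
      ∑ φ : {ψ : IrrCharacter G // ψ ∈ B},
        classInner (pRegularPart p ((χ : IrrCharacter G) : G → ℂ)) ((φ : IrrCharacter G) : G → ℂ) •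
          pRegularPart p ((φ : IrrCharacter G) : G → ℂ) := by
    funext g
    have h3 := congrFun h1 g
    by_cases hg : p ∣ orderOf g
    · simp [pRegularPart_of_dvd _ hg]
    · simp only [Finset.sum_apply, Pi.smul_apply, smul_eq_mul] at h3 ⊢
      rw [h3]
      refine Finset.sum_congr rfl fun φ _ => ?_
      rw [pRegularPart_of_not_dvd _ hg]
  conv_rhs => rw [h2]
  rw [classInner_sum_left]
  refine Finset.sum_congr rfl fun φ _ => ?_
  rw [classInner_smul_left]

/-- The span of the truncated block in terms of the matrix. -/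
noncomputable def blockExpand (B : Set (IrrCharacter G)) : ({ψ : IrrCharacter G // ψ ∈ B} → ℂ) →ₗ[ℂ] (G → ℂ) where
  toFun c := ∑ ψ : {ψ : IrrCharacter G // ψ ∈ B}, c ψ • ((ψ : IrrCharacter G) : G → ℂ)
  map_add' a b := by
    simp only [Pi.add_apply, add_smul, Finset.sum_add_distrib]
  map_smul' r a := by
    simp only [Pi.smul_apply, smul_eq_mul, mul_smul, Finset.smul_sum, RingHom.id_apply]

theorem blockExpand_injective (B : Set (IrrCharacter G)) : Function.Injective (blockExpand B) := by
  classical
  rw [← LinearMap.ker_eq_bot, LinearMap.ker_eq_bot']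
  intro c hc
  funext ψ
  have h1 : classInner (blockExpand B c) ((ψ : IrrCharacter G) : G → ℂ) = c ψ := by
    simp only [blockExpand, LinearMap.coe_mk, AddHom.coe_mk]
    rw [classInner_sum_left]
    rw [Finset.sum_eq_single ψ]
    · rw [classInner_smul_left, classInner_irr_self ψ.1.2, mul_one]
    · intro φ _ hφ
      rw [classInner_smul_left, classInner_irr_of_ne φ.1.2 ψ.1.2, mul_zero]
      intro h
      exact hφ (Subtype.ext (Subtype.ext h))
    · simp
  rw [hc, classInner_zero_left] at h1
  exact h1.symm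

/-- **The rank of a block as a trace.** -/
theorem sum_classInner_pRegularPart (hM : IsPModular p M) {B : Set (IrrCharacter G)} (hB : IsPBlock M B) :
    ∑ χ : {ψ : IrrCharacter G // ψ ∈ B},
      classInner (pRegularPart p ((χ : IrrCharacter G) : G → ℂ)) ((χ : IrrCharacter G) : G → ℂ) =
      (blockRank p B : ℂ) := by
  classical
  set A := regMatrix p B with hA
  have hid : (Matrix.toLin' A.transpose) * (Matrix.toLin' A.transpose) = Matrix.toLin' A.transpose := by
    rw [Module.End.mul_eq_comp, ← Matrix.toLin'_mul, ← Matrix.transpose_mul, hA, regMatrix_mul_self hM hB]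
  have hidem : IsIdempotentElem (Matrix.toLin' A.transpose) := hid
  have hproj := (LinearMap.isProj_range_iff_isIdempotentElem (Matrix.toLin' A.transpose)).mpr hidem
  have htr := hproj.trace
  have h1 : LinearMap.trace ℂ _ (Matrix.toLin' A.transpose) = A.transpose.trace := by
    rw [← Matrix.toLin_eq_toLin', Matrix.trace_toLin_eq]
  rw [h1, Matrix.trace_transpose] at htr
  have h2 : A.trace = ∑ χ : {ψ : IrrCharacter G // ψ ∈ B},
      classInner (pRegularPart p ((χ : IrrCharacter G) : G → ℂ)) ((χ : IrrCharacter G) : G → ℂ) := by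
    simp [Matrix.trace, hA, regMatrix]
  rw [← h2, htr]
  congr 1
  -- the dimension
  have h3 : (LinearMap.range (Matrix.toLin' A.transpose)).map (blockExpand B) =
      Submodule.span ℂ ((fun χ : IrrCharacter G => pRegularPart p (χ : G → ℂ)) '' B) := by
    rw [Matrix.toLin'_apply', Matrix.range_mulVecLin, Submodule.map_span]
    congr 1
    ext f
    constructor
    · rintro ⟨_, ⟨χ, rfl⟩, rfl⟩
      refine ⟨χ.1, χ.2, ?_⟩
      show pRegularPart p ((χ : IrrCharacter G) : G → ℂ) = _
      rw [pRegularPart_eq_sum hM hB χ.2]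
      rfl
    · rintro ⟨χ, hχ, rfl⟩
      refine ⟨_, ⟨⟨χ, hχ⟩, rfl⟩, ?_⟩
      show _ = pRegularPart p (χ : G → ℂ)
      rw [pRegularPart_eq_sum hM hB hχ]
      rfl
  rw [blockRank, ← h3]
  exact ((Submodule.equivMapOfInjective (blockExpand B) (blockExpand_injective B) _).finrank_eq)

end Main

end Cfsg.Agent.Lib.H8Group
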