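import Cfsg.Agent.Lib.Blocks.RealBlocks
import Cfsg.Agent.Lib.Blocks.BlockField
import Cfsg.Agent.Lib.Char.Gallagher
import Cfsg.Agent.Lib.H8Group.KnorrMain
import Cfsg.Agent.Lib.H8Group.BlockBasics

/-!
# Applications of Brauer's theorem on real 2-blocks of full defect
-/

set_option autoImplicit false
set_option linter.unusedSectionVars false

namespace Cfsg.Agent.Lib.H8Group

open Cfsg Cfsg.Agent.Lib.Char Cfsg.Agent.Lib.Blocks
open scoped ComplexConjugate

universe u

section Conj

variable {G : Type u} [Group G] [Fintype G] {M : Ideal AlgInt}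

/-- The complex conjugate of an irreducible character. -/
noncomputable def conjI (χ : IrrCharacter G) : IrrCharacter G :=
  ⟨fun g => conj ((χ : G → ℂ) g), IsIrrCharacter.conj χ.2⟩

@[simp] theorem conjI_apply (χ : IrrCharacter G) (g : G) : (conjI χ : G → ℂ) g = conj ((χ : G → ℂ) g) := rfl

theorem conjI_conjI (χ : IrrCharacter G) : conjI (conjI χ) = χ := by
  apply Subtype.ext
  funext g
  simp

theorem centralChar_conjI (χ : IrrCharacter G) (g : G) :
    centralChar (conjI χ : G → ℂ) g = centralChar (χ : G → ℂ) g⁻¹ := by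
  have h1 : (conjI χ : G → ℂ) g = (χ : G → ℂ) g⁻¹ := by
    rw [conjI_apply, IsCharacter.apply_inv (IsIrrCharacter.isCharacter χ.2) g]
  have h2 : (conjI χ : G → ℂ) 1 = (χ : G → ℂ) 1 := by
    have := IsCharacter.apply_inv (IsIrrCharacter.isCharacter χ.2) (1 : G)
    rw [conjI_apply]
    rw [inv_one] at this
    exact this.symm
  have h3 : Subgroup.centralizer ({g⁻¹} : Set G) = Subgroup.centralizer ({g} : Set G) := by
    ext c
    rw [Subgroup.mem_centralizer_singleton_iff, Subgroup.mem_centralizer_singleton_iff]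
    constructor
    · intro h
      have h4 : c * g⁻¹ = g⁻¹ * c := h
      have h5 : Commute c g⁻¹ := h4
      have h6 := h5.inv_right
      rw [inv_inv] at h6
      exact h6
    · intro h
      have h5 : Commute c g := h
      exact h5.inv_right
  rw [centralChar, centralChar, h1, h2, h3]

theorem sameBlock_conjI {χ ψ : IrrCharacter G} (h : SameBlock M (χ : G → ℂ) (ψ : G → ℂ)) :
    SameBlock M (conjI χ : G → ℂ) (conjI ψ : G → ℂ) := by
  intro g
  rw [centralChar_conjI, centralChar_conjI]
  exact h _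

/-- A block containing a character and its conjugate is self-conjugate. -/
theorem conj_block_eq [M.IsPrime] {B : Set (IrrCharacter G)} (hB : IsPBlock M B) {χ : IrrCharacter G} (hχ : χ ∈ B)
    (hχ' : conjI χ ∈ B) :
    {ψ : IrrCharacter G | ∃ χ ∈ B, (ψ : G → ℂ) = fun g => conj ((χ : G → ℂ) g)} = B := by
  have hmem : ∀ ψ ∈ B, conjI ψ ∈ B := by
    intro ψ hψ
    have h1 : SameBlock M (χ : G → ℂ) (ψ : G → ℂ) := by
      have h2 := blockOf_eq_of_mem hB hχ
      rw [h2] at hψ
      exact hψ
    have h3 := sameBlock_conjI h1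
    rw [blockOf_eq_of_mem hB hχ']
    exact h3
  ext ψ
  constructor
  · rintro ⟨χ₁, hχ₁, h⟩
    have : ψ = conjI χ₁ := Subtype.ext h
    rw [this]
    exact hmem _ hχ₁
  · intro hψ
    exact ⟨conjI ψ, hmem _ hψ, by
      funext g
      simp⟩

end Conj

section Full

variable {G : Type u} [Group G] [Fintype G] {M : Ideal AlgInt}

/-- A defect group of a block of full defect is a Sylow subgroup. -/
theorem exists_sylow_of_blockDefect {p : ℕ} [hp : Fact p.Prime] (hM : IsPModular p M) {B : Set (IrrCharacter G)}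
    (hB : IsPBlock M B) (hdef : blockDefect p B = (Nat.card G).factorization p) :
    ∃ P : Sylow p G, IsDefectGroup p M B (P : Subgroup G) := by
  obtain ⟨D, hD⟩ := IsPBlock.exists_isDefectGroup hM hB
  have hcard := card_defectGroup hM hB hD
  rw [hdef] at hcard
  refine ⟨Sylow.ofCard D hcard, ?_⟩
  rw [Sylow.coe_ofCard]
  exact hD

/-- A block containing a character of degree prime to `p` has full defect. -/
theorem blockDefect_eq_of_degree {p : ℕ} [hp : Fact p.Prime] {B : Set (IrrCharacter G)} {χ : IrrCharacter G} (hχ : χ ∈ B)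
    (hdeg : ¬ p ∣ charDegree (χ : G → ℂ)) : blockDefect p B = (Nat.card G).factorization p := by
  rw [blockDefect]
  have h1 : sInf ((fun χ : IrrCharacter G => (charDegree (χ : G → ℂ)).factorization p) '' B) = 0 := by
    apply Nat.eq_zero_of_le_zero
    have h2 : (charDegree (χ : G → ℂ)).factorization p ∈
        ((fun χ : IrrCharacter G => (charDegree (χ : G → ℂ)).factorization p) '' B) := ⟨χ, hχ, rfl⟩
    refine (Nat.sInf_le h2).trans ?_
    rw [Nat.factorization_eq_zero_of_not_dvd hdeg]
  rw [h1, Nat.sub_zero]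

/-- **Brauer**: a block of full defect containing a character agreeing with its complex conjugate on
`2`-regular elements is the principal block. -/
theorem eq_principal_of_regular_real [Fact (Nat.Prime 2)] (hM : IsPModular 2 M) {B : Set (IrrCharacter G)} (hB : IsPBlock M B)
    (hdef : blockDefect 2 B = (Nat.card G).factorization 2) {χ : IrrCharacter G} (hχ : χ ∈ B)
    (hreal : ∀ x : G, ¬ 2 ∣ orderOf x → (χ : G → ℂ) x = conj ((χ : G → ℂ) x)) :
    B = principalBlock M G := by
  have := isPrime_of_modular hM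
  obtain ⟨P, hP⟩ := exists_sylow_of_blockDefect hM hB hdef
  have h1 : SameBlock M (χ : G → ℂ) (conjI χ : G → ℂ) := sameBlock_of_regular_eq hM hreal
  have h2 : conjI χ ∈ B := by
    rw [blockOf_eq_of_mem hB hχ]
    exact h1
  exact eq_principal_of_real hM hB P hP (conj_block_eq hB hχ h2)

/-- A block of full defect containing a character and its conjugate is principal. -/
theorem eq_principal_of_conj_mem [Fact (Nat.Prime 2)] (hM : IsPModular 2 M) {B : Set (IrrCharacter G)} (hB : IsPBlock M B)
    (hdef : blockDefect 2 B = (Nat.card G).factorization 2) {χ : IrrCharacter G} (hχ : χ ∈ B)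
    (h2 : conjI χ ∈ B) : B = principalBlock M G := by
  have := isPrime_of_modular hM
  obtain ⟨P, hP⟩ := exists_sylow_of_blockDefect hM hB hdef
  exact eq_principal_of_real hM hB P hP (conj_block_eq hB hχ h2)

end Full

section Ext

variable {G : Type u} [Group G] [Fintype G] {M : Ideal AlgInt} (N : Subgroup G) [hN : N.Normal] [Fintype N]

/-- A real-valued irreducible character of odd degree which extends to `G` has an extension in the principal
`2`-block. -/
theorem exists_extension_principal [Fact (Nat.Prime 2)] (hM : IsPModular 2 M) (θ : IrrCharacter N)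
    (hreal : ∀ n : N, ((θ : N → ℂ) n).im = 0) (hodd : Odd (charDegree (θ : N → ℂ)))
    (hext : ∃ η : IrrCharacter G, ∀ n : N, (η : G → ℂ) n = (θ : N → ℂ) n) :
    ∃ η : IrrCharacter G, (∀ n : N, (η : G → ℂ) n = (θ : N → ℂ) n) ∧ η ∈ principalBlock M G := by
  classical
  letI : Fintype (G ⧸ N) := Fintype.ofFinite _
  obtain ⟨η₀, hη₀⟩ := hext
  have hres : Cfsg.Agent.Lib.Char.resFun N (η₀ : G → ℂ) = (θ : N → ℂ) := by
    funext n
    exact hη₀ n
  have hconjθ : ∀ n : N, conj ((θ : N → ℂ) n) = (θ : N → ℂ) n := fun n =>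
    Complex.conj_eq_iff_im.mpr (hreal n)
  have hres' : Cfsg.Agent.Lib.Char.resFun N (conjI η₀ : G → ℂ) = (θ : N → ℂ) := by
    funext n
    show conj ((η₀ : G → ℂ) n) = _
    rw [hη₀, hconjθ]
  have hχ₀ : IsCharacter G (η₀ : G → ℂ) := IsIrrCharacter.isCharacter η₀.2
  have hθ' : IsIrrCharacter N (Cfsg.Agent.Lib.Char.resFun N (η₀ : G → ℂ)) := by
    rw [hres]
    exact θ.2
  have hover : classInner (Cfsg.Agent.Lib.Char.resFun N (conjI η₀ : G → ℂ)) (Cfsg.Agent.Lib.Char.resFun N (η₀ : G → ℂ)) ≠ 0 := by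
    rw [hres, hres', classInner_irr_self θ.2]
    exact one_ne_zero
  obtain ⟨β, hβ, hβe⟩ := exists_gallagher N hχ₀ hθ' (conjI η₀).2 hover
  -- `β` is linear
  have hone : (η₀ : G → ℂ) 1 ≠ 0 := IsIrrCharacter.apply_one_ne_zero η₀.2
  have hη₀1 : conj ((η₀ : G → ℂ) 1) = (η₀ : G → ℂ) 1 := by
    have h := hη₀ 1
    simp only [OneMemClass.coe_one] at h
    rw [h]
    exact hconjθ 1
  have hβ1 : β 1 = 1 := by
    have h1 := congrFun hβe 1
    simp only [conjI_apply, hη₀1] at h1
    have h2 : inflate N β 1 = β 1 := rfl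
    rw [h2] at h1
    have h3 : β 1 * (η₀ : G → ℂ) 1 = 1 * (η₀ : G → ℂ) 1 := by rw [← h1, one_mul]
    exact mul_right_cancel₀ hone h3
  obtain ⟨μ, rfl⟩ := IsCharacter.exists_monoidHom (IsIrrCharacter.isCharacter hβ) hβ1
  -- the odd part of the order
  obtain ⟨a, m, hm, hG⟩ := Nat.exists_eq_two_pow_mul_odd (n := Nat.card G) Nat.card_pos.ne'
  obtain ⟨e, he⟩ : ∃ e : ℕ, 2 * e = m + 1 := by
    obtain ⟨r, hr⟩ := hm
    exact ⟨r + 1, by omega⟩
  let β' : G ⧸ N → ℂ := fun q => (((μ ^ e) q : ℂˣ) : ℂ)
  have hβ' : IsIrrCharacter (G ⧸ N) β' := isIrrCharacter_of_monoidHom (μ ^ e)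
  have hirr := isIrrCharacter_gallagher N hχ₀ hθ' hβ'
  let η : IrrCharacter G := ⟨fun g => inflate N β' g * (η₀ : G → ℂ) g, hirr⟩
  have hηapp : ∀ g : G, (η : G → ℂ) g = ((μ (g : G ⧸ N) : ℂˣ) : ℂ) ^ e * (η₀ : G → ℂ) g := by
    intro g
    show β' (g : G ⧸ N) * _ = _
    simp only [β', MonoidHom.pow_apply, Units.val_pow_eq_pow_val]
  have hηN : ∀ n : N, (η : G → ℂ) n = (θ : N → ℂ) n := by
    intro n
    rw [hηapp, hη₀]
    have : ((n : G) : G ⧸ N) = 1 := (QuotientGroup.eq_one_iff _).mpr n.2
    rw [this, map_one]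
    simp
  refine ⟨η, hηN, ?_⟩
  -- the block
  have := isPrime_of_modular hM
  have hdeg : ¬ 2 ∣ charDegree (η : G → ℂ) := by
    have h1 : (η : G → ℂ) 1 = (θ : N → ℂ) 1 := by
      have := hηN 1
      simpa using this
    have h2 : charDegree (η : G → ℂ) = charDegree (θ : N → ℂ) := by
      simp only [charDegree, h1]
    rw [h2]
    exact hodd.not_two_dvd_nat
  have hdef := blockDefect_eq_of_degree (self_mem_blockOf (M := M) η) hdeg
  have hreg : ∀ x : G, ¬ 2 ∣ orderOf x → (η : G → ℂ) x = conj ((η : G → ℂ) x) := by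
    intro x hx
    set z : ℂ := ((μ (x : G ⧸ N) : ℂˣ) : ℂ) with hz
    have hz0 : z ≠ 0 := Units.ne_zero _
    have hconjz : conj z = z⁻¹ := by
      have h1 : ((μ ((x : G ⧸ N)⁻¹) : ℂˣ) : ℂ) = conj ((μ (x : G ⧸ N) : ℂˣ) : ℂ) :=
        IsCharacter.apply_inv (IsIrrCharacter.isCharacter (isIrrCharacter_of_monoidHom μ)) (x : G ⧸ N)
      rw [hz, ← h1, map_inv, Units.val_inv_eq_inv_val]
    have hzm : z ^ m = 1 := by
      have h1 : orderOf x ∣ m := by
        have h2 : orderOf x ∣ 2 ^ a * m := by
          rw [← hG]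
          exact orderOf_dvd_natCard x
        have h3 : Nat.Coprime (orderOf x) (2 ^ a) :=
          Nat.Coprime.pow_right _ ((Nat.Prime.coprime_iff_not_dvd Nat.prime_two).mpr hx).symm
        exact h3.dvd_of_dvd_mul_left h2
      obtain ⟨c, hc⟩ := h1
      have h4 : ((x : G ⧸ N)) ^ m = 1 := by
        rw [hc, pow_mul]
        have h5 : ((x : G ⧸ N)) ^ orderOf x = 1 := by
          rw [← QuotientGroup.mk_pow, pow_orderOf_eq_one]
          rfl
        rw [h5, one_pow]
      rw [hz, ← Units.val_pow_eq_pow_val, ← map_pow, h4, map_one, Units.val_one]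
    have hconjη₀ : conj ((η₀ : G → ℂ) x) = z * (η₀ : G → ℂ) x := by
      have h1 := congrFun hβe x
      exact h1
    rw [hηapp, map_mul, map_pow, ← hz, hconjz, hconjη₀]
    have h6 : z ^ e = (z⁻¹) ^ e * z := by
      have h7 : z ^ e * z ^ e = z := by
        rw [← pow_add, ← two_mul, he, pow_succ, hzm, one_mul]
      have hne : z ^ e ≠ 0 := pow_ne_zero _ hz0
      rw [inv_pow, eq_inv_mul_iff_mul_eq₀ hne]
      exact h7
    rw [← mul_assoc, ← h6]
  have hB := eq_principal_of_regular_real hM (isPBlock_blockOf η) hdef (self_mem_blockOf η) hreg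
  rw [← hB]
  exact self_mem_blockOf η

end Ext

section Odd

variable {G : Type u} [Group G] [Fintype G] {M : Ideal AlgInt} (N : Subgroup G) [hN : N.Normal] [Fintype N]

theorem stabilizes_principal_conjIrr (g : G) {θ : IrrCharacter N} (h : θ ∈ principalBlock M N) :
    conjIrr N g θ ∈ principalBlock M N := by
  have h1 : SameBlock M ((oneIrr N : IrrCharacter N) : N → ℂ) (θ : N → ℂ) := h
  have h2 := sameBlock_conjIrr N g h1
  have h3 : conjIrr N g (oneIrr N) = oneIrr N := by
    apply Subtype.ext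
    funext n
    simp [conjIrr_coe, conjFun_apply, oneIrr]
  rw [h3] at h2
  exact h2

theorem constituent_principal_of_principal (hM : IsPModular 2 M) {χ : IrrCharacter G} (hχ : χ ∈ principalBlock M G)
    {θ : IrrCharacter N} (hover : classInner (fun n : N => (χ : G → ℂ) n) (θ : N → ℂ) ≠ 0) :
    θ ∈ principalBlock M N := by
  classical
  have := isPrime_of_modular hM
  have hθ1 : classInner (fun n : N => (oneIrr G : G → ℂ) n) ((oneIrr N : IrrCharacter N) : N → ℂ) ≠ 0 := by
    have h1 : (fun n : N => (oneIrr G : G → ℂ) n) = ((oneIrr N : IrrCharacter N) : N → ℂ) := rfl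
    rw [h1, classInner_irr_self (oneIrr N).2]
    exact one_ne_zero
  obtain ⟨g, hg⟩ := covering_constituents N (isPBlock_principalBlock M G) (isPBlock_principalBlock M N)
    one_mem_principalBlock hχ one_mem_principalBlock hθ1 hover
  have h2 : conjIrr N g⁻¹ (conjIrr N g θ) ∈ principalBlock M N := by
    have h3 := stabilizes_principal_conjIrr N (M := M) g⁻¹ hg
    exact h3
  rw [← conjIrr_mul] at h2
  simpa [conjIrr_one] using h2

/-- The principal block under normal subgroups of odd index. -/
theorem mem_principal_of_odd_index [Fact (Nat.Prime 2)] (hM : IsPModular 2 M) (hidx : Odd N.index) {θ : IrrCharacter N}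
    (hθ : θ ∈ principalBlock M N) {χ : IrrCharacter G}
    (hover : classInner (fun n : N => (χ : G → ℂ) n) (θ : N → ℂ) ≠ 0)
    (hreal : ∀ x : G, ¬ 2 ∣ orderOf x → (χ : G → ℂ) x = conj ((χ : G → ℂ) x)) :
    χ ∈ principalBlock M G := by
  classical
  have := isPrime_of_modular hM
  obtain ⟨S, -⟩ : ∃ S : Sylow 2 N, True := ⟨default, trivial⟩
  let Q : Subgroup G := (S : Subgroup N).map N.subtype
  have hQN : Q ≤ N := by
    rintro _ ⟨x, -, rfl⟩
    exact x.2
  have hQsub : Q.subgroupOf N = (S : Subgroup N) := by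
    exact Subgroup.comap_map_eq_self_of_injective N.subtype_injective _
  have hQdef : IsDefectGroup 2 M (principalBlock M N) (Q.subgroupOf N) := by
    rw [hQsub]
    exact (isDefectGroup_principal_iff hM _).mpr ⟨S, rfl⟩
  have hinv : ∀ (g : G) θ', θ' ∈ principalBlock M N → conjIrr N g θ' ∈ principalBlock M N :=
    fun g θ' h => stabilizes_principal_conjIrr N g h
  obtain ⟨P, hP, hPQ⟩ := exists_defect_inf_eq_of_invariant N hM (isPBlock_principalBlock M N) hinv hQN hQdef
    (isPBlock_blockOf χ) ⟨χ, self_mem_blockOf χ, θ, hθ, hover⟩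
  have hcard := card_defectGroup hM (isPBlock_blockOf χ) hP
  have hQcard : Nat.card Q = 2 ^ (Nat.card G).factorization 2 := by
    have h1 : Nat.card Q = Nat.card (S : Subgroup N) := by
      exact Nat.card_congr (Subgroup.equivMapOfInjective _ _ N.subtype_injective).symm.toEquiv
    rw [h1, S.card_eq_multiplicity]
    congr 1
    have h2 : Nat.card G = Nat.card N * N.index := (Subgroup.card_mul_index N).symm
    rw [h2, Nat.factorization_mul Nat.card_pos.ne' (by
      intro h0
      rw [h0] at hidx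
      exact absurd hidx (by decide))]
    simp only [Finsupp.add_apply]
    rw [Nat.factorization_eq_zero_of_not_dvd hidx.not_two_dvd_nat, add_zero]
  have hle : Nat.card Q ≤ Nat.card P := by
    apply Subgroup.card_le_of_le
    rw [← hPQ]
    exact inf_le_left
  have hdef : blockDefect 2 (blockOf M (χ : G → ℂ)) = (Nat.card G).factorization 2 := by
    rw [hcard, hQcard] at hle
    have h1 := (Nat.pow_le_pow_iff_right (by norm_num : 1 < 2)).mp hle
    have h2 : Nat.card P ∣ Nat.card G := Subgroup.card_subgroup_dvd_card P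
    rw [hcard] at h2
    have h3 := (Nat.Prime.pow_dvd_iff_le_factorization Nat.prime_two Nat.card_pos.ne').mp h2
    omega
  have hB := eq_principal_of_regular_real hM (isPBlock_blockOf χ) hdef (self_mem_blockOf χ) hreal
  rw [← hB]
  exact self_mem_blockOf χ

end Odd

end Cfsg.Agent.Lib.H8Group
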