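import Cfsg.Agent.Lib.H8Group.RegTrunc

/-!
# Inner products of truncated characters and blocks
-/

set_option autoImplicit false
set_option linter.unusedSectionVars false
set_option linter.style.haveILetI false

namespace Cfsg.Agent.Lib.H8Group

open Cfsg Cfsg.Agent.Lib.Char Cfsg.Agent.Lib.Blocks
open scoped ComplexConjugate

universe u

section Val

variable {M : Ideal AlgInt} {p : ℕ} [hp : Fact p.Prime]

theorem val_le_of_memLocalRing_div (hM : IsPModular p M) {a b : ℕ} (ha : a ≠ 0) (hb : b ≠ 0)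
    (h : MemLocalRing M ((a : ℂ) / b)) : b.factorization p ≤ a.factorization p := by
  have := isPrime_of_modular hM
  by_contra hcon
  push Not at hcon
  have h1 := natCast_div_memLocalIdeal hM (a := b) (b := a) ha hcon
  have h2 := MemLocalIdeal.mul_left h h1
  have ha' : (a : ℂ) ≠ 0 := by exact_mod_cast ha
  have hb' : (b : ℂ) ≠ 0 := by exact_mod_cast hb
  have h3 : (a : ℂ) / b * ((b : ℂ) / a) = 1 := by field_simp
  rw [h3] at h2
  exact not_memLocalIdeal_one h2

theorem not_memLocalIdeal_div_of_val_eq (hM : IsPModular p M) {a b : ℕ} (ha : a ≠ 0) (hb : b ≠ 0)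
    (h : a.factorization p = b.factorization p) : ¬ MemLocalIdeal M ((a : ℂ) / b) := by
  have := isPrime_of_modular hM
  intro h1
  have h2 := natCast_div_memLocalRing hM (a := b) (b := a) ha h.le
  have h3 := MemLocalIdeal.mul_right h1 h2
  have ha' : (a : ℂ) ≠ 0 := by exact_mod_cast ha
  have hb' : (b : ℂ) ≠ 0 := by exact_mod_cast hb
  have h4 : (a : ℂ) / b * ((b : ℂ) / a) = 1 := by field_simp
  rw [h4] at h3
  exact not_memLocalIdeal_one h3

theorem val_eq_of_unit_div (hM : IsPModular p M) {a b : ℕ} (ha : a ≠ 0) (hb : b ≠ 0)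
    (h1 : MemLocalRing M ((a : ℂ) / b)) (h2 : ¬ MemLocalIdeal M ((a : ℂ) / b)) :
    a.factorization p = b.factorization p := by
  apply le_antisymm
  · by_contra hcon
    push Not at hcon
    exact h2 (natCast_div_memLocalIdeal hM hb hcon)
  · exact val_le_of_memLocalRing_div hM ha hb h1

/-- Integer numerators: local integrality. -/
theorem int_div_sign (m : ℕ) (n : ℤ) (b : ℕ) :
    ((m : ℂ) * (n : ℂ) / b = ((m * n.natAbs : ℕ) : ℂ) / b) ∨
      ((m : ℂ) * (n : ℂ) / b = - (((m * n.natAbs : ℕ) : ℂ) / b)) := by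
  obtain ⟨k, rfl | rfl⟩ := n.eq_nat_or_neg
  · left
    simp
  · right
    simp only [Int.natAbs_neg, Int.natAbs_natCast]
    push_cast
    ring

theorem val_le_of_int_memLocalRing (hM : IsPModular p M) {m b : ℕ} (hm : ¬ p ∣ m) (hb : b ≠ 0) {n : ℤ}
    (hn : n ≠ 0) (h : MemLocalRing M ((m : ℂ) * (n : ℂ) / b)) :
    b.factorization p ≤ n.natAbs.factorization p := by
  have := isPrime_of_modular hM
  have hpp : p.Prime := hp.out
  have hm0 : m ≠ 0 := by
    rintro rfl
    exact hm (dvd_zero p)
  have hn0 : n.natAbs ≠ 0 := Int.natAbs_ne_zero.mpr hn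
  have h1 : MemLocalRing M (((m * n.natAbs : ℕ) : ℂ) / b) := by
    rcases int_div_sign m n b with h2 | h2
    · rwa [h2] at h
    · rw [h2] at h
      simpa using MemLocalRing.neg h
  have h3 := val_le_of_memLocalRing_div hM (mul_ne_zero hm0 hn0) hb h1
  rw [Nat.factorization_mul hm0 hn0, Finsupp.add_apply,
    Nat.factorization_eq_zero_of_not_dvd hm, zero_add] at h3
  exact h3

theorem val_eq_of_int_unit (hM : IsPModular p M) {m b : ℕ} (hm : ¬ p ∣ m) (hb : b ≠ 0) {n : ℤ}
    (h1 : MemLocalRing M ((m : ℂ) * (n : ℂ) / b)) (h2 : ¬ MemLocalIdeal M ((m : ℂ) * (n : ℂ) / b)) :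
    n ≠ 0 ∧ n.natAbs.factorization p = b.factorization p := by
  have := isPrime_of_modular hM
  have hpp : p.Prime := hp.out
  have hm0 : m ≠ 0 := by
    rintro rfl
    exact hm (dvd_zero p)
  have hn : n ≠ 0 := by
    rintro rfl
    apply h2
    simpa using memLocalIdeal_zero
  refine ⟨hn, ?_⟩
  have hn0 : n.natAbs ≠ 0 := Int.natAbs_ne_zero.mpr hn
  have h3 : MemLocalRing M (((m * n.natAbs : ℕ) : ℂ) / b) ∧
      ¬ MemLocalIdeal M (((m * n.natAbs : ℕ) : ℂ) / b) := by
    rcases int_div_sign m n b with h4 | h4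
    · rw [h4] at h1 h2
      exact ⟨h1, h2⟩
    · rw [h4] at h1 h2
      refine ⟨by simpa using MemLocalRing.neg h1, fun h5 => h2 (MemLocalIdeal.neg h5)⟩
  have h5 := val_eq_of_unit_div hM (mul_ne_zero hm0 hn0) hb h3.1 h3.2
  rw [Nat.factorization_mul hm0 hn0, Finsupp.add_apply,
    Nat.factorization_eq_zero_of_not_dvd hm, zero_add] at h5
  exact h5

theorem int_not_memLocalIdeal_of_val_eq (hM : IsPModular p M) {m b : ℕ} (hm : ¬ p ∣ m) (hb : b ≠ 0) {n : ℤ}
    (hn : n ≠ 0) (h : n.natAbs.factorization p = b.factorization p) :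
    ¬ MemLocalIdeal M ((m : ℂ) * (n : ℂ) / b) := by
  have := isPrime_of_modular hM
  have hm0 : m ≠ 0 := by
    rintro rfl
    exact hm (dvd_zero p)
  have hn0 : n.natAbs ≠ 0 := Int.natAbs_ne_zero.mpr hn
  have h1 : (m * n.natAbs).factorization p = b.factorization p := by
    rw [Nat.factorization_mul hm0 hn0, Finsupp.add_apply,
      Nat.factorization_eq_zero_of_not_dvd hm, zero_add, h]
  have h2 := not_memLocalIdeal_div_of_val_eq hM (mul_ne_zero hm0 hn0) hb h1
  rcases int_div_sign m n b with h4 | h4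
  · rwa [h4]
  · rw [h4]
    intro h5
    apply h2
    simpa using MemLocalIdeal.neg h5

end Val

/-- The central element attached to the truncation of `χ`. -/
noncomputable def regConj {G : Type u} [Group G] (p : ℕ) (χ : G → ℂ) : G → ℂ :=
  fun x => if p ∣ orderOf x then 0 else conj (χ x)

section Main

variable {G : Type u} [Group G] [Fintype G] {M : Ideal AlgInt} {p : ℕ} [hp : Fact p.Prime]

theorem regConj_isClassFunction (χ : IrrCharacter G) : IsClassFunction G (regConj p (χ : G → ℂ)) := by
  intro g h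
  simp only [regConj, orderOf_conj, irr_isClassFunction χ g h]

theorem regConj_isIntegral (χ : IrrCharacter G) (x : G) : IsIntegral ℤ (regConj p (χ : G → ℂ) x) := by
  simp only [regConj]
  split_ifs
  · exact isIntegral_zero
  · rw [← irr_apply_inv]
    exact irr_isIntegral χ _

theorem regConj_memLocalRing [M.IsPrime] (χ : IrrCharacter G) (x : G) :
    MemLocalRing M (regConj p (χ : G → ℂ) x) :=
  memLocalRing_of_isIntegral (regConj_isIntegral χ x)

theorem spec_regConj_mem_zS [M.IsPrime] (χ : IrrCharacter G) : spec (regConj p (χ : G → ℂ)) ∈ zS M G :=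
  Cfsg.Agent.Lib.Blocks.spec_mem_zS (regConj_isClassFunction χ) (regConj_memLocalRing χ)

theorem coef_spec_regConj (χ : IrrCharacter G) :
    coef (spec (regConj p (χ : G → ℂ))) = regConj p (χ : G → ℂ) :=
  coef_spec _ (regConj_isClassFunction χ)

theorem spec_regConj_isIntegral (χ ξ : IrrCharacter G) : IsIntegral ℤ (spec (regConj p (χ : G → ℂ)) ξ) := by
  rw [spec_eq_sum_classes _ (regConj_isClassFunction χ)]
  exact IsIntegral.sum _ fun K _ => (regConj_isIntegral χ _).mul (isIntegral_centralChar ξ _)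

/-- Integrality and the relation with the central element. -/
theorem exists_int_regInner (χ ξ : IrrCharacter G) :
    ∃ n : ℤ, classInner (regTrunc p ((p ^ (Nat.card G).factorization p : ℕ) : ℂ) (χ : G → ℂ)) (ξ : G → ℂ) = n ∧
      classInner (regTrunc p ((p ^ (Nat.card G).factorization p : ℕ) : ℂ) (ξ : G → ℂ)) (χ : G → ℂ) = n ∧
      spec (regConj p (χ : G → ℂ)) ξ =
        ((Nat.card G / p ^ (Nat.card G).factorization p : ℕ) : ℂ) * (n : ℂ) / (ξ : G → ℂ) 1 := by
  classical
  have hpp : p.Prime := hp.out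
  obtain ⟨n, hn⟩ := IsGeneralizedCharacter.classInner_int
    (isGeneralizedCharacter_regTrunc (p := p) (IsIrrCharacter.isCharacter χ.2))
    (IsGeneralizedCharacter.of_character (IsIrrCharacter.isCharacter ξ.2))
  have hPm := Nat.ordProj_mul_ordCompl_eq_self (Nat.card G) p
  set P := p ^ (Nat.card G).factorization p with hP
  set m := Nat.card G / P with hm
  have hP0 : (P : ℂ) ≠ 0 := by
    rw [hP]
    exact_mod_cast (pow_ne_zero _ hpp.ne_zero)
  have hG0 : (Nat.card G : ℂ) ≠ 0 := card_ne_zero_complex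
  have hcard : (Nat.card G : ℂ) = (P : ℂ) * (m : ℂ) := by
    rw [← hPm]
    push_cast
    rfl
  have h1 : classInner (regTrunc p (P : ℂ) (ξ : G → ℂ)) (χ : G → ℂ) =
      conj (classInner (regTrunc p (P : ℂ) (χ : G → ℂ)) (ξ : G → ℂ)) := by
    simp only [classInner, map_mul, map_inv₀, map_natCast, map_sum, Complex.conj_conj]
    congr 1
    refine Finset.sum_congr rfl fun x _ => ?_
    simp only [regTrunc]
    split_ifs
    · simp
    · simp only [map_mul, map_natCast]
      ring
  have h2 : classInner (regTrunc p (P : ℂ) (ξ : G → ℂ)) (χ : G → ℂ) = n := by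
    rw [h1, hn]
    simp
  refine ⟨n, hn, h2, ?_⟩
  rw [spec]
  congr 1
  have h3 : classInner (regTrunc p (P : ℂ) (ξ : G → ℂ)) (χ : G → ℂ) =
      (Nat.card G : ℂ)⁻¹ * (P : ℂ) * ∑ x, regConj p (χ : G → ℂ) x * (ξ : G → ℂ) x := by
    rw [classInner, mul_assoc]
    congr 1
    rw [Finset.mul_sum]
    refine Finset.sum_congr rfl fun x _ => ?_
    simp only [regTrunc, regConj]
    split_ifs
    · simp
    · ring
  rw [h3] at h2
  rw [hcard] at h2
  have hm0 : (m : ℂ) ≠ 0 := by
    intro h0
    apply hG0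
    rw [hcard, h0, mul_zero]
  field_simp at h2
  rw [h2]

/-- The degree of a character in the truncation. -/
theorem spec_regConj_eq_zero (hM : IsPModular p M) {χ ψ : IrrCharacter G}
    (h : ¬ SameBlock M (ψ : G → ℂ) (χ : G → ℂ)) : spec (regConj p (χ : G → ℂ)) ψ = 0 := by
  classical
  have h1 := sum_regular_mul_eq_zero hM h
  have h2 : ({x : G | ¬ p ∣ orderOf x}) = ↑(Finset.univ.filter fun x : G => ¬ p ∣ orderOf x) := by
    ext
    simp
  rw [h2, finsum_mem_coe_finset, Finset.sum_filter] at h1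
  rw [spec]
  have h3 : ∑ x, regConj p (χ : G → ℂ) x * (ψ : G → ℂ) x = 0 := by
    rw [← h1]
    refine Finset.sum_congr rfl fun x _ => ?_
    simp only [regConj]
    by_cases hx : p ∣ orderOf x
    · simp [hx]
    · simp only [hx, if_false, not_false_eq_true, if_true]
      ring
  rw [h3, zero_div]

theorem spec_regConj_eq_zero_of_notMem (hM : IsPModular p M) {B : Set (IrrCharacter G)} (hB : IsPBlock M B)
    {χ ψ : IrrCharacter G} (hχ : χ ∈ B) (hψ : ψ ∉ B) : spec (regConj p (χ : G → ℂ)) ψ = 0 := by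
  haveI := isPrime_of_modular hM
  apply spec_regConj_eq_zero hM
  intro hs
  apply hψ
  rw [blockOf_eq_of_mem hB hχ]
  exact SameBlock.symm' hs

/-- The character value at one in the trace of the central element. -/
theorem coef_spec_regConj_one (χ : IrrCharacter G) :
    coef (spec (regConj p (χ : G → ℂ))) 1 = (charDegree (χ : G → ℂ) : ℂ) := by
  have hpp : p.Prime := hp.out
  rw [coef_spec_regConj, regConj, if_neg (by
    rw [orderOf_one]
    exact hpp.one_lt.ne' ∘ Nat.dvd_one.mp)]
  rw [apply_one_eq_charDegree (IsIrrCharacter.isCharacter χ.2)]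
  simp

theorem val_index_eq_of_height_zero (hM : IsPModular p M) {B : Set (IrrCharacter G)} (hB : IsPBlock M B)
    {y : G} (hy : IsDefectClass M B y) {χ : IrrCharacter G} (hχ : χ ∈ B) (h0 : blockHeight p B (χ : G → ℂ) = 0) :
    (charDegree (χ : G → ℂ)).factorization p =
      (Subgroup.centralizer ({y} : Set G)).index.factorization p := by
  apply le_antisymm (val_le_of_height_zero hM hB hy h0)
  rw [← sInf_degree_eq_of_defectClass hM hB hy]
  exact Nat.sInf_le ⟨χ, hχ, rfl⟩

/-- **Height zero characters give units.** -/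
theorem spec_regConj_unit_of_height_zero (hM : IsPModular p M) {B : Set (IrrCharacter G)} (hB : IsPBlock M B)
    {χ : IrrCharacter G} (hχ : χ ∈ B) (h0 : blockHeight p B (χ : G → ℂ) = 0) {ξ : IrrCharacter G} (hξ : ξ ∈ B) :
    ¬ MemLocalIdeal M (spec (regConj p (χ : G → ℂ)) ξ) := by
  classical
  haveI := isPrime_of_modular hM
  intro h
  obtain ⟨g, hg⟩ := exists_defectClass hB
  have hc := spec_regConj_mem_zS (M := M) (p := p) χ
  have hJ : ∀ τ ∈ B, MemLocalIdeal M (spec (regConj p (χ : G → ℂ)) τ) := by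
    intro τ hτ
    have h1 := zS_apply_congr hB hc hτ hξ
    simpa using MemLocalIdeal.add h1 h
  have hK := coef_one_div_index_memLocalIdeal hM hB hg.2.2 hc
    (fun ψ hψ => spec_regConj_eq_zero_of_notMem hM hB hχ hψ) hJ (fun x hx => by
      rw [coef_spec_regConj]
      simp [regConj, hx])
  rw [coef_spec_regConj_one] at hK
  exact not_memLocalIdeal_div_of_val_eq hM (charDegree_pos χ.2).ne' Subgroup.index_ne_zero_of_finite
    (val_index_eq_of_height_zero hM hB hg hχ h0) hK

/-- **Converse.** -/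
theorem height_zero_of_spec_regConj_unit (hM : IsPModular p M) {B : Set (IrrCharacter G)} (hB : IsPBlock M B)
    {χ ξ : IrrCharacter G} (hχ : χ ∈ B) (hξ : ξ ∈ B) (h : ¬ MemLocalIdeal M (spec (regConj p (χ : G → ℂ)) ξ)) :
    blockHeight p B (χ : G → ℂ) = 0 := by
  classical
  haveI := isPrime_of_modular hM
  have hpp : p.Prime := hp.out
  obtain ⟨ξ₀, hξ₀, hh⟩ := exists_height_zero (p := p) (IsPBlock.nonempty hB)
  have hc := spec_regConj_mem_zS (M := M) (p := p) χ
  have hu : ¬ MemLocalIdeal M (spec (regConj p (χ : G → ℂ)) ξ₀) := by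
    intro h1
    apply h
    have h2 := zS_apply_congr hB hc hξ hξ₀
    simpa using MemLocalIdeal.add h2 h1
  have hm : ¬ p ∣ Nat.card G / p ^ (Nat.card G).factorization p :=
    Nat.not_dvd_ordCompl hpp Nat.card_pos.ne'
  obtain ⟨n, h1, h2, h3⟩ := exists_int_regInner (p := p) χ ξ₀
  obtain ⟨n', h4, h5, h6⟩ := exists_int_regInner (p := p) ξ₀ χ
  have hnn : n = n' := by
    have : (n : ℂ) = n' := by rw [← h1, h5]
    exact_mod_cast this
  rw [← hnn] at h6
  rw [apply_one_eq_charDegree (IsIrrCharacter.isCharacter ξ₀.2)] at h3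
  rw [apply_one_eq_charDegree (IsIrrCharacter.isCharacter χ.2)] at h6
  have h7 := memLocalRing_of_isIntegral (M := M) (spec_regConj_isIntegral (p := p) χ ξ₀)
  have h8 := memLocalRing_of_isIntegral (M := M) (spec_regConj_isIntegral (p := p) ξ₀ χ)
  rw [h3] at h7 hu
  rw [h6] at h8
  obtain ⟨hn0, hv⟩ := val_eq_of_int_unit hM hm (charDegree_pos ξ₀.2).ne' h7 hu
  have hle := val_le_of_int_memLocalRing hM hm (charDegree_pos χ.2).ne' hn0 h8
  rw [blockHeight] at hh ⊢
  omega

/-- For a block `B` and `χ ∈ B`: the truncation vanishes against everything outside. -/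
theorem classInner_regTrunc_eq_zero (hM : IsPModular p M) {B : Set (IrrCharacter G)} (hB : IsPBlock M B)
    {χ ψ : IrrCharacter G} (hχ : χ ∈ B) (hψ : ψ ∉ B) :
    classInner (regTrunc p ((p ^ (Nat.card G).factorization p : ℕ) : ℂ) (χ : G → ℂ)) (ψ : G → ℂ) = 0 := by
  have hpp : p.Prime := hp.out
  obtain ⟨n, h1, -, h3⟩ := exists_int_regInner (p := p) χ ψ
  rw [spec_regConj_eq_zero_of_notMem hM hB hχ hψ] at h3
  have hm : ¬ p ∣ Nat.card G / p ^ (Nat.card G).factorization p :=
    Nat.not_dvd_ordCompl hpp Nat.card_pos.ne'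
  have hm0 := natCast_ne_zero_of_not_dvd hm
  have hψ1 := irr_apply_one_ne_zero ψ
  have h4 : (n : ℂ) = 0 := by
    have h5 := h3.symm
    rw [div_eq_zero_iff] at h5
    rcases h5 with h5 | h5
    · exact (mul_eq_zero.mp h5).resolve_left hm0
    · exact absurd h5 hψ1
  rw [h1, h4]

theorem centralizer_singleton_inv (g : G) :
    Subgroup.centralizer ({g⁻¹} : Set G) = Subgroup.centralizer ({g} : Set G) := by
  ext x
  simp only [Subgroup.mem_centralizer_singleton_iff]
  exact ⟨fun h => (Commute.inv_right_iff.mp (show Commute x g⁻¹ from h)),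
    fun h => (Commute.inv_right_iff.mpr (show Commute x g from h))⟩

/-- **The idempotent has the right valuation at one.** -/
theorem coef_indic_one_div_index (hM : IsPModular p M) {B : Set (IrrCharacter G)} (hB : IsPBlock M B)
    {g : G} (hg : IsDefectClass M B g) :
    MemLocalRing M (coef (indic B) 1 / ((Subgroup.centralizer ({g} : Set G)).index : ℂ)) ∧
      ¬ MemLocalIdeal M (coef (indic B) 1 / ((Subgroup.centralizer ({g} : Set G)).index : ℂ)) := by
  classical
  haveI := isPrime_of_modular hM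
  have hpp : p.Prime := hp.out
  have hidx0 : ((Subgroup.centralizer ({g} : Set G)).index : ℂ) ≠ 0 := by
    exact_mod_cast Subgroup.index_ne_zero_of_finite
  obtain ⟨s, hs, hωs⟩ := exists_mul_eq_indic hB (centralChar_mem_zS (M := M) g) hg.2.2
  have h1 : coef (indic B) 1 = ((Subgroup.centralizer ({g} : Set G)).index : ℂ) * coef s g⁻¹ := by
    rw [← hωs, mul_comm]
    exact coef_mul_centralChar_one s g
  constructor
  · rw [h1, mul_div_cancel_left₀ _ hidx0]
    exact (mem_zS.mp hs) _
  intro hI
  obtain ⟨χ₀, hχ₀⟩ := IsPBlock.nonempty hB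
  set ω' : IrrCharacter G → ℂ := fun χ => centralChar (χ : G → ℂ) g⁻¹ with hω'
  have hω'S : ω' ∈ zS M G := centralChar_mem_zS g⁻¹
  set lam := ω' χ₀ with hlam
  have hlamS : MemLocalRing M lam := zS_apply_mem hω'S χ₀
  set c : IrrCharacter G → ℂ := indic B * ω' - lam • indic B with hc
  have hi := indic_mem_zS hB
  have hcS : c ∈ zS M G :=
    (zS M G).sub_mem ((zS M G).mul_mem hi hω'S) (smul_mem_zS hlamS hi)
  have hcB : ∀ ψ, ψ ∉ B → c ψ = 0 := by
    intro ψ hψ
    simp [hc, indic_apply_of_notMem hψ]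
  have hJ : ∀ χ ∈ B, MemLocalIdeal M (c χ) := by
    intro χ hχ
    have h2 := zS_apply_congr hB hω'S hχ hχ₀
    simpa [hc, indic_apply_of_mem hχ] using h2
  obtain ⟨α, hα⟩ := exists_isPExp G p
  have hgreg : ¬ p ∣ orderOf g := IsDefectClass.regular hM hB hg
  have hcoef : coef c = coef (indic B * ω') - lam • coef (indic B) := by
    rw [hc, coef_sub, coef_smul]
  have hspec : ω' = spec (cls g⁻¹) := by
    funext χ
    rw [spec_cls]
  have hreg : ∀ x : G, p ∣ orderOf x → coef c x = 0 := by
    intro x hx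
    have h2 : coef (indic B) x = 0 := by
      rw [← blockCoeff_eq_coef]
      exact blockCoeff_eq_zero_of_singular hM hB hx
    have h3 : coef (indic B * ω') x = 0 := by
      rw [hspec, coef_mul, coef_spec _ (cls_isClassFunction g⁻¹), conv]
      have h4 := projOp_eq_zero_of_section hM hα (indic_mem_zS hB) (indic_mul_self B)
        (cls_isClassFunction g) (z := x⁻¹) (by
          intro y hy
          by_contra hne
          have hconj : IsConj g y := by
            by_contra hc'
            apply hne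
            exact if_neg hc'
          have h5 : y ^ α = 1 := by
            obtain ⟨t, rfl⟩ := isConj_iff.mp hconj
            rw [conj_pow, hα.pow_of_regular hgreg]
            group
          rw [h5] at hy
          have h6 : (x⁻¹) ^ α = 1 := isConj_one_right.mp hy
          have h7 := hα.pow_eq_one_iff.mp h6
          rw [orderOf_inv] at h7
          exact h7 hx)
      rw [projOp] at h4
      rw [← h4]
      refine Finset.sum_congr rfl fun y _ => ?_
      congr 1
      simp only [cls]
      refine if_congr ?_ rfl rfl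
      have h9 : IsConj (x⁻¹ * y) (y * x⁻¹) := isConj_iff.mpr ⟨y, by group⟩
      constructor
      · intro h10
        obtain ⟨t, ht⟩ := isConj_iff.mp h10
        refine IsConj.trans (isConj_iff.mpr ⟨t, ?_⟩) h9
        have h8 : t * g * t⁻¹ = (t * g⁻¹ * t⁻¹)⁻¹ := by group
        rw [h8, ht]
        group
      · intro h10
        obtain ⟨t, ht⟩ := isConj_iff.mp (h10.trans h9.symm)
        refine isConj_iff.mpr ⟨t, ?_⟩
        have h8 : t * g⁻¹ * t⁻¹ = (t * g * t⁻¹)⁻¹ := by group
        rw [h8, ht]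
        group
    rw [hcoef]
    simp [h2, h3]
  have hK := coef_one_div_index_memLocalIdeal hM hB hg.2.2 hcS hcB hJ hreg
  have h5 : coef (indic B * ω') 1 =
      ((Subgroup.centralizer ({g} : Set G)).index : ℂ) * coef (indic B) g := by
    have h6 := coef_mul_centralChar_one (indic B) g⁻¹
    rw [centralizer_singleton_inv, inv_inv] at h6
    exact h6
  have h7 : coef c 1 / ((Subgroup.centralizer ({g} : Set G)).index : ℂ) =
      coef (indic B) g - lam * (coef (indic B) 1 / ((Subgroup.centralizer ({g} : Set G)).index : ℂ)) := by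
    rw [hcoef]
    simp only [Pi.sub_apply, Pi.smul_apply, smul_eq_mul, h5]
    field_simp
  rw [h7] at hK
  have h8 := MemLocalIdeal.add hK (MemLocalIdeal.mul_left hlamS hI)
  rw [sub_add_cancel, ← blockCoeff_eq_coef] at h8
  exact hg.2.1 h8

end Main

end Cfsg.Agent.Lib.H8Group
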