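import Cfsg.Agent.Lib.Char.BrauerInd3
import Cfsg.Agent.Lib.Char.Coherent
import Cfsg.Agent.Lib.Char.Exceptional
import Cfsg.Agent.Lib.Char.Artin
import Cfsg.Agent.Lib.Char.IndNormal
import Cfsg.Agent.Lib.Basic.HallNil
import Cfsg.Agent.Lib.H8Group.BlockK

/-!
# Truncating characters to the `p`-regular elements

`p^a χ°` is a generalized character, and its inner products with irreducible characters
carry block information.
-/

set_option autoImplicit false
set_option linter.unusedSectionVars false
set_option linter.style.haveILetI false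

namespace Cfsg.Agent.Lib.H8Group

open Cfsg Cfsg.Agent.Lib.Char Cfsg.Agent.Lib.Blocks
open scoped ComplexConjugate

universe u

/-- The function equal to `n * χ` on the `p`-regular elements and vanishing elsewhere. -/
noncomputable def regTrunc {G : Type u} [Group G] (p : ℕ) (n : ℂ) (χ : G → ℂ) : G → ℂ :=
  fun x => if p ∣ orderOf x then 0 else n * χ x

section Basics

variable {G : Type u} [Group G] {p : ℕ}

theorem orderOf_conj (g h : G) : orderOf (h * g * h⁻¹) = orderOf g := by
  have := orderOf_injective (MulAut.conj h).toMonoidHom (MulAut.conj h).injective g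
  simpa using this

theorem regTrunc_isClassFunction {n : ℂ} {χ : G → ℂ} (hχ : IsClassFunction G χ) :
    IsClassFunction G (regTrunc p n χ) := by
  intro g h
  simp only [regTrunc, orderOf_conj, hχ g h]

end Basics

section Nilp

variable {p : ℕ} [hp : Fact p.Prime]

/-- In a nilpotent group the truncation of a character, times the `p`-part of the order, is a
character. -/
theorem isCharacter_regTrunc_of_nilpotent {E : Type u} [Group E] [Finite E] (hE : Group.IsNilpotent E)
    {ψ : E → ℂ} (hψ : IsCharacter E ψ) :
    IsCharacter E (regTrunc p ((p ^ (Nat.card E).factorization p : ℕ) : ℂ) ψ) := by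
  classical
  letI := Fintype.ofFinite E
  have hpp : p.Prime := hp.out
  haveI := hE
  have htop : Group.IsNilpotent (⊤ : Subgroup E) := inferInstance
  obtain ⟨K₁, K₂, -, -, hsup, hK₁, hK₂, hcard, hcomm⟩ :=
    Cfsg.Agent.Lib.Basic.exists_nilpotent_decomp htop p
  have hN : K₂.Normal := by
    rw [← Subgroup.normalizer_eq_top_iff, eq_top_iff, ← hsup, sup_le_iff]
    constructor
    · intro x hx
      exact Cfsg.Agent.Lib.Basic.mem_normalizer_of_commute_all (fun y hy => hcomm x hx y hy)
    · exact Subgroup.le_normalizer
  haveI := hN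
  letI : Fintype K₂ := Fintype.ofFinite _
  obtain ⟨k, hk⟩ := IsPGroup.iff_card.mp hK₁
  have hcard' : Nat.card K₁ * Nat.card K₂ = Nat.card E := by
    rw [hcard, Nat.card_congr (Subgroup.topEquiv (G := E)).toEquiv]
  have hidx : K₂.index = p ^ k := by
    have h1 := K₂.index_mul_card
    rw [← hcard', hk] at h1
    exact Nat.eq_of_mul_eq_mul_right Nat.card_pos h1
  have hfac : (Nat.card E).factorization p = k := by
    rw [← hcard', hk, Nat.factorization_mul (pow_ne_zero _ hpp.ne_zero) Nat.card_pos.ne',
      hpp.factorization_pow]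
    have h1 : (Nat.card K₂).factorization p = 0 :=
      Nat.factorization_eq_zero_of_not_dvd ((Nat.Prime.coprime_iff_not_dvd hpp).mp hK₂.symm)
    simp only [Finsupp.add_apply, h1, add_zero, Finsupp.single_eq_same]
  have hreg : ∀ x : E, x ∈ K₂ ↔ ¬ p ∣ orderOf x := by
    intro x
    constructor
    · intro hx hd
      have h1 : orderOf x ∣ Nat.card K₂ := Subgroup.orderOf_dvd_natCard _ hx
      exact (Nat.Prime.coprime_iff_not_dvd hpp).mp hK₂.symm (hd.trans h1)
    · exact mem_of_regular_of_index hidx
  have hind : indFun K₂ (fun n : K₂ => ψ n) =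
      regTrunc p ((p ^ (Nat.card E).factorization p : ℕ) : ℂ) ψ := by
    funext x
    rw [hfac, indFun_apply]
    simp only [regTrunc]
    by_cases hx : p ∣ orderOf x
    · rw [if_pos hx]
      have h1 : ∀ t : E, extendByZero K₂ (fun n : K₂ => ψ n) (t⁻¹ * x * t) = 0 := by
        intro t
        apply extendByZero_of_notMem
        intro h2
        have h3 := hN.conj_mem _ h2 t
        have h4 : t * (t⁻¹ * x * t) * t⁻¹ = x := by group
        rw [h4] at h3
        exact ((hreg x).1 h3) hx
      simp [h1]
    · rw [if_neg hx]
      have hxN := (hreg x).2 hx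
      have h1 : ∀ t : E, extendByZero K₂ (fun n : K₂ => ψ n) (t⁻¹ * x * t) = ψ x := by
        intro t
        have h2 : t⁻¹ * x * t ∈ K₂ := hN.conj_mem' x hxN t
        rw [extendByZero_of_mem K₂ _ h2]
        have := (IsCharacter.isClassFunction hψ) x t⁻¹
        simpa using this
      simp only [h1, Finset.sum_const, Finset.card_univ, nsmul_eq_mul]
      have h2 := K₂.index_mul_card
      have hne : ((Nat.card K₂ : ℕ) : ℂ) ≠ 0 := by
        exact_mod_cast Nat.card_pos.ne'
      rw [hidx] at h2
      have h3 : ((Fintype.card E : ℕ) : ℂ) = ((p ^ k : ℕ) : ℂ) * (Nat.card K₂ : ℂ) := by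
        rw [← Nat.card_eq_fintype_card, ← h2]
        push_cast
        ring
      rw [h3]
      field_simp
  rw [← hind]
  exact isCharacter_indFun K₂ (IsCharacter.comp hψ K₂.subtype)

/-- **`p^a χ°` is a generalized character.** -/
theorem isGeneralizedCharacter_regTrunc {G : Type u} [Group G] [Fintype G] {χ : G → ℂ} (hχ : IsCharacter G χ) :
    IsGeneralizedCharacter G (regTrunc p ((p ^ (Nat.card G).factorization p : ℕ) : ℂ) χ) := by
  classical
  have hpp : p.Prime := hp.out
  refine isGeneralizedCharacter_of_elementary
    (regTrunc_isClassFunction (IsCharacter.isClassFunction hχ)) fun E q hq hE => ?_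
  have hnil := isNilpotent_of_isElementary hq hE
  have h1 := isCharacter_regTrunc_of_nilpotent (p := p) hnil (IsCharacter.comp hχ E.subtype)
  have hdvd : (Nat.card E).factorization p ≤ (Nat.card G).factorization p :=
    (Nat.factorization_le_iff_dvd Nat.card_pos.ne' Nat.card_pos.ne').mpr (Subgroup.card_subgroup_dvd_card E) p
  have h2 := IsCharacter.nsmul h1 (p ^ ((Nat.card G).factorization p - (Nat.card E).factorization p))
  have h3 : (fun e : E => regTrunc p ((p ^ (Nat.card G).factorization p : ℕ) : ℂ) χ (e : G)) =
      (p ^ ((Nat.card G).factorization p - (Nat.card E).factorization p)) •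
        regTrunc p ((p ^ (Nat.card E).factorization p : ℕ) : ℂ) (χ ∘ E.subtype) := by
    funext e
    simp only [regTrunc, Pi.smul_apply, Subgroup.orderOf_coe, nsmul_eq_mul, Function.comp, Subgroup.subtype_apply]
    split_ifs
    · simp
    · rw [← mul_assoc]
      congr 1
      rw [← Nat.cast_mul, ← pow_add]
      congr 2
      omega
  rw [h3]
  exact IsGeneralizedCharacter.of_character h2

end Nilp

end Cfsg.Agent.Lib.H8Group
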