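import Cfsg.Agent.Lib.H8Group.FourierLB
import Cfsg.Agent.Lib.H8Group.RankOne

/-!
# The integer form of a block and the rows of a subsection

For a block `b` of `H` with defect `q`, the matrix `T = p^q ⟨ψ°, ξ⟩` is an integer positive form which has
rank one modulo `p`.  The rows attached to the characters of a larger group `G` through a subsection
`(x, b)` satisfy two Parseval identities, and the Fourier lower bound gives two inequalities.
-/

set_option autoImplicit false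
set_option linter.unusedSectionVars false
set_option linter.style.haveILetI false

namespace Cfsg.Agent.Lib.H8Group

open Cfsg Cfsg.Agent.Lib.Char Cfsg.Agent.Lib.Blocks
open scoped ComplexConjugate

universe u

section Int

variable {M : Ideal AlgInt} {p : ℕ}

/-- An integer lies in the local ideal exactly when `p` divides it. -/
theorem intCast_memLocalIdeal_iff (hM : IsPModular p M) (n : ℤ) :
    MemLocalIdeal M (n : ℂ) ↔ (p : ℤ) ∣ n := by
  have := isPrime_of_modular hM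
  obtain ⟨k, rfl | rfl⟩ := n.eq_nat_or_neg
  · rw [Int.cast_natCast, natCast_memLocalIdeal_iff hM]
    exact Int.natCast_dvd_natCast.symm
  · rw [Int.cast_neg, Int.cast_natCast, dvd_neg, Int.natCast_dvd_natCast, ← natCast_memLocalIdeal_iff hM]
    constructor
    · intro h
      simpa using MemLocalIdeal.neg h
    · exact MemLocalIdeal.neg

end Int

section Deg

variable {G : Type u} [Group G] [Fintype G] {M : Ideal AlgInt} {p : ℕ} [hp : Fact p.Prime]

/-- The degree divided by the minimal power of `p` of the block. -/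
noncomputable def degQ (p : ℕ) (B : Set (IrrCharacter G)) (χ : IrrCharacter G) : ℕ :=
  charDegree (χ : G → ℂ) / p ^ minVal p B

theorem degQ_spec {B : Set (IrrCharacter G)} {χ : IrrCharacter G} (hχ : χ ∈ B) :
    charDegree (χ : G → ℂ) = p ^ minVal p B * degQ p B χ := by
  have hpp : p.Prime := hp.out
  have h1 : p ^ minVal p B ∣ charDegree (χ : G → ℂ) :=
    (hpp.pow_dvd_iff_le_factorization (charDegree_pos χ.2).ne').mpr (minVal_le hχ)
  exact (Nat.mul_div_cancel' h1).symm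

theorem degQ_ne_zero {B : Set (IrrCharacter G)} {χ : IrrCharacter G} (hχ : χ ∈ B) : degQ p B χ ≠ 0 := by
  intro h
  have h1 := degQ_spec (p := p) hχ
  rw [h, mul_zero] at h1
  exact (charDegree_pos χ.2).ne' h1

theorem not_dvd_degQ {B : Set (IrrCharacter G)} {χ : IrrCharacter G} (hχ : χ ∈ B)
    (h0 : blockHeight p B (χ : G → ℂ) = 0) : ¬ p ∣ degQ p B χ := by
  have hpp : p.Prime := hp.out
  intro hd
  have h1 := degQ_spec (p := p) hχ
  have h2 : p ^ (minVal p B + 1) ∣ charDegree (χ : G → ℂ) := by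
    rw [h1, pow_succ]
    exact mul_dvd_mul_left _ hd
  have h3 := (hpp.pow_dvd_iff_le_factorization (charDegree_pos χ.2).ne').mp h2
  have h4 := val_eq_minVal_add_height (p := p) hχ
  omega

/-- The matrix is congruent to a rank one matrix, first form. -/
theorem blockT_congr (hM : IsPModular p M) {B : Set (IrrCharacter G)} (hB : IsPBlock M B)
    {χ ξ ξ₀ : IrrCharacter G} (hχ : χ ∈ B) (hξ : ξ ∈ B) (hξ₀ : ξ₀ ∈ B) :
    (p : ℤ) ∣ (degQ p B ξ₀ : ℤ) * blockT p B χ ξ - (degQ p B ξ : ℤ) * blockT p B χ ξ₀ := by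
  classical
  have := isPrime_of_modular hM
  have hpp : p.Prime := hp.out
  have hc := spec_regConj_mem_zS (M := M) (p := p) χ
  have h1 := zS_apply_congr hB hc hξ hξ₀
  set P : ℕ := p ^ minVal p B with hP
  have hP0 : (P : ℂ) ≠ 0 := by
    rw [hP]
    exact_mod_cast pow_ne_zero _ hpp.ne_zero
  set m : ℕ := Nat.card G / p ^ (Nat.card G).factorization p with hm
  have hdξ : (degQ p B ξ : ℂ) ≠ 0 := by exact_mod_cast degQ_ne_zero hξ
  have hdξ₀ : (degQ p B ξ₀ : ℂ) ≠ 0 := by exact_mod_cast degQ_ne_zero hξ₀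
  have hv : ∀ τ ∈ B, spec (regConj p (χ : G → ℂ)) τ = (m : ℂ) * (blockT p B χ τ : ℂ) / (degQ p B τ : ℂ) := by
    intro τ hτ
    rw [spec_regConj_eq_regInt, regInt_eq_mul_blockT hM hB hχ, irr_one_eq, degQ_spec (p := p) hτ]
    push_cast
    rw [hP] at hP0
    push_cast at hP0
    field_simp
    simp only [hm]
    ring
  rw [hv ξ hξ, hv ξ₀ hξ₀] at h1
  have h2 := MemLocalIdeal.mul_left (MemLocalRing.natCast (degQ p B ξ * degQ p B ξ₀)) h1
  have h3 : ((degQ p B ξ * degQ p B ξ₀ : ℕ) : ℂ) * ((m : ℂ) * (blockT p B χ ξ : ℂ) / (degQ p B ξ : ℂ) -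
      (m : ℂ) * (blockT p B χ ξ₀ : ℂ) / (degQ p B ξ₀ : ℂ)) =
      (((m : ℤ) * ((degQ p B ξ₀ : ℤ) * blockT p B χ ξ - (degQ p B ξ : ℤ) * blockT p B χ ξ₀) : ℤ) : ℂ) := by
    push_cast
    field_simp
  rw [h3, intCast_memLocalIdeal_iff hM] at h2
  have hpZ : Prime (p : ℤ) := Nat.prime_iff_prime_int.mp hpp
  rcases hpZ.dvd_or_dvd h2 with h4 | h4
  · exact absurd (Int.natCast_dvd_natCast.mp h4) not_dvd_card_div
  · exact h4

/-- The matrix is congruent to a rank one matrix. -/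
theorem blockT_rank_one (hM : IsPModular p M) {B : Set (IrrCharacter G)} (hB : IsPBlock M B)
    {χ ξ ξ₀ : IrrCharacter G} (hχ : χ ∈ B) (hξ : ξ ∈ B) (hξ₀ : ξ₀ ∈ B) :
    (p : ℤ) ∣ (degQ p B ξ₀ : ℤ) ^ 2 * blockT p B χ ξ -
      blockT p B ξ₀ ξ₀ * ((degQ p B χ : ℤ) * (degQ p B ξ : ℤ)) := by
  have h1 := blockT_congr hM hB hχ hξ hξ₀
  have h2 := blockT_congr hM hB hξ₀ hχ hξ₀
  rw [blockT_symm B ξ₀ χ] at h2
  have h3 : (degQ p B ξ₀ : ℤ) ^ 2 * blockT p B χ ξ - blockT p B ξ₀ ξ₀ * ((degQ p B χ : ℤ) * (degQ p B ξ : ℤ)) =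
      (degQ p B ξ₀ : ℤ) * ((degQ p B ξ₀ : ℤ) * blockT p B χ ξ - (degQ p B ξ : ℤ) * blockT p B χ ξ₀) +
      (degQ p B ξ : ℤ) * ((degQ p B ξ₀ : ℤ) * blockT p B χ ξ₀ - (degQ p B χ : ℤ) * blockT p B ξ₀ ξ₀) := by
    ring
  rw [h3]
  exact dvd_add (Dvd.dvd.mul_left h1 _) (Dvd.dvd.mul_left h2 _)

end Deg

section Vec

variable {G : Type u} [Group G] [Fintype G] {M : Ideal AlgInt} {p : ℕ} [hp : Fact p.Prime]

open scoped Classical

/-- The matrix of the block on its members. -/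
noncomputable def tMat (p : ℕ) [hp : Fact p.Prime] (B : Set (IrrCharacter G)) :
    {ψ : IrrCharacter G // ψ ∈ B} → {ψ : IrrCharacter G // ψ ∈ B} → ℤ :=
  fun ψ ξ => blockT p B ψ ξ

theorem tMat_symm (B : Set (IrrCharacter G)) (ψ ξ : {ψ : IrrCharacter G // ψ ∈ B}) :
    tMat p B ψ ξ = tMat p B ξ ψ := blockT_symm B _ _

/-- The degree form. -/
noncomputable def degF (p : ℕ) (B : Set (IrrCharacter G)) : {ψ : IrrCharacter G // ψ ∈ B} → ℤ :=
  fun ψ => (degQ p B ψ : ℤ)

/-- The class function of a complex vector. -/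
noncomputable def vecFun (B : Set (IrrCharacter G)) (D : {ψ : IrrCharacter G // ψ ∈ B} → ℂ) : G → ℂ :=
  ∑ ψ, D ψ • ((ψ : IrrCharacter G) : G → ℂ)

theorem vecFun_isClassFunction (B : Set (IrrCharacter G)) (D : {ψ : IrrCharacter G // ψ ∈ B} → ℂ) :
    IsClassFunction G (vecFun B D) := by
  intro g h
  simp only [vecFun, Finset.sum_apply, Pi.smul_apply, smul_eq_mul]
  refine Finset.sum_congr rfl fun ψ _ => ?_
  rw [irr_isClassFunction ψ.1 g h]

theorem pRegularPart_vecFun (B : Set (IrrCharacter G)) (D : {ψ : IrrCharacter G // ψ ∈ B} → ℂ) :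
    pRegularPart p (vecFun B D) = ∑ ψ, D ψ • pRegularPart p ((ψ : IrrCharacter G) : G → ℂ) := by
  funext g
  by_cases hg : p ∣ orderOf g
  · simp [pRegularPart_of_dvd _ hg]
  · simp [pRegularPart_of_not_dvd _ hg, vecFun]

theorem classInner_reg_self (f g : G → ℂ) :
    classInner (pRegularPart p f) (pRegularPart p g) = classInner (pRegularPart p f) g := by
  rw [classInner, classInner]
  congr 1
  refine Finset.sum_congr rfl fun s _ => ?_
  by_cases hs : p ∣ orderOf s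
  · rw [pRegularPart_of_dvd _ hs, zero_mul, zero_mul]
  · simp only [pRegularPart_of_not_dvd _ hs]

/-- The form at a complex vector. -/
theorem hq_tMat (hM : IsPModular p M) {B : Set (IrrCharacter G)} (hB : IsPBlock M B)
    (D : {ψ : IrrCharacter G // ψ ∈ B} → ℂ) :
    hq (tMat p B) D = ((p ^ blockDefect p B : ℕ) : ℂ) * classInner (pRegularPart p (vecFun B D)) (vecFun B D) := by
  rw [pRegularPart_vecFun, classInner_sum_left, Finset.mul_sum, hq]
  refine Finset.sum_congr rfl fun ψ _ => ?_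
  rw [classInner_smul_left, vecFun, classInner_sum_right, mul_left_comm, Finset.mul_sum, Finset.mul_sum]
  refine Finset.sum_congr rfl fun ξ _ => ?_
  rw [classInner_smul_right]
  have h := pow_defect_mul_classInner hM hB ψ.2 ξ.1
  simp only [tMat]
  rw [← h]
  ring

/-- The positive real number behind a norm. -/
theorem classInner_self_nonneg (f : G → ℂ) : ∃ r : ℝ, 0 ≤ r ∧ classInner f f = (r : ℂ) := by
  refine ⟨(Nat.card G : ℝ)⁻¹ * ∑ g, Complex.normSq (f g), mul_nonneg (by positivity)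
    (Finset.sum_nonneg fun g _ => Complex.normSq_nonneg _), ?_⟩
  rw [classInner]
  push_cast
  congr 1
  refine Finset.sum_congr rfl fun g _ => ?_
  rw [Complex.mul_conj]

/-- The form is positive. -/
theorem qbil_tMat_nonneg (hM : IsPModular p M) {B : Set (IrrCharacter G)} (hB : IsPBlock M B)
    (n : {ψ : IrrCharacter G // ψ ∈ B} → ℤ) : 0 ≤ qbil (tMat p B) n n := by
  have hpp : p.Prime := hp.out
  set D : {ψ : IrrCharacter G // ψ ∈ B} → ℂ := fun ψ => (n ψ : ℂ) with hD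
  have h1 : ((qbil (tMat p B) n n : ℤ) : ℂ) = hq (tMat p B) D := by
    simp only [qbil_apply, hq, hD]
    push_cast
    refine Finset.sum_congr rfl fun i _ => Finset.sum_congr rfl fun i' _ => ?_
    rw [map_intCast]
  rw [hq_tMat hM hB, ← classInner_reg_self] at h1
  obtain ⟨r, hr, h2⟩ := classInner_self_nonneg (pRegularPart p (vecFun B D))
  rw [h2] at h1
  have h3 : ((qbil (tMat p B) n n : ℤ) : ℝ) = ((p ^ blockDefect p B : ℕ) : ℝ) * r := by
    have h4 : (((qbil (tMat p B) n n : ℤ) : ℝ) : ℂ) = ((((p ^ blockDefect p B : ℕ) : ℝ) * r : ℝ) : ℂ) := by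
      push_cast
      push_cast at h1
      exact h1
    exact_mod_cast h4
  have h5 : (0 : ℝ) ≤ ((qbil (tMat p B) n n : ℤ) : ℝ) := by
    rw [h3]
    positivity
  exact_mod_cast h5

/-- Rank one modulo `p` on vectors. -/
theorem qbil_tMat_congr (hM : IsPModular p M) {B : Set (IrrCharacter G)} (hB : IsPBlock M B)
    {ξ₀ : IrrCharacter G} (hξ₀ : ξ₀ ∈ B) (n n' : {ψ : IrrCharacter G // ψ ∈ B} → ℤ) :
    (p : ℤ) ∣ (degQ p B ξ₀ : ℤ) ^ 2 * qbil (tMat p B) n n' -
      blockT p B ξ₀ ξ₀ * ((∑ i, n i * degF p B i) * (∑ i, n' i * degF p B i)) := by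
  have h1 : (degQ p B ξ₀ : ℤ) ^ 2 * qbil (tMat p B) n n' -
      blockT p B ξ₀ ξ₀ * ((∑ i, n i * degF p B i) * (∑ i, n' i * degF p B i)) =
      ∑ i, ∑ i', n i * n' i' * ((degQ p B ξ₀ : ℤ) ^ 2 * blockT p B i i' -
        blockT p B ξ₀ ξ₀ * ((degQ p B (i : IrrCharacter G) : ℤ) * (degQ p B (i' : IrrCharacter G) : ℤ))) := by
    rw [qbil_apply, Finset.sum_mul_sum, Finset.mul_sum, Finset.mul_sum, ← Finset.sum_sub_distrib]
    refine Finset.sum_congr rfl fun i _ => ?_
    rw [Finset.mul_sum, Finset.mul_sum, ← Finset.sum_sub_distrib]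
    refine Finset.sum_congr rfl fun i' _ => ?_
    simp only [tMat, degF]
    ring
  rw [h1]
  exact Finset.dvd_sum fun i _ => Finset.dvd_sum fun i' _ =>
    Dvd.dvd.mul_left (blockT_rank_one hM hB i.2 i'.2 hξ₀) _

/-- The form does not vanish off the kernel of the degree form. -/
theorem qbil_tMat_not_dvd (hM : IsPModular p M) {B : Set (IrrCharacter G)} (hB : IsPBlock M B)
    {n n' : {ψ : IrrCharacter G // ψ ∈ B} → ℤ} (hn : ¬ (p : ℤ) ∣ ∑ i, n i * degF p B i)
    (hn' : ¬ (p : ℤ) ∣ ∑ i, n' i * degF p B i) : ¬ (p : ℤ) ∣ qbil (tMat p B) n n' := by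
  have := isPrime_of_modular hM
  have hpp : p.Prime := hp.out
  have hpZ : Prime (p : ℤ) := Nat.prime_iff_prime_int.mp hpp
  obtain ⟨ξ₀, hξ₀, h00⟩ := exists_height_zero (p := p) (IsPBlock.nonempty hB)
  intro h
  have h1 := qbil_tMat_congr hM hB hξ₀ n n'
  have h2 : (p : ℤ) ∣ blockT p B ξ₀ ξ₀ * ((∑ i, n i * degF p B i) * (∑ i, n' i * degF p B i)) := by
    have h3 := dvd_sub (Dvd.dvd.mul_left h ((degQ p B ξ₀ : ℤ) ^ 2)) h1
    simpa using h3
  rcases hpZ.dvd_or_dvd h2 with h3 | h3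
  · exact not_dvd_blockT_self hM hB hξ₀ h00 hξ₀ h00 h3
  · rcases hpZ.dvd_or_dvd h3 with h4 | h4
    · exact hn h4
    · exact hn' h4

/-- A vector with nonzero degree form exists. -/
theorem exists_degF_not_dvd {B : Set (IrrCharacter G)} (hB : B.Nonempty) :
    ∃ n : {ψ : IrrCharacter G // ψ ∈ B} → ℤ, ¬ (p : ℤ) ∣ ∑ i, n i * degF p B i := by
  obtain ⟨ξ₀, hξ₀, h00⟩ := exists_height_zero (p := p) hB
  refine ⟨fun i => if i = ⟨ξ₀, hξ₀⟩ then 1 else 0, ?_⟩
  rw [Finset.sum_eq_single (⟨ξ₀, hξ₀⟩ : {ψ : IrrCharacter G // ψ ∈ B})]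
  · simp only [if_true, one_mul, degF]
    intro h
    exact not_dvd_degQ hξ₀ h00 (Int.natCast_dvd_natCast.mp h)
  · intro i _ hi
    simp [hi]
  · simp

/-- The minimum of the form off the kernel of the degree form. -/
theorem exists_min_qbil (hM : IsPModular p M) {B : Set (IrrCharacter G)} (hB : IsPBlock M B) :
    ∃ n₀ : {ψ : IrrCharacter G // ψ ∈ B} → ℤ, ¬ (p : ℤ) ∣ ∑ i, n₀ i * degF p B i ∧
      ∀ n : {ψ : IrrCharacter G // ψ ∈ B} → ℤ, ¬ (p : ℤ) ∣ ∑ i, n i * degF p B i →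
        qbil (tMat p B) n₀ n₀ ≤ qbil (tMat p B) n n := by
  classical
  have := isPrime_of_modular hM
  have hex : ∃ k : ℕ, ∃ n : {ψ : IrrCharacter G // ψ ∈ B} → ℤ, ¬ (p : ℤ) ∣ ∑ i, n i * degF p B i ∧
      (qbil (tMat p B) n n).toNat = k := by
    obtain ⟨n, hn⟩ := exists_degF_not_dvd (p := p) (IsPBlock.nonempty hB)
    exact ⟨_, n, hn, rfl⟩
  obtain ⟨n₀, hn₀, h0⟩ := Nat.find_spec hex
  refine ⟨n₀, hn₀, fun n hn => ?_⟩
  have h1 : Nat.find hex ≤ (qbil (tMat p B) n n).toNat := Nat.find_min' hex ⟨n, hn, rfl⟩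
  have h2 := qbil_tMat_nonneg hM hB n
  have h3 := qbil_tMat_nonneg hM hB n₀
  omega

end Vec

section Rows

variable {G : Type u} [Group G] [Fintype G] {M : Ideal AlgInt} {p : ℕ} [hp : Fact p.Prime]
variable {H : Subgroup G} [Fintype H] {x : H}

open scoped Classical

/-- The multiplicity of `ψ` in the restriction of `χ`. -/
noncomputable def resMul (H : Subgroup G) [Fintype H] (χ : IrrCharacter G) (ψ : IrrCharacter H) : ℕ :=
  Classical.choose (IsCharacter.classInner_irr_eq_nat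
    (IsCharacter.comp (IsIrrCharacter.isCharacter χ.2) H.subtype) ψ.2)

theorem classInner_res_eq (χ : IrrCharacter G) (ψ : IrrCharacter H) :
    classInner ((χ : G → ℂ) ∘ H.subtype) (ψ : H → ℂ) = (resMul H χ ψ : ℂ) :=
  Classical.choose_spec (IsCharacter.classInner_irr_eq_nat
    (IsCharacter.comp (IsIrrCharacter.isCharacter χ.2) H.subtype) ψ.2)

theorem res_eq_sum (χ : IrrCharacter G) (c : H) :
    (χ : G → ℂ) c = ∑ ψ : IrrCharacter H, (resMul H χ ψ : ℂ) * (ψ : H → ℂ) c := by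
  have h1 := congrFun (classFunction_eq_sum _
    (IsCharacter.isClassFunction (IsCharacter.comp (IsIrrCharacter.isCharacter χ.2) H.subtype))) c
  rw [Finset.sum_apply] at h1
  simp only [Function.comp_apply, Subgroup.subtype_apply] at h1
  rw [h1]
  refine Finset.sum_congr rfl fun ψ _ => ?_
  rw [Pi.smul_apply, classInner_res_eq, smul_eq_mul]

/-- The scalar of `ψ` at a central element. -/
noncomputable def scalarAt (ψ : IrrCharacter H) (z : H) : ℂ := (ψ : H → ℂ) z / (ψ : H → ℂ) 1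

theorem irr_pow_central_mul (ψ : IrrCharacter H) {z : H} (hz : ∀ w : H, Commute w z) (j : ℕ) (u : H) :
    (ψ : H → ℂ) (z ^ j * u) = scalarAt ψ z ^ j * (ψ : H → ℂ) u := by
  induction j with
  | zero => simp
  | succ j ih =>
    rw [pow_succ', mul_assoc, irr_central_mul ψ hz, ih, pow_succ', scalarAt]
    ring

theorem scalarAt_pow_eq_one (ψ : IrrCharacter H) {z : H} (hz : ∀ w : H, Commute w z) {j : ℕ} (hj : z ^ j = 1) :
    scalarAt ψ z ^ j = 1 := by
  have h1 := irr_pow_central_mul ψ hz j 1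
  rw [hj, mul_one] at h1
  have h2 := irr_apply_one_ne_zero ψ
  exact (mul_right_cancel₀ h2 (by rw [one_mul]; exact h1)).symm

theorem central_x (hH : ∀ w : G, w ∈ H ↔ Commute w (x : G)) (w : H) : Commute w x :=
  Subtype.ext ((hH w).mp w.2)

/-- The subsection function of a power. -/
theorem subF_pow_eq_sum (hH : ∀ w : G, w ∈ H ↔ Commute w (x : G)) (χ : IrrCharacter G) (j : ℕ) :
    subF H (x ^ j) (χ : G → ℂ) =
      ∑ ψ : IrrCharacter H, ((resMul H χ ψ : ℂ) * scalarAt ψ x ^ j) • (ψ : H → ℂ) := by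
  funext c
  rw [subF_apply, res_eq_sum, Finset.sum_apply]
  refine Finset.sum_congr rfl fun ψ _ => ?_
  rw [irr_pow_central_mul ψ (central_x hH), Pi.smul_apply, smul_eq_mul]
  ring

theorem classInner_subF_pow (hH : ∀ w : G, w ∈ H ↔ Commute w (x : G)) (χ : IrrCharacter G) (j : ℕ)
    (ψ : IrrCharacter H) :
    classInner (subF H (x ^ j) (χ : G → ℂ)) (ψ : H → ℂ) = (resMul H χ ψ : ℂ) * scalarAt ψ x ^ j := by
  rw [subF_pow_eq_sum hH, classInner_sum_left, Finset.sum_eq_single ψ]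
  · rw [classInner_smul_left, classInner_irr_self ψ.2, mul_one]
  · intro φ _ hφ
    rw [classInner_smul_left, classInner_irr_of_ne φ.2 ψ.2 (fun h => hφ (Subtype.ext h)), mul_zero]
  · simp

/-- The hypotheses pass to a power prime to `p`. -/
theorem hH_pow (hH : ∀ w : G, w ∈ H ↔ Commute w (x : G)) (hxp : ∃ k, orderOf (x : G) = p ^ k) {j : ℕ} (hj : ¬ p ∣ j) :
    ∀ w : G, w ∈ H ↔ Commute w ((x ^ j : H) : G) := by
  have hpp : p.Prime := hp.out
  obtain ⟨k, hk⟩ := hxp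
  have hcop : Nat.Coprime j (orderOf (x : G)) := by
    rw [hk]
    exact Nat.Coprime.pow_right _ ((Nat.Prime.coprime_iff_not_dvd hpp).mpr hj).symm
  intro w
  rw [hH]
  constructor
  · intro h
    simp only [Subgroup.coe_pow]
    exact h.pow_right j
  · intro h
    simp only [Subgroup.coe_pow] at h
    have h3 : (1 : ℤ) = (j : ℤ) * Nat.gcdA j (orderOf (x : G)) + (orderOf (x : G) : ℤ) * Nat.gcdB j (orderOf (x : G)) := by
      have h4 := Nat.gcd_eq_gcd_ab j (orderOf (x : G))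
      rw [hcop] at h4
      simpa using h4
    have h2 : (x : G) = ((x : G) ^ j) ^ (Nat.gcdA j (orderOf (x : G))) := by
      calc (x : G) = (x : G) ^ (1 : ℤ) := (zpow_one _).symm
        _ = (x : G) ^ ((j : ℤ) * Nat.gcdA j (orderOf (x : G)) + (orderOf (x : G) : ℤ) * Nat.gcdB j (orderOf (x : G))) := by
            rw [← h3]
        _ = _ := by
            rw [zpow_add, zpow_mul, zpow_mul, zpow_natCast, zpow_natCast, pow_orderOf_eq_one, one_zpow, mul_one]
    rw [h2]
    exact h.zpow_right _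

theorem hxp_pow (hxp : ∃ k, orderOf (x : G) = p ^ k) (j : ℕ) : ∃ k, orderOf ((x ^ j : H) : G) = p ^ k := by
  have hpp : p.Prime := hp.out
  obtain ⟨k, hk⟩ := hxp
  have h1 : orderOf ((x ^ j : H) : G) ∣ p ^ k := by
    rw [← hk]
    simp only [Subgroup.coe_pow]
    exact orderOf_pow_dvd j
  obtain ⟨i, -, hi⟩ := (Nat.dvd_prime_pow hpp).mp h1
  exact ⟨i, hi⟩

/-- The pairing of a vector with the basis vectors. -/
noncomputable def tVec (b : Set (IrrCharacter H)) (n : {ψ : IrrCharacter H // ψ ∈ b} → ℤ)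
    (i : {ψ : IrrCharacter H // ψ ∈ b}) : ℤ :=
  ∑ ξ, n ξ * tMat p b i ξ

/-- The row of a character. -/
noncomputable def rowD (b : Set (IrrCharacter H)) (χ : IrrCharacter G) (x : H) (j : ℕ) :
    {ψ : IrrCharacter H // ψ ∈ b} → ℂ :=
  fun ψ => ((resMul H χ ψ : ℤ) : ℂ) * scalarAt (ψ : IrrCharacter H) x ^ j

theorem rowD_eq (hH : ∀ w : G, w ∈ H ↔ Commute w (x : G)) (b : Set (IrrCharacter H)) (χ : IrrCharacter G) (j : ℕ)
    (ψ : {ψ : IrrCharacter H // ψ ∈ b}) :
    rowD b χ x j ψ = classInner (subF H (x ^ j) (χ : G → ℂ)) ((ψ : IrrCharacter H) : H → ℂ) := by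
  rw [classInner_subF_pow hH]
  simp [rowD]

theorem projOp_subF_eq_vecFun (hH : ∀ w : G, w ∈ H ↔ Commute w (x : G)) {j : ℕ} {χ : IrrCharacter G}
    (hf : IsClassFunction H (subF H (x ^ j) ((χ : IrrCharacter G) : G → ℂ))) (b : Set (IrrCharacter H)) :
    projOp (indic b) (subF H (x ^ j) (χ : G → ℂ)) = vecFun b (rowD b χ x j) := by
  funext s
  rw [projOp_eq_sum _ hf, vecFun, Finset.sum_apply, ← Finset.sum_filter_add_sum_filter_not Finset.univ (· ∈ b)]
  have h1 : ∑ ψ ∈ Finset.univ.filter (fun ψ : IrrCharacter H => ¬ ψ ∈ b), indic b ψ *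
      (classInner (subF H (x ^ j) (χ : G → ℂ)) (ψ : H → ℂ) * (ψ : H → ℂ) s) = 0 := by
    refine Finset.sum_eq_zero fun ψ hψ => ?_
    rw [indic_apply_of_notMem (Finset.mem_filter.mp hψ).2, zero_mul]
  rw [h1, add_zero]
  have h2 : ∑ ψ ∈ Finset.univ.filter (fun ψ : IrrCharacter H => ψ ∈ b), indic b ψ *
      (classInner (subF H (x ^ j) (χ : G → ℂ)) (ψ : H → ℂ) * (ψ : H → ℂ) s) =
      ∑ ψ : {ψ : IrrCharacter H // ψ ∈ b}, indic b (ψ : IrrCharacter H) *
      (classInner (subF H (x ^ j) (χ : G → ℂ)) ((ψ : IrrCharacter H) : H → ℂ) * ((ψ : IrrCharacter H) : H → ℂ) s) :=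
    Finset.sum_subtype _ (fun ψ => by simp) _
  rw [h2]
  refine Finset.sum_congr rfl fun ψ _ => ?_
  rw [indic_apply_of_mem ψ.2, one_mul, Pi.smul_apply, smul_eq_mul, rowD_eq hH]

/-- The first Parseval identity. -/
theorem sum_hq_tMat (hM : IsPModular p M) (hH : ∀ w : G, w ∈ H ↔ Commute w (x : G))
    (hxp : ∃ k, orderOf (x : G) = p ^ k) {b : Set (IrrCharacter H)} {B : Set (IrrCharacter G)}
    (hind : IsInducedBlock M H b B) {j : ℕ} (hj : ¬ p ∣ j) :
    ∑ χ : IrrCharacter G, indic B χ * hq (tMat p b) (rowD b χ x j) =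
      ((p ^ blockDefect p b : ℕ) : ℂ) * (blockRank p b : ℂ) := by
  have := isPrime_of_modular hM
  have hH' := hH_pow hH hxp hj
  have hxp' := hxp_pow (x := x) hxp j
  have h1 := sum_block_subsection hM hH' hxp' hind
  rw [← h1, Finset.mul_sum]
  refine Finset.sum_congr rfl fun χ _ => ?_
  have hf := subF_isClassFunction hH' (irr_isClassFunction χ)
  rw [← pRegularPart_projOp hM hind.1 hf, projOp_subF_eq_vecFun hH hf, hq_tMat hM hind.1,
    classInner_reg_self]
  ring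

/-- The pairing of a row with a member of the block. -/
theorem classInner_reg_row_eq (hM : IsPModular p M) (hH : ∀ w : G, w ∈ H ↔ Commute w (x : G))
    {b : Set (IrrCharacter H)} (hb : IsPBlock M b) (χ : IrrCharacter G) (j : ℕ)
    (ξ : {ψ : IrrCharacter H // ψ ∈ b}) :
    ((p ^ blockDefect p b : ℕ) : ℂ) * classInner (pRegularPart p (subF H (x ^ j) (χ : G → ℂ))) ((ξ : IrrCharacter H) : H → ℂ) =
      ∑ i, rowD b χ x j i * (tMat p b i ξ : ℂ) := by
  have h2 : pRegularPart p (subF H (x ^ j) (χ : G → ℂ)) =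
      ∑ ψ : IrrCharacter H, ((resMul H χ ψ : ℂ) * scalarAt ψ x ^ j) • pRegularPart p ((ψ : IrrCharacter H) : H → ℂ) := by
    rw [subF_pow_eq_sum hH]
    funext g
    by_cases hg : p ∣ orderOf g
    · simp [pRegularPart_of_dvd _ hg]
    · simp [pRegularPart_of_not_dvd _ hg]
  have h5 : ∀ ψ : IrrCharacter H, ((p ^ blockDefect p b : ℕ) : ℂ) *
      classInner (((resMul H χ ψ : ℂ) * scalarAt ψ x ^ j) • pRegularPart p ((ψ : IrrCharacter H) : H → ℂ))
        ((ξ : IrrCharacter H) : H → ℂ) =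
      ((resMul H χ ψ : ℂ) * scalarAt ψ x ^ j) * (((p ^ blockDefect p b : ℕ) : ℂ) *
        classInner (pRegularPart p ((ψ : IrrCharacter H) : H → ℂ)) ((ξ : IrrCharacter H) : H → ℂ)) := by
    intro ψ
    rw [classInner_smul_left]
    ring
  rw [h2, classInner_sum_left, Finset.mul_sum]
  simp only [h5]
  rw [← Finset.sum_filter_add_sum_filter_not Finset.univ (· ∈ b)]
  have h3 : ∑ ψ ∈ Finset.univ.filter (fun ψ : IrrCharacter H => ¬ ψ ∈ b),
      ((resMul H χ ψ : ℂ) * scalarAt ψ x ^ j) * (((p ^ blockDefect p b : ℕ) : ℂ) *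
        classInner (pRegularPart p ((ψ : IrrCharacter H) : H → ℂ)) ((ξ : IrrCharacter H) : H → ℂ)) = 0 := by
    refine Finset.sum_eq_zero fun ψ hψ => ?_
    rw [classInner_pRegularPart_symm,
      classInner_pRegularPart_eq_zero hM hb ξ.2 (Finset.mem_filter.mp hψ).2, mul_zero, mul_zero]
  rw [h3, add_zero]
  rw [Finset.sum_subtype (p := (· ∈ b)) _ (fun ψ => by simp)]
  refine Finset.sum_congr rfl fun ψ _ => ?_
  rw [pow_defect_mul_classInner hM hb ψ.2]
  simp [rowD, tMat]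

/-- The second Parseval identity. -/
theorem sum_hq_row (hM : IsPModular p M) (hH : ∀ w : G, w ∈ H ↔ Commute w (x : G))
    (hxp : ∃ k, orderOf (x : G) = p ^ k) {b : Set (IrrCharacter H)} (hb : IsPBlock M b) {j : ℕ} (hj : ¬ p ∣ j)
    (n : {ψ : IrrCharacter H // ψ ∈ b} → ℤ) :
    ∑ χ : IrrCharacter G, hq (fun i i' => tVec (p := p) b n i * tVec (p := p) b n i') (rowD b χ x j) =
      ((p ^ blockDefect p b : ℕ) : ℂ) * (qbil (tMat p b) n n : ℂ) := by
  have := isPrime_of_modular hM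
  have hH' := hH_pow hH hxp hj
  have hxp' := hxp_pow (x := x) hxp j
  set P : ℂ := ((p ^ blockDefect p b : ℕ) : ℂ) with hP
  set t : {ψ : IrrCharacter H // ψ ∈ b} → ℤ := tVec (p := p) b n with ht
  have htval : ∀ i, t i = ∑ ξ, n ξ * tMat p b i ξ := fun i => rfl
  set nC : {ψ : IrrCharacter H // ψ ∈ b} → ℂ := fun i => (n i : ℂ) with hnC
  set y : H → ℂ := vecFun b nC with hy
  have hyc := vecFun_isClassFunction b nC
  have hkey : ∀ χ : IrrCharacter G, ∑ i, rowD b χ x j i * (t i : ℂ) =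
      P * classInner (pRegularPart p (subF H (x ^ j) (χ : G → ℂ))) y := by
    intro χ
    have h1 := fun ξ => classInner_reg_row_eq hM hH hb χ j ξ
    rw [hy, vecFun, classInner_sum_right, Finset.mul_sum]
    have h5 : ∀ i, rowD b χ x j i * (t i : ℂ) = ∑ ξ, (n ξ : ℂ) * (rowD b χ x j i * (tMat p b i ξ : ℂ)) := by
      intro i
      rw [htval]
      push_cast
      rw [Finset.mul_sum]
      refine Finset.sum_congr rfl fun ξ _ => ?_
      ring
    simp only [h5]
    rw [Finset.sum_comm]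
    refine Finset.sum_congr rfl fun ξ _ => ?_
    rw [classInner_smul_right, ← Finset.mul_sum, ← h1]
    simp only [hnC, map_intCast]
    ring
  have h6 : ∀ χ : IrrCharacter G, hq (fun i i' => t i * t i') (rowD b χ x j) =
      P * P * (classInner (pRegularPart p y) (subF H (x ^ j) (χ : G → ℂ)) *
        conj (classInner (pRegularPart p y) (subF H (x ^ j) (χ : G → ℂ)))) := by
    intro χ
    have h7 : hq (fun i i' => t i * t i') (rowD b χ x j) =
        (∑ i, rowD b χ x j i * (t i : ℂ)) * conj (∑ i, rowD b χ x j i * (t i : ℂ)) := by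
      rw [hq, map_sum, Finset.sum_mul_sum]
      refine Finset.sum_congr rfl fun i _ => Finset.sum_congr rfl fun i' _ => ?_
      simp only [map_mul, map_intCast]
      push_cast
      ring
    rw [h7, hkey χ, ← conj_classInner_regular]
    simp only [map_mul, Complex.conj_conj]
    have hPr : conj P = P := by
      rw [hP]
      simp
    rw [hPr]
    ring
  simp only [h6]
  rw [← Finset.mul_sum, sum_subF_mul_conj hH' hxp' hyc]
  have h8 : ((qbil (tMat p b) n n : ℤ) : ℂ) = hq (tMat p b) nC := by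
    simp only [qbil_apply, hq, hnC]
    push_cast
    refine Finset.sum_congr rfl fun i _ => Finset.sum_congr rfl fun i' _ => ?_
    rw [map_intCast]
  rw [h8, hq_tMat hM hb, mul_assoc]

/-- **Bounds for the height zero rows of a subsection.** -/
theorem lattice_bounds (hM : IsPModular p M) (hH : ∀ w : G, w ∈ H ↔ Commute w (x : G))
    (hxp : ∃ k, orderOf (x : G) = p ^ k) {b : Set (IrrCharacter H)} {B : Set (IrrCharacter G)}
    (hind : IsInducedBlock M H b B) :
    ∃ m : ℕ, 0 < m ∧ (p = 2 → Odd m) ∧ ∀ S : Finset (IrrCharacter G),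
      (∀ χ ∈ S, χ ∈ B ∧ ¬ (p : ℤ) ∣ ∑ ψ : {ψ : IrrCharacter H // ψ ∈ b}, (resMul H χ ψ : ℤ) * degF p b ψ) →
      m * S.card ≤ p ^ blockDefect p b * blockRank p b ∧ S.card ≤ m * p ^ blockDefect p b := by
  have := isPrime_of_modular hM
  have hpp : p.Prime := hp.out
  have hb := hind.1
  obtain ⟨n₀, hn₀, hmin⟩ := exists_min_qbil (p := p) hM hb
  set m₀ : ℤ := qbil (tMat p b) n₀ n₀ with hm₀
  have hm₀nn : 0 ≤ m₀ := qbil_tMat_nonneg hM hb n₀
  have hm₀nd : ¬ (p : ℤ) ∣ m₀ := qbil_tMat_not_dvd hM hb hn₀ hn₀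
  have hm₀pos : 0 < m₀ := by
    rcases hm₀nn.lt_or_eq with h | h
    · exact h
    · exact absurd (h ▸ dvd_zero _) hm₀nd
  -- the exponent
  obtain ⟨k, hk⟩ := hxp
  have hN : 1 ≤ k + 1 := by omega
  set N := k + 1 with hNdef
  have hxN : x ^ p ^ N = 1 := by
    apply Subtype.ext
    simp only [Subgroup.coe_pow, Subgroup.coe_one]
    rw [hNdef, pow_succ, pow_mul, ← hk, pow_orderOf_eq_one, one_pow]
  set v : {ψ : IrrCharacter H // ψ ∈ b} → ℂ := fun ψ => scalarAt (ψ : IrrCharacter H) x with hv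
  have hvN : ∀ i, v i ^ p ^ N = 1 := fun i => scalarAt_pow_eq_one _ (central_x hH) hxN
  set J := unitsJ p N with hJ
  have hJne : ∀ j ∈ J, ¬ p ∣ j := fun j hj => (Finset.mem_filter.mp hj).2
  have hJpos : 0 < J.card := unitsJ_pos N hN
  -- the first family
  have hF1 : ∀ χ : IrrCharacter G, ∃ S : ℤ, (S : ℂ) = ∑ j ∈ J, hq (tMat p b) (rowD b χ x j) ∧ 0 ≤ S ∧
      (¬ (p : ℤ) ∣ ∑ ψ : {ψ : IrrCharacter H // ψ ∈ b}, (resMul H χ ψ : ℤ) * degF p b ψ → (J.card : ℤ) * m₀ ≤ S) := fun χ =>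
    fourier_lb hN (tMat_symm b) (degF p b) hm₀nn (qbil_tMat_nonneg hM hb) hmin (fun ψ => (resMul H χ ψ : ℤ)) hvN
  choose S₁ hS₁ hS₁0 hS₁lb using hF1
  -- the second family
  set t : {ψ : IrrCharacter H // ψ ∈ b} → ℤ := tVec (p := p) b n₀ with ht
  have hQ₂val : ∀ n : {ψ : IrrCharacter H // ψ ∈ b} → ℤ, qbil (fun i i' => t i * t i') n n = (qbil (tMat p b) n n₀) ^ 2 := by
    intro n
    have h1 : qbil (tMat p b) n n₀ = ∑ i, n i * t i := by
      have h2 : ∀ i, t i = ∑ i', n₀ i' * tMat p b i i' := fun i => rfl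
      simp only [h2, qbil_apply, Finset.mul_sum]
      refine Finset.sum_congr rfl fun i _ => Finset.sum_congr rfl fun i' _ => ?_
      ring
    rw [h1, sq, Finset.sum_mul_sum, qbil_apply]
    refine Finset.sum_congr rfl fun i _ => Finset.sum_congr rfl fun i' _ => ?_
    ring
  have hF2 : ∀ χ : IrrCharacter G, ∃ S : ℤ, (S : ℂ) = ∑ j ∈ J, hq (fun i i' => t i * t i') (rowD b χ x j) ∧ 0 ≤ S ∧
      (¬ (p : ℤ) ∣ ∑ ψ : {ψ : IrrCharacter H // ψ ∈ b}, (resMul H χ ψ : ℤ) * degF p b ψ → (J.card : ℤ) * 1 ≤ S) := fun χ =>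
    fourier_lb hN (fun i i' => mul_comm _ _) (degF p b) zero_le_one
      (fun n => by
        rw [hQ₂val]
        positivity)
      (fun n hn => by
        rw [hQ₂val]
        have h1 := qbil_tMat_not_dvd hM hb hn hn₀
        have h2 : qbil (tMat p b) n n₀ ≠ 0 := fun h => h1 (h ▸ dvd_zero _)
        have h3 : 0 < (qbil (tMat p b) n n₀) ^ 2 := by positivity
        omega) (fun ψ => (resMul H χ ψ : ℤ)) hvN
  choose S₂ hS₂ hS₂0 hS₂lb using hF2
  -- the total sums
  have hPpos : 0 < p ^ blockDefect p b := pow_pos hpp.pos _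
  set BB : Finset (IrrCharacter G) := Finset.univ.filter (· ∈ B) with hBB
  have htot1 : ∑ χ ∈ BB, S₁ χ = (J.card : ℤ) * (((p ^ blockDefect p b : ℕ) : ℤ) * (blockRank p b : ℤ)) := by
    have h1 : ((∑ χ ∈ BB, S₁ χ : ℤ) : ℂ) = ∑ j ∈ J, ∑ χ : IrrCharacter G, indic B χ * hq (tMat p b) (rowD b χ x j) := by
      rw [Finset.sum_comm, hBB, Int.cast_sum, Finset.sum_filter]
      refine Finset.sum_congr rfl fun χ _ => ?_
      by_cases hχ : χ ∈ B
      · rw [if_pos hχ, hS₁]
        refine Finset.sum_congr rfl fun j _ => ?_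
        rw [indic_apply_of_mem hχ, one_mul]
      · rw [if_neg hχ]
        symm
        refine Finset.sum_eq_zero fun j _ => ?_
        rw [indic_apply_of_notMem hχ, zero_mul]
    rw [Finset.sum_congr rfl fun j hj => sum_hq_tMat hM hH ⟨k, hk⟩ hind (hJne j hj), Finset.sum_const,
      nsmul_eq_mul] at h1
    exact_mod_cast h1
  have htot2 : ∑ χ, S₂ χ = (J.card : ℤ) * (((p ^ blockDefect p b : ℕ) : ℤ) * m₀) := by
    have h1 : ((∑ χ, S₂ χ : ℤ) : ℂ) = ∑ j ∈ J, ∑ χ : IrrCharacter G, hq (fun i i' => t i * t i') (rowD b χ x j) := by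
      rw [Finset.sum_comm, Int.cast_sum]
      exact Finset.sum_congr rfl fun χ _ => hS₂ χ
    rw [Finset.sum_congr rfl fun j hj => sum_hq_row hM hH ⟨k, hk⟩ hb (hJne j hj) n₀, Finset.sum_const,
      nsmul_eq_mul] at h1
    exact_mod_cast h1
  refine ⟨m₀.toNat, by omega, ?_, fun S hS => ?_⟩
  · intro hp2
    have h3 : ¬ (2 : ℤ) ∣ m₀ := by
      rw [hp2] at hm₀nd
      exact_mod_cast hm₀nd
    have h4 : Odd m₀ := by
      rw [← Int.not_even_iff_odd, even_iff_two_dvd]
      exact h3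
    obtain ⟨c, hc⟩ := h4
    exact ⟨c.toNat, by omega⟩
  · have hJZ : (0 : ℤ) < (J.card : ℤ) := by exact_mod_cast hJpos
    have hmcast : ((m₀.toNat : ℕ) : ℤ) = m₀ := Int.toNat_of_nonneg hm₀nn
    constructor
    · have h1 : ∑ χ ∈ S, (J.card : ℤ) * m₀ ≤ ∑ χ ∈ BB, S₁ χ := by
        calc ∑ χ ∈ S, (J.card : ℤ) * m₀ ≤ ∑ χ ∈ S, S₁ χ :=
              Finset.sum_le_sum fun χ hχ => hS₁lb χ (hS χ hχ).2
          _ ≤ ∑ χ ∈ BB, S₁ χ := Finset.sum_le_sum_of_subset_of_nonneg (by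
              intro χ hχ
              simp only [hBB, Finset.mem_filter, Finset.mem_univ, true_and]
              exact (hS χ hχ).1) (fun χ _ _ => hS₁0 χ)
      rw [htot1, Finset.sum_const, nsmul_eq_mul] at h1
      have h2 : (J.card : ℤ) * ((S.card : ℤ) * m₀) ≤ (J.card : ℤ) * (((p ^ blockDefect p b : ℕ) : ℤ) * (blockRank p b : ℤ)) := by
        calc (J.card : ℤ) * ((S.card : ℤ) * m₀) = (S.card : ℤ) * ((J.card : ℤ) * m₀) := by ring
          _ ≤ _ := h1
      have h3 := le_of_mul_le_mul_left h2 hJZ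
      have h4 : ((m₀.toNat * S.card : ℕ) : ℤ) ≤ ((p ^ blockDefect p b * blockRank p b : ℕ) : ℤ) := by
        push_cast
        rw [hmcast]
        push_cast at h3
        linarith
      exact_mod_cast h4
    · have h1 : ∑ χ ∈ S, (J.card : ℤ) * 1 ≤ ∑ χ, S₂ χ := by
        calc ∑ χ ∈ S, (J.card : ℤ) * 1 ≤ ∑ χ ∈ S, S₂ χ :=
              Finset.sum_le_sum fun χ hχ => hS₂lb χ (hS χ hχ).2
          _ ≤ ∑ χ, S₂ χ := Finset.sum_le_sum_of_subset_of_nonneg (Finset.subset_univ _) (fun χ _ _ => hS₂0 χ)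
      rw [htot2, Finset.sum_const, nsmul_eq_mul] at h1
      have h2 : (J.card : ℤ) * (S.card : ℤ) ≤ (J.card : ℤ) * (((p ^ blockDefect p b : ℕ) : ℤ) * m₀) := by
        calc (J.card : ℤ) * (S.card : ℤ) = (S.card : ℤ) * ((J.card : ℤ) * 1) := by ring
          _ ≤ _ := h1
      have h3 := le_of_mul_le_mul_left h2 hJZ
      have h4 : ((S.card : ℕ) : ℤ) ≤ ((m₀.toNat * p ^ blockDefect p b : ℕ) : ℤ) := by
        push_cast
        rw [hmcast]
        push_cast at h3
        linarith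
      exact_mod_cast h4

end Rows

end Cfsg.Agent.Lib.H8Group
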