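import Cfsg.Agent.Lib.H8Group.ExtPairs

/-!
# Stabilizers of blocks of centralizers and their action on the subgroup
-/

set_option autoImplicit false
set_option linter.unusedSectionVars false

namespace Cfsg.Agent.Lib.H8Group

open Cfsg Cfsg.Agent.Lib.Char Cfsg.Agent.Lib.Blocks

universe u

section StabGroup

variable {G : Type u} [Group G] [Fintype G] {M : Ideal AlgInt} {p : ℕ} [hp : Fact p.Prime] {Q R P T : Subgroup G}

/-- The stabilizer of a set of characters of `C_G(Q)` in `N_G(Q)` as a subgroup. -/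
noncomputable def stabOfBlock (Q : Subgroup G) (f : Set (IrrCharacter (Subgroup.centralizer (Q : Set G)))) : Subgroup G where
  carrier := {y | y ∈ Subgroup.normalizer (Q : Set G) ∧ StabilizesBlock (Subgroup.centralizer (Q : Set G)) f y}
  one_mem' := ⟨Subgroup.one_mem _, stabilizes_of_mem_self f (Subgroup.one_mem Q)⟩
  mul_mem' := by
    rintro a b ⟨ha, hsa⟩ ⟨hb, hsb⟩
    refine ⟨Subgroup.mul_mem _ ha hb, normalizer_le_normalizer_centralizer (Subgroup.mul_mem _ ha hb), fun χ hχ => ?_⟩
    obtain ⟨χ₂, hχ₂, h2⟩ := hsb.2 χ hχ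
    obtain ⟨χ₃, hχ₃, h3⟩ := hsa.2 χ₂ hχ₂
    refine ⟨χ₃, hχ₃, fun k k' hk => ?_⟩
    have hk₂ : b * (k : G) * b⁻¹ ∈ Subgroup.centralizer (Q : Set G) := conj_mem_centralizer hb k.2
    have h4 := h3 ⟨_, hk₂⟩ k' (by
      show (k' : G) = a * (b * (k : G) * b⁻¹) * a⁻¹
      rw [hk]
      group)
    rw [h4]
    exact h2 k _ rfl
  inv_mem' := by
    intro a ha
    have hS : ∀ n : ℕ, a ^ n ∈ Subgroup.normalizer (Q : Set G) ∧
        StabilizesBlock (Subgroup.centralizer (Q : Set G)) f (a ^ n) := by
      intro n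
      induction n with
      | zero =>
        rw [pow_zero]
        exact ⟨Subgroup.one_mem _, stabilizes_of_mem_self f (Subgroup.one_mem Q)⟩
      | succ n ih =>
        rw [pow_succ]
        obtain ⟨hA, hsA⟩ := ih
        obtain ⟨hb, hsb⟩ := ha
        refine ⟨Subgroup.mul_mem _ hA hb, normalizer_le_normalizer_centralizer (Subgroup.mul_mem _ hA hb), fun χ hχ => ?_⟩
        obtain ⟨χ₂, hχ₂, h2⟩ := hsb.2 χ hχ
        obtain ⟨χ₃, hχ₃, h3⟩ := hsA.2 χ₂ hχ₂
        refine ⟨χ₃, hχ₃, fun k k' hk => ?_⟩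
        have hk₂ : a * (k : G) * a⁻¹ ∈ Subgroup.centralizer (Q : Set G) := conj_mem_centralizer hb k.2
        have h4 := h3 ⟨_, hk₂⟩ k' (by
          show (k' : G) = a ^ n * (a * (k : G) * a⁻¹) * (a ^ n)⁻¹
          rw [hk]
          group)
        rw [h4]
        exact h2 k _ rfl
    have h1 : a⁻¹ = a ^ (orderOf a - 1) := by
      rw [inv_eq_iff_mul_eq_one, ← pow_succ', Nat.sub_add_cancel (orderOf_pos a), pow_orderOf_eq_one]
    rw [h1]
    exact hS _

theorem mem_stabOfBlock {f : Set (IrrCharacter (Subgroup.centralizer (Q : Set G)))} {y : G} :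
    y ∈ stabOfBlock Q f ↔ y ∈ Subgroup.normalizer (Q : Set G) ∧ StabilizesBlock (Subgroup.centralizer (Q : Set G)) f y :=
  Iff.rfl

theorem subpairLE_conjB_iff {Q' : Subgroup G} {g : G} (h : conjS g Q = Q')
    {f : Set (IrrCharacter (Subgroup.centralizer (Q : Set G)))}
    {e : Set (IrrCharacter (Subgroup.centralizer (P : Set G)))} :
    SubpairLE p M (conjS g Q) (conjB g rfl f) P e ↔ SubpairLE p M Q' (conjB g h f) P e := by
  subst h
  rfl

theorem stabilizes_of_conjB_eq {g : G} (hgR : conjS g R = R)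
    {f : Set (IrrCharacter (Subgroup.centralizer (R : Set G)))} (h : conjB g hgR f = f) :
    StabilizesBlock (Subgroup.centralizer (R : Set G)) f g := by
  classical
  letI : Fintype (Subgroup.centralizer (R : Set G)) := Fintype.ofFinite _
  refine ⟨normalizer_le_normalizer_centralizer (mem_normalizer_of_conjS_eq hgR), fun χ hχ =>
    ⟨Cfsg.Agent.Lib.Blocks.irrComp (cenIso g hgR).symm χ, ?_, fun k k' hk => ?_⟩⟩
  · have h1 := irrComp_symm_mem_conjB g hgR hχ
    rwa [h] at h1
  · simp only [Cfsg.Agent.Lib.Blocks.irrComp_coe, Function.comp_apply]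
    have h2 : (cenIso g hgR).symm k' = k := by
      apply Subtype.ext
      simp only [cenIso_symm_coe]
      rw [hk]
      group
    rw [h2]

theorem conjB_eq_of_stabilizes (hM : IsPModular p M) {g : G} (hgR : conjS g R = R)
    {f : Set (IrrCharacter (Subgroup.centralizer (R : Set G)))} (hf : IsPBlock M f)
    (h : StabilizesBlock (Subgroup.centralizer (R : Set G)) f g) : conjB g hgR f = f := by
  classical
  have := isPrime_of_modular hM
  letI : Fintype (Subgroup.centralizer (R : Set G)) := Fintype.ofFinite _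
  obtain ⟨χ, hχ⟩ := IsPBlock.nonempty hf
  obtain ⟨χ₂, hχ₂, h2⟩ := h.2 χ hχ
  have h3 : Cfsg.Agent.Lib.Blocks.irrComp (cenIso g hgR) χ₂ = χ := by
    apply Subtype.ext
    funext k
    exact h2 k _ rfl
  have h4 : χ₂ ∈ conjB g hgR f := by
    rw [mem_conjB, h3]
    exact hχ
  rw [blockOf_eq_of_mem (isPBlock_conjB g hgR hf) h4, ← blockOf_eq_of_mem hf hχ₂]

/-- The conjugation action on `R`. -/
def actOn (R : Subgroup G) (hTN : T ≤ Subgroup.normalizer (R : Set G)) : T →* MulAut R where
  toFun t :=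
    { toFun := fun x => ⟨t * x * (t : G)⁻¹, (Subgroup.mem_normalizer_iff.mp (hTN t.2) x).mp x.2⟩
      invFun := fun x => ⟨(t : G)⁻¹ * x * t, by
        have h1 := (Subgroup.mem_normalizer_iff.mp (hTN (T.inv_mem t.2)) x).mp x.2
        simpa using h1⟩
      left_inv := fun x => by
        apply Subtype.ext
        simp [mul_assoc]
      right_inv := fun x => by
        apply Subtype.ext
        simp [mul_assoc]
      map_mul' := fun x y => by
        apply Subtype.ext
        simp [mul_assoc] }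
  map_one' := by
    ext x
    simp
  map_mul' s t := by
    ext x
    simp [mul_assoc, MulAut.mul_apply]

@[simp] theorem actOn_apply_coe (hTN : T ≤ Subgroup.normalizer (R : Set G)) (t : T) (x : R) :
    ((actOn R hTN t x : R) : G) = t * x * (t : G)⁻¹ := rfl

theorem mem_ker_actOn (hTN : T ≤ Subgroup.normalizer (R : Set G)) (t : T) :
    t ∈ (actOn R hTN).ker ↔ (t : G) ∈ Subgroup.centralizer (R : Set G) := by
  rw [MonoidHom.mem_ker, Subgroup.mem_centralizer_iff]
  constructor
  · intro h x hx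
    have h1 := congrArg (fun α : MulAut R => ((α ⟨x, hx⟩ : R) : G)) h
    simp only [actOn_apply_coe, MulAut.one_apply] at h1
    calc x * (t : G) = ((t : G) * x * (t : G)⁻¹) * t := by rw [h1]
      _ = t * x := by group
  · intro h
    ext x
    have h1 := h x x.2
    simp only [actOn_apply_coe, MulAut.one_apply]
    rw [← h1]
    group

end StabGroup

section Index

variable {G : Type u} [Group G] [Fintype G] {M : Ideal AlgInt} {p : ℕ} [hp : Fact p.Prime] {Q T : Subgroup G}

/-- The blocks of a subgroup of `p`-power index over the centralizer. -/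
theorem sup_defect_eq_top_of_index (hM : IsPModular p M) (hQ : IsPGroup p Q) (hQT : Q ≤ T)
    (hKT : Subgroup.centralizer (Q : Set G) ≤ T) (hTN : T ≤ Subgroup.normalizer (Q : Set G))
    {f : Set (IrrCharacter (Subgroup.centralizer (Q : Set G)))} (hf : IsPBlock M f)
    (hst : ∀ t ∈ T, StabilizesBlock (Subgroup.centralizer (Q : Set G)) f t)
    {F : Set (IrrCharacter T)} (hF : IsPBlock M F)
    (hcoef : ∀ t : T, blockCoeff F t = subgroupBlockCoeff (Subgroup.centralizer (Q : Set G)) f (t : G))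
    {k : ℕ} (hidx : ((Subgroup.centralizer (Q : Set G)).subgroupOf T).index = p ^ k)
    {D : Subgroup T} (hD : IsDefectGroup p M F D) :
    (Subgroup.centralizer (Q : Set G)).subgroupOf T ⊔ D = ⊤ ∧
      IsDefectGroup p M f ((D.map T.subtype ⊓ Subgroup.centralizer (Q : Set G)).subgroupOf
        (Subgroup.centralizer (Q : Set G))) := by
  classical
  have := isPrime_of_modular hM
  letI : Fintype (Subgroup.centralizer (Q : Set G)) := Fintype.ofFinite _
  letI : Fintype T := Fintype.ofFinite _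
  set N' : Subgroup T := (Subgroup.centralizer (Q : Set G)).subgroupOf T with hN'
  letI : Fintype N' := Fintype.ofFinite _
  haveI hN'n : N'.Normal := by
    refine ⟨fun x hx t => ?_⟩
    rw [hN', Subgroup.mem_subgroupOf] at hx ⊢
    exact conj_mem_centralizer (hTN t.2) hx
  let e : N' ≃* (Subgroup.centralizer (Q : Set G)) := Subgroup.subgroupOfEquivOfLe hKT
  set f' : Set (IrrCharacter N') := blockPull e f with hf'
  have hf'b : IsPBlock M f' := isPBlock_blockPull e hf
  have hinv : ∀ (t : T) θ, θ ∈ f' → conjIrr N' t θ ∈ f' := by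
    intro t θ hθ
    obtain ⟨χ', hχ', hconj⟩ := (hst t t.2).2 _ hθ
    have h1 : irrComp e.symm (conjIrr N' t θ) = χ' := by
      apply Subtype.ext
      funext k
      have h2 : (t : G)⁻¹ * (k : G) * t ∈ Subgroup.centralizer (Q : Set G) := by
        have := conj_mem_centralizer (y := (t : G)⁻¹) (T.inv_mem t.2 |> hTN) k.2
        simpa using this
      have h3 := hconj ⟨(t : G)⁻¹ * (k : G) * t, h2⟩ k (by simp; group)
      rw [h3]
      rfl
    show irrComp e.symm (conjIrr N' t θ) ∈ f
    rwa [h1]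
  have hcoef' : ∀ t, blockCoeff F t = subgroupBlockCoeff N' f' t := by
    intro t
    rw [hcoef]
    by_cases ht : t ∈ N'
    · rw [subgroupBlockCoeff, dif_pos (by exact ht), subgroupBlockCoeff, dif_pos ht, blockCoeff_eq_coef,
        blockCoeff_eq_coef, coef_blockPull]
      rfl
    · rw [subgroupBlockCoeff, dif_neg (by exact ht), subgroupBlockCoeff, dif_neg ht]
  obtain ⟨h1, h2⟩ := defect_of_block_of_index N' hM hidx hf'b hinv hF hcoef' hD
  refine ⟨h1, ?_⟩
  have h3 := isDefectGroup_transBlock e.symm h2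
  have h4 : transBlock e.symm f' = f := by
    ext ξ
    show Cfsg.Agent.Lib.Blocks.irrComp e.symm.symm ξ ∈ f' ↔ ξ ∈ f
    show irrComp e.symm (Cfsg.Agent.Lib.Blocks.irrComp e.symm.symm ξ) ∈ f ↔ ξ ∈ f
    have h5 : irrComp e.symm (Cfsg.Agent.Lib.Blocks.irrComp e.symm.symm ξ) = ξ := by
      apply Subtype.ext
      funext c
      simp [Cfsg.Agent.Lib.Blocks.irrComp_coe, irrComp_coe]
    rw [h5]
  rw [h4] at h3
  convert h3 using 1
  ext c
  rw [Subgroup.mem_subgroupOf, Subgroup.mem_comap, Subgroup.mem_subgroupOf]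
  constructor
  · rintro ⟨⟨d, hd, hdc⟩, -⟩
    refine ⟨?_, ?_⟩
    · have h6 : (((e.symm.toMonoidHom c : N') : T)) = d := by
        apply Subtype.ext
        exact hdc.symm
      rw [h6]
      exact hd
    · exact (e.symm.toMonoidHom c).2
  · rintro ⟨hd, -⟩
    exact ⟨⟨_, hd, rfl⟩, c.2⟩

end Index

end Cfsg.Agent.Lib.H8Group
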